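import Cfsg.Agent.Lib.Walter3.Field.CentTorusOther

/-!
# The centralizer of a torus element fixed by a field automorphism
-/

set_option autoImplicit false
set_option linter.unusedSectionVars false
set_option linter.style.haveILetI false

namespace Cfsg.Lib.Walter3.Field

open Subgroup Cfsg Cfsg.Lib Matrix
open Cfsg.Lib.TwoDim (splitSL)
open scoped MatrixGroups

universe u

local notation "PSL2[" K "]" => Matrix.ProjectiveSpecialLinearGroup (Fin 2) K

namespace Cfg

variable {G : Type u} [Group G] [Finite G] {F : Type} [Field F] [Fintype F] (c : Cfg G F)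

/-- The centralizer of an element of prime order of the split torus fixed by a field automorphism of
prime order lies in `C(t)`. -/
theorem cent_torus (hg : c.Gen) (y : fieldPart c.S) (hy : (orderOf y).Prime) (h : G) (hH : h ∈ c.H)
    (hhy : h * y = y * h) (hs : (orderOf h).Prime) :
    centralizer ({h} : Set G) ≤ centralizer ({c.t} : Set G) := by
  obtain ⟨a, rfl, hT⟩ := c.exists_tor hg y hy hH hhy hs
  obtain ⟨-, j, hj, hq, -⟩ := c.exists_three_pow hg y hy
  have h4 := hT.mod_four
  have hodd := c.odd_card_cent_split hj hq h4 hT.prime hT.ne_two hT.seven.1 hT.orderOf_split hT.dvd_sub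
  set X : Subgroup G := centralizer ({c.d a} : Set G)
  have htX : c.t ∈ X := mem_centralizer_singleton_iff.2 (c.d_comm_t a).symm
  have htK := le_normalizer_cor X htX
  have hiK : c.i ∈ normalizer (cor X : Set G) :=
    mem_normalizer_cor (mem_invOrFix.2 (Or.inr (c.iv_inverts (Or.inl rfl) a)))
  have hit : c.t * c.i = c.i * c.t := c.i_comm_t.symm
  have hio : orderOf c.i = 2 := c.hyp.orderOf_pt ⟨c.i_mem, c.i_ne⟩
  have hK : cor X ≤ centralizer ({c.t} : Set G) := by
    refine le_of_sylows fun l hl hlK => ?_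
    haveI := Fact.mk hl
    have hl2 : l ≠ 2 := by
      rintro rfl
      exact AbTwo.not_dvd_of_odd (odd_cor X) hlK
    haveI := four_comm hit
    obtain ⟨P, hP⟩ := Coprime.exists_invariant_sylow (four_le htK hiK)
      (odd_coprime_four c.t_sq c.i_sq hit (odd_cor X))
      (Or.inl (Group.isSolvable_of_comm fun a b => mul_comm' a b)) l
    refine ⟨P, ?_⟩
    by_cases hcase : l = 3 ∨ ¬ l ∣ Nat.card PSL2[F]
    · exact four_centralizes hl2 (c.noInverted hj hq h4 hl hl2 hcase) c.orderOf_t hio (Ne.symm c.i_ne_t)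
        hit (P.2.map _) (hP (mem_sup_left (mem_zpowers _))) (hP (mem_sup_right (mem_zpowers _)))
    push Not at hcase
    obtain ⟨hl3, hlL⟩ := hcase
    by_contra hnot
    obtain ⟨v, w, hv, hwP, hwv, how, hiw⟩ := c.exists_v_inverted hl2 (P.2.map _)
      (hP (mem_sup_left (mem_zpowers _))) (hP (mem_sup_right (mem_zpowers _))) hnot
    have hwd : w * c.d a = c.d a * w :=
      mem_centralizer_singleton_iff.1 (cor_le X (map_subtype_le _ hwP))
    have hlq : l ∣ Fintype.card F + 1 ∨ l ∣ Fintype.card F - 1 := by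
      have h2 : l ∣ Fintype.card F * ((Fintype.card F + 1) * (Fintype.card F - 1)) :=
        c.card_psl ▸ dvd_mul_of_dvd_right hlL 2
      rcases hl.dvd_mul.1 h2 with e | e
      · exact absurd ((Nat.prime_dvd_prime_iff_eq hl Nat.prime_three).1 (hl.dvd_of_dvd_pow (hq ▸ e))) hl3
      · exact hl.dvd_mul.1 e
    have hlf : ¬ l ∣ c.f := fun e => hlq.elim (c.not_dvd_of_dvd_f hg hl e).2 (c.not_dvd_of_dvd_f hg hl e).1
    rcases hlq with e | e
    · exact hT.case_add hl hl2 hl3 hlf e hv hwd hwv how hiw
    · by_cases hls : l = orderOf (c.d a)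
      · exact hT.case_same hv hwd hwv (how.trans hls) hiw
      · exact hT.case_sub hl hl2 hl3 hlf e hv hwd hwv how hiw
  intro g hgX
  rcases (c.cor_of_odd_torus (m := pr (splitSL F a)) hodd (mem_centralizer_singleton_iff.1 hgX)).2
    with h | h
  · exact hK h
  · have ht : c.t⁻¹ ∈ centralizer ({c.t} : Set G) := inv_mem (mem_centralizer_singleton_iff.2 rfl)
    have := mul_mem ht (hK h)
    rwa [inv_mul_cancel_left] at this

end Cfg

end Cfsg.Lib.Walter3.Field
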