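import Cfsg.Agent.Lib.Walter3.Field.Small27

/-!
# The fixed fields of the elements of prime order of the field part are large
-/

set_option autoImplicit false
set_option linter.unusedSectionVars false
set_option linter.style.haveILetI false

namespace Cfsg.Lib.Walter3.Field

open Subgroup Cfsg Cfsg.Lib Matrix
open scoped MatrixGroups

universe u

namespace Cfg

variable {G : Type u} [Group G] [Finite G] {F : Type} [Field F] [Fintype F] (c : Cfg G F)
include c

/-- For `q₁ ≥ 5` a prime `r` is three or divides `q₁² - q₁ + 1`. -/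
theorem prime_cases {y : fieldPart c.S} (hy : (orderOf y).Prime) {m : ℕ}
    (hQ : c.fixCard y = 3 ^ (2 * m + 1))
    (hcard : Nat.card (c.Cy y) = c.f * (c.fixCard y ^ 3 * (c.fixCard y ^ 3 + 1) * (c.fixCard y - 1))) :
    orderOf y = 3 ∨ orderOf y ∣ c.fixCard y ^ 2 - c.fixCard y + 1 := by
  set Q := c.fixCard y with hQdef
  have hQ3 : 3 ≤ Q := c.three_le_fixCard y
  have hdvd := c.dvd_relIndex hy
  rw [c.relIndex_eq] at hdvd
  set idx := (Cg (c.tX y)).index
  have hidx : idx = Q ^ 2 * (Q ^ 2 - Q + 1) := by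
    have hC := c.card_Cy y
    rw [hcard, ← (Cg (c.tX y)).card_mul_index] at hC
    have hC' : Nat.card (Cg (c.tX y)) * orderOf y = Q * (Q ^ 2 - 1) * c.f := by
      rw [c.card_Cg_tX, ← mul_assoc 2, c.two_mul_card_L1]
    rw [mul_right_comm (Nat.card (Cg (c.tX y))), hC'] at hC
    obtain ⟨j, hj⟩ : ∃ j, Q = j + 1 := ⟨Q - 1, by omega⟩
    have hsq : Q ^ 2 = j * j + 2 * j + 1 := by rw [hj]; ring
    have e1 : Q - 1 = j := by omega
    have e2 : Q ^ 2 - 1 = j * (j + 2) := by rw [hsq, Nat.add_sub_cancel]; ring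
    have e3 : Q ^ 2 - Q + 1 = j * j + j + 1 := by omega
    have e4 : Q ^ 3 + 1 = (j + 2) * (Q ^ 2 - Q + 1) := by rw [e3, hj]; ring
    have hpos : 0 < c.f * (Q * (Q ^ 2 - 1)) := by
      have := c.pos_f
      rw [e2]
      have : 0 < j := by omega
      positivity
    refine Nat.eq_of_mul_eq_mul_left hpos ?_
    calc c.f * (Q * (Q ^ 2 - 1)) * idx = Q * (Q ^ 2 - 1) * c.f * idx := by ring
      _ = c.f * (Q ^ 3 * (Q ^ 3 + 1) * (Q - 1)) := hC.symm
      _ = c.f * (Q * (Q ^ 2 - 1)) * (Q ^ 2 * (Q ^ 2 - Q + 1)) := by rw [e1, e2, e4]; ring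
  rw [hidx] at hdvd
  rcases hy.dvd_mul.1 hdvd with h | h
  · left
    rw [hQ] at h
    exact (Nat.prime_dvd_prime_iff_eq hy Nat.prime_three).1 (hy.dvd_of_dvd_pow (hy.dvd_of_dvd_pow h))
  · exact Or.inr h

/-- The generic case always holds. -/
theorem gen (_hf : fieldPart c.S ≠ ⊥) : c.Gen := by
  intro y hy
  rcases lt_or_ge (c.fixCard y) 5 with h5 | h5
  · exfalso
    have hQ : c.fixCard y = 3 := by
      have := c.three_le_fixCard y
      obtain ⟨k, hk⟩ := c.odd_fixCard y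
      omega
    obtain ⟨h3, hq, -, hC⟩ := c.three_cases hy hQ
    exact c.false_of_27 h3 hQ hq hC
  rcases c.card_Cy_cases hy h5 with ⟨m, hm, hQ, hcard⟩ | ⟨hQ, -, -⟩
  · exact ⟨c.card_eq_fixCard_pow y, ⟨m, hm, hQ⟩, c.prime_cases hy hQ hcard, hcard⟩
  · exact (c.false_of_five hy hQ).elim

end Cfg

end Cfsg.Lib.Walter3.Field
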