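import Cfsg.Agent.Lib.Walter3.Field.OddTorus
import Cfsg.Agent.Lib.Walter3.Field.Gen
import Cfsg.Agent.Lib.Walter3.Field.CentTorus

/-!
# The field clause from the three-local step
-/

set_option autoImplicit false
set_option linter.unusedSectionVars false
set_option linter.style.haveILetI false

namespace Cfsg.Lib.Walter3.Field

universe u

/-- The field part is trivial in a minimal counterexample, given the three-local results. -/
theorem fieldClause_of_local (H : Type u) [Group H] [Finite H] [IsSimpleGroup H]
    (hna : ¬ IsMulCommutative H)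
    (hthree : ∀ (F : Type) [Field F] [Fintype F] (c : Cfg H F), c.Gen →
      fieldPart c.S ≠ ⊥ → ¬ 3 ∣ c.f)
    (hbd : ∀ (F : Type) [Field F] [Fintype F] (c : Cfg H F), c.Gen →
      fieldPart c.S ≠ ⊥ → Nonempty c.Borel)
    (below : FieldBelow H) : FieldClause H := by
  refine fieldClause_of H hna (fun F _ _ c hf => ?_) below
  have hg := c.gen hf
  obtain ⟨bd⟩ := hbd F c hg hf
  exact ⟨⟨bd, hg, hthree F c hg hf, fun y h hy hh hc hp => c.cent_torus hg y hy h hh hc hp, hf⟩⟩

end Cfsg.Lib.Walter3.Field
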