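import Cfsg.Agent.Lib.Walter3.Field.Diagonal
import Cfsg.Agent.Lib.Walter3.SocleModel
import Cfsg.Agent.Lib.Walter8.Main

/-!
# The section `C(y)/⟨y⟩` of an element of prime order of the field part

Its odd core is trivial, its involution centralizer is `⟨t⟩ × L₁` extended by the rest of the field
part, and by induction, when `q₁ ≥ 5`, its socle has the order of a Ree group or of `J₁`.
-/

set_option autoImplicit false
set_option linter.unusedSectionVars false
set_option linter.style.haveILetI false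

namespace Cfsg.Lib.Walter3.Field

open Subgroup Cfsg
open scoped MatrixGroups commutatorElement

universe u

local notation "PSL2[" K "]" => Matrix.ProjectiveSpecialLinearGroup (Fin 2) K

namespace Cfg

variable {G : Type u} [Group G] [Finite G] {F : Type} [Field F] [Fintype F] (c : Cfg G F)
include c

noncomputable instance fintype_fixField (y : fieldPart c.S) : Fintype (c.fixField y) := Fintype.ofFinite _

theorem card_fixField' (y : fieldPart c.S) : Fintype.card (c.fixField y) = c.fixCard y := by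
  rw [← Nat.card_eq_fintype_card, c.card_fixField]

theorem odd_fixCard (y : fieldPart c.S) : Odd (c.fixCard y) := by
  have h := c.card_eq_fixCard_pow y
  have hodd : Odd (Fintype.card F) := Nat.odd_iff.2 c.q_odd
  rw [h, Nat.odd_pow_iff (orderOf_pos y).ne'] at hodd
  exact hodd

theorem three_le_fixCard (y : fieldPart c.S) : 3 ≤ c.fixCard y := by
  have h1 : 1 < c.fixCard y := c.card_fixField' y ▸ Fintype.one_lt_card
  obtain ⟨k, hk⟩ := c.odd_fixCard y
  omega

theorem fixCard_mod_eight (y : fieldPart c.S) : c.fixCard y % 8 = 3 ∨ c.fixCard y % 8 = 5 := by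
  obtain ⟨k, hk⟩ := c.odd_orderOf y
  obtain ⟨j, hj⟩ := c.odd_fixCard y
  have h1 : (c.fixCard y * c.fixCard y) % 8 = 1 := by
    rw [hj, Nat.mul_mod]
    have : (2 * j + 1) % 8 = 1 ∨ (2 * j + 1) % 8 = 3 ∨ (2 * j + 1) % 8 = 5 ∨ (2 * j + 1) % 8 = 7 := by omega
    rcases this with e | e | e | e <;> rw [e]
  have h2 : Fintype.card F % 8 = c.fixCard y % 8 := by
    rw [c.card_eq_fixCard_pow y, hk, pow_succ, pow_mul, pow_two, Nat.mul_mod, Nat.pow_mod, h1]
    simp
  have := c.sign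
  omega

/-- An element of the field part fixing the fixed field of `y` is a power of `y`. -/
theorem mem_zpowers_of_fix {y z : fieldPart c.S} (h : ∀ a, c.σ y a = a → c.σ z a = a) :
    z ∈ zpowers y := by
  classical
  let Z := Subgroup.zpowers (c.σ y)
  haveI : Finite (F ≃+* F) :=
    Finite.of_injective (fun e : F ≃+* F => (e : F → F)) DFunLike.coe_injective
  haveI : FaithfulSMul Z F := ⟨fun {a b} e => Subtype.ext (RingEquiv.ext e)⟩
  let g : F →ₐ[FixedPoints.subfield Z F] F :=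
    { (c.σ z : F →+* F) with
      commutes' := fun a => h a.1 (a.2 ⟨c.σ y, mem_zpowers _⟩) }
  obtain ⟨w, hw⟩ := (FixedPoints.toAlgHom_bijective Z F).2 g
  have he : c.σ z = w.1 := RingEquiv.ext fun a => (DFunLike.congr_fun hw a).symm
  obtain ⟨i, hi⟩ := mem_zpowers_iff.1 w.2
  exact mem_zpowers_iff.2 ⟨i, c.σ_inj (by rw [map_zpow, hi, he])⟩

/-- `i` sends no nontrivial element of `U` into `U`. -/
theorem i_u_i {a b : F} (h : c.i * c.u a * c.i⁻¹ = c.u b) : a = 0 := by
  by_contra ha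
  obtain ⟨s, e, z, hi, -⟩ := c.cent_t_u ha c.i_comm_t h
  change c.φ (pr jSL) = _ ∨ c.φ (pr jSL) = _ at hi
  have key : c.φ (pr jSL) * ((1 : fieldPart c.S) : G) =
      c.φ (pr (uSL (Multiplicative.ofAdd s)) * pr (Cfsg.Lib.TwoDim.splitSL F e)) * z ∨
      c.φ (pr jSL) * ((1 : fieldPart c.S) : G) =
      c.t * (c.φ (pr (uSL (Multiplicative.ofAdd s)) * pr (Cfsg.Lib.TwoDim.splitSL F e)) * z) := by
    rw [Subgroup.coe_one, mul_one, map_mul]
    exact hi
  rcases key with k | k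
  · obtain ⟨hl, -⟩ := c.decomp_unique.1 k
    change pr (jSL : SL(2, F)) =
      pr (uSL (Multiplicative.ofAdd s) * Cfsg.Lib.TwoDim.splitSL F e) at hl
    rcases Cfsg.Lib.Dickson.KleinClasses.mk_eq_iff.1 hl with m | m <;>
      have m' := congrFun (congrFun m 1) 0 <;>
      simp [uSL_coe, jSL_coe, Cfsg.Lib.TwoDim.splitSL_coe, Matrix.mul_apply, Fin.sum_univ_two] at m'
  · exact c.decomp_unique.2 k

/-- The centralizer of an element of the field part. -/
abbrev Cy (y : fieldPart c.S) : Subgroup G := centralizer ({(y : G)} : Set G)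

/-- `C_L(y)`. -/
abbrev L1 (y : fieldPart c.S) : Subgroup G := c.L ⊓ c.Cy y

theorem field_le_Cy (y : fieldPart c.S) : fieldPart c.S ≤ c.Cy y := fun z hz =>
  mem_centralizer_singleton_iff.2 (c.y_comm_y ⟨z, hz⟩ y).eq

theorem S_le_Cy (y : fieldPart c.S) : (c.S : Subgroup G) ≤ c.Cy y := fun s hs =>
  mem_centralizer_singleton_iff.2 (c.y_comm_S y hs).eq.symm

theorem L_le_Ct : c.L ≤ centralizer ({c.t} : Set G) := by
  rintro _ ⟨l, rfl⟩
  exact mem_centralizer_singleton_iff.2 (c.φ_comm l)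

theorem i_mem_L1 (y : fieldPart c.S) : c.i ∈ c.L1 y := ⟨⟨_, rfl⟩, c.S_le_Cy y c.i_mem⟩

theorem u_one_mem_L1 (y : fieldPart c.S) : c.u 1 ∈ c.L1 y := ⟨⟨_, rfl⟩, by
  refine mem_centralizer_singleton_iff.2 ?_
  have h := c.y_u y 1
  rw [map_one, mul_inv_eq_iff_eq_mul] at h
  exact h.symm⟩

/-- The elements of `C(t) ∩ C(y)`. -/
theorem exists_of_mem {y : fieldPart c.S} {g : G} (ht : g * c.t = c.t * g) (hy : g ∈ c.Cy y) :
    ∃ l ∈ c.L1 y, ∃ z : fieldPart c.S, g = l * z ∨ g = c.t * (l * z) := by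
  obtain ⟨z, l, hl⟩ := c.exists_decomp ⟨g, mem_centralizer_singleton_iff.2 ht⟩
  change g = _ ∨ g = _ at hl
  refine ⟨c.φ l, Subgroup.mem_inf.2 ⟨⟨l, rfl⟩, ?_⟩, z, hl⟩
  have hzy : (z : G) ∈ c.Cy y := c.field_le_Cy y z.2
  have htC : c.t ∈ c.Cy y := c.S_le_Cy y c.t_mem
  rcases hl with e | e
  · rw [show c.φ l = g * (z : G)⁻¹ by rw [e, mul_inv_cancel_right]]
    exact mul_mem hy (inv_mem hzy)
  · rw [show c.φ l = c.t⁻¹ * g * (z : G)⁻¹ by rw [e]; group]
    exact mul_mem (mul_mem (inv_mem htC) hy) (inv_mem hzy)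

/-- `C(t) ∩ C(y)` normalizes `C_L(y)`. -/
theorem conj_mem_L1 {y : fieldPart c.S} {g l : G} (ht : g * c.t = c.t * g) (hy : g ∈ c.Cy y)
    (hl : l ∈ c.L1 y) : g * l * g⁻¹ ∈ c.L1 y := by
  obtain ⟨⟨m, rfl⟩, hlC⟩ := hl
  refine Subgroup.mem_inf.2 ⟨?_, mul_mem (mul_mem hy hlC) (inv_mem hy)⟩
  obtain ⟨z, k, hk⟩ := c.exists_decomp ⟨g, mem_centralizer_singleton_iff.2 ht⟩
  have h1 : c.φ k * z * c.φ m * (c.φ k * z)⁻¹ = c.φ (k * Cfsg.Lib.Linear.AutPSL.fld (c.σ z) m * k⁻¹) := by
    rw [map_mul, map_mul, map_inv, ← c.conj]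
    group
  rcases hk with e | e <;> change g = _ at e <;> rw [e]
  · exact ⟨_, h1.symm⟩
  · rw [show c.t * (c.φ k * (z : G)) * c.φ m * (c.t * (c.φ k * (z : G)))⁻¹ =
      c.t * (c.φ k * (z : G) * c.φ m * (c.φ k * (z : G))⁻¹) * c.t⁻¹ by group, h1]
    exact ⟨_, by rw [← c.φ_comm, mul_inv_cancel_right]⟩

/-- `C_L(y)` is `PSL₂` over the fixed field. -/
theorem exists_L1_iso (y : fieldPart c.S) : Nonempty (c.L1 y ≃* PSL2[c.fixField y]) := by
  obtain ⟨ψ, hψ, hr⟩ := c.exists_fixedL y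
  exact ⟨((MonoidHom.ofInjective hψ).trans (MulEquiv.subgroupCongr hr)).symm⟩

theorem card_L1 (y : fieldPart c.S) : Nat.card (c.L1 y) = Nat.card PSL2[c.fixField y] := by
  obtain ⟨e⟩ := c.exists_L1_iso y
  exact Nat.card_congr e.toEquiv

theorem two_mul_card_L1 (y : fieldPart c.S) :
    2 * Nat.card (c.L1 y) = c.fixCard y * (c.fixCard y ^ 2 - 1) := by
  rw [card_L1, Cfsg.Lib.Dickson.card_psl_mul (by rw [c.card_fixField']; exact Nat.odd_iff.1 (c.odd_fixCard y)),
    c.card_fixField']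

/-- An odd subgroup of `C(t) ∩ C(y)` normalized by `C_L(y)` lies in `⟨y⟩`. -/
theorem odd_normal_le {y : fieldPart c.S} {R : Subgroup G} (hR : R ≤ c.Cy y ⊓ centralizer ({c.t} : Set G))
    (hodd : Odd (Nat.card R)) (hn : c.L1 y ≤ normalizer (R : Set G)) : R ≤ zpowers (y : G) := by
  set L := c.L1 y
  have hconjL : ∀ g ∈ R, ∀ l ∈ L, g * l * g⁻¹ ∈ L := fun g hg l hl =>
    c.conj_mem_L1 (mem_centralizer_singleton_iff.1 (hR hg).2) (hR hg).1 hl
  -- the intersection with `C_L(y)`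
  have hbot : R ⊓ L = ⊥ := by
    haveI hN : ((R ⊓ L).subgroupOf L).Normal := ⟨fun x hx g => by
      rw [mem_subgroupOf] at hx ⊢
      exact Subgroup.mem_inf.2 ⟨(mem_normalizer_iff.1 (hn g.2) _).1 hx.1, mul_mem (mul_mem g.2 hx.2) (inv_mem g.2)⟩⟩
    have hcard : Nat.card ((R ⊓ L).subgroupOf L) = Nat.card ↥(R ⊓ L) :=
      Nat.card_congr (subgroupOfEquivOfLe inf_le_right).toEquiv
    have hodd' : Odd (Nat.card ↥(R ⊓ L)) := hodd.of_dvd_nat (card_dvd_of_le inf_le_left)
    by_cases h4 : 4 ≤ c.fixCard y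
    · obtain ⟨e⟩ := c.exists_L1_iso y
      haveI := psl_simple (F := c.fixField y) (by rwa [c.card_fixField'])
      haveI : IsSimpleGroup L := MulEquiv.isSimpleGroup e
      rcases IsSimpleGroup.eq_bot_or_eq_top_of_normal _ hN with h | h
      · rwa [subgroupOf_eq_bot, disjoint_iff, inf_assoc, inf_idem] at h
      · exfalso
        rw [h, card_top] at hcard
        rw [← hcard, card_L1] at hodd'
        exact Nat.not_even_iff_odd.2 hodd' (even_iff_two_dvd.2 (two_dvd_psl (by rwa [c.card_fixField'])))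
    · have h3 : c.fixCard y = 3 := by have := c.three_le_fixCard y; omega
      have h12 := c.two_mul_card_L1 y
      rw [h3] at h12
      have hL12 : Nat.card L = 4 * 3 := by
        change 2 * Nat.card L = _ at h12
        omega
      have hdvd : Nat.card ↥(R ⊓ L) ∣ 3 := by
        have h1 : Nat.card ↥(R ⊓ L) ∣ Nat.card L := card_dvd_of_le inf_le_right
        rw [hL12] at h1
        exact (Nat.Coprime.pow_right 2 (Nat.coprime_two_right.2 hodd')).dvd_of_dvd_mul_left h1
      rcases (Nat.dvd_prime Nat.prime_three).1 hdvd with h | h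
      · exact eq_bot_of_card_eq _ h
      exfalso
      haveI : Fact (Nat.Prime 3) := ⟨Nat.prime_three⟩
      have hp3 : IsPGroup 3 ((R ⊓ L).subgroupOf L) := IsPGroup.of_card (n := 1) (by rw [hcard, h, pow_one])
      let P : Sylow 3 L := hp3.toSylow (by
        intro hd
        have hi := ((R ⊓ L).subgroupOf L).card_mul_index
        rw [hcard, h, hL12] at hi
        rw [show ((R ⊓ L).subgroupOf L).index = 4 by omega] at hd
        norm_num at hd)
      have hPn : (P : Subgroup L).Normal := hN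
      haveI := Sylow.unique_of_normal P hPn
      have hmem : ∀ x ∈ L, x ^ 3 = 1 → x ∈ R ⊓ L := by
        intro x hx hx3
        have hz : IsPGroup 3 (zpowers (⟨x, hx⟩ : L)) := by
          obtain ⟨j, -, hj⟩ := (Nat.dvd_prime_pow Nat.prime_three).1
            (orderOf_dvd_of_pow_eq_one (show (⟨x, hx⟩ : L) ^ 3 ^ 1 = 1 from Subtype.ext (by simpa using hx3)))
          exact IsPGroup.of_card (n := j) (by rw [Nat.card_zpowers, hj])
        obtain ⟨Q, hQ⟩ := hz.exists_le_sylow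
        rw [Subsingleton.elim Q P] at hQ
        exact (hQ (mem_zpowers _) : (⟨x, hx⟩ : L) ∈ (R ⊓ L).subgroupOf L)
      haveI : CharP (c.fixField y) 3 := by
        refine charP_of_card_eq_prime ?_
        rw [c.card_fixField', h3]
      have hu3 : c.u 1 ^ 3 = 1 := by
        have h3F : (3 : F) = 0 := by
          have : ((3 : ℕ) : c.fixField y) = 0 := CharP.cast_eq_zero _ 3
          exact congrArg Subtype.val this
        rw [show (3 : ℕ) = 1 + 1 + 1 from rfl, pow_add, pow_add, pow_one, ← c.u_add, ← c.u_add,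
          show (1 : F) + 1 + 1 = 0 by rw [← h3F]; norm_num, c.u_zero]
      have hu := hmem _ (c.u_one_mem_L1 y) hu3
      have hiu := hmem (c.i * c.u 1 * c.i⁻¹)
        (mul_mem (mul_mem (c.i_mem_L1 y) (c.u_one_mem_L1 y)) (inv_mem (c.i_mem_L1 y)))
        (by rw [conj_pow, hu3, mul_one, mul_inv_cancel])
      have hgen : zpowers (c.u 1) = R ⊓ L := by
        refine eq_of_le_of_card_ge (zpowers_le.2 hu) ?_
        rw [h, Nat.card_zpowers]
        refine le_of_eq (orderOf_eq_prime hu3 fun e => ?_).symm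
        exact one_ne_zero (c.u_injective (e.trans c.u_zero.symm))
      rw [← hgen] at hiu
      obtain ⟨k, hk⟩ := mem_zpowers_iff.1 hiu
      have hU : c.u 1 ^ k ∈ c.U := zpow_mem (c.mem_U.2 ⟨1, rfl⟩) k
      rw [hk] at hU
      obtain ⟨b, hb⟩ := c.mem_U.1 hU
      exact one_ne_zero (c.i_u_i hb.symm)
  intro g hg
  have hcent : ∀ l ∈ L, g * l = l * g := fun l hl => by
    have h1 : ⁅g, l⁆ ∈ R ⊓ L := by
      rw [commutatorElement_def]
      refine Subgroup.mem_inf.2 ⟨?_, mul_mem (hconjL g hg l hl) (inv_mem hl)⟩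
      rw [show g * l * g⁻¹ * l⁻¹ = g * (l * g⁻¹ * l⁻¹) by group]
      exact mul_mem hg ((mem_normalizer_iff.1 (hn hl) _).1 (inv_mem hg))
    rw [hbot, mem_bot] at h1
    exact commutatorElement_eq_one_iff_mul_comm.1 h1
  have hgt := mem_centralizer_singleton_iff.1 (hR hg).2
  obtain ⟨s, e, z, hz, he⟩ := c.cent_t_u one_ne_zero hgt
    (show g * c.u 1 * g⁻¹ = c.u 1 by rw [hcent _ (c.u_one_mem_L1 y), mul_inv_cancel_right])
  rw [map_one, mul_one] at he
  have hd : c.d e = 1 := c.d_eq_one.2 (by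
    rcases sq_eq_one_iff.1 he with r | r
    · exact Or.inl (Units.ext (by simpa using r))
    · exact Or.inr (Units.ext (by simpa using r)))
  rw [hd, mul_one] at hz
  have hiz : Commute c.i (z : G) := (c.y_comm_S z c.i_mem).symm
  have hus : c.i * c.u s * c.i⁻¹ = c.u s := by
    have hgi : Commute g c.i := hcent _ (c.i_mem_L1 y)
    have hit : Commute c.i c.t := c.i_comm_t
    have h1 : Commute c.i (c.u s * (z : G)) := by
      rcases hz with r | r
      · exact r ▸ hgi.symm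
      · have := hit.inv_right.mul_right (r ▸ hgi.symm)
        rwa [inv_mul_cancel_left] at this
    have h2 := h1.mul_right hiz.inv_right
    rw [mul_inv_cancel_right] at h2
    rw [h2.eq, mul_inv_cancel_right]
  have hs := c.i_u_i hus
  rw [hs, c.u_zero, one_mul] at hz
  have hgz : g = z := by
    rcases hz with r | r
    · exact r
    · exfalso
      obtain ⟨k, hk⟩ : Odd (orderOf g) :=
        hodd.of_dvd_nat (Subgroup.orderOf_dvd_natCard R hg)
      have htz : Commute c.t (z : G) := (c.y_comm_t z).symm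
      have h1 : (c.t * (z : G)) ^ (2 * k + 1) = 1 := by rw [← r, ← hk, pow_orderOf_eq_one]
      rw [htz.mul_pow, pow_succ, pow_mul, pow_two, c.t_sq, one_pow, one_mul] at h1
      have h2 : c.t ∈ fieldPart c.S := by
        rw [eq_inv_of_mul_eq_one_left h1]
        exact inv_mem (pow_mem z.2 _)
      exact c.t_ne (eq_one_of_mem_of_mem_fieldPart c.S c.t_mem h2)
  have hfix : ∀ a, c.σ y a = a → c.σ z a = a := fun a ha => c.u_injective (by
    have hal : c.u a ∈ L := ⟨⟨_, rfl⟩, mem_centralizer_singleton_iff.2 (by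
      have h := c.y_u y a
      rw [ha, mul_inv_eq_iff_eq_mul] at h
      exact h.symm)⟩
    rw [← c.y_u, ← hgz, hcent _ hal, mul_inv_cancel_right])
  obtain ⟨i, hi⟩ := mem_zpowers_iff.1 (c.mem_zpowers_of_fix hfix)
  exact mem_zpowers_iff.2 ⟨i, by rw [hgz, ← hi]; rfl⟩

/-- The order of `C(t) ∩ C(y)`. -/
theorem card_Cty (y : fieldPart c.S) :
    Nat.card ↥(c.Cy y ⊓ centralizer ({c.t} : Set G)) = 2 * (Nat.card (c.L1 y) * c.f) := by
  have hzC : ∀ z : fieldPart c.S, (z : G) ∈ c.Cy y ⊓ centralizer ({c.t} : Set G) := fun z =>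
    ⟨c.field_le_Cy y z.2, mem_centralizer_singleton_iff.2 (c.y_comm_t z).eq⟩
  have hlC : ∀ l : c.L1 y, (l : G) ∈ c.Cy y ⊓ centralizer ({c.t} : Set G) := fun l =>
    ⟨l.2.2, c.L_le_Ct l.2.1⟩
  have htC : c.t ∈ c.Cy y ⊓ centralizer ({c.t} : Set G) :=
    ⟨c.S_le_Cy y c.t_mem, mem_centralizer_singleton_iff.2 rfl⟩
  let m : (c.L1 y × fieldPart c.S) ⊕ (c.L1 y × fieldPart c.S) →
      ↥(c.Cy y ⊓ centralizer ({c.t} : Set G)) :=
    Sum.elim (fun p => ⟨(p.1 : G) * p.2, mul_mem (hlC p.1) (hzC p.2)⟩)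
      (fun p => ⟨c.t * ((p.1 : G) * p.2), mul_mem htC (mul_mem (hlC p.1) (hzC p.2))⟩)
  have hm : Function.Bijective m := by
    refine ⟨?_, fun g => ?_⟩
    · rintro (⟨⟨_, ⟨l, rfl⟩, _⟩, z⟩ | ⟨⟨_, ⟨l, rfl⟩, _⟩, z⟩)
        (⟨⟨_, ⟨l', rfl⟩, _⟩, z'⟩ | ⟨⟨_, ⟨l', rfl⟩, _⟩, z'⟩) h <;> have h' := congrArg Subtype.val h <;>
        simp only [m, Sum.elim_inl, Sum.elim_inr] at h'
      · obtain ⟨rfl, rfl⟩ := c.decomp_unique.1 h'; rfl
      · exact absurd h' c.decomp_unique.2
      · exact absurd h'.symm c.decomp_unique.2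
      · obtain ⟨rfl, rfl⟩ := c.decomp_unique.1 (mul_left_cancel h'); rfl
    · obtain ⟨l, hl, z, h | h⟩ := c.exists_of_mem (mem_centralizer_singleton_iff.1 g.2.2) g.2.1
      · exact ⟨Sum.inl (⟨l, hl⟩, z), Subtype.ext h.symm⟩
      · exact ⟨Sum.inr (⟨l, hl⟩, z), Subtype.ext h.symm⟩
  rw [← Nat.card_congr (Equiv.ofBijective m hm), Nat.card_sum, Nat.card_prod, ← two_mul]
  rfl

theorem pos_f : 0 < c.f := Nat.card_pos

/-- All involutions of `C(y)` are conjugate there, so `|C(y) : C(t) ∩ C(y)|` is the number of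
involutions mod `r`. -/
theorem dvd_relIndex {y : fieldPart c.S} (hy : (orderOf y).Prime) :
    orderOf y ∣ (centralizer ({c.t} : Set G)).relIndex (c.Cy y) := by
  classical
  haveI : Fact (Nat.Prime 2) := ⟨Nat.prime_two⟩
  haveI := Fact.mk hy
  set C := c.Cy y
  set D := centralizer ({c.t} : Set G)
  haveI := Fintype.ofFinite (G ⧸ D)
  have hP : IsPGroup (orderOf y) (zpowers (y : G)) :=
    IsPGroup.of_card (n := 1) (by rw [Nat.card_zpowers, pow_one, Subgroup.orderOf_coe])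
  have hmod := hP.card_modEq_card_fixedPoints (G ⧸ D)
  let f : C ⧸ D.subgroupOf C → G ⧸ D := fun q => Quotient.liftOn' q (fun g => ((g : G) : G ⧸ D))
    fun a b hab => QuotientGroup.eq.2 (by
      rw [QuotientGroup.leftRel_apply] at hab; exact hab)
  have hf : Function.Injective f := by
    intro a b
    refine Quotient.inductionOn₂' a b fun g g' h => ?_
    exact Quotient.sound' (by rw [QuotientGroup.leftRel_apply]; exact (QuotientGroup.eq.1 h :))
  have hfix : MulAction.fixedPoints (zpowers (y : G)) (G ⧸ D) = Set.range f := by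
    ext a
    obtain ⟨g, rfl⟩ := QuotientGroup.mk_surjective a
    rw [MulAction.mem_fixedPoints]
    constructor
    · intro hg
      have h1 := hg ⟨(y : G), mem_zpowers _⟩
      change ((((y : G) * g : G)) : G ⧸ D) = g at h1
      rw [eq_comm, QuotientGroup.eq, ← mul_assoc] at h1
      have h1' := mem_centralizer_singleton_iff.1 h1
      -- the conjugate involution lies in `C(y)`
      set v := g * c.t * g⁻¹ with hv
      have hvC : v ∈ C := mem_centralizer_singleton_iff.2 (by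
        calc v * (y : G) = g * (c.t * (g⁻¹ * (y : G) * g)) * g⁻¹ := by rw [hv]; group
          _ = g * (g⁻¹ * (y : G) * g * c.t) * g⁻¹ := by rw [h1']
          _ = (y : G) * v := by rw [hv]; group)
      have hv2 : v * v = 1 := by
        rw [hv, show g * c.t * g⁻¹ * (g * c.t * g⁻¹) = g * (c.t * c.t) * g⁻¹ by group, c.t_sq]
        group
      have hv1 : v ≠ 1 := fun e => c.t_ne (conj_eq_one_iff.1 (hv ▸ e))
      have hz : IsPGroup 2 (zpowers (⟨v, hvC⟩ : C)) := IsPGroup.of_card (n := 1) (by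
        rw [Nat.card_zpowers, Subgroup.orderOf_mk, pow_one]
        exact orderOf_eq_prime (by rw [pow_two]; exact hv2) hv1)
      obtain ⟨Q, hQ⟩ := hz.exists_le_sylow
      obtain ⟨k, hk⟩ := MulAction.exists_smul_eq C Q (c.S.subtype (c.S_le_Cy y))
      have hmem : (k : G) * v * (k : G)⁻¹ ∈ (c.S : Subgroup G) := by
        have h2 : MulAut.conj k • (⟨v, hvC⟩ : C) ∈ ((k • Q : Sylow 2 C) : Subgroup C) := by
          rw [Sylow.coe_subgroup_smul]
          exact Subgroup.smul_mem_pointwise_smul _ _ _ (hQ (mem_zpowers _))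
        rw [hk] at h2
        exact h2
      have hpt : Pt c.S ((k : G) * v * (k : G)⁻¹) := ⟨hmem, fun e => hv1 (conj_eq_one_iff.1 e)⟩
      obtain ⟨n, hn, hne⟩ := c.hyp.trans c.pt hpt
      have hnC : n ∈ C := mem_centralizer_singleton_iff.2
        (mem_centralizer_iff.1 (c.normalizer_centralizes hn) _ y.2).symm
      refine ⟨QuotientGroup.mk (k⁻¹ * ⟨n, hnC⟩), ?_⟩
      show ((((k : G)⁻¹ * n : G)) : G ⧸ D) = g
      rw [QuotientGroup.eq]
      refine mem_centralizer_singleton_iff.2 ?_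
      calc ((k : G)⁻¹ * n)⁻¹ * g * c.t = n⁻¹ * ((k : G) * v * (k : G)⁻¹) * (k * g) := by
            rw [hv]; group
        _ = c.t * (((k : G)⁻¹ * n)⁻¹ * g) := by rw [← hne]; group
    · rintro ⟨q, hq⟩ w
      induction q using Quotient.inductionOn' with
      | _ h =>
        change ((h : G) : G ⧸ D) = g at hq
        rw [← hq]
        obtain ⟨j, hj⟩ := mem_zpowers_iff.1 w.2
        show ((((w : G) * h : G)) : G ⧸ D) = ((h : G) : G ⧸ D)
        have hc : Commute (w : G) h := hj ▸ (show Commute (y : G) h from (mem_centralizer_singleton_iff.1 h.2).symm).zpow_left j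
        rw [hc.eq, QuotientGroup.mk_mul_of_mem]
        exact hj ▸ zpow_mem (mem_centralizer_singleton_iff.2 (c.y_comm_t y).eq : (y : G) ∈ D) j
  rw [hfix, Nat.card_coe_set_eq, Set.ncard_range_of_injective hf, ← Subgroup.index_eq_card] at hmod
  refine Nat.modEq_zero_iff_dvd.1 (hmod.symm.trans (Nat.modEq_zero_iff_dvd.2 ?_))
  exact ((orderOf_dvd_natCard y).trans c.dvd)

/-! ### The quotient -/

/-- `⟨y⟩` in `C(y)`. -/
abbrev Zy (y : fieldPart c.S) : Subgroup (c.Cy y) := (zpowers (y : G)).subgroupOf (c.Cy y)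

instance normal_Zy (y : fieldPart c.S) : (c.Zy y).Normal := ⟨fun z hz g => by
  rw [mem_subgroupOf] at hz ⊢
  obtain ⟨j, hj⟩ := mem_zpowers_iff.1 hz
  have hc : Commute (g : G) (z : G) := hj ▸ (show Commute (g : G) y from mem_centralizer_singleton_iff.1 g.2).zpow_right j
  rw [Subgroup.coe_mul, Subgroup.coe_mul, Subgroup.coe_inv, hc.eq, mul_inv_cancel_right]
  exact hj ▸ zpow_mem (mem_zpowers _) j⟩

/-- `C(y)/⟨y⟩`. -/
abbrev Xy (y : fieldPart c.S) := c.Cy y ⧸ c.Zy y

/-- The projection to `C(y)/⟨y⟩`. -/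
abbrev πy (y : fieldPart c.S) : c.Cy y →* c.Xy y := QuotientGroup.mk' (c.Zy y)

theorem card_Zy (y : fieldPart c.S) : Nat.card (c.Zy y) = orderOf y := by
  rw [Nat.card_congr (subgroupOfEquivOfLe (zpowers_le.2 (mem_centralizer_singleton_iff.2 rfl))).toEquiv,
    Nat.card_zpowers, Subgroup.orderOf_coe]

theorem odd_ker (y : fieldPart c.S) : Odd (Nat.card (c.πy y).ker) := by
  rw [QuotientGroup.ker_mk', card_Zy]; exact c.odd_orderOf y

theorem card_Cy (y : fieldPart c.S) : Nat.card (c.Cy y) = Nat.card (c.Xy y) * orderOf y := by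
  rw [← card_Zy, ← Subgroup.card_eq_card_quotient_mul_card_subgroup]

/-- The Sylow subgroup of the section. -/
noncomputable def SX (y : fieldPart c.S) : Sylow 2 (c.Xy y) :=
  haveI : Fact (Nat.Prime 2) := ⟨Nat.prime_two⟩
  (c.S.subtype (c.S_le_Cy y)).mapSurjective (QuotientGroup.mk'_surjective _)

theorem mem_SX {y : fieldPart c.S} {a : c.Xy y} :
    a ∈ (c.SX y : Subgroup (c.Xy y)) ↔
      ∃ s : c.Cy y, (s : G) ∈ (c.S : Subgroup G) ∧ c.πy y s = a := by
  haveI : Fact (Nat.Prime 2) := ⟨Nat.prime_two⟩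
  rw [SX, Sylow.coe_mapSurjective, Subgroup.mem_map]
  rfl

theorem S_inj {y : fieldPart c.S} {s : c.Cy y} (hs : (s : G) ∈ (c.S : Subgroup G)) (h : c.πy y s = 1) :
    s = 1 := by
  have h1 : (s : G) ∈ zpowers (y : G) := (QuotientGroup.eq_one_iff s).1 h
  exact Subtype.ext (eq_one_of_mem_of_mem_fieldPart c.S hs (zpowers_le.2 y.2 h1))

theorem card_SX (y : fieldPart c.S) : Nat.card (c.SX y : Subgroup (c.Xy y)) = 8 := by
  haveI : Fact (Nat.Prime 2) := ⟨Nat.prime_two⟩
  rw [SX, Sylow.coe_mapSurjective, ← c.hyp.card]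
  refine Eq.trans ?_ (Nat.card_congr (subgroupOfEquivOfLe (c.S_le_Cy y)).toEquiv)
  rw [Sylow.coe_subtype]
  refine (Nat.card_congr (Equiv.ofBijective ((c.πy y).subgroupMap ((c.S : Subgroup G).subgroupOf (c.Cy y)))
    ⟨(injective_iff_map_eq_one _).2 fun s hs => Subtype.ext (c.S_inj (s := s.1) s.2
      (show c.πy y s.1 = 1 from congrArg Subtype.val hs)),
      MonoidHom.subgroupMap_surjective _ _⟩)).symm

theorem SX_sq (y : fieldPart c.S) : ∀ v ∈ (c.SX y : Subgroup (c.Xy y)), v * v = 1 := by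
  intro v hv
  obtain ⟨s, hs, rfl⟩ := c.mem_SX.1 hv
  rw [← map_mul, show s * s = 1 from Subtype.ext (c.hyp.sq _ hs), map_one]

/-- The image of `t`. -/
abbrev tX (y : fieldPart c.S) : c.Xy y := c.πy y ⟨c.t, c.S_le_Cy y c.t_mem⟩

theorem pt_tX (y : fieldPart c.S) : Pt (c.SX y) (c.tX y) :=
  ⟨c.mem_SX.2 ⟨_, c.t_mem, rfl⟩, fun h => c.t_ne (congrArg Subtype.val (c.S_inj c.t_mem h))⟩

theorem transAt_SX (y : fieldPart c.S) : TransAt (c.SX y) ⊤ := by
  intro a b ha hb
  obtain ⟨s, hs, rfl⟩ := c.mem_SX.1 ha.1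
  obtain ⟨s', hs', rfl⟩ := c.mem_SX.1 hb.1
  obtain ⟨n, hn, e⟩ := c.hyp.trans
    (show Pt c.S (s : G) from ⟨hs, fun e => ha.2 (by rw [show s = 1 from Subtype.ext e, map_one])⟩)
    (show Pt c.S (s' : G) from ⟨hs', fun e => hb.2 (by rw [show s' = 1 from Subtype.ext e, map_one])⟩)
  have hnC : n ∈ c.Cy y := mem_centralizer_singleton_iff.2
    (mem_centralizer_iff.1 (c.normalizer_centralizes hn) _ y.2).symm
  refine ⟨c.πy y ⟨n, hnC⟩, mem_top _, mem_normalizer_fintype fun v hv => ?_, ?_⟩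
  · obtain ⟨w, hw, rfl⟩ := c.mem_SX.1 hv
    exact c.mem_SX.2 ⟨⟨n, hnC⟩ * w * ⟨n, hnC⟩⁻¹, (mem_normalizer_iff.1 hn _).1 hw,
      by rw [map_mul, map_mul, map_inv]⟩
  · rw [← map_inv, ← map_mul, ← map_mul]
    exact congrArg _ (Subtype.ext e)

/-- The centralizer of the involution in the section. -/
theorem Cg_tX (y : fieldPart c.S) :
    Cg (c.tX y) = (Cg (⟨c.t, c.S_le_Cy y c.t_mem⟩ : c.Cy y)).map (c.πy y) :=
  (map_cent_eq (c.πy y) (QuotientGroup.mk'_surjective _) (c.odd_ker y)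
    (Subtype.ext c.t_sq)).symm

theorem card_Cg_tX (y : fieldPart c.S) :
    Nat.card (Cg (c.tX y)) * orderOf y = 2 * (Nat.card (c.L1 y) * c.f) := by
  have h := ((c.πy y).ker.subgroupOf (Cg (⟨c.t, c.S_le_Cy y c.t_mem⟩ : c.Cy y))).card_mul_index
  have hle : (c.πy y).ker ≤ Cg (⟨c.t, c.S_le_Cy y c.t_mem⟩ : c.Cy y) := by
    rw [QuotientGroup.ker_mk']
    intro z hz
    refine mem_Cg.2 (Subtype.ext ?_)
    obtain ⟨j, hj⟩ := mem_zpowers_iff.1 (mem_subgroupOf.1 hz)
    show (z : G) * c.t = c.t * z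
    rw [← hj]
    exact ((c.y_comm_t y).zpow_left j).eq
  rw [Nat.card_congr (subgroupOfEquivOfLe hle).toEquiv, QuotientGroup.ker_mk', card_Zy] at h
  have hidx : ((c.Zy y).subgroupOf (Cg (⟨c.t, c.S_le_Cy y c.t_mem⟩ : c.Cy y))).index =
      Nat.card (Cg (c.tX y)) := by
    rw [c.Cg_tX, Subgroup.index_eq_card]
    rw [← Subgroup.index_eq_card]
    have h2 := Subgroup.relIndex_ker (K := Cg (⟨c.t, c.S_le_Cy y c.t_mem⟩ : c.Cy y)) (c.πy y)
    rwa [QuotientGroup.ker_mk'] at h2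
  rw [hidx] at h
  rw [mul_comm, h, ← c.card_Cty y]
  refine Nat.card_congr ⟨fun g => ⟨((g : c.Cy y) : G), (g : c.Cy y).2,
      mem_centralizer_singleton_iff.2 (congrArg Subtype.val (mem_Cg.1 g.2))⟩,
    fun g => ⟨⟨g, g.2.1⟩, mem_Cg.2 (Subtype.ext (mem_centralizer_singleton_iff.1 g.2.2))⟩,
    fun _ => rfl, fun _ => rfl⟩

theorem Og_tX (y : fieldPart c.S) : Og (c.tX y) = ⊥ := by
  set tC : c.Cy y := ⟨c.t, c.S_le_Cy y c.t_mem⟩
  set R := (((Og (c.tX y)).comap (c.πy y)) ⊓ Cg tC).map (c.Cy y).subtype with hR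
  have h1 : R ≤ zpowers (y : G) := by
    refine c.odd_normal_le ?_ ?_ ?_
    · rintro _ ⟨g, hg, rfl⟩
      exact ⟨g.2, mem_centralizer_singleton_iff.2 (congrArg Subtype.val (mem_Cg.1 hg.2))⟩
    · rw [hR, Subgroup.card_map_of_injective (subtype_injective _)]
      refine Odd.of_dvd_nat ?_ (card_dvd_of_le inf_le_left)
      have h1 := ((Og (c.tX y)).comap (c.πy y)).card_mul_index
      rw [index_comap_of_surjective _ (QuotientGroup.mk'_surjective _), c.card_Cy, ← (Og (c.tX y)).card_mul_index,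
        mul_comm (_ * _), ← mul_assoc, mul_comm (orderOf y)] at h1
      rw [Nat.eq_of_mul_eq_mul_right (Nat.pos_of_ne_zero index_ne_zero_of_finite) h1]
      exact (odd_cor _).mul (c.odd_orderOf y)
    · intro l hl
      refine mem_normalizer_fintype ?_
      rintro _ ⟨g, hg, rfl⟩
      set l' : c.Cy y := ⟨l, hl.2⟩
      have hlt : l' ∈ Cg tC := mem_Cg.2 (Subtype.ext (mem_centralizer_singleton_iff.1 (c.L_le_Ct hl.1)))
      refine ⟨l' * g * l'⁻¹, Subgroup.mem_inf.2 ⟨?_, mul_mem (mul_mem hlt hg.2) (inv_mem hlt)⟩, rfl⟩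
      show c.πy y (l' * g * l'⁻¹) ∈ Og (c.tX y)
      rw [map_mul, map_mul, map_inv]
      exact (mem_normalizer_iff.1 (le_normalizer_cor _ (c.Cg_tX y ▸ mem_map_of_mem _ hlt)) _).1 hg.1
  rw [eq_bot_iff]
  intro x hx
  have hxC : x ∈ Cg (c.tX y) := cor_le _ hx
  rw [c.Cg_tX] at hxC
  obtain ⟨g, hg, rfl⟩ := hxC
  have h2 : (g : G) ∈ zpowers (y : G) := h1 ⟨g, ⟨hx, hg⟩, rfl⟩
  exact mem_bot.2 ((QuotientGroup.eq_one_iff g).2 h2)

theorem oddCore_Xy (y : fieldPart c.S) : oddCore (c.Xy y) = ⊥ := by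
  refine eq_bot_of_pieces (c.SX y) (c.card_SX y) (c.SX_sq y) ?_ AbTwo.odd_oddCore fun a ha => ?_
  · rw [normalizer_eq_top]; exact le_top
  obtain ⟨n, -, -, e⟩ := c.transAt_SX y (c.tX y) a (c.pt_tX y) ha
  have hOa : Og a = ⊥ := by rw [← e, ← cj_Og, c.Og_tX, cj, Subgroup.map_bot]
  rw [eq_bot_iff, ← hOa]
  refine le_cor inf_le_right (AbTwo.odd_oddCore.of_dvd_nat (card_dvd_of_le inf_le_left)) ?_
  intro g hg
  exact mem_normalizer_fintype fun v hv =>
    Subgroup.mem_inf.2 ⟨(inferInstance : (oddCore (c.Xy y)).Normal).conj_mem v hv.1 g,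
      mul_mem (mul_mem hg hv.2) (inv_mem hg)⟩

/-- For `q₁ ≥ 5` the order of `C(y)` is `|F₀|` times the order of a Ree group or of `J₁`. -/
theorem card_Cy_cases {y : fieldPart c.S} (hy : (orderOf y).Prime) (h5 : 5 ≤ c.fixCard y) :
    (∃ m : ℕ, 1 ≤ m ∧ c.fixCard y = 3 ^ (2 * m + 1) ∧ Nat.card (c.Cy y) =
      c.f * (c.fixCard y ^ 3 * (c.fixCard y ^ 3 + 1) * (c.fixCard y - 1))) ∨
    (c.fixCard y = 5 ∧ Nat.card (c.Cy y) = c.f * 175560 ∧
      ∃ (N : Subgroup (c.Xy y)), N.Normal ∧ IsJ1 N ∧ N.index * orderOf y = c.f) := by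
  classical
  haveI : Fact (Nat.Prime 2) := ⟨Nat.prime_two⟩
  set X := c.Xy y
  set K := c.fixField y
  have hK5 : 5 ≤ Fintype.card K := (c.card_fixField' y).symm ▸ h5
  have hK4 : 4 ≤ Fintype.card K := by omega
  haveI := psl_simple (F := K) hK4
  obtain ⟨eL⟩ := c.exists_L1_iso y
  haveI : IsSimpleGroup (c.L1 y) := MulEquiv.isSimpleGroup eL
  set tC : c.Cy y := ⟨c.t, c.S_le_Cy y c.t_mem⟩
  -- the image of `C_L(y)`
  set ι : c.L1 y →* X := (c.πy y).comp (Subgroup.inclusion inf_le_right)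
  have heven : 2 ∣ Nat.card (c.L1 y) := by
    rw [card_L1]; exact two_dvd_psl (by rwa [c.card_fixField'] at hK4 ⊢)
  have hι : Function.Injective ι := by
    rw [← MonoidHom.ker_eq_bot_iff]
    refine (IsSimpleGroup.eq_bot_or_eq_top_of_normal ι.ker inferInstance).resolve_right fun h => ?_
    obtain ⟨v, hv⟩ := exists_prime_orderOf_dvd_card' (G := c.L1 y) 2 heven
    have h0 : ι v = 1 := MonoidHom.mem_ker.1 (h ▸ mem_top v)
    have h1 : (v : G) ∈ zpowers (y : G) :=
      (QuotientGroup.eq_one_iff (Subgroup.inclusion (inf_le_right : c.L1 y ≤ c.Cy y) v)).1 h0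
    have h2 := Subgroup.orderOf_dvd_natCard _ h1
    rw [Subgroup.orderOf_coe, hv, Nat.card_zpowers, Subgroup.orderOf_coe] at h2
    exact Nat.not_even_iff_odd.2 (c.odd_orderOf y) (even_iff_two_dvd.2 h2)
  have hιC : ∀ l, ι l ∈ Cg (c.tX y) := fun l => by
    rw [c.Cg_tX]
    exact mem_map_of_mem _ (mem_Cg.2 (Subtype.ext (mem_centralizer_singleton_iff.1 (c.L_le_Ct l.2.1))))
  have hns : ¬ Group.IsSolvable ↥(Cg (c.tX y)) := fun hs => by
    haveI := hs
    haveI : Group.IsSolvable (c.L1 y) := Group.isSolvable_of_isSolvable_injective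
      (f := ι.codRestrict _ hιC) fun a b e => hι (congrArg Subtype.val e :)
    refine not_solvable (MulEquiv.refl (Multiplicative (ZMod 2) × PSL2[K])) hK4 ?_
    haveI : Group.IsSolvable PSL2[K] :=
      Group.isSolvable_of_isSolvable_injective (f := eL.symm.toMonoidHom) eL.symm.injective
    infer_instance
  have hXlt : Nat.card X < Nat.card G := by
    show Nat.card (c.Xy y) < Nat.card G
    have h1 := c.card_Cy y
    have h2 : Nat.card (c.Cy y) ≤ Nat.card G := Subgroup.card_le_card_group _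
    have h3 : Nat.card (c.Xy y) * 2 ≤ Nat.card (c.Xy y) * orderOf y := Nat.mul_le_mul_left _ hy.two_le
    have h4 : 0 < Nat.card (c.Xy y) := Nat.card_pos
    omega
  obtain ⟨N, F', i', j', hN⟩ := exists_socleModel (c.SX y) (c.card_SX y) (c.SX_sq y) (c.transAt_SX y)
    (c.oddCore_Xy y) (c.pt_tX y) hns (n := Nat.card G) c.below hXlt
  haveI := hN.normal
  haveI := hN.simple
  obtain ⟨e⟩ := hN.iso
  have hF4 : 4 ≤ Fintype.card F' := by have := hN.five_le; omega
  have hF2 : Fintype.card F' % 2 = 1 := by rcases hN.mod_eight with h | h <;> omega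
  have hodd : Odd N.index := odd_index_of_le hN.le
  -- the image of `⟨t⟩ × C_L(y)`
  set T := zpowers (c.tX y) ⊔ ι.range with hT
  have hcomm : ∀ (a : zpowers (c.tX y)) (l : c.L1 y), Commute ((zpowers (c.tX y)).subtype a) (ι l) :=
    fun a l => by
      obtain ⟨j, hj⟩ := mem_zpowers_iff.1 a.2
      show Commute (a : X) (ι l)
      rw [← hj]
      exact (show Commute (ι l) (c.tX y) from mem_Cg.1 (hιC l)).symm.zpow_left j
  have hTcard : Nat.card T = 2 * Nat.card (c.L1 y) := by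
    set m := MonoidHom.noncommCoprod (zpowers (c.tX y)).subtype ι hcomm
    have hm : m.range = T := by
      rw [MonoidHom.noncommCoprod_range, range_subtype]
    have hminj : Function.Injective m := by
      rw [MonoidHom.noncommCoprod_injective]
      refine ⟨subtype_injective _, hι, ?_⟩
      rw [range_subtype, disjoint_iff_inf_le]
      rintro v ⟨hv, l, rfl⟩
      refine mem_bot.2 ((map_eq_one_iff ι hι).2 ?_)
      -- central in a simple group
      have hl : l ∈ center (c.L1 y) := mem_center_iff.2 fun g => hι (by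
        rw [map_mul, map_mul]
        obtain ⟨j, hj⟩ := mem_zpowers_iff.1 hv
        rw [← hj]
        exact ((show Commute (ι g) (c.tX y) from mem_Cg.1 (hιC g)).zpow_right j).eq)
      rcases IsSimpleGroup.eq_bot_or_eq_top_of_normal (center (c.L1 y)) inferInstance with h | h
      · exact mem_bot.1 (h ▸ hl)
      · exfalso
        haveI : IsMulCommutative (c.L1 y) := ⟨⟨fun a b => mem_center_iff.1 (h ▸ mem_top b) a⟩⟩
        refine not_solvable (MulEquiv.refl (Multiplicative (ZMod 2) × PSL2[K])) hK4 ?_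
        haveI : Group.IsSolvable (c.L1 y) := Group.isSolvable_of_comm fun a b => mul_comm' a b
        haveI : Group.IsSolvable PSL2[K] :=
          Group.isSolvable_of_isSolvable_injective (f := eL.symm.toMonoidHom) eL.symm.injective
        infer_instance
    rw [← hm, ← Nat.card_congr (MonoidHom.ofInjective hminj).toEquiv, Nat.card_prod, Nat.card_zpowers,
      show orderOf (c.tX y) = 2 from orderOf_eq_prime
        (by rw [pow_two]; exact c.SX_sq y _ (c.pt_tX y).1) (c.pt_tX y).2]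
  set D := N ⊓ Cg (c.tX y) with hD
  have hTD : T ≤ D := by
    refine le_inf (sup_le (zpowers_le.2 (hN.le (c.pt_tX y).1)) ?_)
      (sup_le (zpowers_le.2 (mem_Cg.2 rfl)) (by rintro _ ⟨l, rfl⟩; exact hιC l))
    haveI : (N.comap ι).Normal := Subgroup.Normal.comap hN.normal ι
    rcases IsSimpleGroup.eq_bot_or_eq_top_of_normal (N.comap ι) inferInstance with h | h
    · exfalso
      obtain ⟨v, hv⟩ := exists_prime_orderOf_dvd_card' (G := c.L1 y) 2 heven
      have h1 : v ∈ N.comap ι := sq_one_mem hodd (by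
        rw [← map_mul, ← pow_two, ← hv, pow_orderOf_eq_one, map_one])
      rw [h, mem_bot] at h1
      rw [h1, orderOf_one] at hv
      omega
    · rintro _ ⟨l, rfl⟩
      exact (h ▸ mem_top l : l ∈ N.comap ι)
  have hDdvd : Nat.card D * orderOf y ∣ Nat.card T * c.f := by
    rw [hTcard, mul_assoc, ← c.card_Cg_tX y]
    exact Nat.mul_dvd_mul_right (card_dvd_of_le inf_le_right) _
  have hDT : D ≤ T := by
    haveI : (T.subgroupOf D).Normal := (normal_subgroupOf_iff_le_normalizer hTD).2 (fun g hg => by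
      have hg' : g ∈ Cg (c.tX y) := hg.2
      refine mem_normalizer_fintype fun v hv => ?_
      have hle : T ≤ T.comap (MulAut.conj g).toMonoidHom := by
        refine sup_le (zpowers_le.2 ?_) ?_
        · show g * c.tX y * g⁻¹ ∈ T
          rw [mem_Cg.1 hg', mul_inv_cancel_right]
          exact mem_sup_left (mem_zpowers _)
        · rintro _ ⟨l, rfl⟩
          show g * ι l * g⁻¹ ∈ T
          rw [c.Cg_tX] at hg'
          obtain ⟨g0, hg0, rfl⟩ := hg'
          refine mem_sup_right ⟨⟨_, c.conj_mem_L1 (congrArg Subtype.val (mem_Cg.1 hg0)) g0.2 l.2⟩, ?_⟩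
          show c.πy y _ = c.πy y g0 * c.πy y _ * (c.πy y g0)⁻¹
          rw [← map_mul, ← map_inv, ← map_mul]
          rfl
      exact hle hv)
    have h1 := eq_top_of_odd_index e hF4 (R := T.subgroupOf D) (by
      obtain ⟨k, hk⟩ := hDdvd
      have hT0 : 0 < Nat.card T := Nat.card_pos
      have hrel := (T.subgroupOf D).card_mul_index
      rw [Nat.card_congr (subgroupOfEquivOfLe hTD).toEquiv] at hrel
      refine (odd_card_fieldPart c.S).of_dvd_nat ⟨orderOf y * k, ?_⟩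
      refine Nat.eq_of_mul_eq_mul_left hT0 ?_
      show Nat.card T * c.f = _
      rw [hk, ← hrel]
      ring)
    rwa [subgroupOf_eq_top] at h1
  have hDT' : D = T := le_antisymm hDT hTD
  have hDcard : Nat.card D = 2 * Nat.card PSL2[F'] := by
    rw [Nat.card_congr e.toEquiv, Nat.card_prod, Nat.card_congr Multiplicative.toAdd, Nat.card_zmod]
  have hq : Fintype.card F' = c.fixCard y := by
    refine SocleModel.card_psl_eq (Nat.odd_iff.2 hF2) (c.odd_fixCard y) ?_
    rw [← Cfsg.Lib.Dickson.card_psl_mul hF2, ← c.two_mul_card_L1 y, ← hDcard, hDT', hTcard]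
  -- `X = N C(t)`
  have hsup : N ⊔ Cg (c.tX y) = ⊤ := by
    refine eq_top_iff.2 fun g _ => ?_
    haveI : (c.SX y : Subgroup X) ≤ N → True := fun _ => trivial
    let TN : Sylow 2 N := (c.SX y).subtype hN.le
    have hv : Pt (c.SX y) (c.tX y) := c.pt_tX y
    have hgt : g * c.tX y * g⁻¹ ∈ N := hN.normal.conj_mem _ (hN.le hv.1) g
    have hord : orderOf (⟨g * c.tX y * g⁻¹, hgt⟩ : N) = 2 := by
      rw [Subgroup.orderOf_mk, show g * c.tX y * g⁻¹ = MulAut.conj g (c.tX y) from rfl, MulEquiv.orderOf_eq]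
      exact orderOf_eq_prime (by rw [pow_two]; exact c.SX_sq y _ hv.1) hv.2
    have hz : IsPGroup 2 (zpowers (⟨g * c.tX y * g⁻¹, hgt⟩ : N)) :=
      IsPGroup.of_card (n := 1) (by rw [Nat.card_zpowers, hord, pow_one])
    obtain ⟨Q, hQ⟩ := hz.exists_le_sylow
    obtain ⟨k, hk⟩ := MulAction.exists_smul_eq N Q TN
    have hmem : (k : X) * (g * c.tX y * g⁻¹) * (k : X)⁻¹ ∈ (c.SX y : Subgroup X) := by
      have h2 : MulAut.conj k • (⟨_, hgt⟩ : N) ∈ ((k • Q : Sylow 2 N) : Subgroup N) := by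
        rw [Sylow.coe_subgroup_smul]
        exact Subgroup.smul_mem_pointwise_smul _ _ _ (hQ (mem_zpowers _))
      rw [hk] at h2
      exact h2
    set b : N := ⟨(k : X) * (g * c.tX y * g⁻¹) * (k : X)⁻¹, hN.le hmem⟩
    have hptb : Pt TN b := ⟨hmem, fun e => hv.2 (conj_eq_one_iff.1 (conj_eq_one_iff.1 (congrArg Subtype.val e)))⟩
    have hTN8 : Nat.card (TN : Subgroup N) = 8 :=
      (Nat.card_congr (subgroupOfEquivOfLe hN.le).toEquiv).trans (c.card_SX y)
    obtain ⟨n, -, -, hn⟩ := transAt_top hN.nonab TN hTN8 (fun v hv => Subtype.ext (c.SX_sq y _ hv))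
      ⟨c.tX y, hN.le hv.1⟩ b ⟨hv.1, fun e => hv.2 (congrArg Subtype.val e)⟩ hptb
    have hn' : (n : X) * c.tX y * (n : X)⁻¹ = (k : X) * (g * c.tX y * g⁻¹) * (k : X)⁻¹ :=
      congrArg Subtype.val hn
    have hcz : (n : X)⁻¹ * k * g ∈ Cg (c.tX y) := mem_Cg.2 (by
      calc (n : X)⁻¹ * k * g * c.tX y
          = (n : X)⁻¹ * ((k : X) * (g * c.tX y * g⁻¹) * (k : X)⁻¹) * k * g := by group
        _ = c.tX y * ((n : X)⁻¹ * k * g) := by rw [← hn']; group)
    have hg : g = (k : X)⁻¹ * n * ((n : X)⁻¹ * k * g) := by group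
    rw [hg]
    exact mul_mem_sup (mul_mem (inv_mem k.2) n.2) hcz
  have hidx : N.index * Nat.card D = Nat.card (Cg (c.tX y)) := by
    rw [← relIndex_top_right, ← hsup, relIndex_sup_left, ← inf_relIndex_right, hD, mul_comm, relIndex,
      ← Nat.card_congr (subgroupOfEquivOfLe (inf_le_right : N ⊓ Cg (c.tX y) ≤ _)).toEquiv,
      Subgroup.card_mul_index]
  have hNf : N.index * orderOf y = c.f := by
    refine Nat.eq_of_mul_eq_mul_left (show 0 < 2 * Nat.card (c.L1 y) from Nat.mul_pos two_pos Nat.card_pos) ?_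
    rw [mul_assoc 2 (Nat.card (c.L1 y)) c.f, ← c.card_Cg_tX y, ← hidx, hDT', hTcard]
    ring
  have hCy : Nat.card (c.Cy y) = Nat.card N * c.f := by
    rw [c.card_Cy, ← N.card_mul_index, mul_assoc, hNf]
  have hab : ∀ P : Sylow 2 N, ∀ a b : P, a * b = b * a := fun P a b => by
    haveI := comm_of_sq (S := ((c.SX y).subtype hN.le : Subgroup N)) fun v hv =>
      Subtype.ext (c.SX_sq y _ hv)
    exact (AbTwo.abelian_of_one ((c.SX y).subtype hN.le) inferInstance P).is_comm.comm a b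
  set tN : N := ⟨c.tX y, hN.le (c.pt_tX y).1⟩
  have htN : orderOf tN = 2 := orderOf_eq_prime
    (by rw [pow_two]; exact Subtype.ext (c.SX_sq y _ (c.pt_tX y).1))
    fun e => (c.pt_tX y).2 (congrArg Subtype.val e)
  rcases Walter8.main hab (by omega) tN htN ((centSubEquiv N (hN.le (c.pt_tX y).1)).trans e) with
    ⟨m, hm, hcard, hNcard⟩ | ⟨h45, hJ⟩
  · left
    rw [hq] at hcard
    exact ⟨m, hm, hcard, by rw [hCy, hNcard, ← hcard, mul_comm]⟩
  · right
    have h5' : c.fixCard y = 5 := by rw [← hq]; omega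
    exact ⟨h5', by rw [hCy, hJ.2, mul_comm], N, hN.normal, hJ, hNf⟩

end Cfg

end Cfsg.Lib.Walter3.Field
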