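import Cfsg.Agent.Lib.Walter3.Field.LocAction
import Cfsg.Agent.Lib.Walter3.Field.CentTorus
import Cfsg.Agent.Lib.Walter3.Field.Section
import Cfsg.Agent.Lib.Coprime.Action
import Cfsg.Agent.Lib.Core.Layer
import Cfsg.Agent.S0205

/-!
# The results of the three-local analysis

In the presence of a nontrivial field part, the involution `t` centralizes the action of the
three-local subgroup, three does not divide the order of the field part, and `R` is a Sylow
three-subgroup of order `q³`.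
-/

set_option autoImplicit false
set_option linter.unusedSectionVars false
set_option linter.style.haveILetI false

namespace Cfsg.Lib.Walter3.Field

open Subgroup Cfsg Cfsg.Lib Matrix
open Cfsg.Lib.TwoDim (splitSL)
open scoped MatrixGroups

universe u

namespace Cfg

variable {G : Type u} [Group G] [Finite G] {F : Type} [Field F] [Fintype F] {c : Cfg G F} {n : ℕ}

/-- The torus map as a homomorphism. -/
noncomputable def dHom (c : Cfg G F) : Fˣ →* G := MonoidHom.mk' c.d c.d_mul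

/-- An element of prime order of the split torus fixed by a given field automorphism. -/
theorem exists_torus_fixed (hg : c.Gen) (y : fieldPart c.S) (hy : (orderOf y).Prime) :
    ∃ h ∈ c.H, (orderOf h).Prime ∧ h * y = y * h := by
  obtain ⟨-, ⟨m, hm, hQ⟩, -, -⟩ := hg y hy
  have hQ27 : 27 ≤ c.fixCard y := by
    rw [hQ]
    exact (show (27 : ℕ) = 3 ^ 3 by norm_num) ▸ Nat.pow_le_pow_right (by norm_num) (by omega)
  have hQ4 : c.fixCard y % 4 = 3 := by
    rw [hQ, pow_succ, pow_mul, Nat.mul_mod, Nat.pow_mod]; norm_num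
  obtain ⟨s, hs, hsd⟩ := Nat.exists_prime_and_dvd (n := (c.fixCard y - 1) / 2) (by omega)
  haveI := Fact.mk hs
  have hsQ : s ∣ c.fixCard y - 1 := by
    obtain ⟨j, hj⟩ := hsd
    exact ⟨2 * j, by rw [mul_left_comm, ← hj]; omega⟩
  have hs2 : s ≠ 2 := by rintro rfl; omega
  haveI : Fintype (c.fixField y) := Fintype.ofFinite _
  obtain ⟨a₀, ha₀⟩ := exists_prime_orderOf_dvd_card' (G := (c.fixField y)ˣ) s
    (by rw [Nat.card_units, c.card_fixField]; exact hsQ)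
  set f₀ := Units.map (c.fixField y).subtype.toMonoidHom
  have ha : orderOf (f₀ a₀) = s := by
    rw [orderOf_injective f₀ (Units.map_injective Subtype.val_injective), ha₀]
  set a := f₀ a₀
  have hfix : c.σ y (a : F) = a := (a₀ : c.fixField y).2
  refine ⟨c.d a, c.mem_H.2 ⟨a, rfl⟩, ?_, ?_⟩
  · have h1 : orderOf (c.d a) ∣ s := ha ▸ orderOf_map_dvd c.dHom a
    rcases (Nat.dvd_prime hs).1 h1 with h | h
    · exfalso
      rcases c.d_eq_one.1 (orderOf_eq_one_iff.1 h) with e | e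
      · rw [e, orderOf_one] at ha; exact hs.ne_one ha.symm
      · have h2 : orderOf a ∣ 2 := orderOf_dvd_of_pow_eq_one (by rw [e]; exact neg_one_sq)
        rw [ha] at h2
        exact hs2 ((Nat.prime_dvd_prime_iff_eq hs Nat.prime_two).1 h2)
    · rw [h]; exact hs
  · have e : (y : G) * c.d a * (y : G)⁻¹ = c.d a := by
      rw [c.y_d, show Units.map (c.σ y : F →* F) a = a from Units.ext hfix]
    exact (commute_conj_iff.1 e).eq.symm

namespace Loc

variable (L : c.Loc n)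
include L

/-- The operator induced by `t`. -/
noncomputable def tAct : MulAut (FQ L.R) := frAut L.R ⟨c.t, L.t_R⟩

theorem act_conj_t {g : G} (hg : g ∈ L.N0) :
    L.act ⟨c.t * g * c.t⁻¹, (mem_normalizer_iff.1 L.t_N0 _).1 hg⟩ =
      L.tAct * L.act ⟨g, hg⟩ * L.tAct⁻¹ := by
  rw [act_apply, act_apply, tAct, ← map_inv, ← map_mul, ← map_mul]
  rfl

/-- Elements commuting with `t` act as operators commuting with `t`. -/
theorem act_comm_t {g : G} (hg : g ∈ L.N0) (hgt : g * c.t = c.t * g) :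
    Commute L.tAct (L.act ⟨g, hg⟩) := by
  rw [act_apply, tAct, Commute, SemiconjBy, ← map_mul, ← map_mul]
  exact congrArg _ (Subtype.ext hgt.symm)

theorem tAct_sq : L.tAct ^ 2 = 1 := by
  rw [tAct, ← map_pow]
  exact (congrArg _ (Subtype.ext ((pow_two c.t).trans c.t_sq))).trans (map_one _)

/-- `t` centralizes the action of the three-local subgroup. -/
theorem commute_tAct (hg : c.Gen) (hn : n ≠ 0) (hq : Fintype.card F = 3 ^ n)
    (h4 : Fintype.card F % 4 = 3) {y : fieldPart c.S} (hy : (orderOf y).Prime) (g : L.N0) :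
    Commute L.tAct (L.act g) := by
  classical
  haveI : Fact (Nat.Prime 3) := ⟨Nat.prime_three⟩
  obtain ⟨h, hH, hs, hhy⟩ := exists_torus_fixed hg y hy
  have hcent := c.cent_torus hg y hy h hH hhy hs
  set s := orderOf h with hsdef
  haveI := Fact.mk hs
  have hs3 : s ≠ 3 := fun e => by
    have := L.orderOf_H_coprime hn hq hH
    rw [← hsdef, e] at this
    norm_num at this
  have hh1 : h ≠ 1 := fun e => hs.ne_one (by rw [hsdef, e, orderOf_one])
  have hhN := L.H_le_N0 hH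
  set W := FQ L.R
  letI : CommGroup W := { (inferInstance : Group W) with mul_comm := fq_comm L.pgroup_R }
  haveI : Finite (MulAut W) :=
    Finite.of_injective (fun f : MulAut W => (f : W → W)) DFunLike.coe_injective
  set A := L.act.range with hA
  have hAodd : Odd (Nat.card A) := L.odd_N0.of_dvd_nat (Subgroup.card_range_dvd L.act)
  haveI := Cfsg.Agent.S0205.result hAodd
  set hb := L.act ⟨h, hhN⟩ with hhb
  have hbA : hb ∈ A := ⟨_, rfl⟩
  have htA : L.tAct ∈ normalizer (A : Set (MulAut W)) := by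
    refine Fusion.le_normalizer_of_conj_mem ?_
    rintro _ ⟨⟨v, hv⟩, rfl⟩
    exact ⟨_, L.act_conj_t hv⟩
  have hhX : ¬ s ∣ Nat.card L.X := L.not_dvd_X hs rfl hhN.1 fun z hz hc =>
    L.X_t z hz (mem_centralizer_singleton_iff.1 (hcent (mem_centralizer_singleton_iff.2 hc.eq.symm)))
  have hcop : (orderOf h).Coprime (Nat.card ↥(L.R ⊔ L.X1)) := by
    have h1 : Nat.card ↥(L.R ⊔ L.X1) ∣ Nat.card L.X1 * Nat.card L.R := by
      rw [mul_comm]
      exact Walter3.card_sup_dvd (inf_le_right : L.X1 ≤ normalizer (L.R : Set G))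
    refine Nat.Coprime.coprime_dvd_right h1 (Nat.Coprime.mul_right ?_ ?_)
    · refine (hs.coprime_iff_not_dvd).2 fun e => hhX ?_
      exact e.trans (card_dvd_of_le inf_le_left)
    · obtain ⟨k, hk⟩ := IsPGroup.iff_card.1 L.pgroup_R
      rw [hk]
      exact ((Nat.coprime_primes hs Nat.prime_three).2 hs3).pow_right k
  have hC : ∀ a ∈ A, Commute hb a → Commute L.tAct a := by
    rintro _ ⟨⟨v, hv⟩, rfl⟩ hc
    obtain ⟨m, hm, hmv⟩ := L.lift_commute (L.O.le_normalizer hhN.1) hhN.2 (L.O_X hhN.1) hv hcop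
      (by rw [act_apply, hhb, act_apply] at hc; exact hc.symm)
    have hmN : m ∈ L.N0 := L.RX_le_N0 hm
    have h1 : L.act ⟨m, hmN⟩ = 1 := (L.act_apply hmN).trans (L.frAut_RX hmN.2 hm)
    have h2 := L.act_comm_t (mul_mem hmN hv) (mem_centralizer_singleton_iff.1
      (hcent (mem_centralizer_singleton_iff.2 hmv.eq.symm)))
    have h3 : L.act ⟨m * v, mul_mem hmN hv⟩ = L.act ⟨v, hv⟩ := by
      rw [show (⟨m * v, mul_mem hmN hv⟩ : L.N0) = ⟨m, hmN⟩ * ⟨v, hv⟩ from rfl, map_mul, h1, one_mul]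
    rwa [h3] at h2
  -- the cores
  have hcore : ∀ l : ℕ, l.Prime → ∀ a ∈ (Cfsg.pCore l A).map A.subtype, Commute L.tAct a := by
    intro l hl a ha
    haveI := Fact.mk hl
    set V := (Cfsg.pCore l A).map A.subtype with hV
    have hVp : IsPGroup l V := (Core.pCore_isPGroup l A).map _
    have hVA : V ≤ A := map_subtype_le _
    rcases eq_or_ne l 2 with rfl | hl2
    · obtain ⟨k, hk⟩ := hVp ⟨a, ha⟩
      obtain ⟨i, -, hi⟩ := (Nat.dvd_prime_pow hl).1
        (orderOf_dvd_of_pow_eq_one (x := a) (congrArg Subtype.val hk))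
      have h1 : Odd (orderOf a) := hAodd.of_dvd_nat (Subgroup.orderOf_dvd_natCard _ (hVA ha))
      rcases i with _ | i
      · rw [pow_zero, orderOf_eq_one_iff] at hi
        rw [hi]; exact Commute.one_right _
      · rw [hi] at h1
        exact absurd ((Nat.even_pow' i.succ_ne_zero).2 even_two) (Nat.not_even_iff_odd.2 h1)
    rcases eq_or_ne l 3 with rfl | hl3
    · set J := ((Cfsg.pCore 3 A).comap L.act.rangeRestrict).map L.N0.subtype with hJ
      have hJle : J ≤ L.N0 := map_subtype_le _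
      have hJn : L.N0 ≤ normalizer (J : Set G) := fun v hv => by
        refine Fusion.le_normalizer_of_conj_mem ?_
        rintro _ ⟨w, hw, rfl⟩
        refine ⟨⟨v, hv⟩ * w * (⟨v, hv⟩ : L.N0)⁻¹, ?_, by simp⟩
        exact ((inferInstance : (Cfsg.pCore 3 A).Normal).comap L.act.rangeRestrict).conj_mem _ hw _
      have hJR : J ≤ L.R ⊔ L.X1 := L.core' hJle hJn fun v hv => by
        obtain ⟨⟨v, hvN⟩, hw, rfl⟩ := hv
        obtain ⟨k, hk⟩ := Core.pCore_isPGroup 3 A ⟨_, hw⟩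
        refine ⟨k, ?_⟩
        exact congrArg (fun x : (Cfsg.pCore 3 A) => ((x : A) : MulAut W)) hk
      obtain ⟨⟨_, ⟨v, hvN⟩, rfl⟩, hv, rfl⟩ := ha
      have h1 : L.act ⟨v, hvN⟩ = 1 := (L.act_apply hvN).trans
        (L.frAut_RX hvN.2 (hJR ⟨⟨v, hvN⟩, hv, rfl⟩))
      show Commute L.tAct (L.act ⟨v, hvN⟩)
      rw [h1]; exact Commute.one_right _
    have hAV : A ≤ normalizer (V : Set (MulAut W)) := fun b hb =>
      Core.normalizer_le_normalizer_map_char (Cfsg.pCore l A) (le_normalizer hb)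
    have htV : L.tAct ∈ normalizer (V : Set (MulAut W)) :=
      Core.normalizer_le_normalizer_map_char (Cfsg.pCore l A) htA
    rcases eq_or_ne l s with hls | hls
    · haveI : IsMulCommutative (zpowers L.tAct) := IsCyclic.isMulCommutative
      have hbot := Cfsg.Lib.Coprime.commutator_eq_bot_of_AxB (p := l) V (zpowers hb)
        (zpowers L.tAct) hVp ?_ ?_ (zpowers_le.2 (hAV hbA)) (zpowers_le.2 htV) ?_ ?_
      · exact (mem_centralizer_iff.1 ((commutator_eq_bot_iff_le_centralizer.1 hbot) ha) _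
          (mem_zpowers _))
      · obtain ⟨i, -, hi⟩ := (Nat.dvd_prime_pow hl).1 (orderOf_dvd_of_pow_eq_one (show hb ^ l ^ 1 = 1 by
          rw [pow_one, hls, hhb, ← map_pow]
          exact (congrArg L.act (Subtype.ext (pow_orderOf_eq_one h))).trans (map_one _)))
        exact IsPGroup.of_card (n := i) (by rw [Nat.card_zpowers, hi])
      · rw [Nat.card_zpowers]
        exact Nat.Coprime.coprime_dvd_left (orderOf_dvd_of_pow_eq_one L.tAct_sq)
          ((Nat.coprime_primes Nat.prime_two hl).2 (Ne.symm hl2))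
      · refine zpowers_le.2 (mem_centralizer_iff.2 ?_)
        rintro _ ⟨k, rfl⟩
        exact ((hC hb hbA (Commute.refl _)).zpow_right k).eq.symm
      · intro b hb'
        refine mem_centralizer_iff.2 ?_
        rintro _ ⟨k, rfl⟩
        exact ((hC b (hVA hb'.1) (mem_centralizer_iff.1 hb'.2 _ (mem_zpowers _))).zpow_left k).eq
    · refine hC a (hVA ha) (centralizes_of_fpf (ℓ := 3) (q := l) (r := s) (fq_pow L.pgroup_R) hl2
        (Ne.symm hl3) (Ne.symm hs3) hls hVp ?_ (fun b hb => (mem_normalizer_iff.1 (hAV hbA) b).1 hb)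
        ?_ ha)
      · rw [hhb, ← map_pow]
        exact (congrArg L.act (Subtype.ext (pow_orderOf_eq_one h))).trans (map_one _)
      · exact L.fpf_fq hn hq h4 hH hh1
  -- the Fitting subgroup
  have hF : Cfsg.fittingSubgroup A ≤ (centralizer ({L.tAct} : Set (MulAut W))).comap A.subtype := by
    rw [Core.fittingSubgroup_eq_iSup_pCore]
    exact iSup_le fun p a ha => mem_centralizer_singleton_iff.2 (hcore p p.2 _ ⟨a, ha, rfl⟩).eq.symm
  set a : A := ⟨L.act g, g, rfl⟩ with ha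
  set a' : A := ⟨L.tAct * L.act g * L.tAct⁻¹, (mem_normalizer_iff.1 htA _).1 a.2⟩ with ha'
  have hfix : ∀ f ∈ Cfsg.fittingSubgroup A, L.tAct * (f : MulAut W) * L.tAct⁻¹ = f := fun f hf =>
    commute_conj_iff.2 (mem_centralizer_singleton_iff.1 (hF hf)).symm
  have hb1 : a⁻¹ * a' ∈ Cfsg.fittingSubgroup A := by
    refine Core.centralizer_fitting_le_of_isSolvable (mem_centralizer_iff.2 fun f hf => ?_)
    haveI : (Cfsg.fittingSubgroup A).Normal := by
      rw [Core.fittingSubgroup_eq_iSup_pCore]; infer_instance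
    have h1 := hfix _ ((inferInstance : (Cfsg.fittingSubgroup A).Normal).conj_mem f hf a)
    have h2 := hfix f hf
    have h3 : a' * f * a'⁻¹ = a * f * a⁻¹ := Subtype.ext (by
      simp only [Subgroup.coe_mul, InvMemClass.coe_inv, ha, ha'] at h1 ⊢
      calc _ = L.tAct * (L.act g * (L.tAct⁻¹ * (f : MulAut W) * L.tAct) * (L.act g)⁻¹) * L.tAct⁻¹ := by
            group
        _ = L.tAct * (L.act g * (f : MulAut W) * (L.act g)⁻¹) * L.tAct⁻¹ := by
            rw [show L.tAct⁻¹ * (f : MulAut W) * L.tAct = f from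
              calc _ = L.tAct⁻¹ * (L.tAct * (f : MulAut W) * L.tAct⁻¹) * L.tAct := by rw [h2]
                _ = f := by group]
        _ = _ := h1)
    calc f * (a⁻¹ * a') = a⁻¹ * (a * f * a⁻¹) * a' := by group
      _ = a⁻¹ * (a' * f * a'⁻¹) * a' := by rw [h3]
      _ = a⁻¹ * a' * f := by group
  have h4' := hfix _ hb1
  simp only [Subgroup.coe_mul, InvMemClass.coe_inv, ha, ha'] at h4'
  have hsq : (a⁻¹ * a') * (a⁻¹ * a') = 1 := Subtype.ext (by
    have htt : L.tAct * L.tAct = 1 := by rw [← pow_two]; exact L.tAct_sq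
    have hti : L.tAct⁻¹ = L.tAct := inv_eq_of_mul_eq_one_right htt
    simp only [Subgroup.coe_mul, InvMemClass.coe_inv, Subgroup.coe_one, ha, ha']
    nth_rewrite 1 [← h4']
    calc _ = L.tAct * (L.act g)⁻¹ * L.tAct * (L.act g * (L.tAct⁻¹ * L.tAct⁻¹) * (L.act g)⁻¹) *
          (L.tAct * L.act g * L.tAct⁻¹) := by group
      _ = L.tAct * (L.act g)⁻¹ * L.tAct * (L.tAct * L.act g * L.tAct⁻¹) := by
            rw [hti, htt]; group
      _ = L.tAct * ((L.act g)⁻¹ * (L.tAct * L.tAct) * L.act g) * L.tAct⁻¹ := by group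
      _ = 1 := by rw [htt]; group)
  have h5 : a⁻¹ * a' = 1 := Walter3.eq_one_of_sq_odd
    (hAodd.of_dvd_nat (orderOf_dvd_natCard _)) hsq
  exact commute_conj_iff.1 (congrArg Subtype.val (inv_mul_eq_one.1 h5)).symm

/-- Every element of `N0` acts as an element commuting with `t`. -/
theorem exists_comm_t (hg : c.Gen) (hn : n ≠ 0) (hq : Fintype.card F = 3 ^ n)
    (h4 : Fintype.card F % 4 = 3) {y : fieldPart c.S} (hy : (orderOf y).Prime) (g : L.N0) :
    ∃ b : G, ∃ hb : b ∈ L.N0, b * c.t = c.t * b ∧ L.act ⟨b, hb⟩ = L.act g := by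
  obtain ⟨m, hm, hmg⟩ := L.lift_commute (a := c.t) (g := (g : G)) L.t_O L.t_R L.t_X g.2 (by
      rw [c.orderOf_t]
      exact Nat.coprime_two_left.2 (L.odd_N0.of_dvd_nat (card_dvd_of_le L.RX_le_N0)))
    (by have := L.commute_tAct hg hn hq h4 hy g; exact this.symm)
  refine ⟨m * g, mul_mem (L.RX_le_N0 hm) g.2, hmg.eq.symm, ?_⟩
  rw [show (⟨m * g, mul_mem (L.RX_le_N0 hm) g.2⟩ : L.N0) = ⟨m, L.RX_le_N0 hm⟩ * g from rfl, map_mul,
    L.act_apply (L.RX_le_N0 hm), L.frAut_RX _ hm, one_mul]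

theorem π_eq_one_of_act {b : G} (hb : b ∈ L.N0) (hbt : b * c.t = c.t * b)
    (h : L.act ⟨b, hb⟩ = 1) : b ∈ c.U ∧ c.π ⟨b, mem_centralizer_singleton_iff.2 hbt⟩ = 1 := by
  have hU := L.inter_RX (L.mem_RX_of_frAut hb ((L.act_apply hb).symm.trans h)) hbt
  refine ⟨hU, ?_⟩
  obtain ⟨s, rfl⟩ := c.mem_U.1 hU
  exact c.π_eq (l := pr (uSL (Multiplicative.ofAdd s))) (Or.inl (by rw [Subgroup.coe_one, mul_one]; rfl))

/-- Three does not divide the order of the field part. -/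
theorem not_three_f (hg : c.Gen) (hn : n ≠ 0) (hq : Fintype.card F = 3 ^ n)
    (h4 : Fintype.card F % 4 = 3) {y : fieldPart c.S} (hy : (orderOf y).Prime) : ¬ 3 ∣ c.f := by
  classical
  intro hd
  haveI : Fact (Nat.Prime 3) := ⟨Nat.prime_three⟩
  obtain ⟨z, hz⟩ := exists_prime_orderOf_dvd_card' (G := fieldPart c.S) 3 hd
  letI : CommGroup (fieldPart c.S) :=
    { (inferInstance : Group (fieldPart c.S)) with
      mul_comm := fun a b => Subtype.ext (c.y_comm_y a b).eq }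
  choose b hbN hbt hba using L.exists_comm_t hg hn hq h4 hy
  let π₀ : L.N0 → fieldPart c.S := fun g => c.π ⟨b g, mem_centralizer_singleton_iff.2 (hbt g)⟩
  have huniq : ∀ (g : L.N0) (v : G) (hv : v ∈ L.N0) (hvt : v * c.t = c.t * v),
      L.act ⟨v, hv⟩ = L.act g → c.π ⟨v, mem_centralizer_singleton_iff.2 hvt⟩ = π₀ g := by
    intro g v hv hvt e
    have hwt : (b g)⁻¹ * v * c.t = c.t * ((b g)⁻¹ * v) :=
      ((show Commute (b g) c.t from hbt g).inv_left.mul_left hvt).eq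
    obtain ⟨-, h1⟩ := L.π_eq_one_of_act (mul_mem (inv_mem (hbN g)) hv) hwt (by
      rw [show (⟨(b g)⁻¹ * v, mul_mem (inv_mem (hbN g)) hv⟩ : L.N0) =
        (⟨b g, hbN g⟩ : L.N0)⁻¹ * ⟨v, hv⟩ from rfl, map_mul, map_inv, hba, e, inv_mul_cancel])
    rw [show (⟨(b g)⁻¹ * v, mem_centralizer_singleton_iff.2 hwt⟩ : centralizer ({c.t} : Set G)) =
      (⟨b g, mem_centralizer_singleton_iff.2 (hbt g)⟩ : centralizer ({c.t} : Set G))⁻¹ *
        ⟨v, mem_centralizer_singleton_iff.2 hvt⟩ from rfl, map_mul, map_inv, inv_mul_eq_one] at h1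
    exact h1.symm
  let ψ : L.N0 →* fieldPart c.S := MonoidHom.mk' π₀ fun g g' => by
    refine (huniq _ (b g * b g') (mul_mem (hbN g) (hbN g'))
      ((show Commute (b g) c.t from hbt g).mul_left (hbt g')).eq ?_).symm.trans (map_mul c.π
        ⟨b g, mem_centralizer_singleton_iff.2 (hbt g)⟩ ⟨b g', mem_centralizer_singleton_iff.2 (hbt g')⟩)
    rw [show (⟨b g * b g', mul_mem (hbN g) (hbN g')⟩ : L.N0) = ⟨b g, hbN g⟩ * ⟨b g', hbN g'⟩ from rfl,
      map_mul, map_mul, hba, hba]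
  have hzP : (z : G) ∈ (L.P : Subgroup G) := L.field_P z ⟨1, by rw [pow_one, ← hz, pow_orderOf_eq_one]⟩
  have h1 := L.char_eq_one ψ (fun g => by
    refine (huniq _ (b g) (hbN g) (hbt g) ?_).symm
    rw [hba, L.act_conj_t g.2, (L.commute_tAct hg hn hq h4 hy g).eq, mul_inv_cancel_right]) hzP
  have h2 : c.π ⟨z, mem_centralizer_singleton_iff.2 (c.y_comm_t z).eq⟩ = z :=
    c.π_eq (l := 1) (Or.inl (by rw [map_one, one_mul]))
  have h3 : c.π ⟨z, mem_centralizer_singleton_iff.2 (c.y_comm_t z).eq⟩ = ψ ⟨z, L.P_le_N0 hzP⟩ :=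
    huniq _ _ (L.P_le_N0 hzP) (c.y_comm_t z).eq rfl
  rw [h2, h1] at h3
  rw [h3, orderOf_one] at hz
  norm_num at hz

/-- The Sylow subgroup is `R`. -/
theorem P_eq_R (hg : c.Gen) (hn : n ≠ 0) (hq : Fintype.card F = 3 ^ n)
    (h4 : Fintype.card F % 4 = 3) {y : fieldPart c.S} (hy : (orderOf y).Prime) :
    (L.P : Subgroup G) = L.R := by
  classical
  haveI : Fact (Nat.Prime 3) := ⟨Nat.prime_three⟩
  have h3f := L.not_three_f hg hn hq h4 hy
  have hUp : IsPGroup 3 c.U := IsPGroup.of_card (c.card_U.trans hq)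
  set J := (((c.U.subgroupOf L.N0).map L.act).comap L.act).map L.N0.subtype with hJ
  have hJle : J ≤ L.N0 := map_subtype_le _
  have hmemJ : ∀ g (hgN : g ∈ L.N0),
      (∃ u, ∃ hu : u ∈ L.N0, u ∈ c.U ∧ L.act ⟨g, hgN⟩ = L.act ⟨u, hu⟩) → g ∈ J := by
    rintro g hgN ⟨u, hu, huU, e⟩
    exact ⟨⟨g, hgN⟩, ⟨⟨u, hu⟩, mem_subgroupOf.2 huU, e.symm⟩, rfl⟩
  have hJn : L.N0 ≤ normalizer (J : Set G) := fun v hv => by
    refine Fusion.le_normalizer_of_conj_mem ?_
    rintro _ ⟨⟨w, hw⟩, ⟨⟨u, hu⟩, huU, e⟩, rfl⟩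
    obtain ⟨b, hbN, hbt, hba⟩ := L.exists_comm_t hg hn hq h4 hy ⟨v, hv⟩
    refine hmemJ _ (mul_mem (mul_mem hv hw) (inv_mem hv)) ⟨b * u * b⁻¹,
      mul_mem (mul_mem hbN hu) (inv_mem hbN),
      (mem_normalizer_iff.1 (c.bor_normalizes_U (L.inter b hbN.1 hbt)) u).1 (mem_subgroupOf.1 huU), ?_⟩
    show L.act ⟨v * w * v⁻¹, mul_mem (mul_mem hv hw) (inv_mem hv)⟩ = _
    rw [show (⟨v * w * v⁻¹, mul_mem (mul_mem hv hw) (inv_mem hv)⟩ : L.N0) =
        ⟨v, hv⟩ * ⟨w, hw⟩ * (⟨v, hv⟩ : L.N0)⁻¹ from rfl,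
      show (⟨b * u * b⁻¹, mul_mem (mul_mem hbN hu) (inv_mem hbN)⟩ : L.N0) =
        ⟨b, hbN⟩ * ⟨u, hu⟩ * (⟨b, hbN⟩ : L.N0)⁻¹ from rfl]
    simp only [map_mul, map_inv]
    rw [hba, ← e]
  have hJR : J ≤ L.R ⊔ L.X1 := L.core' hJle hJn fun v hv => by
    obtain ⟨⟨w, hw⟩, ⟨⟨u, hu⟩, huU, e⟩, rfl⟩ := hv
    obtain ⟨k, hk⟩ := c.pgroup_pow hUp (mem_subgroupOf.1 huU)
    refine ⟨k, ?_⟩
    show L.act ⟨w, hw⟩ ^ 3 ^ k = 1
    rw [← e, ← map_pow]
    exact (congrArg L.act (Subtype.ext hk)).trans (map_one _)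
  have hU1 : ∀ u ∈ c.U, ∀ hu : u ∈ L.N0, L.act ⟨u, hu⟩ = 1 := fun u huU hu =>
    (L.act_apply hu).trans (L.frAut_RX hu.2 (hJR (hmemJ u hu ⟨u, hu, huU, rfl⟩)))
  refine le_antisymm (fun p hp => ?_) L.R_P
  obtain ⟨b, hbN, hbt, hba⟩ := L.exists_comm_t hg hn hq h4 hy ⟨p, L.P_le_N0 hp⟩
  obtain ⟨k, hk⟩ := c.pgroup_pow L.P.2 hp
  set bC : centralizer ({c.t} : Set G) := ⟨b, mem_centralizer_singleton_iff.2 hbt⟩ with hbC
  have hpk : b ^ 3 ^ k ∈ c.U ∧ c.π (bC ^ 3 ^ k) = 1 := by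
    have hact : L.act ⟨b ^ 3 ^ k, pow_mem hbN _⟩ = 1 := by
      rw [show (⟨b ^ 3 ^ k, pow_mem hbN _⟩ : L.N0) = ⟨b, hbN⟩ ^ 3 ^ k from rfl, map_pow, hba,
        ← map_pow]
      exact (congrArg L.act (Subtype.ext hk)).trans (map_one _)
    exact L.π_eq_one_of_act (pow_mem hbN _) ((show Commute b c.t from hbt).pow_left _).eq hact
  have hπ : c.π bC = 1 := by
    have h1 := hpk.2
    rw [map_pow] at h1
    refine orderOf_eq_one_iff.1 (Nat.eq_one_of_dvd_coprimes (a := 3 ^ k) ?_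
      (orderOf_dvd_of_pow_eq_one h1) (orderOf_dvd_natCard _))
    exact ((Nat.Prime.coprime_iff_not_dvd Nat.prime_three).2 h3f).pow_left k
  obtain ⟨s, e, z, hbe⟩ := L.inter b hbN.1 hbt
  obtain rfl : z = 1 := by
    rw [← hπ]
    refine (c.π_eq (g := bC) (l := pr (uSL (Multiplicative.ofAdd s)) * pr (splitSL F e)) (Or.inl ?_)).symm
    rw [map_mul]
    exact hbe
  rw [Subgroup.coe_one, mul_one] at hbe
  subst hbe
  have hde : c.d e = 1 := by
    obtain ⟨j, hj⟩ := c.pgroup_pow hUp hpk.1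
    exact c.d_eq_one_of_three hn hq (s := s) ⟨k + j, by rw [pow_add, pow_mul]; exact hj⟩
  have h1 : L.act ⟨p, L.P_le_N0 hp⟩ = 1 := by
    rw [← hba]
    exact hU1 _ (by rw [hde, mul_one]; exact c.mem_U.2 ⟨s, rfl⟩) hbN
  obtain ⟨r, hr, x, hx, hprx⟩ :=
    L.decomp_RX (L.mem_RX_of_frAut (L.P_le_N0 hp) ((L.act_apply _).symm.trans h1))
  have hxP : x ∈ (L.P : Subgroup G) := by
    rw [show x = r⁻¹ * p by rw [hprx]; group]
    exact mul_mem (inv_mem (L.R_P hr)) hp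
  obtain ⟨j, hj⟩ := c.pgroup_pow L.P.2 hxP
  have hx1 : x = 1 := orderOf_eq_one_iff.1 (Nat.eq_one_of_dvd_coprimes (L.X_cop.pow_right j)
    (Subgroup.orderOf_dvd_natCard _ hx.1) (orderOf_dvd_of_pow_eq_one hj))
  rw [hprx, hx1, mul_one]
  exact hr

/-- The fixed points of a field automorphism of prime order in `R`. -/
theorem card_fixed (hg : c.Gen) (hn : n ≠ 0) (hq : Fintype.card F = 3 ^ n)
    (h4 : Fintype.card F % 4 = 3) (y : fieldPart c.S) (hy : (orderOf y).Prime) :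
    Nat.card ↥(L.R ⊓ centralizer ({(y : G)} : Set G)) = c.fixCard y ^ 3 := by
  classical
  haveI : Fact (Nat.Prime 3) := ⟨Nat.prime_three⟩
  have hPR := L.P_eq_R hg hn hq h4 hy
  have h3f := L.not_three_f hg hn hq h4 hy
  obtain ⟨-, ⟨m, -, hQ⟩, -, hcard⟩ := hg y hy
  set C : Subgroup G := centralizer ({(y : G)} : Set G) with hCdef
  set D := L.R ⊓ C with hD
  have hDp : IsPGroup 3 D := L.pgroup_R.to_le inf_le_left
  have hu1 : c.u 1 ∈ D := Subgroup.mem_inf.2 ⟨hPR ▸ L.U_P (c.mem_U.2 ⟨1, rfl⟩),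
    mem_centralizer_singleton_iff.2 (by
      have h := c.y_u y 1
      rw [map_one] at h
      exact (commute_conj_iff.1 h).eq.symm)⟩
  have htC : c.t ∈ normalizer (C : Set G) :=
    le_normalizer (mem_centralizer_singleton_iff.2 (c.y_comm_t y).eq.symm)
  have htD : c.t ∈ normalizer (D : Set G) :=
    inf_normalizer_le_normalizer_inf (Subgroup.mem_inf.2 ⟨L.t_R, htC⟩)
  obtain ⟨T, hT⟩ := (hDp.comap_subtype (K := C)).exists_le_sylow
  set TG := (T : Subgroup C).map C.subtype with hTG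
  have hTcard : Nat.card TG = c.fixCard y ^ 3 := by
    rw [hTG, Core.card_map_subtype, T.card_eq_multiplicity, hcard, hQ, ← pow_mul]
    have h1 : ¬ 3 ∣ c.f * (((3 ^ ((2 * m + 1) * 3)) + 1) * (3 ^ (2 * m + 1) - 1)) := by
      rw [Nat.Prime.dvd_mul Nat.prime_three, Nat.Prime.dvd_mul Nat.prime_three]
      have h2 : 3 ∣ 3 ^ ((2 * m + 1) * 3) := dvd_pow_self 3 (by omega)
      have h3 : 3 ∣ 3 ^ (2 * m + 1) := dvd_pow_self 3 (by omega)
      have h5 : 1 ≤ 3 ^ (2 * m + 1) := Nat.one_le_pow _ _ (by norm_num)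
      rintro (h | h | h)
      · exact h3f h
      · omega
      · omega
    rw [show c.f * (3 ^ ((2 * m + 1) * 3) * (3 ^ ((2 * m + 1) * 3) + 1) * (3 ^ (2 * m + 1) - 1)) =
      3 ^ ((2 * m + 1) * 3) * (c.f * ((3 ^ ((2 * m + 1) * 3) + 1) * (3 ^ (2 * m + 1) - 1))) by ring]
    congr 1
    rw [Nat.factorization_mul (by positivity) (fun e => h1 (by rw [e]; exact dvd_zero 3)), Finsupp.add_apply,
      Nat.factorization_eq_zero_of_not_dvd h1, add_zero, Nat.Prime.factorization_pow Nat.prime_three,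
      Finsupp.single_eq_same]
  have hDT : D ≤ TG := fun x hx => ⟨⟨x, hx.2⟩, hT hx, rfl⟩
  rw [← hTcard]
  by_contra hne
  have hlt : D.subgroupOf TG < ⊤ := lt_top_iff_ne_top.2 fun h => hne (by
    rw [show D = TG from le_antisymm hDT (subgroupOf_eq_top.1 h)])
  have hTGp : IsPGroup 3 TG := T.2.map _
  haveI : Group.IsNilpotent TG := hTGp.isNilpotent
  obtain ⟨w, hwn, hw⟩ := Set.exists_of_ssubset (Group.normalizerCondition_of_isNilpotent _ hlt)
  have hwD : (w : G) ∈ normalizer (D : Set G) := Fusion.le_normalizer_of_conj_mem fun x hx =>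
    mem_subgroupOf.1 ((mem_normalizer_iff.1 hwn ⟨x, hDT hx⟩).1 (mem_subgroupOf.2 hx))
  set K := cor (normalizer (D : Set G)) ⊓ C with hK
  have hS : IsPGroup 3 ↥(D ⊔ zpowers (w : G)) := hTGp.to_le (sup_le hDT (zpowers_le.2 w.2))
  have hSK : D ⊔ zpowers (w : G) ≤ K := le_inf
    (c.three_mem_cor hn hq h4 hDp htD (fun _ => ⟨1, one_ne_zero, hu1⟩) hS
      (sup_le le_normalizer (zpowers_le.2 hwD)))
    ((sup_le hDT (zpowers_le.2 w.2)).trans (map_subtype_le _))
  have htK : c.t ∈ normalizer (K : Set G) := inf_normalizer_le_normalizer_inf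
    (Subgroup.mem_inf.2 ⟨le_normalizer_cor _ htD, htC⟩)
  have hKodd : Odd (Nat.card K) := (odd_cor _).of_dvd_nat (card_dvd_of_le inf_le_left)
  haveI : IsMulCommutative (zpowers c.t) := IsCyclic.isMulCommutative
  obtain ⟨T₂, hDT₂, htT₂⟩ := Coprime.exists_invariant_sylow_ge (zpowers_le.2 htK)
    (by rw [Nat.card_zpowers, c.orderOf_t]; exact Nat.coprime_two_left.2 hKodd)
    (Or.inl (Group.isSolvable_of_comm fun a b => mul_comm' a b))
    (le_sup_left.trans hSK : D ≤ K) hDp (zpowers_le.2 htD)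
  set T2 := (T₂ : Subgroup K).map K.subtype with hT2
  have hT2p : IsPGroup 3 T2 := T₂.2.map _
  obtain ⟨Q, hT2Q, htQ⟩ := c.exists_sylow_ge hn hq h4 hT2p (htT₂ (mem_zpowers _)) one_ne_zero (hDT₂ hu1)
  have hQP : Q = L.P := c.sylow_unique hn hq h4 L.P Q L.t_P L.U_P
    (fun g hgb => by rw [hPR]; exact (L.bor_O g hgb).2) htQ one_ne_zero (hT2Q (hDT₂ hu1))
  subst hQP
  have hT2D : T2 ≤ D := le_inf (hT2Q.trans hPR.le) ((map_subtype_le _).trans inf_le_right)
  obtain ⟨j, hj⟩ := IsPGroup.iff_card.1 hS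
  have h1 : Nat.card ↥(D ⊔ zpowers (w : G)) ∣ Nat.card T2 := by
    rw [hj, hT2, Core.card_map_subtype, T₂.card_eq_multiplicity]
    refine pow_dvd_pow 3 ((Nat.prime_three.pow_dvd_iff_le_factorization Nat.card_pos.ne').1 ?_)
    exact hj ▸ card_dvd_of_le hSK
  have h2 : D ⊔ zpowers (w : G) = D := (eq_of_le_of_card_ge le_sup_left
    (Nat.le_of_dvd Nat.card_pos (h1.trans (card_dvd_of_le hT2D)))).symm
  exact hw (mem_subgroupOf.2 (h2 ▸ mem_sup_right (mem_zpowers _)))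

/-- The order of `R`. -/
theorem card_R (hg : c.Gen) (hn : n ≠ 0) (hq : Fintype.card F = 3 ^ n)
    (h4 : Fintype.card F % 4 = 3) {y : fieldPart c.S} (hy : (orderOf y).Prime) :
    Nat.card L.R = Fintype.card F ^ 3 := by
  classical
  haveI : Fact (Nat.Prime 3) := ⟨Nat.prime_three⟩
  have h3f := L.not_three_f hg hn hq h4 hy
  obtain ⟨hpow, ⟨m, hm, hQ⟩, -, -⟩ := hg y hy
  set r := orderOf y with hr
  set Q := c.fixCard y
  have hr3 : r ≠ 3 := fun e => h3f (e ▸ (orderOf_dvd_natCard y))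
  have hQ27 : 27 ≤ Q := by
    rw [hQ]
    exact (show (27 : ℕ) = 3 ^ 3 by norm_num) ▸ Nat.pow_le_pow_right (by norm_num) (by omega)
  have hQodd : Q % 2 = 1 := by rw [hQ, Nat.pow_mod]; norm_num
  set S := ∑ i ∈ Finset.range r, Q ^ i with hSdef
  have hgeom : S * (Q - 1) = Fintype.card F - 1 := by
    rw [hpow]
    exact geom_sum_mul_of_one_le (by omega) r
  have hS1 : S ≠ 1 := fun e => by
    rw [e, one_mul, hpow] at hgeom
    have h : Q ^ 2 ≤ Q ^ r := Nat.pow_le_pow_right (by omega) hy.two_le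
    nlinarith [Nat.one_le_pow r Q (by omega), Nat.sub_add_cancel (show 1 ≤ Q by omega),
      Nat.sub_add_cancel (Nat.one_le_pow r Q (by omega))]
  obtain ⟨l, hl, hlS⟩ := Nat.exists_prime_and_dvd hS1
  haveI := Fact.mk hl
  have hlq : l ∣ Fintype.card F - 1 := hgeom ▸ dvd_mul_of_dvd_left hlS _
  have hlr : l ≠ r := fun e => (c.not_dvd_of_dvd_f hg hy (orderOf_dvd_natCard y)).1 (e ▸ hlq)
  have hl3 : l ≠ 3 := fun e => (c.three_not_dvd hn hq).1 (e ▸ hlq)
  have hlQ : ¬ l ∣ Q - 1 := fun e => by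
    have hQ1 : ((Q : ℕ) : ZMod l) = 1 := by
      rw [← Nat.sub_add_cancel (show 1 ≤ Q by omega), Nat.cast_add,
        (ZMod.natCast_eq_zero_iff _ l).2 e, zero_add, Nat.cast_one]
    have h := (ZMod.natCast_eq_zero_iff S l).2 hlS
    simp only [hSdef, Nat.cast_sum, Nat.cast_pow, hQ1, one_pow, Finset.sum_const, Finset.card_range,
      nsmul_eq_mul, mul_one] at h
    exact hlr ((Nat.prime_dvd_prime_iff_eq hl hy).1 ((ZMod.natCast_eq_zero_iff r l).1 h))
  have hl2 : l ≠ 2 := by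
    rintro rfl
    exact hlQ (by omega)
  have hlH : l ∣ Nat.card c.H := by
    have h := c.card_H ▸ hlq
    exact (hl.dvd_mul.1 h).resolve_right fun e => hl2 ((Nat.prime_dvd_prime_iff_eq hl Nat.prime_two).1 e)
  obtain ⟨⟨h, hH⟩, hho⟩ := exists_prime_orderOf_dvd_card' (G := c.H) l hlH
  rw [← Subgroup.orderOf_coe] at hho
  change orderOf h = l at hho
  haveI : IsCyclic c.H :=
    isCyclic_of_surjective ((c.φ.comp (QuotientGroup.mk' _)).comp (splitSL F)).rangeRestrict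
      (MonoidHom.rangeRestrict_surjective _)
  have hconjH : (y : G) * h * (y : G)⁻¹ ∈ c.H := by
    obtain ⟨a, rfl⟩ := c.mem_H.1 hH
    exact c.mem_H.2 ⟨_, (c.y_d y a).symm⟩
  letI : CommGroup c.H := IsCyclic.commGroup
  have hgen : ∀ v ∈ c.H, v ^ l = 1 → v ∈ zpowers h := by
    intro v hv hvl
    have e : zpowers (⟨h, hH⟩ : c.H) = (powMonoidHom l : c.H →* c.H).ker := by
      refine eq_of_le_of_card_ge (zpowers_le.2 (MonoidHom.mem_ker.2 (Subtype.ext ?_))) (le_of_eq ?_)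
      · exact hho ▸ pow_orderOf_eq_one h
      · rw [IsCyclic.card_powMonoidHom_ker, Nat.gcd_eq_right hlH, Nat.card_zpowers,
          ← Subgroup.orderOf_coe]
        exact hho.symm
    have h1 : (⟨v, hv⟩ : c.H) ∈ zpowers (⟨h, hH⟩ : c.H) := by
      rw [e]; exact MonoidHom.mem_ker.2 (Subtype.ext hvl)
    obtain ⟨j, hj⟩ := mem_zpowers_iff.1 h1
    exact mem_zpowers_iff.2 ⟨j, congrArg Subtype.val hj⟩
  obtain ⟨k, hk⟩ : ∃ k : ℕ, (y : G) * h * (y : G)⁻¹ = h ^ k := by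
    have h1 : (y : G) * h * (y : G)⁻¹ ∈ zpowers h :=
      hgen _ hconjH (by rw [conj_pow, ← hho, pow_orderOf_eq_one]; group)
    obtain ⟨k, hk⟩ := (mem_powers_iff_mem_zpowers (x := h)).2 h1
    exact ⟨k, hk.symm⟩
  have hk1 : ¬ k ≡ 1 [MOD l] := fun e => by
    rw [← hho, ← pow_eq_pow_iff_modEq, ← hk, pow_one] at e
    obtain ⟨a, -, hT⟩ := c.exists_tor hg y hy hH (commute_conj_iff.1 e).eq.symm (hho ▸ hl)
    exact hlQ (hho ▸ hT.dvd_fixCard)
  have hh1 : h ≠ 1 := fun e => hl.ne_one (by rw [← hho, e, orderOf_one])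
  obtain ⟨hR, -⟩ := frobenius_fixed (p := 3) (l := l) (r := r) hl3 hl hy (Or.inl hr3)
    (h := h) (x := (y : G)) (hho ▸ pow_orderOf_eq_one h)
    (by rw [hr, ← Subgroup.orderOf_coe]; exact pow_orderOf_eq_one _) hk hk1 _ L.R rfl L.pgroup_R
    (L.bor_O _ (by obtain ⟨a, rfl⟩ := c.mem_H.1 hH; exact c.bor_d a)).2
    (L.bor_O _ (c.bor_y y)).2
    (fun v hv hc => L.fpf hn hq h4 hH hh1 hv hc)
  rw [hR, L.card_fixed hg hn hq h4 y hy, hpow, ← pow_mul, ← pow_mul, mul_comm]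

end Loc

variable (c)

/-- Three does not divide the order of the field part. -/
theorem three_not_dvd_f (hg : c.Gen) (hf : fieldPart c.S ≠ ⊥) : ¬ 3 ∣ c.f := by
  have h1 : 1 < c.f := (fieldPart c.S).one_lt_card_iff_ne_bot.2 hf
  obtain ⟨r, hr, hd⟩ := Nat.exists_prime_and_dvd h1.ne'
  haveI := Fact.mk hr
  obtain ⟨y, hy⟩ := exists_prime_orderOf_dvd_card' (G := fieldPart c.S) r hd
  obtain ⟨h8, n, hn, hq, -⟩ := c.exists_three_pow hg y (hy ▸ hr)
  obtain ⟨L⟩ := c.exists_loc hn hq (by omega)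
  exact L.not_three_f hg hn hq (by omega) (hy ▸ hr)

/-- The data of the three-local analysis exist. -/
theorem exists_borel (hg : c.Gen) (hf : fieldPart c.S ≠ ⊥) : Nonempty c.Borel := by
  classical
  haveI : Fact (Nat.Prime 3) := ⟨Nat.prime_three⟩
  have h1 : 1 < c.f := (fieldPart c.S).one_lt_card_iff_ne_bot.2 hf
  obtain ⟨r, hr, hd⟩ := Nat.exists_prime_and_dvd h1.ne'
  haveI := Fact.mk hr
  obtain ⟨y₀, hy₀⟩ := exists_prime_orderOf_dvd_card' (G := fieldPart c.S) r hd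
  obtain ⟨h8, n, hn, hq, -⟩ := c.exists_three_pow hg y₀ (hy₀ ▸ hr)
  have h4 : Fintype.card F % 4 = 3 := by omega
  obtain ⟨L⟩ := c.exists_loc hn hq h4
  have hy : (orderOf y₀).Prime := hy₀ ▸ hr
  have hPR := L.P_eq_R hg hn hq h4 hy
  refine ⟨{
    R := L.R
    card := L.card_R hg hn hq h4 hy
    not_dvd := hPR ▸ L.P.not_dvd_index
    U_le := hPR ▸ L.U_P
    inf_cent := L.inter_R
    t_mem := L.t_R
    H_le := fun g hgH => (L.H_le_N0 hgH).2
    F_le := fun g hgF => (L.F_le_N0 hgF).2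
    disjoint := ?_
    fpf := fun h hH hne g hgR e => L.fpf hn hq h4 hH hne hgR e.symm
    card_cent := fun y hy' => L.card_fixed hg hn hq h4 y hy' }⟩
  intro g hgR hig
  set Q := L.R ⊓ L.R.map (MulAut.conj c.i).toMonoidHom with hQ
  have hii : c.i⁻¹ = c.i := inv_eq_of_mul_eq_one_right c.i_sq
  have hmem : ∀ x, x ∈ Q ↔ x ∈ L.R ∧ c.i * x * c.i⁻¹ ∈ L.R := fun x => by
    refine ⟨?_, fun ⟨hx, hx'⟩ => Subgroup.mem_inf.2 ⟨hx, _, hx', ?_⟩⟩
    · rintro ⟨hx, v, hv, rfl⟩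
      refine ⟨hx, ?_⟩
      show c.i * (c.i * v * c.i⁻¹) * c.i⁻¹ ∈ L.R
      rw [show c.i * (c.i * v * c.i⁻¹) * c.i⁻¹ = c.i * c.i * v * (c.i * c.i)⁻¹ by group, c.i_sq]
      simpa using hv
    · show c.i * (c.i * x * c.i⁻¹) * c.i⁻¹ = x
      rw [show c.i * (c.i * x * c.i⁻¹) * c.i⁻¹ = c.i * c.i * x * (c.i * c.i)⁻¹ by group, c.i_sq]
      simp
  have hiQ : c.i ∈ normalizer (Q : Set G) := Fusion.le_normalizer_of_conj_mem fun x hx => by
    obtain ⟨hx, hx'⟩ := (hmem x).1 hx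
    refine (hmem _).2 ⟨hx', ?_⟩
    rw [show c.i * (c.i * x * c.i⁻¹) * c.i⁻¹ = c.i * c.i * x * (c.i * c.i)⁻¹ by group, c.i_sq]
    simpa using hx
  have htQ : c.t ∈ normalizer (Q : Set G) := Fusion.le_normalizer_of_conj_mem fun x hx => by
    obtain ⟨hx, hx'⟩ := (hmem x).1 hx
    refine (hmem _).2 ⟨(mem_normalizer_iff.1 L.t_R x).1 hx, ?_⟩
    rw [show c.i * (c.t * x * c.t⁻¹) * c.i⁻¹ = c.i * c.t * x * (c.i * c.t)⁻¹ by group, c.i_comm_t,
      show c.t * c.i * x * (c.t * c.i)⁻¹ = c.t * (c.i * x * c.i⁻¹) * c.t⁻¹ by group]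
    exact (mem_normalizer_iff.1 L.t_R _).1 hx'
  have hQt := four_centralizes (l := 3) (by norm_num)
    (c.noInverted hn hq h4 Nat.prime_three (by norm_num) (Or.inl rfl)) c.orderOf_t
    (c.hyp.orderOf_pt ⟨c.i_mem, c.i_ne⟩) (Ne.symm c.i_ne_t) c.i_comm_t.symm
    (L.pgroup_R.to_le inf_le_left : IsPGroup 3 Q) htQ hiQ
  have hgQ : g ∈ Q := (hmem g).2 ⟨hgR, hig⟩
  have hgi : c.i * g * c.i⁻¹ ∈ Q := (mem_normalizer_iff.1 hiQ g).1 hgQ
  obtain ⟨a, ha⟩ := c.mem_U.1 (L.inter_R g hgR (mem_centralizer_singleton_iff.1 (hQt hgQ)))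
  obtain ⟨b, hb⟩ := c.mem_U.1 (L.inter_R _ hig (mem_centralizer_singleton_iff.1 (hQt hgi)))
  rw [← ha] at hb ⊢
  rw [c.i_u_i hb.symm, c.u_zero]

end Cfg

end Cfsg.Lib.Walter3.Field
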