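import Cfsg.Agent.Lib.Coprime.Action
import Cfsg.Agent.Lib.Coprime.Generation
import Cfsg.Agent.Lib.Fusion.Abelian
import Mathlib.GroupTheory.SpecificGroups.Cyclic

/-!
# A four-group acting on an odd group

If no `l`-element centralizing one involution is inverted by another commuting with it, then each
involution of a four-group acting on an odd group centralizes every invariant `l`-subgroup of it.
-/

set_option autoImplicit false
set_option linter.style.haveILetI false

namespace Cfsg.Lib.Walter3.Field

open Subgroup Cfsg.Lib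

universe u

variable {G : Type u} [Group G]

/-- No `l`-element of the centralizer of an involution is inverted by another commuting involution. -/
def NoInverted (G : Type u) [Group G] (l : ℕ) : Prop :=
  ∀ v u y : G, orderOf v = 2 → orderOf u = 2 → u ≠ v → u * v = v * u → y * v = v * y →
    (∃ k, y ^ l ^ k = 1) → u * y * u⁻¹ = y⁻¹ → y = 1

variable [Finite G] {l : ℕ} [Fact l.Prime] {t v : G}

/-- The four-group. -/
abbrev four (t v : G) : Subgroup G := zpowers t ⊔ zpowers v

omit [Finite G] in
theorem four_le {X : Subgroup G} (ht : t ∈ X) (hv : v ∈ X) : four t v ≤ X :=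
  sup_le (zpowers_le.2 ht) (zpowers_le.2 hv)

omit [Finite G] in
theorem four_comm (hc : t * v = v * t) : IsMulCommutative (four t v) := by
  have h : four t v = Subgroup.closure {t, v} := by
    rw [four, zpowers_eq_closure, zpowers_eq_closure, ← Subgroup.closure_union]
    rfl
  rw [h]
  refine Subgroup.isMulCommutative_closure fun a ha b hb => ?_
  rcases ha with rfl | rfl <;> rcases hb with rfl | rfl <;>
    first | rfl | exact hc | exact hc.symm

theorem mem_four (ht : t * t = 1) (hv : v * v = 1) (hc : t * v = v * t) {a : G}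
    (ha : a ∈ four t v) : a = 1 ∨ a = t ∨ a = v ∨ a = t * v := by
  have hn : zpowers v ≤ normalizer (zpowers t : Set G) := zpowers_le.2 <|
    Fusion.le_normalizer_of_conj_mem fun x hx => by
      obtain ⟨i, rfl⟩ := mem_zpowers_iff.1 hx
      rw [← conj_zpow, ← hc, mul_inv_cancel_right]
      exact zpow_mem (mem_zpowers t) i
  rw [four, ← SetLike.mem_coe, coe_mul_of_right_le_normalizer_left _ _ hn] at ha
  obtain ⟨b, hb, c, hc', rfl⟩ := ha
  have hpow : ∀ {g : G}, g * g = 1 → ∀ {x : G}, x ∈ zpowers g → x = 1 ∨ x = g := by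
    intro g hg x hx
    obtain ⟨i, rfl⟩ := mem_zpowers_iff.1 hx
    rcases Int.even_or_odd i with ⟨k, rfl⟩ | ⟨k, rfl⟩
    · left; rw [← two_mul, zpow_mul, zpow_two, hg, one_zpow]
    · right; rw [zpow_add, zpow_mul, zpow_two, hg, one_zpow, one_mul, zpow_one]
  rcases hpow ht hb with rfl | rfl <;> rcases hpow hv hc' with rfl | rfl <;> simp

theorem odd_coprime_four (ht : t * t = 1) (hv : v * v = 1) (hc : t * v = v * t)
    {K : Subgroup G} (hK : Odd (Nat.card K)) : (Nat.card (four t v)).Coprime (Nat.card K) := by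
  have h2 : IsPGroup 2 (four t v) := fun a => ⟨1, Subtype.ext (by
    rw [pow_one, SubmonoidClass.coe_pow, pow_two, Subgroup.coe_one]
    rcases mem_four ht hv hc a.2 with h | h | h | h <;> rw [h]
    · exact one_mul 1
    · exact ht
    · exact hv
    · calc t * v * (t * v) = t * (v * t) * v := by group
        _ = t * t * (v * v) := by rw [← hc]; group
        _ = 1 := by rw [ht, hv, one_mul])⟩
  haveI : Fact (Nat.Prime 2) := ⟨Nat.prime_two⟩
  obtain ⟨n, hn⟩ := IsPGroup.iff_card.1 h2
  rw [hn]
  exact (Nat.coprime_two_left.2 hK).pow_left n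

/-- An invariant `l`-group is centralized by each involution of the four-group. -/
theorem four_centralizes (hl : l ≠ 2) (hI : NoInverted G l) (ht : orderOf t = 2) (hv : orderOf v = 2)
    (htv : t ≠ v) (hc : t * v = v * t) {Q : Subgroup G} (hQ : IsPGroup l Q)
    (htQ : t ∈ normalizer (Q : Set G)) (hvQ : v ∈ normalizer (Q : Set G)) :
    Q ≤ centralizer ({t} : Set G) := by
  have ht2 : t * t = 1 := by rw [← pow_two, ← ht, pow_orderOf_eq_one]
  have hv2 : v * v = 1 := by rw [← pow_two, ← hv, pow_orderOf_eq_one]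
  have ht1 : t ≠ 1 := fun h => by rw [h, orderOf_one] at ht; omega
  have hv1 : v ≠ 1 := fun h => by rw [h, orderOf_one] at hv; omega
  have htv1 : t * v ≠ 1 := fun h => htv (mul_right_cancel (h.trans hv2.symm))
  haveI := four_comm hc
  have hodd : Odd (Nat.card Q) := by
    obtain ⟨n, hn⟩ := IsPGroup.iff_card.1 hQ
    exact hn ▸ ((Fact.out : l.Prime).odd_of_ne_two hl).pow
  have hnc : ¬ IsCyclic (four t v) := by
    intro hcy
    obtain ⟨g, hg⟩ := IsCyclic.exists_generator (α := four t v)
    have key : ∀ x : four t v, x = 1 ∨ x = g := by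
      intro x
      obtain ⟨i, rfl⟩ := mem_zpowers_iff.1 (hg x)
      have hg2 : g * g = 1 := by
        refine Subtype.ext ?_
        rw [Subgroup.coe_mul, Subgroup.coe_one]
        rcases mem_four ht2 hv2 hc g.2 with h | h | h | h <;> rw [h]
        · exact one_mul 1
        · exact ht2
        · exact hv2
        · calc t * v * (t * v) = t * (v * t) * v := by group
            _ = t * t * (v * v) := by rw [← hc]; group
            _ = 1 := by rw [ht2, hv2, one_mul]
      rcases Int.even_or_odd i with ⟨k, rfl⟩ | ⟨k, rfl⟩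
      · left; rw [← two_mul, zpow_mul, zpow_two, hg2, one_zpow]
      · right; rw [zpow_add, zpow_mul, zpow_two, hg2, one_zpow, one_mul, zpow_one]
    have htm : t ∈ four t v := mem_sup_left (mem_zpowers t)
    have hvm : v ∈ four t v := mem_sup_right (mem_zpowers v)
    rcases key ⟨t, htm⟩ with h | h
    · exact ht1 (congrArg Subtype.val h)
    · rcases key ⟨v, hvm⟩ with h' | h'
      · exact hv1 (congrArg Subtype.val h')
      · exact htv (congrArg Subtype.val (h.trans h'.symm))
  refine (Coprime.le_iSup_centralizer_of_not_isCyclic hnc (four_le htQ hvQ)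
    (odd_coprime_four ht2 hv2 hc hodd)).trans (iSup_le fun a => ?_)
  rintro y ⟨hy, hya⟩
  have hya' : y * a = a * y := mem_centralizer_singleton_iff.1 hya
  rw [mem_centralizer_singleton_iff]
  rcases mem_four ht2 hv2 hc a.2.1 with h | h | h | h
  · exact absurd h a.2.2
  · rwa [h] at hya'
  all_goals
    rw [h] at hya'
    -- the element `y * t * y⁻¹ * t` is inverted by `t`
    set z := y * t * y⁻¹ * t with hz
    have hti : t⁻¹ = t := inv_eq_of_mul_eq_one_right ht2
    have hzQ : z ∈ Q := by
      have h1 : t * y⁻¹ * t⁻¹ ∈ Q := (mem_normalizer_iff.1 htQ _).1 (inv_mem hy)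
      rw [hti] at h1
      rw [hz, mul_assoc, mul_assoc, ← mul_assoc t]
      exact mul_mem hy h1
    have hzinv : t * z * t⁻¹ = z⁻¹ := by
      refine eq_inv_of_mul_eq_one_left ?_
      rw [hz, hti]
      calc t * (y * t * y⁻¹ * t) * t * (y * t * y⁻¹ * t)
          = t * (y * t * y⁻¹) * (t * t) * (y * t * y⁻¹) * t := by group
        _ = t * (y * t * y⁻¹ * (y * t * y⁻¹)) * t := by rw [ht2]; group
        _ = t * (y * (t * t) * y⁻¹) * t := by group
        _ = 1 := by rw [ht2, mul_one, mul_inv_cancel, mul_one, ht2]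
    obtain ⟨k, hk⟩ := hQ ⟨z, hzQ⟩
    have hzk : z ^ l ^ k = 1 := congrArg Subtype.val hk
    suffices hz1 : z = 1 by
      have h' : y * t * y⁻¹ = t := by
        calc y * t * y⁻¹ = z * t⁻¹ := by rw [hz]; group
          _ = t := by rw [hz1, one_mul, hti]
      exact mul_inv_eq_iff_eq_mul.1 h'
  · refine hI v t z hv ht htv hc ?_ ⟨k, hzk⟩ hzinv
    have e1 : y * v = v * y := hya'
    have e2 : y⁻¹ * v = v * y⁻¹ := ((Commute.inv_left e1) : Commute y⁻¹ v).eq
    calc z * v = y * t * y⁻¹ * (t * v) := by rw [hz]; group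
      _ = y * t * (y⁻¹ * v) * t := by rw [hc]; group
      _ = y * (t * v) * y⁻¹ * t := by rw [e2]; group
      _ = y * v * t * y⁻¹ * t := by rw [hc]; group
      _ = v * z := by rw [e1, hz]; group
  · have hc' : t * (t * v) = t * v * t := by rw [mul_assoc, ← hc]
    have htv2 : orderOf (t * v) = 2 := by
      refine orderOf_eq_prime ?_ htv1
      calc (t * v) ^ 2 = t * (v * t) * v := by rw [pow_two]; group
        _ = t * t * (v * v) := by rw [← hc]; group
        _ = 1 := by rw [ht2, hv2, one_mul]
    refine hI (t * v) t z htv2 ht (fun e => hv1 (mul_left_cancel (e.symm.trans (mul_one t).symm))) hc'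
      ?_ ⟨k, hzk⟩ hzinv
    have e1 : Commute y (t * v) := hya'
    have e3 : Commute t (t * v) := hc'
    exact (((e1.mul_left e3).mul_left e1.inv_left).mul_left e3).eq

/-- Inside an odd group normalized by the four-group every `t`-invariant `l`-subgroup is centralized
by `t`. -/
theorem four_centralizes_invariant (hl : l ≠ 2) (hI : NoInverted G l) (ht : orderOf t = 2)
    (hv : orderOf v = 2) (htv : t ≠ v) (hc : t * v = v * t) {K : Subgroup G} (hK : Odd (Nat.card K))
    (htK : t ∈ normalizer (K : Set G)) (hvK : v ∈ normalizer (K : Set G)) {Q : Subgroup G} (hQK : Q ≤ K)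
    (hQ : IsPGroup l Q) (htQ : t ∈ normalizer (Q : Set G)) : Q ≤ centralizer ({t} : Set G) := by
  have ht2 : t * t = 1 := by rw [← pow_two, ← ht, pow_orderOf_eq_one]
  have hv2 : v * v = 1 := by rw [← pow_two, ← hv, pow_orderOf_eq_one]
  haveI := four_comm hc
  obtain ⟨P₀, hP₀⟩ := Coprime.exists_invariant_sylow (four_le htK hvK) (odd_coprime_four ht2 hv2 hc hK)
    (Or.inl (Group.isSolvable_of_comm fun a b => mul_comm' a b)) l
  have hP0t := four_centralizes hl hI ht hv htv hc ((P₀.2.map K.subtype))
    (hP₀ (mem_sup_left (mem_zpowers t))) (hP₀ (mem_sup_right (mem_zpowers v)))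
  have hct : (Nat.card (zpowers t)).Coprime (Nat.card K) := by
    rw [Nat.card_zpowers, ht]; exact Nat.coprime_two_left.2 hK
  haveI : IsMulCommutative (zpowers t) := IsCyclic.isMulCommutative
  have hsol : Group.IsSolvable (zpowers t) ∨ Group.IsSolvable K :=
    Or.inl (Group.isSolvable_of_comm fun a b => mul_comm' a b)
  obtain ⟨P₁, hQP, hP₁⟩ := Coprime.exists_invariant_sylow_ge (zpowers_le.2 htK) hct hsol hQK hQ
    (zpowers_le.2 htQ)
  obtain ⟨c, hcm, he⟩ := Coprime.exists_centralizer_conj_sylow (zpowers_le.2 htK) hct hsol P₀ P₁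
    (zpowers_le.2 (hP₀ (mem_sup_left (mem_zpowers t)))) hP₁
  intro q hq
  obtain ⟨p, hp, rfl⟩ := he.le (hQP hq)
  have hct' : c * t = t * c := (mem_centralizer_iff.1 hcm.2 t (mem_zpowers t)).symm
  exact mul_mem (mul_mem (mem_centralizer_singleton_iff.2 hct') (hP0t hp))
    (inv_mem (mem_centralizer_singleton_iff.2 hct'))

end Cfsg.Lib.Walter3.Field
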