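import Cfsg.Agent.Lib.Walter3.Field.PsiRows

/-!
# The index of `B` is `q³ + 1`

The equation `n q (X - q)² = (q² - 1)² X (X + 1)` in integers, with `X ≡ q (mod 8)`, leaves only
`n = q³ + 1` and one value that the primes of the field part exclude.
-/

set_option autoImplicit false
set_option linter.unusedSectionVars false
set_option linter.style.haveILetI false

namespace Cfsg.Lib.Walter3.Field

universe u

theorem dvd_of_sq_dvd_sq {d a : ℤ} (h : d ^ 2 ∣ a ^ 2) : d ∣ a := by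
  rwa [Int.pow_dvd_pow_iff two_ne_zero] at h

theorem coprime_three_pow {k : ℕ} {a : ℤ} (h : ¬ 3 ∣ a) : IsCoprime ((3 : ℤ) ^ k) a :=
  (Int.prime_three.coprime_iff_not_dvd.2 h).pow_left

/-- The cofactor is too small. -/
theorem cofactor_absurd {q d e m : ℤ} (hq : 5 ≤ q)
    (h : (q ^ 2 - 1) * (q + 1) = d * e) (he : e = q + 1 + q ^ 2 * m) (hd : q ^ 2 - 1 < |d|) :
    False := by
  have h1 : |d| * |e| = (q ^ 2 - 1) * (q + 1) := by
    rw [← abs_mul, ← h, abs_of_nonneg (by nlinarith)]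
  have h2 : |e| < q + 1 := by
    by_contra hc
    push Not at hc
    have h3 : |d| * (q + 1) ≤ |d| * |e| := mul_le_mul_of_nonneg_left hc (abs_nonneg d)
    have h4 : (q ^ 2 - 1) * (q + 1) < |d| * (q + 1) := mul_lt_mul_of_pos_right hd (by omega)
    linarith
  rw [abs_lt] at h2
  rcases le_or_gt 0 m with hm | hm
  · nlinarith
  · have : m ≤ -1 := by omega
    nlinarith

theorem index_case_dvd {q n Y : ℤ} (hq : 5 ≤ q) (hcop : ∀ a : ℤ, ¬ 3 ∣ a → IsCoprime q a)
    (h3q : 3 ∣ q) (hY : Y ≠ 0)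
    (h : n * q ^ 2 * (Y - 1) ^ 2 = (q ^ 2 - 1) ^ 2 * Y * (q * Y + 1)) : n = q ^ 3 + 1 := by
  obtain ⟨w, hw⟩ := h3q
  have hc : IsCoprime q ((q ^ 2 - 1) ^ 2 * (q * Y + 1)) :=
    ((hcop _ (by rw [hw]; rintro ⟨z, hz⟩; ring_nf at hz; omega)).pow_right).mul_right
      (hcop _ (by rw [hw]; rintro ⟨z, hz⟩; rw [mul_assoc] at hz; omega))
  obtain ⟨γ, rfl⟩ : q ^ 2 ∣ Y :=
    (hc.pow_left (m := 2)).dvd_of_dvd_mul_left ⟨n * (Y - 1) ^ 2, by linear_combination -h⟩
  have hq2 : q ^ 2 ≠ 0 := pow_ne_zero 2 (by omega)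
  have h' : n * (q ^ 2 * γ - 1) ^ 2 = (q ^ 2 - 1) ^ 2 * γ * (q * (q ^ 2 * γ) + 1) :=
    mul_left_cancel₀ hq2 (by linear_combination h)
  by_cases hγ : γ = 1
  · subst hγ
    have hne : (q ^ 2 - 1) ^ 2 ≠ 0 := pow_ne_zero 2 (by nlinarith)
    exact mul_left_cancel₀ hne (by linear_combination h')
  exfalso
  have hγ0 : γ ≠ 0 := fun e => hY (by rw [e, mul_zero])
  set d := q ^ 2 * γ - 1 with hd
  have hdd : d ∣ (q ^ 2 - 1) ^ 2 * (q + 1) := by
    have hcd : IsCoprime d γ := ⟨-1, q ^ 2, by rw [hd]; ring⟩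
    exact hcd.dvd_of_dvd_mul_left
      ⟨n * d - (q ^ 2 - 1) ^ 2 * γ * q, by linear_combination -h' + ((q ^ 2 - 1) ^ 2 * γ * q) * hd⟩
  have hsq : d ^ 2 ∣ ((q ^ 2 - 1) * (q + 1)) ^ 2 := by
    obtain ⟨s, hs⟩ := hdd
    have hcd1 : IsCoprime d γ := ⟨-1, q ^ 2, by rw [hd]; ring⟩
    have hcd : IsCoprime (d ^ 2) γ := hcd1.pow_left
    exact hcd.dvd_of_dvd_mul_left ⟨(q + 1) * n - q * s * γ, by
      linear_combination -(q + 1) * h' - (q * d * γ) * hs + ((q + 1) * (q ^ 2 - 1) ^ 2 * γ * q) * hd⟩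
  obtain ⟨e, he⟩ := dvd_of_sq_dvd_sq hsq
  refine cofactor_absurd (m := e * γ - q - 1) hq he ?_ ?_
  · linear_combination he + e * hd
  · rcases lt_or_gt_of_ne hγ0 with h1 | h1
    · rw [lt_abs]; right
      have : γ ≤ -1 := by omega
      nlinarith
    · rw [lt_abs]; left
      have : 2 ≤ γ := by omega
      nlinarith

theorem index_case_ndvd {q n j : ℤ} (hq : 27 ≤ q)
    (h3q : 3 ∣ q) (hj8 : (j - 1) % 8 = 3)
    (h : n * (q * (j - 1) - 1) ^ 2 = (q ^ 2 - 1) ^ 2 * (q * j - 1) * j) :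
    n = (q + 1) * (q ^ 2 + q - 1) := by
  obtain ⟨w, hw⟩ := h3q
  obtain ⟨J, rfl⟩ : ∃ J, j = J + 1 := ⟨j - 1, by ring⟩
  rw [add_sub_cancel_right] at hj8 h
  set d := q * J - 1 with hd
  have hcq : IsCoprime d q := ⟨-1, J, by rw [hd]; ring⟩
  have hdd : d ∣ (q ^ 2 - 1) ^ 2 * (q + 1) :=
    hcq.dvd_of_dvd_mul_left ⟨q * n * d - (q ^ 2 - 1) ^ 2 * (d + 2 * q + 1), by
      linear_combination -q * h + ((q ^ 2 - 1) ^ 2 * (d + 2 * q + q * J)) * hd⟩
  have hsq : d ^ 2 ∣ ((q ^ 2 - 1) * (q + 1)) ^ 2 := by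
    obtain ⟨s, hs⟩ := hdd
    exact hcq.pow_left.dvd_of_dvd_mul_left ⟨(q + 1) * (q * n - (q ^ 2 - 1) ^ 2) - (2 * q + 1) * s, by
      linear_combination -(q * (q + 1)) * h - ((2 * q + 1) * d) * hs +
        ((q + 1) * (q ^ 2 - 1) ^ 2 * (d + 2 * q + q * J)) * hd⟩
  obtain ⟨e, he⟩ := dvd_of_sq_dvd_sq hsq
  obtain ⟨m, rfl⟩ : ∃ m, e = 1 + q * m :=
    ⟨e * J - q ^ 2 - q + 1, by linear_combination he + e * hd⟩
  have hlin : q * J * m + J - m = q ^ 2 + q - 1 := by
    refine mul_left_cancel₀ (show q ≠ 0 by omega) ?_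
    linear_combination -he - (1 + q * m) * hd
  obtain ⟨l, hl⟩ : ∃ l, J - m = q * l - 1 := ⟨q + 1 - J * m, by linear_combination hlin⟩
  have hJm : J * m = q + 1 - l := by
    refine mul_left_cancel₀ (show q ≠ 0 by omega) ?_
    linear_combination hlin - hl
  have hJ0 : J ≠ 0 := fun e => by omega
  by_cases hm : m = 0
  · -- `J = q² + q - 1`
    exfalso
    subst hm
    obtain rfl : l = q + 1 := by linarith
    have hAQ : (q ^ 2 - 1) * (q + 1) = d := by linear_combination he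
    have hJ : J = q ^ 2 + q - 1 := by linear_combination hl
    have h1 : n * (q + 1) ^ 2 = (q * (J + 1) - 1) * (J + 1) := by
      refine mul_left_cancel₀ (pow_ne_zero 2 (show q ^ 2 - 1 ≠ 0 by nlinarith)) ?_
      rw [← hAQ] at h
      linear_combination h
    rw [hJ] at h1
    have h2 : n * (q + 1) = q * (q ^ 3 + q ^ 2 - 1) := by
      refine mul_left_cancel₀ (show q + 1 ≠ 0 by omega) ?_
      linear_combination h1
    have h3 : (q + 1) * (n - q ^ 3 + 1) = 1 := by linear_combination h2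
    have := Int.eq_one_or_neg_one_of_mul_eq_one h3
    omega
  have habs : |l| ≤ 1 := by
    by_contra hc
    have h2 : 2 ≤ |l| := by omega
    have h1 : 1 ≤ |J| := Int.one_le_abs hJ0
    have h1' : 1 ≤ |m| := Int.one_le_abs hm
    have h3 : |J - m| ≤ |J * m| + 1 := by
      have h4 : |J| + |m| ≤ |J| * |m| + 1 := by nlinarith
      rw [abs_mul]
      exact (abs_sub J m).trans h4
    rw [hl, hJm] at h3
    have h4 : q * |l| - 1 ≤ |q * l - 1| := by
      have := abs_sub_abs_le_abs_sub (q * l) 1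
      rwa [abs_mul, abs_of_pos (show 0 < q by omega), abs_one] at this
    have h5 : |q + 1 - l| ≤ q + 1 + |l| :=
      (abs_sub (q + 1) l).trans (by rw [abs_of_pos (show 0 < q + 1 by omega)])
    nlinarith
  rcases show l = -1 ∨ l = 0 ∨ l = 1 by rw [abs_le] at habs; omega with rfl | rfl | rfl
  · exfalso
    have h0 : (J - 1) * (J + q + 2) = 0 := by linear_combination J * hl + hJm
    rcases mul_eq_zero.1 h0 with h1 | h1
    · omega
    · have hJ : J = -(q + 2) := by linarith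
      have h2 : n * (q + 1) ^ 4 = (q ^ 2 - 1) ^ 2 * ((q + 1) * (q ^ 2 + q + 1)) := by
        rw [hd, hJ] at h
        linear_combination h
      have h3 : n * (q + 1) = (q - 1) ^ 2 * (q ^ 2 + q + 1) := by
        refine mul_left_cancel₀ (pow_ne_zero 3 (show q + 1 ≠ 0 by omega)) ?_
        linear_combination h2
      have h4 : (q + 1) * (n - (q ^ 3 - 2 * q ^ 2 + 2 * q - 3)) = 4 := by linear_combination h3
      have := Int.le_of_dvd (by norm_num) (Dvd.intro _ h4)
      omega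
  · exfalso
    have h1 : (J + 1) * (J + 1) - (J + 1) = q + 1 := by linear_combination hJm + J * hl
    have h2 := congrArg (Int.cast : ℤ → ZMod 3) h1
    push_cast at h2
    rw [hw] at h2
    push_cast at h2
    rw [show (3 : ZMod 3) = 0 by decide, zero_mul, zero_add] at h2
    revert h2
    generalize (J : ZMod 3) = z
    revert z
    decide
  · have h0 : (J - q) * (J + 1) = 0 := by linear_combination J * hl + hJm
    rcases mul_eq_zero.1 h0 with h1 | h1
    · have hJ : J = q := by linarith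
      refine mul_left_cancel₀ (pow_ne_zero 2 (show q ^ 2 - 1 ≠ 0 by nlinarith)) ?_
      rw [hd, hJ] at h
      linear_combination h
    · omega

/-- The solutions of the equation. -/
theorem index_solve {q n X : ℤ} {k : ℕ} (hq : q = 3 ^ k) (hq27 : 27 ≤ q) (hq8 : q % 8 = 3)
    (h8 : 8 ∣ X - q) (hX0 : X ≠ 0)
    (h : n * q * (X - q) ^ 2 = (q ^ 2 - 1) ^ 2 * X * (X + 1)) :
    n = q ^ 3 + 1 ∨ n = (q + 1) * (q ^ 2 + q - 1) := by
  have hcop : ∀ a : ℤ, ¬ 3 ∣ a → IsCoprime q a := fun a ha => hq ▸ coprime_three_pow ha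
  have h3q : (3 : ℤ) ∣ q := hq ▸ dvd_pow_self 3 (by rintro rfl; norm_num at hq; omega)
  have hA : ¬ (3 : ℤ) ∣ q ^ 2 - 1 := fun hd => by
    have := dvd_sub (h3q.mul_right q) hd
    rw [show q * q - (q ^ 2 - 1) = (1 : ℤ) by ring] at this
    omega
  by_cases hX : (3 : ℤ) ∣ X
  · left
    obtain ⟨Y, rfl⟩ : q ∣ X :=
      (((hcop _ hA).pow_right (n := 2)).mul_right (hcop (X + 1) (by omega))).dvd_of_dvd_mul_left
        ⟨n * (X - q) ^ 2, by linear_combination -h⟩
    refine index_case_dvd (Y := Y) (by omega) hcop h3q (fun e => hX0 (by rw [e, mul_zero])) ?_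
    exact mul_left_cancel₀ (show q ≠ 0 by omega) (by linear_combination h)
  · right
    obtain ⟨j, hj⟩ : q ∣ X + 1 :=
      (((hcop _ hA).pow_right (n := 2)).mul_right (hcop X hX)).dvd_of_dvd_mul_left
        ⟨n * (X - q) ^ 2, by linear_combination -h⟩
    obtain rfl : X = q * j - 1 := by linarith
    refine index_case_ndvd (j := j) hq27 h3q ?_
      (mul_left_cancel₀ (show q ≠ 0 by omega) (by linear_combination h))
    have h1 : (q * j - 1 - q) % 8 = 0 := Int.emod_eq_zero_of_dvd h8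
    have h2 : (q * (j - 1)) % 8 = 1 := by
      rw [show q * (j - 1) = q * j - q by ring]
      omega
    rw [Int.mul_emod, hq8] at h2
    omega

namespace Full

variable {G : Type u} [Group G] [Fintype G] {F : Type} [Field F] [Fintype F] {c : Cfg G F}
variable (D : Full c)
include D

/-- A prime of the field part divides `q² - q + 1`. -/
theorem prime_dvd_f_quad {r : ℕ} (hr : r.Prime) (h : r ∣ c.f) :
    (r : ℤ) ∣ (Fintype.card F : ℤ) ^ 2 - Fintype.card F + 1 := by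
  haveI := Fact.mk hr
  obtain ⟨y, hy⟩ := D.exists_order hr h
  obtain ⟨hq, -, hdiv, -⟩ := D.gen y (hy ▸ hr)
  rw [hy] at hq hdiv
  have hdvd := hdiv.resolve_left fun e => D.three (e ▸ h)
  have h0 : ((c.fixCard y ^ 2 - c.fixCard y + 1 : ℕ) : ZMod r) = 0 :=
    (ZMod.natCast_eq_zero_iff _ _).2 hdvd
  rw [Nat.cast_add, Nat.cast_sub (Nat.le_self_pow two_ne_zero _), Nat.cast_pow, Nat.cast_one] at h0
  rw [← ZMod.intCast_zmod_eq_zero_iff_dvd]
  push_cast
  rw [hq, Nat.cast_pow, ZMod.pow_card]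
  exact h0

/-- The index of `B`. -/
theorem index_B : D.B.index = Fintype.card F ^ 3 + 1 := by
  obtain ⟨X, h8, hX0, -, h⟩ := D.exists_X
  obtain ⟨k, -, hk3, hk⟩ := D.q_pow
  have hq27 : 27 ≤ Fintype.card F := by
    rw [hk]
    exact le_trans (by norm_num) (Nat.pow_le_pow_right (by norm_num : 1 ≤ 3) hk3)
  have hq8 := D.q_mod_eight
  rcases index_solve (k := k) (by exact_mod_cast hk) (by exact_mod_cast hq27) (by omega)
    h8 hX0 h
    with e | e
  · exact_mod_cast e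
  exfalso
  obtain ⟨r, hr, hd⟩ := Nat.exists_prime_and_dvd D.f_pos.ne'
  obtain ⟨h7, -, -, hq1, hq2⟩ := D.prime_dvd_f hr hd
  have hp : Prime (r : ℤ) := Nat.prime_iff_prime_int.1 hr
  have hn : (r : ℤ) ∣ D.B.index := Int.natCast_dvd_natCast.2 (D.prime_dvd_index hr hd)
  rw [e] at hn
  rcases hp.dvd_or_dvd hn with h1 | h1
  · exact hq2 (Int.natCast_dvd_natCast.1 (by exact_mod_cast h1))
  · have h2 := dvd_sub h1 (D.prime_dvd_f_quad hr hd)
    rw [show ((Fintype.card F : ℤ) ^ 2 + Fintype.card F - 1) -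
      ((Fintype.card F : ℤ) ^ 2 - Fintype.card F + 1) = 2 * ((Fintype.card F - 1 : ℕ) : ℤ) by
        rw [Nat.cast_sub (by omega)]; ring] at h2
    rcases hp.dvd_or_dvd h2 with h3 | h3
    · have := Int.le_of_dvd (by norm_num) h3
      omega
    · exact hq1 (Int.natCast_dvd_natCast.1 h3)

end Full

end Cfsg.Lib.Walter3.Field
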