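import Cfsg.Agent.Lib.Walter3.Assembly
import Cfsg.Agent.Lib.Walter3.Plane
import Cfsg.Agent.Lib.TwoDim.Normalizers

/-!
# The field part: coordinates on the centralizer of an involution

`C(t) = (⟨t⟩ × L) F₀`, where `L` is the image of `PSL₂(q)` under `φ` and the field part `F₀`
acts through field automorphisms.  The standard four-group lies in `S`.
-/

set_option autoImplicit false
set_option linter.unusedSectionVars false
set_option linter.style.haveILetI false

namespace Cfsg.Lib.Walter3

open Subgroup Cfsg Matrix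
open Cfsg.Lib.Linear.AutPSL (fld)
open scoped MatrixGroups

universe u

/-- The induction hypothesis: in smaller simple groups the centralizers have trivial field part. -/
def FieldBelow (G : Type u) [Group G] : Prop :=
  ∀ (X : Type u) [Group X] [Finite X] [IsSimpleGroup X], Nat.card X < Nat.card G →
    ¬ IsMulCommutative X → CentClause X

namespace Field

local notation "PSL2[" K "]" => Matrix.ProjectiveSpecialLinearGroup (Fin 2) K

section Matrices

variable {F : Type} [Field F]

/-- The upper unitriangular matrices. -/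
def uSL : Multiplicative F →* SL(2, F) where
  toFun c := ⟨!![1, c.toAdd; 0, 1], by simp [Matrix.det_fin_two]⟩
  map_one' := Subtype.ext (by simp [Matrix.one_fin_two])
  map_mul' a b := Subtype.ext (show !![(1 : F), (a * b).toAdd; 0, 1] =
    !![(1 : F), a.toAdd; 0, 1] * !![(1 : F), b.toAdd; 0, 1] by simp [add_comm])

/-- The standard element of order four. -/
def jSL : SL(2, F) := ⟨!![0, -1; 1, 0], by simp [Matrix.det_fin_two]⟩

/-- The second standard element of order four. -/
def mSL (a b : F) (h : a * a + b * b = -1) : SL(2, F) :=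
  ⟨!![a, b; b, -a], by rw [Matrix.det_fin_two_of]; linear_combination -h⟩

end Matrices

/-- The setting: a minimal counterexample and coordinates on `C(t)`. -/
structure Cfg (G : Type u) [Group G] [Finite G] (F : Type) [Field F] [Fintype F] where
  S : Sylow 2 G
  hyp : Hyp S
  below : FieldBelow G
  t : G
  pt : Pt S t
  sign : Fintype.card F % 8 = 3 ∨ Fintype.card F % 8 = 5
  five_le : 5 ≤ Fintype.card F
  φ : PSL2[F] →* G
  φ_inj : Function.Injective φ
  φ_comm : ∀ l, φ l * t = t * φ l
  φ_ne : ∀ l, φ l ≠ t
  σ : fieldPart S →* (F ≃+* F)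
  σ_inj : Function.Injective σ
  conj : ∀ (y : fieldPart S) (l : PSL2[F]), (y : G) * φ l * (y : G)⁻¹ = φ (fld (σ y) l)
  decomp : ∀ g : G, g * t = t * g →
    ∃ (l : PSL2[F]) (y : fieldPart S), g = φ l * y ∨ g = t * φ l * y
  j_mem : φ (QuotientGroup.mk jSL) ∈ (S : Subgroup G)
  m_mem : ∃ (a b : F) (h : a * a + b * b = -1), (∀ τ : F ≃+* F, τ a = a ∧ τ b = b) ∧
    φ (QuotientGroup.mk (mSL a b h)) ∈ (S : Subgroup G)
  cyclic : IsCyclic (fieldPart S)
  normalizer_centralizes :
    normalizer ((S : Subgroup G) : Set G) ≤ centralizer (fieldPart S : Set G)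
  dvd : Nat.card (fieldPart S) ∣ (centralizer ({t} : Set G)).index

namespace Cfg

variable {G : Type u} [Group G] [Finite G] {F : Type} [Field F] [Fintype F] (c : Cfg G F)

/-- The number of field automorphisms. -/
noncomputable def f : ℕ := Nat.card (fieldPart c.S)

/-- The simple factor. -/
def L : Subgroup G := c.φ.range

/-- The unipotent element with upper entry `a`. -/
def u (a : F) : G := c.φ (QuotientGroup.mk (uSL (Multiplicative.ofAdd a)))

/-- The torus element. -/
def d (a : Fˣ) : G := c.φ (QuotientGroup.mk (Cfsg.Lib.TwoDim.splitSL F a))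

/-- The unipotent subgroup. -/
def U : Subgroup G := ((c.φ.comp (QuotientGroup.mk' _)).comp uSL).range

/-- The split torus. -/
def H : Subgroup G := ((c.φ.comp (QuotientGroup.mk' _)).comp (Cfsg.Lib.TwoDim.splitSL F)).range

/-- The involution inverting the split torus. -/
def i : G := c.φ (QuotientGroup.mk jSL)

/-- The number of fixed points of a field automorphism. -/
noncomputable def fixCard (y : fieldPart c.S) : ℕ := Nat.card {a : F // c.σ y a = a}

/-- The generic case: the fixed fields of the elements of prime order are large, and the order of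
their centralizers is known. -/
def Gen : Prop :=
  ∀ y : fieldPart c.S, (orderOf y).Prime →
    Fintype.card F = c.fixCard y ^ orderOf y ∧
    (∃ m : ℕ, 1 ≤ m ∧ c.fixCard y = 3 ^ (2 * m + 1)) ∧
    (orderOf y = 3 ∨ orderOf y ∣ c.fixCard y ^ 2 - c.fixCard y + 1) ∧
    Nat.card ↥(centralizer ({(y : G)} : Set G)) =
      c.f * (c.fixCard y ^ 3 * (c.fixCard y ^ 3 + 1) * (c.fixCard y - 1))

/-- The results of the local analysis at the prime three. -/
structure Borel where
  R : Subgroup G
  card : Nat.card R = Fintype.card F ^ 3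
  not_dvd : ¬ 3 ∣ R.index
  U_le : c.U ≤ R
  inf_cent : ∀ g ∈ R, g * c.t = c.t * g → g ∈ c.U
  t_mem : c.t ∈ normalizer (R : Set G)
  H_le : c.H ≤ normalizer (R : Set G)
  F_le : fieldPart c.S ≤ normalizer (R : Set G)
  disjoint : ∀ g ∈ R, c.i * g * c.i⁻¹ ∈ R → g = 1
  fpf : ∀ h ∈ c.H, h ≠ 1 → ∀ g ∈ R, g * h = h * g → g = 1
  card_cent : ∀ y : fieldPart c.S, (orderOf y).Prime →
    Nat.card ↥(R ⊓ centralizer ({(y : G)} : Set G)) = c.fixCard y ^ 3

end Cfg

end Field

end Cfsg.Lib.Walter3
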