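import Cfsg.Agent.Lib.Walter3.Field.Perm
import Cfsg.Agent.Lib.Block.SubsectionApps

/-!
# The blocks of `G` attached to the characters of the field part

The constituents of `W_μ` lie in the block induced from the block of `μ` in `C(t)`; these blocks
are different for different `μ`, and Brauer's second main theorem gives the principal part of a
function on the `t`-section.
-/

set_option autoImplicit false
set_option linter.unusedSectionVars false
set_option linter.style.haveILetI false

namespace Cfsg.Lib.Walter3.Field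

open Subgroup Cfsg Cfsg.Lib.Char Cfsg.Lib.Block
open scoped ComplexConjugate

universe u

variable {G : Type u} [Group G] [Fintype G] {F : Type} [Field F] [Fintype F] {c : Cfg G F}

theorem orderOf_t_pow (c : Cfg G F) : ∃ k : ℕ, orderOf c.t = 2 ^ k := ⟨1, by rw [c.orderOf_t, pow_one]⟩

theorem comm_Ct (c : Cfg G F) (h : c.Ct) : Commute c.t (h : G) :=
  (mem_centralizer_singleton_iff.1 h.2).symm

namespace Full

variable (D : Full c)
include D

/-- The regular elements of `C(t)` have trivial sign. -/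
theorem sgn_reg {y : c.Ct} (hy : IsPRegular 2 y) : c.sgn y = 1 := by
  refine (c.sgn_sq y).resolve_right fun h => ?_
  have h1 := congrArg c.sgn (pow_orderOf_eq_one y)
  rw [map_pow, map_one, h, Odd.neg_one_pow (Nat.odd_iff.2 (Nat.two_dvd_ne_zero.1 hy))] at h1
  have := congrArg Units.val h1
  norm_num at this

/-- The function `(1 - sgn) μ (1 + St)` on the `t`-section. -/
theorem sect_value (μ : c.Dual) (y : c.Ct) :
    ((c.lam μ (⟨c.t, c.t_mem_Ct⟩ * y) : ℂ) - c.slam μ (⟨c.t, c.t_mem_Ct⟩ * y)) *
        D.perm (⟨c.t, c.t_mem_Ct⟩ * y) =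
      2 * pRegularPart 2 (fun z : c.Ct => (c.lam μ z : ℂ) * D.perm z) y := by
  classical
  haveI := Fintype.ofFinite c.Ct
  set t' : c.Ct := ⟨c.t, c.t_mem_Ct⟩
  have hst : (c.slam μ (t' * y) : ℂ) = -((c.sgn y : ℂ) * c.lam μ y) := by
    simp only [Cfg.slam, MonoidHom.mul_apply, Cfg.lam, MonoidHom.comp_apply, map_mul, c.π_t, map_one,
      Units.val_mul, Units.val_one, c.sgn_t, t']
    ring
  have hlt : (c.lam μ (t' * y) : ℂ) = c.lam μ y := by
    simp only [Cfg.lam, MonoidHom.comp_apply, map_mul, c.π_t, map_one, one_mul, t']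
  have hperm : D.perm (t' * y) = D.perm y := by
    rw [D.perm_apply, D.perm_apply]
    congr 1
    refine Finset.sum_congr rfl fun x _ => ?_
    have e : (x : G)⁻¹ * ((t' * y : c.Ct) : G) * x = c.t * ((x : G)⁻¹ * y * x) := by
      show (x : G)⁻¹ * (c.t * y) * x = _
      rw [← mul_assoc (x : G)⁻¹, ← ((comm_Ct c x).inv_right).eq]
      group
    rw [one_BC, one_BC, e]
    exact if_congr (Subgroup.mul_mem_cancel_left _ D.t_mem_BC) rfl rfl
  rw [hlt, hst, hperm]
  by_cases hy : IsPRegular 2 y
  · rw [pRegularPart_of_reg hy, D.sgn_reg hy, Units.val_one]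
    ring
  · rw [pRegularPart_of_sing hy, mul_zero]
    rcases c.sgn_sq y with h | h
    · suffices D.perm y = 0 by rw [this, mul_zero]
      rw [D.perm_apply, Finset.sum_eq_zero, mul_zero]
      intro x _
      rw [one_BC, if_neg]
      intro hm
      refine hy ?_
      obtain ⟨k, hk, hcard⟩ := D.odd_half
      have hs : c.sgn ⟨(x : G)⁻¹ * y * x, D.BC_le_Ct hm⟩ = 1 := by
        rw [show (⟨(x : G)⁻¹ * y * x, D.BC_le_Ct hm⟩ : c.Ct) = x⁻¹ * y * x from Subtype.ext rfl,
          map_mul, map_mul, map_inv, h, mul_one, inv_mul_cancel]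
      have hp := (D.pow_half hk hcard hm).1 hs
      have ho : orderOf y ∣ k := by
        rw [orderOf_dvd_iff_pow_eq_one]
        refine Subtype.ext ?_
        rw [SubmonoidClass.coe_pow, OneMemClass.coe_one]
        rw [show (x : G)⁻¹ * y * x = (x : G)⁻¹ * y * (x : G)⁻¹⁻¹ by group, conj_pow, inv_inv] at hp
        calc (y : G) ^ k = x * ((x : G)⁻¹ * (y : G) ^ k * x) * (x : G)⁻¹ := by group
          _ = 1 := by rw [hp]; group
      intro h2
      exact (Nat.not_even_iff_odd.2 hk) (even_iff_two_dvd.2 (h2.trans ho))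
    · rw [h, Units.val_neg, Units.val_one]
      ring

/-- The inner product with `W_μ` is read on the section of `t`. -/
theorem inner_W_sect [Fintype c.Ct] (μ : c.Dual) {χ : G → ℂ} (hχ : IsClassFunction G χ) :
    classInner (D.W μ) χ =
      2 * regInner 2 (fun z : c.Ct => (c.lam μ z : ℂ) * D.perm z) (secFn c.t c.Ct χ) := by
  classical
  haveI := Fintype.ofFinite D.BCs
  have hW : D.W μ = indFun c.Ct (fun z => ((c.lam μ z : ℂ) - c.slam μ z) * D.perm z) := by
    rw [W, ← indFun_trans D.BC c.Ct D.BC_le_Ct (D.w0 μ)]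
    congr 1
    have hcl : IsClassFunction c.Ct (fun z => (c.lam μ z : ℂ) - c.slam μ z) := fun g x => by
      show (c.lam μ (x * g * x⁻¹) : ℂ) - c.slam μ (x * g * x⁻¹) = _
      rw [map_mul, map_mul, map_inv, map_mul, map_mul, map_inv, mul_right_comm, mul_inv_cancel,
        one_mul, mul_right_comm (c.slam μ x), mul_inv_cancel, one_mul]
    have h := indFun_mul D.BCs (fun _ => (1 : ℂ)) hcl
    simp only [one_mul, ← D.perm_eq_ind] at h
    refine Eq.trans ?_ (h.trans (funext fun g => mul_comm _ _))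
    rfl
  rw [hW, classInner_indFun c.Ct _ hχ, regInner, classInner, classInner,
    ← Equiv.sum_comp (Equiv.mulLeft (⟨c.t, c.t_mem_Ct⟩ : c.Ct))]
  simp only [Equiv.coe_mulLeft, D.sect_value, secFn, Subgroup.coe_mul, mul_assoc (2 : ℂ),
    ← Finset.mul_sum]
  ring

variable {M : Ideal AlgInt} (hM : IsPModular 2 M)
include hM

theorem exists_blockB (μ : c.Dual) :
    ∃ B, IsInducedBlock M c.Ct (blockOf M (c.lamC μ : c.Ct → ℂ)) B := by
  haveI : Fact (Nat.Prime 2) := ⟨Nat.prime_two⟩
  haveI := Fintype.ofFinite c.Ct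
  exact exists_isInducedBlock_of_centralizer hM (orderOf_t_pow c) (comm_Ct c) le_rfl
    (isPBlock_blockOf _)

/-- The block of `G` attached to `μ`. -/
noncomputable def blockB (μ : c.Dual) : Set (IrrCharacter G) := (D.exists_blockB hM μ).choose

theorem blockB_spec (μ : c.Dual) :
    IsInducedBlock M c.Ct (blockOf M (c.lamC μ : c.Ct → ℂ)) (D.blockB hM μ) :=
  (D.exists_blockB hM μ).choose_spec

theorem blockB_injective : Function.Injective (D.blockB hM) := by
  intro μ ν h
  haveI : Fact (Nat.Prime 2) := ⟨Nat.prime_two⟩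
  refine MonoidHom.ext fun y => ?_
  obtain ⟨K, hK, hval⟩ := D.inducedCentralChar_lamC hM y
  obtain ⟨χ, hχ⟩ := nonempty_of_isPBlock hM (D.blockB_spec hM μ).2.1
  have h1 := (D.blockB_spec hM μ).2.2 _ (self_mem_blockOf hM _) χ hχ y
  have h2 := (D.blockB_spec hM ν).2.2 _ (self_mem_blockOf hM _) χ (h ▸ hχ) y
  have h3 := memLocalIdeal_sub hM h1 h2
  rw [sub_sub_sub_cancel_right, hval, hval] at h3
  exact root_congr hM c.odd_f hK μ ν h3

/-- The constituents of `W_μ` lie in the block of `μ`. -/
theorem mem_blockB_of_W (μ : c.Dual) {χ : IrrCharacter G}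
    (h : classInner (D.W μ) (χ : G → ℂ) ≠ 0) : χ ∈ D.blockB hM μ := by
  classical
  haveI : Fact (Nat.Prime 2) := ⟨Nat.prime_two⟩
  haveI := Fintype.ofFinite c.Ct
  by_contra hn
  refine h ?_
  set b := blockOf M (c.lamC μ : c.Ct → ℂ) with hb
  set θ := secFn c.t c.Ct (χ : G → ℂ) with hθdef
  have hθ : IsClassFunction c.Ct θ := isClassFunction_secFn (comm_Ct c) χ
  have hvb : VInt hM (indVec b) := vInt_indVec hM (isPBlock_blockOf _)
  have hzero : ∀ y : c.Ct, IsPRegular 2 y → blockPart b θ y = 0 := fun y hy =>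
    blockPart_secFn_eq_zero hM (orderOf_t_pow c) (comm_Ct c) le_rfl (D.blockB_spec hM μ) hn hy
  have hlin : ∀ ξ : IrrCharacter c.Ct, ξ ∈ b → regInner 2 (ξ : c.Ct → ℂ) θ = 0 := by
    intro ξ hξ
    have h1 : regInner 2 (ξ : c.Ct → ℂ) (blockPart b θ) = 0 := by
      rw [regInner, classInner, Finset.sum_eq_zero, mul_zero]
      intro y _
      by_cases hy : IsPRegular 2 y
      · rw [hzero y hy, map_zero, mul_zero]
      · rw [pRegularPart_of_sing hy, zero_mul]
    have h2 : blockPart b θ =
        ∑ η ∈ b.toFinset, classInner θ (η : c.Ct → ℂ) • (η : c.Ct → ℂ) := by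
      funext y
      simp only [blockPart, finsum_mem_eq_toFinset_sum, Finset.sum_apply, Pi.smul_apply, smul_eq_mul,
        classInner]
      refine Finset.sum_congr rfl fun η _ => ?_
      congr 2
      exact Finset.sum_congr (by ext; simp) fun _ _ => rfl
    rw [← h1, h2, regInner_sum_right]
    conv_lhs => rw [eq_sum_classInner hθ, regInner_sum_right]
    refine (Finset.sum_subset (Finset.subset_univ _) fun η _ hη => ?_).symm
    rw [regInner_eq_zero hM hvb hξ (fun hm => hη (Set.mem_toFinset.2 hm)), mul_zero]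
  rw [D.inner_W_sect μ χ.2.isClassFunction]
  have e : (fun z : c.Ct => (c.lam μ z : ℂ) * D.perm z) =
      (c.lamC μ : c.Ct → ℂ) + (D.stC μ : c.Ct → ℂ) := by
    funext z
    show (c.lam μ z : ℂ) * D.perm z = (c.lam μ z : ℂ) + D.St z * c.lam μ z
    rw [St]; ring
  have hadd : ∀ a a' : c.Ct → ℂ, regInner 2 (a + a') θ = regInner 2 a θ + regInner 2 a' θ := by
    intro a a'
    simp only [regInner, classInner, ← mul_add, ← Finset.sum_add_distrib]
    congr 1
    refine Finset.sum_congr rfl fun y _ => ?_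
    by_cases hy : IsPRegular 2 y
    · simp only [pRegularPart_of_reg hy, Pi.add_apply, add_mul]
    · simp only [pRegularPart_of_sing hy, zero_mul, add_zero]
  rw [e, hadd, hlin _ (self_mem_blockOf hM _), hlin _ (D.sameBlock_stC hM μ), add_zero, mul_zero]

/-- The block of the trivial character is the principal one. -/
theorem blockB_one : D.blockB hM 1 = principalBlock M G := by
  classical
  haveI : Fact (Nat.Prime 2) := ⟨Nat.prime_two⟩
  refine isPBlock_eq_of_mem hM (D.blockB_spec hM 1).2.1 isPBlock_principal (χ := trivChar G) ?_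
    (trivChar_mem_principal hM)
  refine D.mem_blockB_of_W hM 1 ?_
  rw [trivChar_coe, D.inner_W_one, if_pos rfl]
  exact one_ne_zero

/-- The principal part of a function with known values on the section of `t`, at `t`. -/
theorem principal_at_t {f : G → ℂ} (hf : IsClassFunction G f) {μ : c.Dual} (hμ : μ ≠ 1)
    (hval : ∀ y : c.Ct, IsPRegular 2 y →
      f (c.t * y) = ((c.lam μ y : ℂ) - 1) * D.perm y)
    [DecidablePred (· ∈ principalBlock M G)] :
    ∑ χ : IrrCharacter G,
      (if χ ∈ principalBlock M G then classInner f (χ : G → ℂ) * (χ : G → ℂ) c.t else 0) =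
      -1 - (Fintype.card F : ℂ) := by
  classical
  haveI : Fact (Nat.Prime 2) := ⟨Nat.prime_two⟩
  haveI := Fintype.ofFinite c.Ct
  set b := principalBlock M c.Ct with hb
  have h1 : IsPRegular 2 (1 : c.Ct) := by simp [IsPRegular]
  have hvb : VInt hM (indVec b) := vInt_indVec hM isPBlock_principal
  have hbp : ∀ θ : c.Ct → ℂ, blockPart b θ 1 =
      ∑ η ∈ b.toFinset, classInner θ (η : c.Ct → ℂ) * (η : c.Ct → ℂ) 1 := fun θ => by
    simp only [blockPart, finsum_mem_eq_toFinset_sum, classInner]
    refine Finset.sum_congr rfl fun η _ => ?_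
    congr 2
    exact Finset.sum_congr (by ext; simp) fun _ _ => rfl
  -- the left side is the principal part of the section
  have hsec : secFn c.t c.Ct f =
      ∑ χ : IrrCharacter G, classInner f (χ : G → ℂ) • secFn c.t c.Ct (χ : G → ℂ) := by
    funext y
    conv_lhs => rw [secFn, eq_sum_classInner hf]
    simp [secFn, Finset.sum_apply]
  have hL : ∑ χ : IrrCharacter G,
      (if χ ∈ principalBlock M G then classInner f (χ : G → ℂ) * (χ : G → ℂ) c.t else 0) =
      blockPart b (secFn c.t c.Ct f) 1 := by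
    have h2 : ∀ χ : IrrCharacter G, blockPart b (secFn c.t c.Ct (χ : G → ℂ)) 1 =
        if χ ∈ principalBlock M G then (χ : G → ℂ) c.t else 0 := fun χ => by
      rw [hb, ← indSet_principal hM (orderOf_t_pow c) (comm_Ct c) le_rfl,
        blockPart_indSet hM (orderOf_t_pow c) (comm_Ct c) le_rfl isPBlock_principal χ h1]
      simp
    rw [hbp, hsec]
    simp only [classInner_sum_left, classInner_smul_left, Finset.sum_mul]
    rw [Finset.sum_comm]
    refine Finset.sum_congr rfl fun χ _ => ?_
    simp only [mul_assoc, ← Finset.mul_sum, ← hbp, h2]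
    split_ifs <;> ring
  -- the function agreeing with it on regular elements
  set g : c.Ct → ℂ := ((c.lamC μ : c.Ct → ℂ) + (D.stC μ : c.Ct → ℂ)) -
    ((c.lamC 1 : c.Ct → ℂ) + (D.stC 1 : c.Ct → ℂ)) with hg
  have hag : ∀ y : c.Ct, IsPRegular 2 y → secFn c.t c.Ct f y = g y := fun y hy => by
    rw [secFn, hval y hy, hg]
    simp only [Pi.sub_apply, Pi.add_apply, Cfg.lamC_apply, stC_apply, St]
    rw [show c.lam (1 : c.Dual) y = 1 from rfl, Units.val_one]
    ring
  have hR : blockPart b (secFn c.t c.Ct f) 1 = blockPart b g 1 := by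
    rw [blockPart_eq_regKer_sum, blockPart_eq_regKer_sum]
    congr 1
    refine Finset.sum_congr rfl fun y _ => ?_
    by_cases hy : IsPRegular 2 y
    · rw [hag y hy]
    · rw [regKer_eq_zero hM hvb h1 hy, mul_zero, mul_zero]
  have htriv : (c.lamC (1 : c.Dual) : IrrCharacter c.Ct) = trivChar c.Ct :=
    Subtype.ext (funext fun y => by rw [Cfg.lamC_apply, trivChar_coe]; rfl)
  have hmem1 : c.lamC (1 : c.Dual) ∈ b := htriv ▸ trivChar_mem_principal hM
  have hmemS1 : D.stC 1 ∈ b :=
    mem_of_sameBlock hM isPBlock_principal hmem1 (D.sameBlock_stC hM 1)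
  have hnot : c.lamC μ ∉ b := fun h =>
    hμ (D.lamC_block_inj hM (sameBlock_of_mem hM isPBlock_principal h hmem1))
  have hnotS : D.stC μ ∉ b := fun h =>
    hnot (mem_of_sameBlock hM isPBlock_principal h (sameBlock_symm hM (D.sameBlock_stC hM μ)))
  have hbirr : ∀ η : IrrCharacter c.Ct, blockPart b (η : c.Ct → ℂ) 1 =
      if η ∈ b then (η : c.Ct → ℂ) 1 else 0 := fun η => by
    rw [blockPart_eq_regKer_sum, sum_char_mul_regKer]
  have hlin : ∀ a a' : c.Ct → ℂ, blockPart b (a + a') 1 = blockPart b a 1 + blockPart b a' 1 ∧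
      blockPart b (a - a') 1 = blockPart b a 1 - blockPart b a' 1 := fun a a' => by
    simp only [blockPart_eq_regKer_sum, Pi.add_apply, Pi.sub_apply, add_mul, sub_mul,
      Finset.sum_add_distrib, Finset.sum_sub_distrib, mul_add, mul_sub, and_self]
  rw [hL, hR, hg, (hlin _ _).2, (hlin _ _).1, (hlin _ _).1, hbirr, hbirr, hbirr, hbirr, if_neg hnot,
    if_neg hnotS, if_pos hmem1, if_pos hmemS1, Cfg.lamC_apply, stC_apply, D.St_one, map_one,
    Units.val_one, mul_one]
  ring

end Full

end Cfsg.Lib.Walter3.Field
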