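import Cfsg.Agent.Lib.Walter3.Field.Diagonal
import Mathlib.GroupTheory.Sylow
import Mathlib.GroupTheory.PGroup

/-!
# The subgroup `B = R ⋊ M`

The data produced by the local analysis, the subgroup `B`, its projection on the field part and
the conjugacy classes of its involutions and of its elements of prime order dividing `|F₀|`.
-/

set_option autoImplicit false
set_option linter.unusedSectionVars false
set_option linter.style.haveILetI false

namespace Cfsg.Lib.Walter3.Field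

open Subgroup Cfsg
open Cfsg.Lib.TwoDim (splitSL)
open scoped MatrixGroups

universe u

local notation "PSL2[" K "]" => Matrix.ProjectiveSpecialLinearGroup (Fin 2) K

variable {G : Type u} [Group G] [Finite G] {F : Type} [Field F] [Fintype F]

/-- The results of the local analysis in the presence of a nontrivial field part. -/
structure Full (c : Cfg G F) where
  bd : c.Borel
  gen : c.Gen
  three : ¬ 3 ∣ c.f
  torus : ∀ (y : fieldPart c.S) (h : G), (orderOf y).Prime → h ∈ c.H → h * y = y * h →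
    (orderOf h).Prime → centralizer ({h} : Set G) ≤ centralizer ({c.t} : Set G)
  nontriv : fieldPart c.S ≠ ⊥

namespace Full

variable {c : Cfg G F} (D : Full c)
include D

theorem exists_order {r : ℕ} (hr : r.Prime) (h : r ∣ c.f) : ∃ y : fieldPart c.S, orderOf y = r := by
  haveI := Fact.mk hr
  exact exists_prime_orderOf_dvd_card' r h

theorem f_pos : 1 < c.f := (fieldPart c.S).one_lt_card_iff_ne_bot.2 D.nontriv

theorem exists_prime_order : ∃ y : fieldPart c.S, (orderOf y).Prime := by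
  obtain ⟨r, hr, h⟩ := Nat.exists_prime_and_dvd D.f_pos.ne'
  obtain ⟨y, hy⟩ := D.exists_order hr h
  exact ⟨y, hy ▸ hr⟩

/-- The field has order an odd power of three. -/
theorem q_pow : ∃ k, Odd k ∧ 3 ≤ k ∧ Fintype.card F = 3 ^ k := by
  obtain ⟨y, hy⟩ := D.exists_prime_order
  obtain ⟨hq, ⟨m, hm, e⟩, -⟩ := D.gen y hy
  refine ⟨(2 * m + 1) * orderOf y, (odd_two_mul_add_one m).mul (c.odd_orderOf y), ?_, ?_⟩
  · exact (show 3 ≤ 2 * m + 1 by omega).trans (Nat.le_mul_of_pos_right _ hy.pos)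
  · rw [hq, e, ← pow_mul]

theorem q_mod_eight : Fintype.card F % 8 = 3 := by
  obtain ⟨k, ⟨j, rfl⟩, -, h⟩ := D.q_pow
  rw [h, pow_succ, pow_mul, Nat.mul_mod, Nat.pow_mod]
  norm_num

theorem three_dvd_q : 3 ∣ Fintype.card F := by
  obtain ⟨k, -, hk, h⟩ := D.q_pow
  exact h ▸ dvd_pow_self 3 (by omega)

theorem coprime_three {n : ℕ} (h : ¬ 3 ∣ n) (j : ℕ) : (Fintype.card F ^ j).Coprime n := by
  obtain ⟨k, -, -, e⟩ := D.q_pow
  rw [e, ← pow_mul]
  exact ((Nat.Prime.coprime_iff_not_dvd Nat.prime_three).2 h).pow_left _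

theorem odd_card_H : Odd (Nat.card c.H) := by
  have := c.card_H
  have := D.q_mod_eight
  rw [Nat.odd_iff]
  omega

/-- A prime divisor of the field part. -/
theorem prime_dvd_f {r : ℕ} (hr : r.Prime) (h : r ∣ c.f) :
    7 ≤ r ∧ r % 6 = 1 ∧ ¬ r ∣ Fintype.card F ∧ ¬ r ∣ Fintype.card F - 1 ∧
      ¬ r ∣ Fintype.card F + 1 := by
  haveI := Fact.mk hr
  obtain ⟨y, hy⟩ := D.exists_order hr h
  obtain ⟨hq, ⟨m, hm, e⟩, hdiv, -⟩ := D.gen y (hy ▸ hr)
  rw [hy] at hq hdiv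
  have h3 : r ≠ 3 := fun e => D.three (e ▸ h)
  have hdvd := hdiv.resolve_left h3
  set Q := c.fixCard y
  have hQ : (Q : ZMod r) ^ 2 - Q + 1 = 0 := by
    have : ((Q ^ 2 - Q + 1 : ℕ) : ZMod r) = 0 := (ZMod.natCast_eq_zero_iff _ _).2 hdvd
    rwa [Nat.cast_add, Nat.cast_sub (Nat.le_self_pow two_ne_zero Q), Nat.cast_pow, Nat.cast_one] at this
  have hqr : (Fintype.card F : ZMod r) = Q := by rw [hq, Nat.cast_pow, ZMod.pow_card]
  have hQ0 : (Q : ZMod r) ≠ 0 := fun e0 => by rw [e0] at hQ; simp at hQ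
  have hQ1 : (Q : ZMod r) ≠ 1 := fun e0 => by rw [e0] at hQ; simp at hQ
  have hQn : (Q : ZMod r) ≠ -1 := fun e0 => by
    rw [e0] at hQ
    have : ((3 : ℕ) : ZMod r) = 0 := by push_cast; linear_combination hQ
    exact h3 ((Nat.prime_dvd_prime_iff_eq hr Nat.prime_three).1 ((ZMod.natCast_eq_zero_iff _ _).1 this))
  have hodd : Odd r := hy ▸ c.odd_orderOf y
  have hne : (-(Q : ZMod r)) ≠ 0 := neg_ne_zero.2 hQ0
  have ho : orderOf (Units.mk0 _ hne) = 3 := by
    refine orderOf_eq_prime (Units.ext ?_) fun e0 => hQn ?_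
    · simp only [Units.val_pow_eq_pow_val, Units.val_mk0, Units.val_one]
      linear_combination (-(Q : ZMod r) - 1) * hQ
    · have := congrArg Units.val e0
      simp only [Units.val_mk0, Units.val_one] at this
      linear_combination -this
  have h6 : 3 ∣ r - 1 := by
    have := orderOf_dvd_natCard (Units.mk0 _ hne)
    rwa [ho, Nat.card_units, Nat.card_zmod] at this
  obtain ⟨j, hj⟩ := hodd
  have hr2 := hr.two_le
  have hpos : 1 ≤ Fintype.card F := Fintype.card_pos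
  refine ⟨by omega, by omega, fun e0 => hQ0 ?_, fun e0 => hQ1 ?_, fun e0 => hQn ?_⟩
  · rw [← hqr, (ZMod.natCast_eq_zero_iff _ _).2 e0]
  · have := (ZMod.natCast_eq_zero_iff _ _).2 e0
    rw [Nat.cast_sub hpos, Nat.cast_one, sub_eq_zero, hqr] at this
    exact this
  · have := (ZMod.natCast_eq_zero_iff _ _).2 e0
    rw [Nat.cast_add, Nat.cast_one, hqr] at this
    exact eq_neg_of_add_eq_zero_left this

theorem seven_le_f : 7 ≤ c.f := by
  obtain ⟨r, hr, h⟩ := Nat.exists_prime_and_dvd D.f_pos.ne'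
  exact (D.prime_dvd_f hr h).1.trans (Nat.le_of_dvd (by have := D.f_pos; omega) h)

theorem coprime_f_q : (Fintype.card F ^ 3 * (Fintype.card F - 1)).Coprime c.f := by
  refine Nat.coprime_of_dvd fun r hr h1 h2 => ?_
  obtain ⟨-, -, ha, hb, -⟩ := D.prime_dvd_f hr h2
  exact ((Nat.Prime.dvd_mul hr).1 h1).elim (fun e => ha (hr.dvd_of_dvd_pow e)) hb

/-! ### The subgroup `B` -/

/-- The subgroup `R M`. -/
def B : Subgroup G := D.bd.R ⊔ c.M

theorem M_le_normalizer : c.M ≤ normalizer (D.bd.R : Set G) := by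
  intro g hg
  obtain ⟨e, y, rfl | rfl⟩ := hg
  · exact mul_mem (D.bd.H_le (c.mem_H.2 ⟨e, rfl⟩)) (D.bd.F_le y.2)
  · exact mul_mem D.bd.t_mem (mul_mem (D.bd.H_le (c.mem_H.2 ⟨e, rfl⟩)) (D.bd.F_le y.2))

theorem R_le_B : D.bd.R ≤ D.B := le_sup_left
theorem M_le_B : c.M ≤ D.B := le_sup_right

theorem mem_B {g : G} : g ∈ D.B ↔ ∃ r ∈ D.bd.R, ∃ m ∈ c.M, g = r * m := by
  constructor
  · intro hg
    rw [B, ← SetLike.mem_coe,
      Subgroup.coe_mul_of_right_le_normalizer_left _ _ D.M_le_normalizer] at hg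
    obtain ⟨r, hr, m, hm, rfl⟩ := Set.mem_mul.1 hg
    exact ⟨r, hr, m, hm, rfl⟩
  · rintro ⟨r, hr, m, hm, rfl⟩
    exact mul_mem (D.R_le_B hr) (D.M_le_B hm)

theorem conj_mem_R {m r : G} (hm : m ∈ c.M) (hr : r ∈ D.bd.R) : m * r * m⁻¹ ∈ D.bd.R :=
  (mem_normalizer_iff.1 (D.M_le_normalizer hm) r).1 hr

theorem card_M_coprime : (Fintype.card F ^ 3).Coprime (Nat.card c.M) := by
  rw [c.card_M]
  refine D.coprime_three (fun h => ?_) 3
  rcases (Nat.Prime.dvd_mul Nat.prime_three).1 h with h | h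
  · have h1 : 1 ≤ Fintype.card F := Fintype.card_pos
    have h3 := D.three_dvd_q
    omega
  · exact D.three h

theorem R_inf_M {g : G} (hr : g ∈ D.bd.R) (hm : g ∈ c.M) : g = 1 := by
  have h1 := Subgroup.orderOf_dvd_natCard _ hr
  have h2 := Subgroup.orderOf_dvd_natCard _ hm
  rw [D.bd.card] at h1
  exact orderOf_eq_one_iff.1 (Nat.eq_one_of_dvd_coprimes D.card_M_coprime h1 h2)

theorem rm_unique {r r' m m' : G} (hr : r ∈ D.bd.R) (hr' : r' ∈ D.bd.R) (hm : m ∈ c.M)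
    (hm' : m' ∈ c.M) (h : r * m = r' * m') : r = r' ∧ m = m' := by
  have h1 : r'⁻¹ * r = m' * m⁻¹ := by
    calc r'⁻¹ * r = r'⁻¹ * (r * m) * m⁻¹ := by group
      _ = m' * m⁻¹ := by rw [h]; group
  have h2 := D.R_inf_M (mul_mem (inv_mem hr') hr) (h1 ▸ mul_mem hm' (inv_mem hm))
  obtain rfl : r' = r := inv_mul_eq_one.1 h2
  exact ⟨rfl, mul_left_cancel h⟩

theorem card_B : Nat.card D.B = Fintype.card F ^ 3 * ((Fintype.card F - 1) * c.f) := by
  rw [← D.bd.card, ← c.card_M, ← Nat.card_prod]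
  refine (Nat.card_congr (Equiv.ofBijective
    (fun p : D.bd.R × c.M => (⟨(p.1 : G) * p.2, mul_mem (D.R_le_B p.1.2) (D.M_le_B p.2.2)⟩ : D.B))
    ⟨?_, ?_⟩)).symm
  · rintro ⟨⟨r, hr⟩, ⟨m, hm⟩⟩ ⟨⟨r', hr'⟩, ⟨m', hm'⟩⟩ h
    obtain ⟨rfl, rfl⟩ := D.rm_unique hr hr' hm hm' (congrArg Subtype.val h)
    rfl
  · rintro ⟨g, hg⟩
    obtain ⟨r, hr, m, hm, rfl⟩ := D.mem_B.1 hg
    exact ⟨(⟨r, hr⟩, ⟨m, hm⟩), rfl⟩

theorem three_not_dvd_index : ¬ 3 ∣ D.B.index := fun h =>
  D.bd.not_dvd (h.trans (index_dvd_of_le D.R_le_B))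

/-- The elements of `B` commuting with `t`. -/
theorem mem_B_comm_t {g : G} (hg : g ∈ D.B) (ht : g * c.t = c.t * g) :
    ∃ u ∈ c.U, ∃ m ∈ c.M, g = u * m := by
  obtain ⟨r, hr, m, hm, rfl⟩ := D.mem_B.1 hg
  refine ⟨r, D.bd.inf_cent r hr ?_, m, hm, rfl⟩
  refine mul_right_cancel (b := m) ?_
  rw [mul_assoc r, (c.comm_t_of_mem_M hm).eq, ← mul_assoc r m, ht, mul_assoc]

theorem exists_Mpart (g : D.B) : ∃ m : c.M, (g : G) * (m : G)⁻¹ ∈ D.bd.R := by
  obtain ⟨r, hr, m, hm, e⟩ := D.mem_B.1 g.2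
  exact ⟨⟨m, hm⟩, by rw [e, mul_inv_cancel_right]; exact hr⟩

/-- The projection of `B` on `M`. -/
noncomputable def toM : D.B →* c.M :=
  MonoidHom.mk' (fun g => (D.exists_Mpart g).choose) fun a b => by
    set ma := (D.exists_Mpart a).choose
    set mb := (D.exists_Mpart b).choose
    set mc := (D.exists_Mpart (a * b)).choose
    have ha := (D.exists_Mpart a).choose_spec
    have hb := (D.exists_Mpart b).choose_spec
    have hc := (D.exists_Mpart (a * b)).choose_spec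
    have h : ((a * b : D.B) : G) * ((ma * mb : c.M) : G)⁻¹ ∈ D.bd.R := by
      rw [Subgroup.coe_mul, Subgroup.coe_mul, show (a : G) * b * ((ma : G) * mb)⁻¹ =
        (a : G) * (ma : G)⁻¹ * ((ma : G) * ((b : G) * (mb : G)⁻¹) * (ma : G)⁻¹) by group]
      exact mul_mem ha (D.conj_mem_R ma.2 hb)
    refine Subtype.ext (D.rm_unique hc h mc.2 (ma * mb).2 ?_).2
    rw [inv_mul_cancel_right, inv_mul_cancel_right]

theorem toM_spec (g : D.B) : (g : G) * (D.toM g : G)⁻¹ ∈ D.bd.R := (D.exists_Mpart g).choose_spec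

theorem toM_eq {g : D.B} {r m : G} (hr : r ∈ D.bd.R) (hm : m ∈ c.M) (h : (g : G) = r * m) :
    (D.toM g : G) = m :=
  (D.rm_unique (D.toM_spec g) hr (D.toM g).2 hm (by rw [inv_mul_cancel_right, h])).2

/-- The projection of `B` into `C(t)`. -/
noncomputable def toCt : D.B →* centralizer ({c.t} : Set G) :=
  (Subgroup.inclusion c.M_le_Ct).comp D.toM

/-- The projection of `B` on the field part. -/
noncomputable def ρ : D.B →* fieldPart c.S := c.π.comp D.toCt

/-- The sign of an element of `B`. -/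
noncomputable def sgnB : D.B →* ℂˣ := c.sgn.comp D.toCt

theorem toCt_eq {g : D.B} {r m : G} (hr : r ∈ D.bd.R) (hm : m ∈ c.M) (h : (g : G) = r * m) :
    (D.toCt g : G) = m := D.toM_eq hr hm h

theorem ρ_eq {g : D.B} {r : G} {e : Fˣ} {y : fieldPart c.S} (hr : r ∈ D.bd.R)
    (h : (g : G) = r * (c.d e * y) ∨ (g : G) = r * (c.t * (c.d e * y))) : D.ρ g = y :=
  c.π_de (e := e) (h.imp (D.toCt_eq hr ⟨e, y, Or.inl rfl⟩) (D.toCt_eq hr ⟨e, y, Or.inr rfl⟩))

theorem ρ_y (y : fieldPart c.S) : D.ρ ⟨y, D.M_le_B (c.F_le_M y.2)⟩ = y :=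
  D.ρ_eq (r := 1) (e := 1) (one_mem _) (Or.inl (by rw [one_mul, c.d_one, one_mul]))

theorem ρ_surjective : Function.Surjective D.ρ := fun y => ⟨_, D.ρ_y y⟩

theorem orderOf_dvd_of_ρ {g : D.B} (h : D.ρ g = 1) :
    orderOf (g : G) ∣ Fintype.card F ^ 3 * (Fintype.card F - 1) := by
  have h1 := D.ρ.ker.card_mul_index
  rw [Subgroup.index_ker, MonoidHom.range_eq_top.2 D.ρ_surjective, Subgroup.card_top, D.card_B,
    ← mul_assoc] at h1
  have hk : Nat.card D.ρ.ker = Fintype.card F ^ 3 * (Fintype.card F - 1) :=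
    Nat.eq_of_mul_eq_mul_right (Nat.zero_lt_of_lt D.f_pos) h1
  have h2 := Subgroup.orderOf_dvd_natCard D.ρ.ker (MonoidHom.mem_ker.2 h)
  rwa [hk, ← Subgroup.orderOf_coe g] at h2

/-- Whether the field part vanishes only depends on the order of the element. -/
theorem ρ_eq_one_iff {g : D.B} :
    D.ρ g = 1 ↔ orderOf (g : G) ∣ Fintype.card F ^ 3 * (Fintype.card F - 1) := by
  refine ⟨D.orderOf_dvd_of_ρ, fun h => ?_⟩
  refine orderOf_eq_one_iff.1 (Nat.eq_one_of_dvd_coprimes D.coprime_f_q ?_ (orderOf_dvd_natCard _))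
  exact ((orderOf_map_dvd D.ρ g).trans (Subgroup.orderOf_coe g).symm.dvd).trans h

/-- An element with nontrivial field part has a power of prime order dividing `|F₀|`. -/
theorem exists_pow_prime {g : D.B} (h : D.ρ g ≠ 1) :
    ∃ k r, r.Prime ∧ r ∣ c.f ∧ orderOf ((g : G) ^ k) = r := by
  obtain ⟨r, hr, hd⟩ := Nat.exists_prime_and_dvd (fun e => h (orderOf_eq_one_iff.1 e))
  refine ⟨orderOf (g : G) / r, r, hr, hd.trans (orderOf_dvd_natCard _), ?_⟩
  have : r ∣ orderOf (g : G) := hd.trans (((orderOf_map_dvd D.ρ g)).trans (Subgroup.orderOf_coe g).symm.dvd)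
  exact orderOf_pow_orderOf_div (orderOf_pos _).ne' this

/-- The involutions of `B` are conjugate to `t` under `R`. -/
theorem invol_B {g : G} (hg : g ∈ D.B) (h1 : g ≠ 1) (h2 : g * g = 1) :
    ∃ r ∈ D.bd.R, g = r * c.t * r⁻¹ := by
  obtain ⟨r, hr, m, hm, rfl⟩ := D.mem_B.1 hg
  have hmm : m * m = 1 := by
    have e : (r * (m * r * m⁻¹)) * (m * m) = 1 * 1 := by rw [one_mul, ← h2]; group
    exact (D.rm_unique (mul_mem hr (D.conj_mem_R hm hr)) (one_mem _) (mul_mem hm hm) (one_mem _) e).2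
  have hodd : Odd (orderOf r) := by
    refine Odd.of_dvd_nat (Odd.pow (Nat.odd_iff.2 c.q_odd) (n := 3)) ?_
    rw [← D.bd.card]
    exact Subgroup.orderOf_dvd_natCard _ hr
  obtain ⟨k, hk⟩ := hodd
  rcases c.invol_M hm hmm D.odd_card_H with rfl | rfl
  · exfalso
    refine h1 ?_
    rw [mul_one] at h2 ⊢
    calc r = (r * r) ^ (k + 1) * (r ^ (2 * k + 1))⁻¹ := by rw [← pow_two, ← pow_mul]; group
      _ = 1 := by rw [h2, ← hk, pow_orderOf_eq_one, one_pow, inv_one, mul_one]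
  · have hinv : c.t * r * c.t⁻¹ = r⁻¹ := by
      rw [c.t_inv, eq_inv_iff_mul_eq_one]
      calc c.t * r * c.t * r = c.t * (r * c.t * (r * c.t)) * c.t⁻¹ := by group
        _ = 1 := by rw [h2]; group
    refine ⟨r ^ (k + 1), pow_mem hr _, ?_⟩
    have hts : c.t * (r ^ (k + 1))⁻¹ * c.t⁻¹ = r ^ (k + 1) := by
      rw [← inv_pow, ← conj_pow]
      congr 1
      rw [show c.t * r⁻¹ * c.t⁻¹ = (c.t * r * c.t⁻¹)⁻¹ by group, hinv, inv_inv]
    calc r * c.t = (r ^ (k + 1) * r ^ (k + 1)) * c.t := by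
          rw [← pow_add, show k + 1 + (k + 1) = (2 * k + 1) + 1 by ring, pow_succ, ← hk,
            pow_orderOf_eq_one, one_mul]
      _ = r ^ (k + 1) * (c.t * (r ^ (k + 1))⁻¹ * c.t⁻¹) * c.t := by rw [hts]
      _ = r ^ (k + 1) * c.t * (r ^ (k + 1))⁻¹ := by group

/-- The elements of prime order dividing `|F₀|` are conjugate into the field part. -/
theorem exists_conj_F {g : G} (hg : g ∈ D.B) {r : ℕ} (hr : r.Prime) (hd : r ∣ c.f)
    (ho : orderOf g = r) :
    ∃ b ∈ D.B, ∃ y : fieldPart c.S, orderOf y = r ∧ b * g * b⁻¹ = y := by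
  haveI := Fact.mk hr
  have hFB : fieldPart c.S ≤ D.B := c.F_le_M.trans D.M_le_B
  obtain ⟨P⟩ : Nonempty (Sylow r (fieldPart c.S)) := inferInstance
  let P' : Subgroup D.B := (P : Subgroup (fieldPart c.S)).map (Subgroup.inclusion hFB)
  have hP' : Nat.card P' = r ^ (Nat.card D.B).factorization r := by
    rw [Subgroup.card_map_of_injective (Subgroup.inclusion_injective hFB), P.card_eq_multiplicity,
      D.card_B, ← mul_assoc, Nat.factorization_mul, Finsupp.add_apply]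
    · have : ¬ r ∣ Fintype.card F ^ 3 * (Fintype.card F - 1) := fun h =>
        hr.ne_one (Nat.eq_one_of_dvd_coprimes D.coprime_f_q h hd)
      rw [Nat.factorization_eq_zero_of_not_dvd this, zero_add]
      rfl
    · have := Fintype.one_lt_card (α := F)
      exact mul_ne_zero (pow_ne_zero _ (by omega)) (by omega)
    · exact (Nat.zero_lt_of_lt D.f_pos).ne'
  let Q : Sylow r D.B := Sylow.ofCard P' hP'
  have hgp : IsPGroup r (zpowers (⟨g, hg⟩ : D.B)) := by
    refine IsPGroup.of_card (n := 1) ?_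
    rw [Nat.card_zpowers, pow_one, ← Subgroup.orderOf_coe, ho]
  obtain ⟨T, hT⟩ := hgp.exists_le_sylow
  obtain ⟨b, hb⟩ := MulAction.exists_smul_eq D.B T Q
  have hmem : b * ⟨g, hg⟩ * b⁻¹ ∈ (Q : Subgroup D.B) := by
    rw [← hb, Sylow.coe_subgroup_smul]
    exact ⟨_, hT (mem_zpowers _), rfl⟩
  obtain ⟨z, -, hz⟩ := hmem
  have e : (z : G) = b * g * (b : G)⁻¹ := by
    have := congrArg Subtype.val hz
    simpa using this
  refine ⟨b, b.2, z, ?_, e.symm⟩
  rw [← Subgroup.orderOf_coe, e, ← MulAut.conj_apply, MulEquiv.orderOf_eq, ho]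

/-- `i` moves `R` off `B`. -/
theorem conj_i_R {r : G} (hr : r ∈ D.bd.R) (h : c.i * r * c.i⁻¹ ∈ D.B) : r = 1 := by
  refine D.bd.disjoint r hr ?_
  obtain ⟨r', hr', m, hm, e⟩ := D.mem_B.1 h
  set g : D.B := ⟨c.i * r * c.i⁻¹, h⟩
  have hm1 : (D.toM g : G) = m := D.toM_eq hr' hm e
  have h1 : orderOf (D.toM g) ∣ Fintype.card F ^ 3 := by
    refine (orderOf_map_dvd D.toM g).trans ?_
    rw [← Subgroup.orderOf_coe, show (g : G) = c.i * r * c.i⁻¹ from rfl, ← MulAut.conj_apply,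
      MulEquiv.orderOf_eq, ← D.bd.card]
    exact Subgroup.orderOf_dvd_natCard _ hr
  have h2 : D.toM g = 1 :=
    orderOf_eq_one_iff.1 (Nat.eq_one_of_dvd_coprimes D.card_M_coprime h1 (orderOf_dvd_natCard _))
  rw [← hm1, h2, Subgroup.coe_one, mul_one] at e
  rw [e]
  exact hr'

theorem i_notMem : c.i ∉ D.B := by
  intro h
  have hu : c.u 1 ∈ D.bd.R := D.bd.U_le (c.mem_U.2 ⟨1, rfl⟩)
  have h1 := D.conj_i_R hu (mul_mem (mul_mem h (D.R_le_B hu)) (inv_mem h))
  exact one_ne_zero (c.u_injective (h1.trans c.u_zero.symm))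

/-- The map `r ↦ r i B` is injective on `R`. -/
theorem ri_unique {r r' : G} (hr : r ∈ D.bd.R) (hr' : r' ∈ D.bd.R)
    (h : (r * c.i)⁻¹ * (r' * c.i) ∈ D.B) : r = r' := by
  have h2 : c.i * (r⁻¹ * r') * c.i⁻¹ ∈ D.B := by
    convert h using 1
    rw [_root_.mul_inv_rev, c.i_inv]
    group
  exact inv_mul_eq_one.1 (D.conj_i_R (mul_mem (inv_mem hr) hr') h2)

end Full

end Cfsg.Lib.Walter3.Field
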