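import Cfsg.Agent.Lib.Walter3.Field.Coords
import Mathlib.FieldTheory.Fixed
import Mathlib.FieldTheory.Finiteness

/-!
# Centralizers inside `C(t)` and the fixed field of an element of the field part
-/

set_option autoImplicit false
set_option linter.unusedSectionVars false
set_option linter.style.haveILetI false

namespace Cfsg.Lib.Walter3.Field

open Subgroup Cfsg Matrix
open Cfsg.Lib.Linear.AutPSL (fld fld_mk frobHom_coe)
open Cfsg.Lib.TwoDim (splitSL splitSL_coe)
open Cfsg.Lib.Dickson.KleinClasses (mk_eq_iff)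
open scoped MatrixGroups

universe u

local notation "PSL2[" K "]" => Matrix.ProjectiveSpecialLinearGroup (Fin 2) K

section Mat

variable {F : Type} [Field F] [Fintype F]

/-- An element conjugating one element of the split torus to another one. -/
theorem conj_splitSL {a b : Fˣ} (h1 : (a : F) ^ 2 ≠ 1) (h2 : (a : F) ^ 2 ≠ -1) {x : PSL2[F]}
    (h : x * pr (splitSL F b) * x⁻¹ = pr (splitSL F a)) :
    ((∃ e : Fˣ, x = pr (splitSL F e)) ∧ (b : F) ^ 2 = (a : F) ^ 2) ∨ (b : F) ^ 2 * (a : F) ^ 2 = 1 := by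
  obtain ⟨A, rfl⟩ := QuotientGroup.mk_surjective x
  rw [mul_inv_eq_iff_eq_mul] at h
  have hb : (b : F) ≠ 0 := b.ne_zero
  have ha : (a : F) ≠ 0 := a.ne_zero
  have hh := entries_mul_of_eq (A := A) (B := splitSL F b) (C := splitSL F a) (D := A) h
  rw [splitSL_coe, splitSL_coe] at hh
  by_cases h01 : A 0 1 = 0
  · have hA := A.2
    rw [Matrix.det_fin_two, h01, zero_mul, sub_zero] at hA
    have h00 : A 0 0 ≠ 0 := fun e => by rw [e, zero_mul] at hA; exact zero_ne_one hA
    have e00 := hh 0 0
    simp [Matrix.mul_apply, Fin.sum_univ_two, h01] at e00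
    have hab : (b : F) ^ 2 = (a : F) ^ 2 := by
      rcases e00 with e | e
      · rw [mul_comm (A 0 0)] at e
        rw [mul_right_cancel₀ h00 e]
      · have hba : (b : F) = -(a : F) := mul_left_cancel₀ h00 (by linear_combination e)
        rw [hba, neg_sq]
    refine Or.inl ⟨⟨Units.mk0 _ h00, ?_⟩, hab⟩
    have e10 := hh 1 0
    simp [Matrix.mul_apply, Fin.sum_univ_two] at e10
    have h10 : A 1 0 = 0 := by
      by_contra hne
      rcases e10 with e | e <;> field_simp at e
      · have hba : (b : F) * a = 1 := by linear_combination -e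
        have h4 : ((a : F) ^ 2 - 1) * ((a : F) ^ 2 + 1) = 0 := by
          linear_combination -((a : F) ^ 2) * hab + (b * a + 1) * hba
        exact h1 (sub_eq_zero.1 ((mul_eq_zero.1 h4).resolve_right fun e' => h2 (eq_neg_of_add_eq_zero_left e')))
      · have hba : (b : F) * a = -1 := by linear_combination e
        have h4 : ((a : F) ^ 2 - 1) * ((a : F) ^ 2 + 1) = 0 := by
          linear_combination -((a : F) ^ 2) * hab + (b * a - 1) * hba
        exact h1 (sub_eq_zero.1 ((mul_eq_zero.1 h4).resolve_right fun e' => h2 (eq_neg_of_add_eq_zero_left e')))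
    refine congrArg _ (Subtype.ext ?_)
    rw [splitSL_coe]
    ext i j; fin_cases i <;> fin_cases j <;> simp [h01, h10, Units.val_inv_eq_inv_val]
    field_simp
    linear_combination hA
  · right
    have e01 := hh 0 1
    simp [Matrix.mul_apply, Fin.sum_univ_two] at e01
    rcases e01 with e | e <;> field_simp at e
    · have hba : (b : F) * a = 1 := by linear_combination e
      linear_combination (b * a + 1) * hba
    · have hba : (b : F) * a = -1 := by linear_combination e
      linear_combination (b * a - 1) * hba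

/-- An element moving a nontrivial unipotent element into the unipotent subgroup is triangular. -/
theorem conj_uSL (h2 : (2 : F) ≠ 0) {a b : F} (hb : b ≠ 0) {x : PSL2[F]}
    (h : x * pr (uSL (Multiplicative.ofAdd b)) * x⁻¹ = pr (uSL (Multiplicative.ofAdd a))) :
    ∃ (e : Fˣ) (s : F), x = pr (uSL (Multiplicative.ofAdd s)) * pr (splitSL F e) ∧ (e : F) ^ 2 * b = a := by
  obtain ⟨A, rfl⟩ := QuotientGroup.mk_surjective x
  rw [mul_inv_eq_iff_eq_mul] at h
  have hh := entries_mul_of_eq (A := A) (B := uSL (Multiplicative.ofAdd b))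
    (C := uSL (Multiplicative.ofAdd a)) (D := A) h
  rw [uSL_coe, uSL_coe, toAdd_ofAdd, toAdd_ofAdd] at hh
  have hA := A.2
  rw [Matrix.det_fin_two] at hA
  have h10 : A 1 0 = 0 := by
    rcases mk_eq_iff.1 h with m | m <;> have m' := congrFun (congrFun m 1) 0 <;>
      have m'' := congrFun (congrFun m 1) 1 <;>
      simp [uSL_coe, Matrix.mul_apply, Fin.sum_univ_two] at m' m''
    · exact m''.resolve_right hb
    · exact (mul_eq_zero.1 (show (2 : F) * A 1 0 = 0 by linear_combination m')).resolve_left h2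
  rw [h10, mul_zero, sub_zero] at hA
  have h00 : A 0 0 ≠ 0 := fun e => by rw [e, zero_mul] at hA; exact zero_ne_one hA
  have h11 : A 1 1 ≠ 0 := fun e => by rw [e, mul_zero] at hA; exact zero_ne_one hA
  refine ⟨Units.mk0 _ h00, A 0 1 * A 0 0, congrArg _ (Subtype.ext ?_), ?_⟩
  · show (A : Matrix (Fin 2) (Fin 2) F) = !![(1 : F), A 0 1 * A 0 0; 0, 1] *
      !![A 0 0, 0; 0, ((Units.mk0 _ h00)⁻¹ : Fˣ)]
    ext i j; fin_cases i <;> fin_cases j <;> simp [h10, Units.val_inv_eq_inv_val]
    · field_simp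
    · field_simp
      linear_combination hA
  · rcases mk_eq_iff.1 h with m | m <;> have m' := congrFun (congrFun m 0) 1 <;>
      have m'' := congrFun (congrFun m 1) 1 <;>
      simp [uSL_coe, Matrix.mul_apply, Fin.sum_univ_two, h10] at m' m''
    · simp only [Units.val_mk0]
      linear_combination (-(A 0 0)) * m' + a * hA
    · exact absurd ((mul_eq_zero.1 (show (2 : F) * A 1 1 = 0 by linear_combination m'')).resolve_left h2) h11

end Mat

namespace Cfg

variable {G : Type u} [Group G] [Finite G] {F : Type} [Field F] [Fintype F] (c : Cfg G F)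
include c

/-- The centralizer in `C(t)` of an element of the split torus of odd order. -/
theorem cent_t_d {a : Fˣ} (hodd : Odd (orderOf (c.d a))) (h1 : (a : F) ^ 2 ≠ 1) {g : G}
    (hgt : g * c.t = c.t * g) (hga : g * c.d a = c.d a * g) :
    ∃ (e : Fˣ) (y : fieldPart c.S),
      (g = c.d e * y ∨ g = c.t * (c.d e * y)) ∧ (c.σ y (a : F)) ^ 2 = (a : F) ^ 2 := by
  have h2 : (a : F) ^ 2 ≠ -1 := by
    intro e
    have h4 : c.d a ^ 2 = 1 := by
      rw [pow_two, ← d_mul, d_eq_one]
      exact Or.inr (Units.ext (by rw [Units.val_mul, ← pow_two, e]; simp))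
    have h5 : orderOf (c.d a) = 1 :=
      Nat.dvd_one.1 ((Nat.coprime_two_right.2 hodd).gcd_eq_one ▸
        Nat.dvd_gcd dvd_rfl (orderOf_dvd_of_pow_eq_one h4))
    rcases c.d_eq_one.1 (orderOf_eq_one_iff.1 h5) with r | r <;> exact h1 (by rw [r]; simp)
  obtain ⟨y, l, hl⟩ := c.exists_decomp ⟨g, mem_centralizer_singleton_iff.2 hgt⟩
  change g = _ ∨ g = _ at hl
  have hc : Commute (c.φ l * (y : G)) (c.d a) := by
    rcases hl with h | h
    · exact h ▸ hga
    · have ht : Commute c.t (c.d a) := (c.d_comm_t a).symm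
      have := ht.inv_left.mul_left (h ▸ hga : Commute (c.t * (c.φ l * y)) (c.d a))
      rwa [inv_mul_cancel_left] at this
  have key : l * pr (splitSL F (Units.map (c.σ y : F →* F) a)) * l⁻¹ = pr (splitSL F a) := by
    refine c.φ_inj ?_
    rw [map_mul, map_mul, map_inv]
    show c.φ l * c.d _ * (c.φ l)⁻¹ = c.d a
    rw [← c.y_d]
    calc c.φ l * ((y : G) * c.d a * (y : G)⁻¹) * (c.φ l)⁻¹
        = (c.φ l * y) * c.d a * (c.φ l * y)⁻¹ := by group
      _ = c.d a := by rw [hc.eq]; group
  rcases conj_splitSL h1 h2 key with ⟨⟨e, rfl⟩, hsq⟩ | hsq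
  · exact ⟨e, y, hl, by simpa using hsq⟩
  · exfalso
    simp only [Units.coe_map, MonoidHom.coe_coe] at hsq
    have ha : (a : F) ^ 2 ≠ 0 := pow_ne_zero _ a.ne_zero
    have hs : c.σ y ((a : F) ^ 2) = ((a : F) ^ 2)⁻¹ := by
      rw [map_pow]
      exact eq_inv_of_mul_eq_one_left hsq
    have hit : ∀ k : ℕ, (c.σ y ^ (2 * k + 1)) ((a : F) ^ 2) = ((a : F) ^ 2)⁻¹ := by
      intro k
      induction k with
      | zero => simpa using hs
      | succ k ih =>
        rw [show 2 * (k + 1) + 1 = (2 * k + 1) + 1 + 1 by ring, pow_succ', pow_succ', RingAut.mul_apply,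
          RingAut.mul_apply, ih, map_inv₀, hs, inv_inv, hs]
    obtain ⟨k, hk⟩ := c.odd_orderOf y
    have h6 := hit k
    rw [← map_pow c.σ, ← hk, pow_orderOf_eq_one, map_one, RingAut.one_apply] at h6
    have h7 : ((a : F) ^ 2 - 1) * ((a : F) ^ 2 + 1) = 0 := by
      field_simp at h6
      linear_combination h6
    rcases mul_eq_zero.1 h7 with e | e
    · exact h1 (sub_eq_zero.1 e)
    · exact h2 (eq_neg_of_add_eq_zero_left e)

/-- An element of `C(t)` moving a nontrivial element of `U` into `U`. -/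
theorem cent_t_u {a b : F} (hb : b ≠ 0) {g : G} (hgt : g * c.t = c.t * g)
    (h : g * c.u b * g⁻¹ = c.u a) :
    ∃ (s : F) (e : Fˣ) (y : fieldPart c.S),
      (g = c.u s * c.d e * y ∨ g = c.t * (c.u s * c.d e * y)) ∧ (e : F) ^ 2 * c.σ y b = a := by
  obtain ⟨y, l, hl⟩ := c.exists_decomp ⟨g, mem_centralizer_singleton_iff.2 hgt⟩
  change g = _ ∨ g = _ at hl
  have hg : (c.φ l * (y : G)) * c.u b * (c.φ l * (y : G))⁻¹ = c.u a := by
    rcases hl with e | e
    · rwa [← e]
    · have ht : Commute c.t (c.u a) := (c.u_comm_t a).symm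
      rw [show c.φ l * (y : G) = c.t⁻¹ * g by rw [e, inv_mul_cancel_left]]
      calc c.t⁻¹ * g * c.u b * (c.t⁻¹ * g)⁻¹ = c.t⁻¹ * (g * c.u b * g⁻¹) * c.t := by group
        _ = c.u a := by rw [h, mul_assoc, ← ht.eq, inv_mul_cancel_left]
  have key : l * pr (uSL (Multiplicative.ofAdd (c.σ y b))) * l⁻¹ = pr (uSL (Multiplicative.ofAdd a)) := by
    refine c.φ_inj ?_
    rw [map_mul, map_mul, map_inv]
    show c.φ l * c.u _ * (c.φ l)⁻¹ = c.u a
    rw [← c.y_u, ← hg]
    group
  obtain ⟨e, s, rfl, he⟩ := conj_uSL c.two_ne (by simpa using hb) key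
  exact ⟨s, e, y, by rw [map_mul] at hl; exact hl, he⟩

/-- `C(U) ∩ C(t) = ⟨t⟩ × U`. -/
theorem cent_t_U {g : G} (hgt : g * c.t = c.t * g) (hU : ∀ u ∈ c.U, g * u = u * g) :
    ∃ s, g = c.u s ∨ g = c.t * c.u s := by
  have h : ∀ b, g * c.u b * g⁻¹ = c.u b := fun b => by rw [hU _ (c.mem_U.2 ⟨b, rfl⟩)]; group
  obtain ⟨s, e, y, hg, he⟩ := c.cent_t_u one_ne_zero hgt (h 1)
  rw [map_one, mul_one] at he
  have he' : e = 1 ∨ e = -1 := by
    rcases sq_eq_one_iff.1 he with r | r
    · exact Or.inl (Units.ext (by simpa using r))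
    · exact Or.inr (Units.ext (by simpa using r))
  rw [c.d_eq_one.2 he', mul_one] at hg
  have hy : c.σ y = 1 := RingEquiv.ext fun b => c.u_injective (by
    rw [← c.y_u, RingAut.one_apply]
    have hs : Commute (c.u s) (c.u b) := by
      show c.u s * c.u b = c.u b * c.u s
      rw [← u_add, ← u_add, add_comm]
    have hcomm : Commute g (c.u b) := hU _ (c.mem_U.2 ⟨b, rfl⟩)
    have ht : Commute c.t (c.u b) := (c.u_comm_t b).symm
    have hy : Commute (y : G) (c.u b) := by
      rcases hg with r | r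
      · have := hs.inv_left.mul_left (r ▸ hcomm)
        rwa [inv_mul_cancel_left] at this
      · have := hs.inv_left.mul_left (ht.inv_left.mul_left (r ▸ hcomm))
        rwa [inv_mul_cancel_left, inv_mul_cancel_left] at this
    rw [hy.eq, mul_inv_cancel_right])
  obtain rfl : y = 1 := c.σ_inj (hy.trans (map_one c.σ).symm)
  simp only [Subgroup.coe_one, mul_one] at hg
  exact ⟨s, hg⟩

/-- The fixed field of an element of the field part. -/
def fixField (y : fieldPart c.S) : Subfield F := (c.σ y).toRingHom.eqLocusField (RingHom.id F)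

theorem mem_fixField {y : fieldPart c.S} {a : F} : a ∈ c.fixField y ↔ c.σ y a = a := Iff.rfl

theorem card_fixField (y : fieldPart c.S) : Nat.card (c.fixField y) = c.fixCard y := rfl

/-- The field has order the power of the fixed field. -/
theorem card_eq_fixCard_pow (y : fieldPart c.S) : Fintype.card F = c.fixCard y ^ orderOf y := by
  classical
  let Z := Subgroup.zpowers (c.σ y)
  haveI : Finite (F ≃+* F) := Finite.of_injective (fun e : F ≃+* F => (e : F → F)) DFunLike.coe_injective
  haveI : FaithfulSMul Z F := ⟨fun {a b} h => Subtype.ext (RingEquiv.ext h)⟩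
  haveI : Fintype Z := Fintype.ofFinite _
  have hr : Module.finrank (FixedPoints.subfield Z F) F = orderOf y := by
    rw [FixedPoints.finrank_eq_card Z F, ← Nat.card_eq_fintype_card, Nat.card_zpowers,
      orderOf_injective c.σ c.σ_inj]
  have hc : Nat.card (FixedPoints.subfield Z F) = c.fixCard y := by
    refine Nat.card_congr (Equiv.subtypeEquivRight fun a => ⟨fun h => h ⟨c.σ y, mem_zpowers _⟩, ?_⟩)
    intro h g
    have : c.σ y ∈ MulAction.stabilizer (F ≃+* F) a := h
    exact zpowers_le.2 this g.2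
  rw [← Nat.card_eq_fintype_card, Module.natCard_eq_pow_finrank (K := FixedPoints.subfield Z F), hr, hc]

/-- `C_L(y)` is the subgroup over the fixed field. -/
theorem exists_fixedL (y : fieldPart c.S) :
    ∃ ψ : PSL2[c.fixField y] →* G, Function.Injective ψ ∧
      ψ.range = c.L ⊓ centralizer ({(y : G)} : Set G) := by
  set K := c.fixField y
  let m : SL(2, K) →* SL(2, F) := Matrix.SpecialLinearGroup.map K.subtype
  have hm : ∀ A : SL(2, K), (pr (m A) = 1 ↔ A ∈ center SL(2, K)) := by
    intro A
    rw [QuotientGroup.eq_one_iff, Matrix.SpecialLinearGroup.mem_center_iff, Matrix.SpecialLinearGroup.mem_center_iff]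
    constructor
    · rintro ⟨r, hr, he⟩
      have hrK : r ∈ K := by
        have h00 := congrFun (congrFun he 0) 0
        simp [m, Matrix.scalar_apply] at h00
        rw [h00]; exact (A 0 0).2
      refine ⟨⟨r, hrK⟩, Subtype.ext (by simpa using hr), ?_⟩
      ext i j
      have := congrFun (congrFun he i) j
      fin_cases i <;> fin_cases j <;> simpa [m, Matrix.scalar_apply] using this
    · rintro ⟨r, hr, he⟩
      refine ⟨(r : F), by rw [← SubmonoidClass.coe_pow, hr]; rfl, ?_⟩
      ext i j
      have := congrArg (fun x : K => (x : F)) (congrFun (congrFun he i) j)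
      fin_cases i <;> fin_cases j <;> simpa [m, Matrix.scalar_apply] using this
  let ψ₀ : SL(2, K) →* G := c.φ.comp ((QuotientGroup.mk' _).comp m)
  have hker : ψ₀.ker = center SL(2, K) := Subgroup.ext fun A => by
    rw [MonoidHom.mem_ker, ← hm A]
    exact ⟨fun h => c.φ_inj (h.trans (map_one c.φ).symm), fun h => (congrArg c.φ h).trans (map_one c.φ)⟩
  refine ⟨QuotientGroup.lift (center SL(2, K)) ψ₀ hker.ge, ?_, ?_⟩
  · rw [injective_iff_map_eq_one]
    intro x hx
    obtain ⟨A, rfl⟩ := QuotientGroup.mk_surjective x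
    exact (QuotientGroup.eq_one_iff A).2 (hker ▸ hx)
  ext g
  constructor
  · rintro ⟨x, rfl⟩
    obtain ⟨A, rfl⟩ := QuotientGroup.mk_surjective x
    refine ⟨⟨_, rfl⟩, mem_centralizer_singleton_iff.2 ?_⟩
    show c.φ (pr (m A)) * (y : G) = (y : G) * c.φ (pr (m A))
    have hfix : fld (c.σ y) (pr (m A)) = pr (m A) := by
      rw [pr, fld_mk]
      refine congrArg _ (Subtype.ext ?_)
      rw [frobHom_coe]
      exact Matrix.ext fun i j => (A i j).2
    have := c.conj y (pr (m A))
    rw [hfix, mul_inv_eq_iff_eq_mul] at this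
    exact this.symm
  · rintro ⟨⟨x, rfl⟩, hx⟩
    obtain ⟨A, rfl⟩ := QuotientGroup.mk_surjective x
    have hfix : fld (c.σ y) (pr A) = pr A := c.φ_inj (by
      rw [← c.conj, mul_inv_eq_iff_eq_mul]
      exact (mem_centralizer_singleton_iff.1 hx).symm)
    rw [pr, fld_mk] at hfix
    have hA : ∀ i j, A i j ∈ K := by
      rcases mk_eq_iff.1 hfix with e | e <;> rw [frobHom_coe] at e
      · exact fun i j => (congrFun (congrFun e i) j).symm
      · intro i j
        have hneg : c.σ y (A i j) = -A i j := by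
          have := congrFun (congrFun e i) j
          simp only [Matrix.neg_apply, Matrix.map_apply] at this
          linear_combination this
        have hit : ∀ k : ℕ, (c.σ y ^ (2 * k + 1)) (A i j) = -A i j := by
          intro k
          induction k with
          | zero => simpa using hneg
          | succ k ih =>
            rw [show 2 * (k + 1) + 1 = (2 * k + 1) + 1 + 1 by ring, pow_succ', pow_succ',
              RingAut.mul_apply, RingAut.mul_apply, ih, map_neg, hneg, neg_neg, hneg]
        obtain ⟨k, hk⟩ := c.odd_orderOf y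
        have h6 := hit k
        rw [← map_pow c.σ, ← hk, pow_orderOf_eq_one, map_one, RingAut.one_apply] at h6
        have h0 : A i j = 0 := (mul_eq_zero.1 (show (2 : F) * A i j = 0 by
          linear_combination h6)).resolve_left c.two_ne
        rw [h0]
        exact K.zero_mem
    let B : SL(2, K) := ⟨Matrix.of fun i j => ⟨A i j, hA i j⟩, Subtype.ext (by
      have := A.2
      rw [Matrix.det_fin_two] at this ⊢
      simpa using this)⟩
    exact ⟨QuotientGroup.mk B, congrArg (fun Z : SL(2, F) => c.φ (QuotientGroup.mk Z))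
      (Subtype.ext (Matrix.ext fun i j => rfl) : m B = A)⟩

/-- The coordinates moved by an element of the normalizer of `S`. -/
noncomputable def conjBy (n : G) (hn : n ∈ normalizer ((c.S : Subgroup G) : Set G)) : Cfg G F where
  S := c.S
  hyp := c.hyp
  below := c.below
  t := n * c.t * n⁻¹
  pt := c.hyp.conj_pt hn c.pt
  sign := c.sign
  five_le := c.five_le
  φ := (MulAut.conj n).toMonoidHom.comp c.φ
  φ_inj := (MulAut.conj n).injective.comp c.φ_inj
  φ_comm l := by
    show n * c.φ l * n⁻¹ * (n * c.t * n⁻¹) = n * c.t * n⁻¹ * (n * c.φ l * n⁻¹)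
    rw [conj_mul, conj_mul, c.φ_comm]
  φ_ne l h := c.φ_ne l ((MulAut.conj n).injective h)
  σ := c.σ
  σ_inj := c.σ_inj
  conj y l := by
    show (y : G) * (n * c.φ l * n⁻¹) * (y : G)⁻¹ = n * c.φ (fld (c.σ y) l) * n⁻¹
    have hny : Commute n (y : G) := (mem_centralizer_iff.1 (c.normalizer_centralizes hn) _ y.2).symm
    rw [← c.conj, show (y : G) * (n * c.φ l * n⁻¹) * (y : G)⁻¹ = ((y : G) * n) * c.φ l * ((y : G) * n)⁻¹ by
      group, ← hny.eq]
    group
  decomp g hg := by
    have h' : n⁻¹ * g * n * c.t = c.t * (n⁻¹ * g * n) := by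
      calc n⁻¹ * g * n * c.t = n⁻¹ * (g * (n * c.t * n⁻¹)) * n := by group
        _ = c.t * (n⁻¹ * g * n) := by rw [hg]; group
    obtain ⟨l, y, hl⟩ := c.decomp _ h'
    have hny : Commute n (y : G) := (mem_centralizer_iff.1 (c.normalizer_centralizes hn) _ y.2).symm
    refine ⟨l, y, hl.imp (fun e => ?_) (fun e => ?_)⟩
    · show g = n * c.φ l * n⁻¹ * y
      rw [mul_assoc (n * c.φ l), hny.inv_left.eq, ← mul_assoc, mul_assoc n, ← e]
      group
    · show g = n * c.t * n⁻¹ * (n * c.φ l * n⁻¹) * y
      rw [conj_mul, mul_assoc (n * (c.t * c.φ l)), hny.inv_left.eq, ← mul_assoc, mul_assoc n, ← e]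
      group
  j_mem := (mem_normalizer_iff.1 hn _).1 c.j_mem
  m_mem := by
    obtain ⟨a, b, h, hfix, hm⟩ := c.m_mem
    exact ⟨a, b, h, hfix, (mem_normalizer_iff.1 hn _).1 hm⟩
  cyclic := c.cyclic
  normalizer_centralizes := c.normalizer_centralizes
  dvd := by
    have hmap : centralizer ({n * c.t * n⁻¹} : Set G) =
        (centralizer ({c.t} : Set G)).map (MulAut.conj n).toMonoidHom := by
      rw [show ((centralizer ({c.t} : Set G)).map (MulAut.conj n).toMonoidHom) = cj n (Cg c.t) from rfl,
        cj_Cg]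
    rw [hmap, index_map_of_bijective (MulAut.conj n).bijective]
    exact c.dvd

theorem exists_at {a : G} (ha : Pt c.S a) :
    ∃ (n : G) (hn : n ∈ normalizer ((c.S : Subgroup G) : Set G)), (c.conjBy n hn).t = a := by
  obtain ⟨n, hn, e⟩ := c.hyp.trans c.pt ha
  exact ⟨n, hn, e⟩

end Cfg

end Cfsg.Lib.Walter3.Field
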