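import Cfsg.Agent.Lib.Walter3.Field.TorusTools
import Cfsg.Agent.Lib.Walter3.Field.Local
import Mathlib.FieldTheory.Finite.Basic

/-!
# The elements of prime order in the coordinates

The arithmetic of the generic case, the elements of odd prime power order of `C(t)`, and the primes
`l` without inverted elements.
-/

set_option autoImplicit false
set_option linter.unusedSectionVars false
set_option linter.style.haveILetI false

namespace Cfsg.Lib.Walter3.Field

open Subgroup Cfsg Cfsg.Lib Matrix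
open Cfsg.Lib.TwoDim (splitSL)
open scoped MatrixGroups

universe u

local notation "PSL2[" K "]" => Matrix.ProjectiveSpecialLinearGroup (Fin 2) K

namespace Cfg

variable {G : Type u} [Group G] [Finite G] {F : Type} [Field F] [Fintype F] (c : Cfg G F)
include c

/-- The field has order an odd power of three. -/
theorem exists_three_pow (hg : c.Gen) (y : fieldPart c.S) (hy : (orderOf y).Prime) :
    Fintype.card F % 8 = 3 ∧ ∃ n, n ≠ 0 ∧ Fintype.card F = 3 ^ n ∧
      (Fintype.card F % 5 = 2 ∨ Fintype.card F % 5 = 3) := by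
  obtain ⟨hq, ⟨m, -, hm⟩, -, -⟩ := hg y hy
  have hn : Odd ((2 * m + 1) * orderOf y) := (odd_two_mul_add_one m).mul (c.odd_orderOf y)
  rw [hm, ← pow_mul] at hq
  obtain ⟨j, hj⟩ := hn
  refine ⟨?_, (2 * m + 1) * orderOf y, by omega, hq, ?_⟩
  · rw [hq, hj, pow_succ, pow_mul, Nat.mul_mod, Nat.pow_mod]
    norm_num
  · rw [hq, hj, pow_succ, pow_mul, Nat.mul_mod, Nat.pow_mod]
    rcases Nat.even_or_odd j with ⟨i, rfl⟩ | ⟨i, rfl⟩
    · right
      rw [← two_mul, pow_mul, Nat.pow_mod]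
      norm_num
    · left
      rw [pow_succ, pow_mul, Nat.mul_mod, Nat.pow_mod]
      norm_num [Nat.mul_mod, Nat.pow_mod]

theorem charP_three {n : ℕ} (hn : n ≠ 0) (h : Fintype.card F = 3 ^ n) : CharP F 3 := by
  obtain ⟨p, hp⟩ := CharP.exists F
  haveI := hp
  obtain ⟨k, hpp, hk⟩ := FiniteField.card F p
  have h3 : 3 ∣ p ^ (k : ℕ) := hk ▸ h ▸ dvd_pow_self 3 hn
  rwa [(Nat.prime_dvd_prime_iff_eq Nat.prime_three hpp).1 (Nat.prime_three.dvd_of_dvd_pow h3)]

theorem three_not_dvd {n : ℕ} (hn : n ≠ 0) (h : Fintype.card F = 3 ^ n) :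
    ¬ 3 ∣ Fintype.card F - 1 ∧ ¬ 3 ∣ Fintype.card F + 1 := by
  have h3 : 3 ∣ Fintype.card F := h ▸ dvd_pow_self 3 hn
  have := c.five_le
  omega

/-- A prime divisor of the number of field automorphisms is prime to `q ± 1`. -/
theorem not_dvd_of_dvd_f (hg : c.Gen) {l : ℕ} (hl : l.Prime) (hd : l ∣ c.f) :
    ¬ l ∣ Fintype.card F - 1 ∧ ¬ l ∣ Fintype.card F + 1 := by
  haveI := Fact.mk hl
  obtain ⟨z, hz⟩ := exists_prime_orderOf_dvd_card' (G := fieldPart c.S) l hd
  obtain ⟨n, hn, hq, -⟩ := (c.exists_three_pow hg z (hz ▸ hl)).2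
  by_cases hl3 : l = 3
  · subst hl3
    exact c.three_not_dvd hn hq
  obtain ⟨hpow, -, hor, -⟩ := hg z (hz ▸ hl)
  rw [hz] at hpow hor
  have h3 : (3 : ZMod l) ≠ 0 := by
    intro h
    refine hl3 ((Nat.prime_dvd_prime_iff_eq hl Nat.prime_three).1 ((ZMod.natCast_eq_zero_iff 3 l).1 ?_))
    exact_mod_cast h
  have heq : ((Fintype.card F : ℕ) : ZMod l) = (c.fixCard z : ZMod l) := by
    rw [hpow, Nat.cast_pow, ZMod.pow_card]
  have hle : c.fixCard z ≤ c.fixCard z ^ 2 := Nat.le_self_pow two_ne_zero _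
  have hdvd : ((c.fixCard z : ZMod l)) ^ 2 - (c.fixCard z : ZMod l) + 1 = 0 := by
    have h := (ZMod.natCast_eq_zero_iff _ l).2 (hor.resolve_left hl3)
    push_cast [Nat.cast_sub hle] at h
    exact h
  constructor <;> intro h
  · have h1 := (ZMod.natCast_eq_zero_iff _ l).2 h
    rw [Nat.cast_sub (by have := c.five_le; omega), Nat.cast_one, sub_eq_zero, heq] at h1
    rw [h1] at hdvd
    simp at hdvd
  · have h1 := (ZMod.natCast_eq_zero_iff _ l).2 h
    rw [Nat.cast_add, Nat.cast_one, heq] at h1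
    exact h3 (by linear_combination hdvd - ((c.fixCard z : ZMod l) - 2) * h1)

/-- Elements of odd prime power order of `C(t)` with trivial field part lie in `L`. -/
theorem eq_φ_of_π {l : ℕ} (hl : l.Prime) (h2 : l ≠ 2) {g : G} (hgt : g * c.t = c.t * g)
    (hπ : c.π ⟨g, mem_centralizer_singleton_iff.2 hgt⟩ = 1) (hgl : ∃ k, g ^ l ^ k = 1) :
    ∃ m, g = c.φ m := by
  obtain ⟨m, hm | hm⟩ := c.exists_of_π_eq_one hgt hπ
  · exact ⟨m, hm⟩
  · exfalso
    obtain ⟨k, hk⟩ := hgl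
    obtain ⟨j, hj⟩ := (hl.odd_of_ne_two h2).pow (n := k)
    rw [hm, (show Commute c.t (c.φ m) from (c.φ_comm m).symm).mul_pow, hj, pow_succ c.t, pow_mul c.t,
      pow_two, c.t_sq, one_pow, one_mul, ← map_pow] at hk
    exact c.φ_ne _ ((eq_inv_of_mul_eq_one_right hk).trans c.t_inv)

theorem π_eq_one_of_pgroup {l : ℕ} (hl : l.Prime) (hf : ¬ l ∣ c.f) {g : centralizer ({c.t} : Set G)}
    (hgl : ∃ k, (g : G) ^ l ^ k = 1) : c.π g = 1 := by
  obtain ⟨k, hk⟩ := hgl
  have h : orderOf (c.π g) ∣ l ^ k := orderOf_dvd_of_pow_eq_one (by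
    rw [← map_pow, ← map_one c.π]
    exact congrArg c.π (Subtype.ext (by rw [SubmonoidClass.coe_pow]; exact hk)))
  exact orderOf_eq_one_iff.1 (Nat.eq_one_of_dvd_coprimes
    (((Nat.Prime.coprime_iff_not_dvd hl).2 hf).pow_left k) h (orderOf_dvd_natCard _))

/-- Elements of odd prime power order prime to `f` of `C(t)` lie in `L`. -/
theorem eq_φ_of_pgroup {l : ℕ} (hl : l.Prime) (h2 : l ≠ 2) (hf : ¬ l ∣ c.f) {g : G}
    (hgt : g * c.t = c.t * g) (hgl : ∃ k, g ^ l ^ k = 1) : ∃ m, g = c.φ m :=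
  c.eq_φ_of_π hl h2 hgt (c.π_eq_one_of_pgroup hl hf hgl) hgl

theorem orderOf_φ (m : PSL2[F]) : orderOf (c.φ m) = orderOf m := orderOf_injective c.φ c.φ_inj m

/-- The split torus of `PSL₂`. -/
def splitR : Subgroup PSL2[F] :=
  (fun _ => ((QuotientGroup.mk' _).comp (splitSL F)).range) c

theorem card_splitR : Nat.card c.splitR * 2 = Fintype.card F - 1 := by
  rw [← c.card_H, show c.H = (c.splitR).map c.φ from by rw [splitR, MonoidHom.map_range]; rfl,
    Subgroup.card_map_of_injective c.φ_inj]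

theorem card_psl : 2 * Nat.card PSL2[F] = Fintype.card F * ((Fintype.card F + 1) * (Fintype.card F - 1)) := by
  rw [Cfsg.Lib.Dickson.card_psl_mul c.q_odd, show Fintype.card F ^ 2 - 1 =
    (Fintype.card F + 1) * (Fintype.card F - 1) by
      simpa using Nat.sq_sub_sq (Fintype.card F) 1]

/-- An element of prime order dividing `q - 1` is conjugate into the split torus. -/
theorem exists_conj_split {n : ℕ} (hn : n ≠ 0) (hq : Fintype.card F = 3 ^ n) {l : ℕ} (hl : l.Prime)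
    (h2 : l ≠ 2) (hd : l ∣ Fintype.card F - 1) {m : PSL2[F]} (hm : orderOf m = l) :
    ∃ (g : PSL2[F]) (b : Fˣ), m = g * pr (splitSL F b) * g⁻¹ := by
  haveI := Fact.mk hl
  have hidx : ¬ l ∣ c.splitR.index := by
    intro h
    have h1 := c.splitR.card_mul_index
    have h2' := c.card_psl
    rw [← h1, ← c.card_splitR] at h2'
    have h3 : c.splitR.index = Fintype.card F * (Fintype.card F + 1) :=
      Nat.eq_of_mul_eq_mul_left (Nat.mul_pos Nat.card_pos (show 0 < 2 by omega))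
        (by rw [show Nat.card c.splitR * 2 * c.splitR.index = 2 * (Nat.card c.splitR * c.splitR.index) by ring,
          h2']; ring)
    rcases hl.dvd_mul.1 (h3 ▸ h) with e | e
    · exact (c.three_not_dvd hn hq).1
        ((Nat.prime_dvd_prime_iff_eq hl Nat.prime_three).1 (hl.dvd_of_dvd_pow (hq ▸ e)) ▸ hd)
    · have := Nat.dvd_sub e hd
      have := c.five_le
      rw [show Fintype.card F + 1 - (Fintype.card F - 1) = 2 by omega] at *
      exact h2 ((Nat.prime_dvd_prime_iff_eq hl Nat.prime_two).1 (by assumption))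
  obtain ⟨g, hg⟩ := exists_conj_mem_of_pgroup c.splitR hidx
    (IsPGroup.of_card (n := 1) (show Nat.card (zpowers m) = l ^ 1 by rw [Nat.card_zpowers, hm, pow_one]))
  obtain ⟨b, hb⟩ := hg m (mem_zpowers m)
  refine ⟨g, b, ?_⟩
  rw [show pr (splitSL F b) = g⁻¹ * m * g from hb]
  group

/-- The unipotent subgroup of `PSL₂`. -/
def unipR : Subgroup PSL2[F] := (fun _ => ((QuotientGroup.mk' _).comp uSL).range) c

theorem card_unipR : Nat.card c.unipR = Fintype.card F := by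
  rw [← c.card_U, show c.U = (c.unipR).map c.φ from by rw [unipR, MonoidHom.map_range]; rfl,
    Subgroup.card_map_of_injective c.φ_inj]

/-- An element of three power order is conjugate into the unipotent subgroup. -/
theorem exists_conj_unip {n : ℕ} (hn : n ≠ 0) (hq : Fintype.card F = 3 ^ n) {P : Subgroup PSL2[F]}
    (hP : IsPGroup 3 P) : ∃ g : PSL2[F], ∀ m ∈ P, ∃ b : F,
      m = g * pr (uSL (Multiplicative.ofAdd b)) * g⁻¹ := by
  haveI : Fact (Nat.Prime 3) := ⟨Nat.prime_three⟩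
  have hidx : ¬ 3 ∣ c.unipR.index := by
    intro h
    have h1 := c.unipR.card_mul_index
    rw [c.card_unipR] at h1
    have h2 := c.card_psl
    rw [← h1, ← mul_assoc, mul_comm 2, mul_assoc] at h2
    have h3 := Nat.eq_of_mul_eq_mul_left (show 0 < Fintype.card F by have := c.five_le; omega) h2
    exact (Nat.prime_three.dvd_mul.1 (h3 ▸ dvd_mul_of_dvd_right h 2)).elim (c.three_not_dvd hn hq).2
      (c.three_not_dvd hn hq).1
  obtain ⟨g, hg⟩ := exists_conj_mem_of_pgroup c.unipR hidx hP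
  refine ⟨g, fun m hm => ?_⟩
  obtain ⟨b, hb⟩ := hg m hm
  refine ⟨b.toAdd, ?_⟩
  rw [show pr (uSL (Multiplicative.ofAdd b.toAdd)) = g⁻¹ * m * g from hb]
  group

/-- No element inverts a nontrivial element of three power order. -/
theorem three_not_inverted {n : ℕ} (hn : n ≠ 0) (hq : Fintype.card F = 3 ^ n)
    (h4 : Fintype.card F % 4 = 3) {x m : PSL2[F]} (hm : ∃ k, m ^ 3 ^ k = 1)
    (hi : x * m * x⁻¹ = m⁻¹) : m = 1 := by
  obtain ⟨k, hk⟩ := hm
  obtain ⟨g, hg⟩ := c.exists_conj_unip hn hq (P := zpowers m) (fun a => ⟨k, Subtype.ext (by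
    obtain ⟨i, hi⟩ := mem_zpowers_iff.1 a.2
    rw [SubmonoidClass.coe_pow, ← hi, ← zpow_natCast (m ^ i), ← _root_.zpow_mul, mul_comm i, _root_.zpow_mul, zpow_natCast, hk,
      _root_.one_zpow, Subgroup.coe_one])⟩)
  obtain ⟨b, rfl⟩ := hg m (mem_zpowers m)
  by_contra hne
  have hb : b ≠ 0 := by
    rintro rfl
    exact hne (by rw [ofAdd_zero, map_one uSL, pr, QuotientGroup.mk_one, mul_one, mul_inv_cancel])
  refine not_inv_uSL h4 hb (g⁻¹ * x * g) ?_
  have hneg : pr (uSL (Multiplicative.ofAdd (-b))) = (pr (uSL (Multiplicative.ofAdd b)))⁻¹ :=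
    c.φ_inj (by rw [map_inv]; exact c.u_neg b)
  rw [hneg]
  calc g⁻¹ * x * g * pr (uSL (Multiplicative.ofAdd b)) * (g⁻¹ * x * g)⁻¹
      = g⁻¹ * (x * (g * pr (uSL (Multiplicative.ofAdd b)) * g⁻¹) * x⁻¹) * g := by group
    _ = (pr (uSL (Multiplicative.ofAdd b)))⁻¹ := by rw [hi]; group

/-- Conjugation by an involution of `C(t)` on `L`. -/
theorem conj_φ {v : G} {τ : PSL2[F]} (hv : v = c.φ τ ∨ v = c.t * c.φ τ) (m : PSL2[F]) :
    v * c.φ m * v⁻¹ = c.φ (τ * m * τ⁻¹) := by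
  have h : c.φ τ * c.φ m * (c.φ τ)⁻¹ = c.φ (τ * m * τ⁻¹) := by rw [map_mul, map_mul, map_inv]
  rcases hv with rfl | rfl
  · exact h
  · calc c.t * c.φ τ * c.φ m * (c.t * c.φ τ)⁻¹ = c.t * (c.φ τ * c.φ m * (c.φ τ)⁻¹) * c.t⁻¹ := by group
      _ = c.φ (τ * m * τ⁻¹) := by rw [h, ← c.φ_comm, mul_inv_cancel_right]

/-- An involution of a Sylow two-subgroup is conjugate to `t`. -/
theorem exists_conj_t {v : G} (hv : orderOf v = 2) : ∃ g : G, g * v * g⁻¹ = c.t := by
  haveI : Fact (Nat.Prime 2) := ⟨Nat.prime_two⟩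
  obtain ⟨T, hT⟩ := (show IsPGroup 2 (zpowers v) from
    IsPGroup.of_card (n := 1) (by rw [Nat.card_zpowers, hv, pow_one])).exists_le_sylow
  obtain ⟨g, hg⟩ := MulAction.exists_smul_eq G T c.S
  have hgv : g * v * g⁻¹ ∈ (c.S : Subgroup G) := by
    rw [← hg, Sylow.coe_subgroup_smul]
    exact ⟨v, hT (mem_zpowers v), rfl⟩
  have hne : g * v * g⁻¹ ≠ 1 := fun e => by
    rw [conj_eq_one_iff.1 e, orderOf_one] at hv
    omega
  obtain ⟨n, -, hn⟩ := c.hyp.trans ⟨hgv, hne⟩ c.pt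
  exact ⟨n * g, by rw [← hn]; group⟩

/-- For `l = 3` and for the primes not dividing `|L|` no element is inverted. -/
theorem noInverted {n : ℕ} (hn : n ≠ 0) (hq : Fintype.card F = 3 ^ n) (h4 : Fintype.card F % 4 = 3)
    {l : ℕ} (hl : l.Prime) (h2 : l ≠ 2) (h : l = 3 ∨ ¬ l ∣ Nat.card PSL2[F]) : NoInverted G l := by
  intro v u y hv hu _ huv hyv hyl hinv
  obtain ⟨g, hg⟩ := c.exists_conj_t hv
  obtain ⟨k, hk⟩ := hyl
  set u' := g * u * g⁻¹ with hu'
  set y' := g * y * g⁻¹ with hy'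
  have hu't : u' * c.t = c.t * u' := by rw [hu', ← hg, conj_mul, conj_mul, huv]
  have hy't : y' * c.t = c.t * y' := by rw [hy', ← hg, conj_mul, conj_mul, hyv]
  have hu'2 : u' * u' = 1 := by
    rw [hu', conj_mul, ← pow_two, ← hu, pow_orderOf_eq_one, mul_one, mul_inv_cancel]
  have hy'k : y' ^ l ^ k = 1 := by rw [hy', conj_pow, hk, mul_one, mul_inv_cancel]
  have hinv' : u' * y' * u'⁻¹ = y'⁻¹ := by
    calc u' * y' * u'⁻¹ = g * (u * y * u⁻¹) * g⁻¹ := by rw [hy', hu']; group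
      _ = y'⁻¹ := by rw [hinv, hy']; group
  have hπ := c.π_eq_one_of_inverted (g := ⟨y', mem_centralizer_singleton_iff.2 hy't⟩)
    (v := ⟨u', mem_centralizer_singleton_iff.2 hu't⟩) (Subtype.ext hu'2) (Subtype.ext hinv')
  obtain ⟨m, hm⟩ := c.eq_φ_of_π hl h2 hy't hπ ⟨k, hy'k⟩
  obtain ⟨τ, -, hτ⟩ := c.involution_cent hu't hu'2
  have hmk : m ^ l ^ k = 1 := c.φ_inj (by rw [map_pow, map_one, ← hm, hy'k])
  have hmi : τ * m * τ⁻¹ = m⁻¹ := c.φ_inj (by rw [← c.conj_φ hτ, map_inv, ← hm, hinv'])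
  have hm1 : m = 1 := by
    rcases h with rfl | h
    · exact c.three_not_inverted hn hq h4 ⟨k, hmk⟩ hmi
    · exact orderOf_eq_one_iff.1 (Nat.eq_one_of_dvd_coprimes (((Nat.Prime.coprime_iff_not_dvd hl).2 h).pow_left k)
        (orderOf_dvd_of_pow_eq_one hmk) (orderOf_dvd_natCard _))
  rw [hm1, map_one, hy'] at hm
  exact conj_eq_one_iff.1 hm

end Cfg

end Cfsg.Lib.Walter3.Field
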