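import Cfsg.Agent.Lib.Walter3.Field.CentTorusSame

/-!
# The primes dividing `q - 1` and `q + 1`

An element of such prime order inverted by `t` and fixed by `i` or `t i` does not centralize a torus
element of order `s`: for `q - 1` by the result for the prime `s`, for `q + 1` because no subgroup
of `PSL₂(q)` has the properties of the stabilizer of its cyclic subgroup.
-/

set_option autoImplicit false
set_option linter.unusedSectionVars false
set_option linter.style.haveILetI false

namespace Cfsg.Lib.Walter3.Field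

open Subgroup Cfsg Cfsg.Lib Matrix
open Cfsg.Lib.TwoDim (splitSL)
open scoped MatrixGroups

universe u

local notation "PSL2[" K "]" => Matrix.ProjectiveSpecialLinearGroup (Fin 2) K

section PSL

open Cfsg.Lib.Dickson (psl_subgroup_cases card_psl_mul card_centralizer_involution)

variable {F : Type} [Field F] [Fintype F]

theorem fourGroup_le {G : Type u} [Group G] {H : Subgroup G} {x y : G} (hx : x ^ 2 = 1) (hy : y ^ 2 = 1)
    (hxy : y * x = x * y) (hxH : x ∈ H) (hyH : y ∈ H) :
    Cfsg.Lib.Dickson.KleinClasses.fourGroup x y hx hy hxy ≤ H := by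
  intro a ha
  rcases (show a = 1 ∨ a = x ∨ a = y ∨ a = x * y from ha) with r | r | r | r <;> rw [r]
  exacts [one_mem _, hxH, hyH, mul_mem hxH hyH]

/-- In a dihedral group one of the involutions of a four-group commutes with any element of odd
prime order. -/
theorem dihedral_four {k l : ℕ} (hl : l.Prime) (h2 : l ≠ 2) {a j m : DihedralGroup k}
    (ha : orderOf a = l) :
    a * j = j * a ∨ a * m = m * a ∨ a * (j * m) = j * m * a := by
  cases a with
  | sr i => rw [DihedralGroup.orderOf_sr] at ha; exact absurd ha.symm h2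
  | r i =>
    cases j with
    | r i' => left; rw [DihedralGroup.r_mul_r, DihedralGroup.r_mul_r, add_comm]
    | sr i' =>
      cases m with
      | r i'' => right; left; rw [DihedralGroup.r_mul_r, DihedralGroup.r_mul_r, add_comm]
      | sr i'' =>
        right; right
        rw [DihedralGroup.sr_mul_sr, DihedralGroup.r_mul_r, DihedralGroup.r_mul_r, add_comm]

/-- No subgroup contains a four-group with small centralizer of an involution and an element of
order `s`. -/
theorem no_subgroup [CharP F 3] (h7 : 7 ≤ Fintype.card F) (h8 : Fintype.card F % 8 = 3)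
    (D : Subgroup PSL2[F]) {j m a : PSL2[F]} {s : ℕ} (hs : s.Prime) (hs7 : 7 ≤ s)
    (hj : j * j = 1) (hj1 : j ≠ 1) (hm : m * m = 1) (hm1 : m ≠ 1) (hjm : j * m = m * j) (hne : j ≠ m)
    (ha : orderOf a = s) (hjD : j ∈ D) (hmD : m ∈ D) (haD : a ∈ D)
    (hinv : ∀ u : PSL2[F], u * u = 1 → u * a = a * u → u = 1)
    (hnorm : ∀ (P : Sylow 3 PSL2[F]) (u : PSL2[F]), u * u = 1 →
      u ∈ normalizer ((P : Subgroup PSL2[F]) : Set PSL2[F]) → u = 1)
    (hsmall : Nat.card ↥(D ⊓ centralizer ({j} : Set PSL2[F]) : Subgroup PSL2[F]) ≤ 4) : False := by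
  haveI : Fact (Nat.Prime 3) := ⟨Nat.prime_three⟩
  have hjm1 : j * m ≠ 1 := fun h => hne (mul_right_cancel (h.trans hm.symm))
  have hjm2 : j * m * (j * m) = 1 := by
    calc j * m * (j * m) = j * (m * j) * m := by group
      _ = j * j * (m * m) := by rw [← hjm]; group
      _ = 1 := by rw [hj, hm, one_mul]
  have hsD : s ∣ Nat.card D := ha ▸ Subgroup.orderOf_dvd_natCard _ haD
  have h8' : ¬ 8 ∣ Nat.card PSL2[F] := by
    intro h
    have h2 := card_psl_mul (K := F) (by omega)
    have h16 : 16 ∣ Fintype.card F * (Fintype.card F ^ 2 - 1) := h2 ▸ Nat.mul_dvd_mul_left 2 h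
    have hc : (Nat.Coprime 16 (Fintype.card F)) :=
      Nat.Coprime.pow_left 4 (Nat.coprime_two_left.2 (Nat.odd_iff.2 (by omega)))
    have h16' := hc.dvd_of_dvd_mul_left h16
    obtain ⟨k, hk⟩ : ∃ k, Fintype.card F = 8 * k + 3 := ⟨Fintype.card F / 8, by omega⟩
    rw [hk, show (8 * k + 3) ^ 2 - 1 = 16 * (4 * k ^ 2 + 3 * k) + 8 from Nat.sub_eq_of_eq_add (by ring)]
      at h16'
    omega
  rcases psl_subgroup_cases 3 D with ⟨k, -, ⟨hcy, -⟩ | ⟨⟨e⟩⟩⟩ | ⟨-, P, hP⟩ | ⟨-, hcases⟩
  · haveI := hcy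
    letI : CommGroup D := IsCyclic.commGroup
    exact hj1 (hinv j hj (congrArg Subtype.val (mul_comm (⟨j, hjD⟩ : D) ⟨a, haD⟩)))
  · have hoe : orderOf (e ⟨a, haD⟩) = s := by
      rw [MulEquiv.orderOf_eq, ← Subgroup.orderOf_coe]; exact ha
    have back : ∀ u : D, e ⟨a, haD⟩ * e u = e u * e ⟨a, haD⟩ → (u : PSL2[F]) * a = a * u := fun u h =>
      (congrArg Subtype.val (e.injective (by rw [map_mul, map_mul]; exact h) : ⟨a, haD⟩ * u = u * ⟨a, haD⟩)).symm
    rcases dihedral_four hs (by omega) (j := e ⟨j, hjD⟩) (m := e ⟨m, hmD⟩) hoe with h | h | h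
    · exact hj1 (hinv j hj (back _ h))
    · exact hm1 (hinv m hm (back _ h))
    · rw [← map_mul] at h
      exact hjm1 (hinv _ hjm2 (back (⟨j, hjD⟩ * ⟨m, hmD⟩) h))
  · exact hj1 (hnorm P j hj (hP hjD))
  · rcases hcases with ⟨⟨e⟩⟩ | ⟨⟨e⟩⟩ | ⟨⟨e⟩⟩ | ⟨K, fK, fiK, μ, hcK, hK3, hKF, hiso⟩
    · rw [Nat.card_congr e.toEquiv, Nat.card_eq_fintype_card,
        show Fintype.card (alternatingGroup (Fin 4)) = 12 by decide] at hsD
      have := Nat.le_of_dvd (by omega) hsD
      interval_cases s <;> first | omega | norm_num at hs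
    · rw [Nat.card_congr e.toEquiv, Nat.card_eq_fintype_card, Fintype.card_perm,
        show (Fintype.card (Fin 4)).factorial = 2 ^ 3 * 3 by decide] at hsD
      rcases hs.dvd_mul.1 hsD with h | h
      · have := Nat.le_of_dvd (by omega) (hs.dvd_of_dvd_pow h); omega
      · have := Nat.le_of_dvd (by omega) h; omega
    · rw [Nat.card_congr e.toEquiv,
        show Nat.card (alternatingGroup (Fin 5)) = 2 ^ 2 * 3 * 5 by
          rw [Nat.card_eq_fintype_card]; decide] at hsD
      rcases hs.dvd_mul.1 hsD with h | h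
      · rcases hs.dvd_mul.1 h with h | h
        · have := Nat.le_of_dvd (by omega) (hs.dvd_of_dvd_pow h); omega
        · have := Nat.le_of_dvd (by omega) h; omega
      · have := Nat.le_of_dvd (by omega) h; omega
    · haveI := hcK
      obtain ⟨i, hpp, hKcard⟩ := FiniteField.card K 3
      have hKodd : Fintype.card K % 2 = 1 := by rw [hKcard, Nat.pow_mod]; simp
      rcases hiso with ⟨⟨e⟩, -⟩ | ⟨⟨e⟩⟩
      · by_cases hK7 : 7 ≤ Fintype.card K
        · set j' := e ⟨j, hjD⟩
          have hj' : j' ^ 2 = 1 := by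
            rw [← map_pow, pow_two, show (⟨j, hjD⟩ : D) * ⟨j, hjD⟩ = 1 from Subtype.ext hj, map_one]
          have hj'1 : j' ≠ 1 := fun h => hj1 (congrArg Subtype.val (e.injective (h.trans (map_one e).symm)))
          obtain ⟨hC1, hC3⟩ := card_centralizer_involution hKodd hK7 hj' hj'1
          have hle : Nat.card (centralizer ({j'} : Set (Matrix.ProjectiveSpecialLinearGroup (Fin 2) K))) ≤
              Nat.card ↥(D ⊓ centralizer ({j} : Set PSL2[F]) : Subgroup PSL2[F]) := by
            refine Nat.card_le_card_of_injective (fun x => ⟨(e.symm x.1 : D), (e.symm x.1).2,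
              mem_centralizer_singleton_iff.2 (congrArg Subtype.val (e.injective (a₁ := e.symm x.1 * ⟨j, hjD⟩)
                (a₂ := ⟨j, hjD⟩ * e.symm x.1) (by
                  rw [map_mul, map_mul, e.apply_symm_apply]
                  exact mem_centralizer_singleton_iff.1 x.2)))⟩) fun x x' h => ?_
            exact Subtype.ext (e.symm.injective (Subtype.ext (congrArg
              (fun z : ↥(D ⊓ centralizer ({j} : Set PSL2[F]) : Subgroup PSL2[F]) => (z : PSL2[F])) h)))
          have : Fintype.card K % 4 = 1 ∨ Fintype.card K % 4 = 3 := by omega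
          rcases this with r | r
          · rw [hC1 r] at hle; omega
          · rw [hC3 r] at hle; omega
        · have hK : Fintype.card K = 3 := by
            rcases Nat.lt_or_ge (i : ℕ) 2 with h | h
            · rw [hKcard, show (i : ℕ) = 1 by have := i.pos; omega, pow_one]
            · have := Nat.pow_le_pow_right (show 1 ≤ 3 by omega) h
              rw [← hKcard] at this
              omega
          have h2 := card_psl_mul (K := K) hKodd
          rw [← Nat.card_congr e.toEquiv, hK] at h2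
          have := Nat.le_of_dvd Nat.card_pos hsD
          have h12 : Nat.card D = 12 := by omega
          rw [h12] at hsD this
          interval_cases s <;> first | omega | norm_num at hs
      · refine h8' (dvd_trans ?_ (card_subgroup_dvd_card D))
        rw [Nat.card_congr e.toEquiv, Cfsg.Lib.Dickson.card_PGL_two_eq]
        obtain ⟨i, hi⟩ : ∃ i, Fintype.card K = 2 * i + 1 := ⟨Fintype.card K / 2, by omega⟩
        rw [hi, show (2 * i + 1) ^ 2 - 1 = 4 * (i * (i + 1)) from Nat.sub_eq_of_eq_add (by ring)]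
        obtain ⟨r, hr⟩ := (Nat.even_mul_succ_self i).two_dvd
        exact ⟨(2 * i + 1) * r, by rw [hr]; ring⟩

end PSL

namespace Cfg

variable {G : Type u} [Group G] [Finite G] {F : Type} [Field F] [Fintype F] {c : Cfg G F}
  {y : fieldPart c.S} {s : ℕ} {a : Fˣ}

namespace Tor

/-- The result for the prime `s`, at any point. -/
theorem le_cent_point (hT : c.Tor y s a) {u : G} (hu : Pt c.S u) {Q : Subgroup G} (hQ : IsPGroup s Q)
    {z : G} (hzu : z * u = u * z) (hoz : orderOf z = s) (hQz : Q ≤ centralizer ({z} : Set G))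
    (huQ : u ∈ normalizer (Q : Set G)) : Q ≤ centralizer ({u} : Set G) := by
  obtain ⟨n, hn, hcu⟩ := c.exists_at hu
  set c' := c.conjBy n hn
  have hT' : c'.Tor y s a :=
    ⟨hT.gen, hT.hy, hT.prime, hT.fix, by rw [← hT.ord]; exact (MulAut.conj n).orderOf_eq (c.d a)⟩
  rw [← hcu] at hzu huQ ⊢
  obtain ⟨m, hm⟩ := c'.eq_φ_of_pgroup hT.prime hT.ne_two hT.not_dvd_f hzu
    ⟨1, by rw [pow_one, ← hoz, pow_orderOf_eq_one]⟩
  exact hT'.le_cent_t_conj (by rw [← c'.orderOf_φ, ← hm, hoz]) hQ (hm ▸ hQz) huQ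

/-- No prime dividing `q - 1`. -/
theorem case_sub (hT : c.Tor y s a) {l : ℕ} (hl : l.Prime) (hl2 : l ≠ 2) (hl3 : l ≠ 3)
    (hlf : ¬ l ∣ c.f) (hlq : l ∣ Fintype.card F - 1) {v w : G} (hv : v = c.i ∨ v = c.t * c.i)
    (hwd : w * c.d a = c.d a * w) (hwv : w * v = v * w) (how : orderOf w = l)
    (hiw : c.t * w * c.t⁻¹ = w⁻¹) : False := by
  haveI := Fact.mk hT.prime
  obtain ⟨hS, hv1, hvt, hv2, -⟩ := c.iv_facts hv
  obtain ⟨n, hn, hcv⟩ := c.exists_at ⟨hS, hv1⟩
  set c' := c.conjBy n hn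
  obtain ⟨-, j, hj, hq, -⟩ := c.exists_three_pow hT.gen y hT.hy
  haveI := c.charP_three hj hq
  obtain ⟨x, τ, hwx, hox, hx2, hτ2, -, hτ, hix⟩ := c'.exists_coords hl hl2 hlf
    (u := c.t) c.t_mem (by rw [hcv]; exact hvt.symm) (by rw [hcv]; exact hwv) how hiw
  have hTx := c.odd_card_cent_split hj hq hT.mod_four hl hl2 hl3 hox hlq
  set K : Subgroup G := cor (centralizer ({w} : Set G))
  have hmemK : ∀ g : G, g * w = w * g → Odd (orderOf g) → g ∈ K := fun g hg ho => by
    have h := c'.mem_cor_of_odd_torus hTx (g := g) (hwx ▸ hg) ho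
    rw [← hwx] at h
    exact h
  have htK : c.t ∈ normalizer (K : Set G) := mem_normalizer_cor (mem_invOrFix.2 (Or.inr hiw))
  have hvK : v ∈ normalizer (K : Set G) :=
    mem_normalizer_cor (mem_invOrFix.2 (Or.inl (by rw [← hwv, mul_inv_cancel_right])))
  have hKodd := odd_cor (centralizer ({w} : Set G))
  have hvo : orderOf v = 2 := c.hyp.orderOf_pt ⟨hS, hv1⟩
  have htv : c.t * v = v * c.t := c.hyp.comm c.t_mem hS
  have htv1 : c.t * v ≠ 1 := fun h => hvt ((eq_inv_of_mul_eq_one_right h).trans c.t_inv)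
  haveI := four_comm htv
  obtain ⟨P, hP⟩ := Coprime.exists_invariant_sylow (four_le htK hvK)
    (odd_coprime_four c.t_sq hv2 htv hKodd)
    (Or.inl (Group.isSolvable_of_comm fun a b => mul_comm' a b)) s
  set Q : Subgroup G := (P : Subgroup K).map K.subtype with hQ
  have hdK : c.d a ∈ K := hmemK _ hwd.symm (hT.ord ▸ hT.odd)
  -- a central element of order `s`
  set Z : Subgroup G := Q ⊓ centralizer (Q : Set G)
  have hZ : Z ≠ ⊥ := by
    intro hZ
    have hsP : s ∣ Nat.card P.1 := by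
      refine P.dvd_card_of_dvd_card ?_
      rw [← hT.ord]
      exact Subgroup.orderOf_dvd_natCard _ hdK
    haveI : Nontrivial P.1 := Finite.one_lt_card_iff_nontrivial.1
      (lt_of_lt_of_le hT.prime.one_lt (Nat.le_of_dvd Nat.card_pos hsP))
    haveI := P.2.center_nontrivial
    obtain ⟨⟨z, hz⟩, hz1⟩ := exists_ne (1 : center P.1)
    refine hz1 (Subtype.ext (Subtype.ext (Subtype.ext ?_)))
    have hmem : ((z : K) : G) ∈ Z := ⟨⟨z, z.2, rfl⟩, mem_centralizer_iff.2 (by
      rintro _ ⟨b, hb, rfl⟩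
      exact congrArg (fun r : P.1 => ((r : K) : G)) (mem_center_iff.1 hz ⟨b, hb⟩))⟩
    rw [hZ, mem_bot] at hmem
    exact hmem
  have hQo : Odd (Nat.card Z) :=
    Odd.of_dvd_nat hKodd (card_dvd_of_le (inf_le_left.trans (map_subtype_le _)))
  have hnorm : ∀ g ∈ normalizer (Q : Set G), g ∈ normalizer (Z : Set G) := fun g hg =>
    mem_normalizer_of_cj_eq (by rw [cj_inf, cj_centralizer, cj_eq_self hg])
  have htQ := hP (mem_sup_left (mem_zpowers c.t))
  have hvQ := hP (mem_sup_right (mem_zpowers v))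
  obtain ⟨u, hu, hZu⟩ := exists_four_fixed c.orderOf_t hvo hvt.symm htv hQo (hnorm _ htQ) (hnorm _ hvQ)
    (C := ⊥) (fun h => hZ (eq_bot_iff.2 h))
  have hu' : Pt c.S u ∧ u ∈ normalizer (Q : Set G) ∧ u ∈ normalizer (K : Set G) := by
    rcases hu with rfl | rfl | rfl
    exacts [⟨c.pt, htQ, htK⟩, ⟨⟨hS, hv1⟩, hvQ, hvK⟩,
      ⟨⟨mul_mem c.t_mem hS, htv1⟩, mul_mem htQ hvQ, mul_mem htK hvK⟩]
  have hQp : IsPGroup s Q := P.2.map _
  obtain ⟨z, hz, hz1⟩ := SetLike.not_le_iff_exists.1 hZu
  obtain ⟨k, hk⟩ := hQp ⟨z, hz.1.1⟩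
  obtain ⟨e, -, he⟩ := (Nat.dvd_prime_pow hT.prime).1
    (orderOf_dvd_of_pow_eq_one (show z ^ s ^ k = 1 from congrArg Subtype.val hk))
  cases e with
  | zero => exact hz1 (mem_bot.2 (orderOf_eq_one_iff.1 (he.trans (pow_zero s))))
  | succ e =>
  set z' := z ^ s ^ e
  have hoz : orderOf z' = s := by
    rw [orderOf_pow' z (pow_ne_zero _ hT.prime.ne_zero), he, pow_succ, Nat.gcd_mul_right_left]
    exact Nat.mul_div_cancel_left s (pow_pos hT.prime.pos e)
  have hQu := hT.le_cent_point hu'.1 hQp (z := z')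
    (mem_centralizer_singleton_iff.1 (pow_mem hz.2 _)) hoz
    (fun g hg => mem_centralizer_singleton_iff.2 (mem_centralizer_iff.1 (pow_mem hz.1.2 _) g hg))
    hu'.2.1
  have huo : orderOf u = 2 := c.hyp.orderOf_pt hu'.1
  have hall : ∀ R : Subgroup G, R ≤ K → IsPGroup s R → u ∈ normalizer (R : Set G) →
      R ≤ centralizer ({u} : Set G) := fun R hR hR' hR'' =>
    le_centralizer_of_sylow huo hKodd hu'.2.2 P hQu hR hR' hR''
  -- the torus element shows `u = t`
  have hda := c.iv_inverts hv a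
  have hut : u = c.t := by
    refine hu.resolve_right fun h => ?_
    have hinv : u * c.d a * u⁻¹ = (c.d a)⁻¹ := by
      rcases h with rfl | rfl
      · exact hda
      · calc c.t * v * c.d a * (c.t * v)⁻¹ = c.t * (v * c.d a * v⁻¹) * c.t⁻¹ := by group
          _ = (c.d a)⁻¹ := by
            rw [hda, (show Commute c.t (c.d a)⁻¹ from Commute.inv_right (c.d_comm_t a).symm).eq, mul_inv_cancel_right]
    have hn : u ∈ normalizer ((zpowers (c.d a) : Subgroup G) : Set G) :=
      Fusion.le_normalizer_of_conj_mem fun g hg => by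
        obtain ⟨i, rfl⟩ := mem_zpowers_iff.1 hg
        rw [← conj_zpow, hinv]
        exact zpow_mem (inv_mem (mem_zpowers _)) i
    have hc := mem_centralizer_singleton_iff.1 (hall (zpowers (c.d a)) (zpowers_le.2 hdK)
      (IsPGroup.of_card (n := 1) (by rw [Nat.card_zpowers, hT.ord, pow_one])) hn (mem_zpowers _))
    rw [← hc, mul_inv_cancel_right] at hinv
    exact sq_ne_one_of_prime hT.prime hT.ne_two hT.ord
      (by rw [pow_two]; nth_rewrite 2 [hinv]; rw [mul_inv_cancel])
  subst hut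
  -- an element of order `s` of the torus of `x`
  obtain ⟨k, hk⟩ := exists_prime_orderOf_dvd_card' (G := centralizer ({x} : Set PSL2[F])) s (by
    rw [card_cent_sub (by have := c.five_le; omega) c.q_odd hl hl2 hl3 hox hlq]
    exact hT.dvd_half)
  rw [← Subgroup.orderOf_coe] at hk
  have hkx := mem_centralizer_singleton_iff.1 k.2
  have hkK : c'.φ k ∈ K := hmemK _ (by rw [hwx, ← map_mul, ← map_mul, hkx])
    (by rw [c'.orderOf_φ, hk]; exact hT.odd)
  -- the torus of `x` is inverted by `τ`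
  have hτk : Commute (τ * k * τ⁻¹) (k : PSL2[F]) := by
    refine comm_of_sq_ne_one c.q_odd hx2 ?_ hkx
    have h1 : τ * (k : PSL2[F]) * τ⁻¹ * (τ * x * τ⁻¹) = τ * x * τ⁻¹ * (τ * k * τ⁻¹) := by
      rw [conj_mul, conj_mul, hkx]
    rw [hix] at h1
    exact (Commute.inv_right_iff.1 h1).eq
  set z₀ : PSL2[F] := τ * k * τ⁻¹ * k with hz₀
  have hz₀x : z₀ * x = x * z₀ := by
    have h1 : Commute (τ * (k : PSL2[F]) * τ⁻¹) x := by
      refine Commute.inv_right_iff.1 ?_
      rw [← hix]
      show τ * (k : PSL2[F]) * τ⁻¹ * (τ * x * τ⁻¹) = τ * x * τ⁻¹ * (τ * k * τ⁻¹)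
      rw [conj_mul, conj_mul, hkx]
    exact (h1.mul_left hkx).eq
  have hz₀τ : z₀ * τ = τ * z₀ := by
    have hti : τ⁻¹ = τ := inv_eq_of_mul_eq_one_right hτ2
    rw [hz₀]
    conv_lhs => rw [hτk.eq]
    simp only [hti, mul_assoc, hτ2, mul_one, show ∀ z, τ * (τ * z) = z from fun z => by rw [← mul_assoc, hτ2, one_mul]]
  have hks : (k : PSL2[F]) ^ s = 1 := hk ▸ pow_orderOf_eq_one _
  have hz₀1 : z₀ = 1 := by
    have h2 := sq_eq_one_of_inverted c.q_odd hx2 hix hz₀x hz₀τ
    have h3 : z₀ ^ s = 1 := by rw [hτk.mul_pow, conj_pow, hks, mul_one, mul_one, mul_inv_cancel]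
    exact orderOf_eq_one_iff.1 (Nat.eq_one_of_dvd_coprimes (Nat.coprime_two_left.2 hT.odd)
      (orderOf_dvd_of_pow_eq_one h2) (orderOf_dvd_of_pow_eq_one h3))
  have hkinv : c.t * c'.φ k * c.t⁻¹ = (c'.φ k)⁻¹ := by
    rw [c'.conj_φ hτ, ← map_inv]
    exact congrArg c'.φ (eq_inv_of_mul_eq_one_left hz₀1)
  have hn : c.t ∈ normalizer ((zpowers (c'.φ k) : Subgroup G) : Set G) :=
    Fusion.le_normalizer_of_conj_mem fun g hg => by
      obtain ⟨i, rfl⟩ := mem_zpowers_iff.1 hg
      rw [← conj_zpow, hkinv]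
      exact zpow_mem (inv_mem (mem_zpowers _)) i
  have hok : orderOf (c'.φ k) = s := by rw [c'.orderOf_φ, hk]
  have hc := mem_centralizer_singleton_iff.1 (hall (zpowers (c'.φ k)) (zpowers_le.2 hkK)
    (IsPGroup.of_card (n := 1) (by rw [Nat.card_zpowers, hok, pow_one])) hn (mem_zpowers _))
  rw [← hc, mul_inv_cancel_right] at hkinv
  exact sq_ne_one_of_prime hT.prime hT.ne_two hok
    (by rw [pow_two]; nth_rewrite 2 [hkinv]; rw [mul_inv_cancel])

/-- No prime dividing `q + 1`. -/
theorem case_add (hT : c.Tor y s a) {l : ℕ} (hl : l.Prime) (hl2 : l ≠ 2) (hl3 : l ≠ 3)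
    (hlf : ¬ l ∣ c.f) (hlq : l ∣ Fintype.card F + 1) {v w : G} (hv : v = c.i ∨ v = c.t * c.i)
    (hwd : w * c.d a = c.d a * w) (hwv : w * v = v * w) (how : orderOf w = l)
    (hiw : c.t * w * c.t⁻¹ = w⁻¹) : False := by
  haveI : Fact (Nat.Prime 2) := ⟨Nat.prime_two⟩
  haveI : Fact (Nat.Prime 3) := ⟨Nat.prime_three⟩
  obtain ⟨hS, hv1, hvt, hv2, -⟩ := c.iv_facts hv
  obtain ⟨n, hn, hcv⟩ := c.exists_at ⟨hS, hv1⟩
  set c' := c.conjBy n hn
  obtain ⟨h8, j, hj, hq, -⟩ := c.exists_three_pow hT.gen y hT.hy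
  haveI := c.charP_three hj hq
  have h4 := hT.mod_four
  have h7 : 7 ≤ Fintype.card F := by
    have := hT.seven
    have := hT.dvd_half
    have hs := hT.prime.two_le
    have := hT.ne_two
    have : 7 ≤ s := by
      by_contra hlt
      have hp := hT.prime
      interval_cases s <;> first | omega | norm_num at hp
    have := Nat.le_of_dvd (by have := c.five_le; omega) hT.dvd_sub
    omega
  obtain ⟨x, τ, hwx, hox, hx2, hτ2, hτ1, hτ, hix⟩ := c'.exists_coords hl hl2 hlf
    (u := c.t) c.t_mem (by rw [hcv]; exact hvt.symm) (by rw [hcv]; exact hwv) how hiw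
  set T := centralizer ({x} : Set PSL2[F])
  have hT2 : Nat.card T = (Fintype.card F + 1) / 2 :=
    card_cent_add (by omega) c.q_odd hl hl2 hl3 hox hlq
  -- the involution of the torus of `x`
  obtain ⟨e, he⟩ := exists_prime_orderOf_dvd_card' (G := T) 2 (by rw [hT2]; omega)
  rw [← Subgroup.orderOf_coe] at he
  have hex := mem_centralizer_singleton_iff.1 e.2
  have he2 : (e : PSL2[F]) * e = 1 := (pow_two _).symm.trans (orderOf_dvd_iff_pow_eq_one.1 he.dvd)
  have he1 : (e : PSL2[F]) ≠ 1 := fun h => by rw [h, orderOf_one] at he; omega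
  have hτe : τ * e * τ⁻¹ = e := by
    by_contra hne
    have h1 : τ * (e : PSL2[F]) * τ⁻¹ ∈ T := mem_centralizer_singleton_iff.2 (Commute.inv_right_iff.1 (by
      rw [← hix]
      show τ * (e : PSL2[F]) * τ⁻¹ * (τ * x * τ⁻¹) = τ * x * τ⁻¹ * (τ * e * τ⁻¹)
      rw [conj_mul, conj_mul, hex])).eq
    have hsq : (τ * (e : PSL2[F]) * τ⁻¹) ^ 2 = 1 := by
      rw [conj_pow, pow_two, he2, mul_one, mul_inv_cancel]
    have hcm : (e : PSL2[F]) * (τ * e * τ⁻¹) = τ * e * τ⁻¹ * e :=
      comm_of_sq_ne_one c.q_odd hx2 hex (mem_centralizer_singleton_iff.1 h1)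
    have hfour := card_dvd_of_le (fourGroup_le hsq ((pow_two _).trans he2) hcm h1 e.2)
    haveI := Cfsg.Lib.Dickson.KleinClasses.isKleinFour_fourGroup hsq ((pow_two (e : PSL2[F])).trans he2) hcm
      (fun h => he1 (conj_eq_one_iff.1 h)) he1 (Ne.symm hne)
    rw [hT2, IsKleinFour.card_four] at hfour
    omega
  set v' := c'.φ e with hv'
  have hv'2 : v' * v' = 1 := by rw [hv', ← map_mul, he2, map_one]
  have hv'v : v' * v = v * v' := hcv ▸ c'.φ_comm e
  have hv't : v' * c.t = c.t * v' := by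
    have := c'.conj_φ hτ (m := (e : PSL2[F]))
    rw [hτe, mul_inv_eq_iff_eq_mul] at this
    exact this.symm
  have hv'w : v' * w = w * v' := by rw [hwx, hv', ← map_mul, ← map_mul, hex]
  obtain ⟨m, hm2, hm⟩ := c.involution_cent hv't hv'2
  set N : Subgroup G := invOrFix w
  set D : Subgroup PSL2[F] := N.comap c.φ with hD
  have htN : c.t ∈ N := mem_invOrFix.2 (Or.inr hiw)
  have hv'N : v' ∈ N := mem_invOrFix.2 (Or.inl (by rw [hv'w, mul_inv_cancel_right]))
  have hmD : m ∈ D := by
    show c.φ m ∈ N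
    rcases hm with r | r
    · exact r ▸ hv'N
    · rw [show c.φ m = c.t⁻¹ * v' by rw [r, inv_mul_cancel_left]]
      exact mul_mem (inv_mem htN) hv'N
  have hjD : pr jSL ∈ D := by
    show c.i ∈ N
    have hvN : v ∈ N := mem_invOrFix.2 (Or.inl (by rw [← hwv, mul_inv_cancel_right]))
    rcases hv with r | r
    · exact r ▸ hvN
    · rw [show c.i = c.t⁻¹ * v by rw [r, inv_mul_cancel_left]]
      exact mul_mem (inv_mem htN) hvN
  have haD : pr (splitSL F a) ∈ D := by
    show c.d a ∈ N
    exact mem_invOrFix.2 (Or.inl (by rw [← hwd, mul_inv_cancel_right]))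
  have hjm : pr jSL * m = m * pr jSL := by
    refine c.φ_inj ?_
    rw [map_mul, map_mul]
    show Commute c.i (c.φ m)
    have hv'i : Commute c.i v' := by
      rcases hv with r | r
      · exact r ▸ hv'v.symm
      · have h1 : Commute v' (c.t * c.i) := r ▸ hv'v
        have := (show Commute v' c.t⁻¹ from Commute.inv_right hv't).mul_right h1
        rw [inv_mul_cancel_left] at this
        exact this.symm
    rcases hm with r | r
    · exact r ▸ hv'i
    · have := (show Commute c.i c.t⁻¹ from Commute.inv_right c.i_comm_t).mul_right (r ▸ hv'i)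
      rwa [inv_mul_cancel_left] at this
  have hwt : ¬ Commute c.t w := fun h => by
    rw [h.eq, mul_inv_cancel_right] at hiw
    exact sq_ne_one_of_prime hl hl2 how (by rw [pow_two]; nth_rewrite 2 [hiw]; rw [mul_inv_cancel])
  have hv'1 : v' ≠ 1 := fun h => he1 (c'.φ_inj (h.trans (map_one c'.φ).symm))
  have hm1 : m ≠ 1 := by
    rintro rfl
    rw [map_one, mul_one] at hm
    rcases hm with r | r
    · exact hv'1 r
    · exact hwt (r ▸ hv'w)
  have hne : pr jSL ≠ m := by
    rintro rfl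
    have hor : v' = v ∨ v' = c.t * v := by
      rcases hm with r | r <;> rcases hv with r' | r'
      · exact Or.inl (r.trans r'.symm)
      · exact Or.inr (by rw [r', ← mul_assoc, c.t_sq, one_mul]; exact r)
      · exact Or.inr (by rw [r']; exact r)
      · exact Or.inl (r.trans r'.symm)
    rcases hor with r | r
    · exact c'.φ_ne e (hcv ▸ r)
    · refine hwt ?_
      have h1 : Commute (c.t * v) w := r ▸ hv'w
      have := h1.mul_left (show Commute v⁻¹ w from Commute.inv_left hwv.symm)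
      rwa [mul_inv_cancel_right] at this
  -- the centralizer of `j` in `D` is a two-group
  have hsmall : Nat.card ↥(D ⊓ centralizer ({pr jSL} : Set PSL2[F]) : Subgroup PSL2[F]) ≤ 4 := by
    set B : Subgroup PSL2[F] := D ⊓ centralizer ({pr jSL} : Set PSL2[F])
    have hdiv : Nat.card B ∣ Fintype.card F + 1 := by
      rw [← (Cfsg.Lib.Dickson.card_centralizer_involution c.q_odd h7
        ((pow_two _).trans pr_jSL_sq) pr_jSL_ne).2 h4]
      exact card_dvd_of_le inf_le_right
    have hodd : ∀ p : ℕ, p.Prime → p ∣ Nat.card B → p = 2 := by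
      intro p hp hpB
      by_contra hp2
      haveI := Fact.mk hp
      obtain ⟨b, hb⟩ := exists_prime_orderOf_dvd_card' (G := B) p hpB
      rw [← Subgroup.orderOf_coe] at hb
      have hbodd : Odd (orderOf (b : PSL2[F])) := hb ▸ hp.odd_of_ne_two hp2
      have hb3 : ¬ 3 ∣ orderOf (b : PSL2[F]) := fun h =>
        (c.three_not_dvd hj hq).2 ((h.trans (hb ▸ hpB)).trans hdiv)
      have hbj := mem_centralizer_singleton_iff.1 b.2.2
      have hmb : m * (b : PSL2[F]) * m⁻¹ = (b : PSL2[F])⁻¹ :=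
        inverted_of_involutions h7 h4 h8 ((pow_two _).trans pr_jSL_sq) pr_jSL_ne
          ((pow_two m).trans hm2) hm1 hjm.symm hne.symm (sq_ne_one_of_prime hp hp2 hb) hb3 hbodd hbj
      set g := c.φ (b : PSL2[F]) with hg
      have hgo : Odd (orderOf g) := by rw [hg, c.orderOf_φ]; exact hbodd
      have hgw : g * w = w * g := fix_of_odd b.2.1 hgo
      have hgi : Commute g c.i := by
        show c.φ (b : PSL2[F]) * c.φ (pr jSL) = c.φ (pr jSL) * c.φ (b : PSL2[F])
        rw [← map_mul, ← map_mul, hbj]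
      have hgt : Commute g c.t := c.φ_comm _
      have hgv : g * v = v * g := by
        rcases hv with r | r
        · exact r ▸ hgi.eq
        · exact r ▸ (hgt.mul_right hgi).eq
      have hgv' : v' * g * v'⁻¹ = g⁻¹ := by rw [hg, c.conj_φ hm, hmb, map_inv]
      have hgv'' : g * c'.t = c'.t * g := by rw [hcv]; exact hgv
      have hπ := c'.π_eq_one_of_inverted (g := ⟨g, mem_centralizer_singleton_iff.2 hgv''⟩)
        (v := ⟨v', mem_centralizer_singleton_iff.2 (by rw [hcv]; exact hv'v)⟩) (Subtype.ext hv'2)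
        (Subtype.ext hgv')
      obtain ⟨b', hb'⟩ := c'.eq_φ_of_π hp hp2 hgv'' hπ
        ⟨1, by rw [pow_one, ← hb, ← c.orderOf_φ, pow_orderOf_eq_one]⟩
      have hbx : b' * x = x * b' := c'.φ_inj (by rw [map_mul, map_mul, ← hb', ← hwx, hgw])
      have h1 := c'.eq_one_of_fixed hx2 hτ hix hbx (by rw [← c'.orderOf_φ, ← hb']; exact hgo)
        (by rw [← hb', ← hgt.eq, mul_inv_cancel_right])
      rw [h1, map_one, hg, ← map_one c.φ, c.φ_inj.eq_iff] at hb'
      rw [hb', orderOf_one] at hb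
      exact hp.ne_one hb.symm
    have hne0 : Nat.card B ≠ 0 := Nat.card_pos.ne'
    have hB := Nat.eq_prime_pow_of_unique_prime_dvd hne0 (fun {d} hd h => hodd d hd h)
    rw [hB] at hdiv ⊢
    by_contra hgt
    have h3 : 3 ≤ (Nat.card B).primeFactorsList.length := by
      by_contra hlt
      exact hgt ((Nat.pow_le_pow_right (by omega) (show _ ≤ 2 by omega)).trans (le_of_eq (by norm_num)))
    have := (pow_dvd_pow 2 h3).trans hdiv
    omega
  refine no_subgroup h7 h8 D hT.prime ?_ pr_jSL_sq pr_jSL_ne hm2 hm1 hjm hne hT.orderOf_split hjD hmD haD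
    (fun u hu hua => ?_) (fun P u hu huP => ?_) hsmall
  · by_contra hlt
    have := hT.seven
    have := hT.ne_two
    have hp := hT.prime
    have := hT.prime.two_le
    interval_cases s <;> first | omega | norm_num at hp
  · have ho : Odd (Nat.card (centralizer ({pr (splitSL F a)} : Set PSL2[F]))) :=
      c.odd_card_cent_split hj hq h4 hT.prime hT.ne_two hT.seven.1 hT.orderOf_split hT.dvd_sub
    exact orderOf_eq_one_iff.1 (Nat.eq_one_of_dvd_coprimes (Nat.coprime_two_left.2 ho)
      (orderOf_dvd_of_pow_eq_one ((pow_two u).trans hu))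
      (Subgroup.orderOf_dvd_natCard _ (mem_centralizer_singleton_iff.2 hua)))
  · by_contra hu1
    have hfree : ∀ g ∈ (P : Subgroup PSL2[F]), g * u = u * g → g = 1 := by
      intro g hg hgu
      have hd : orderOf g ∣ Fintype.card F + 1 := by
        rw [← (Cfsg.Lib.Dickson.card_centralizer_involution c.q_odd h7 ((pow_two u).trans hu) hu1).2 h4]
        exact Subgroup.orderOf_dvd_natCard _ (mem_centralizer_singleton_iff.2 hgu)
      obtain ⟨k, hk⟩ := P.2 ⟨g, hg⟩
      exact orderOf_eq_one_iff.1 (Nat.eq_one_of_dvd_coprimes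
        (((Nat.Prime.coprime_iff_not_dvd Nat.prime_three).2 (c.three_not_dvd hj hq).2).pow_left k)
        (orderOf_dvd_of_pow_eq_one (congrArg Subtype.val hk)) hd)
    obtain ⟨hinv, -⟩ := inverted_of_fixed_free hu huP hfree
    have hP1 : (P : Subgroup PSL2[F]) ≠ ⊥ := by
      intro h
      have hc := Cfsg.Lib.Dickson.card_sylow_psl (F := F) 3 P
      rw [h, card_bot] at hc
      omega
    obtain ⟨g, hg, hg1⟩ := (Subgroup.bot_or_exists_ne_one _).resolve_left hP1
    obtain ⟨k, hk⟩ := P.2 ⟨g, hg⟩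
    exact hg1 (c.three_not_inverted hj hq h4 ⟨k, congrArg Subtype.val hk⟩ (hinv g hg))

end Tor

end Cfg

end Cfsg.Lib.Walter3.Field
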