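import Cfsg.Agent.Lib.Walter3.Field.CentTorusBase
import Cfsg.Agent.Lib.Invol.Quaternion

/-!
# The torus elements of prime order fixed by a field automorphism

Their arithmetic, the four-group `⟨t, i⟩` acting on the odd core of the centralizer of an element
with a torus of odd order, and the coordinates at the involutions inverting such elements.
-/

set_option autoImplicit false
set_option linter.unusedSectionVars false
set_option linter.style.haveILetI false

namespace Cfsg.Lib.Walter3.Field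

open Subgroup Cfsg Cfsg.Lib Matrix
open Cfsg.Lib.TwoDim (splitSL)
open scoped MatrixGroups

universe u

local notation "PSL2[" K "]" => Matrix.ProjectiveSpecialLinearGroup (Fin 2) K

section Group

variable {G : Type u} [Group G] [Finite G]

theorem four_not_isCyclic {t v : G} (ht : orderOf t = 2) (hv : orderOf v = 2) (hne : t ≠ v) :
    ¬ IsCyclic (four t v) := fun h =>
  hne (Invol.eq_of_pow_two_group_cyclic h (mem_sup_left (mem_zpowers t)) (mem_sup_right (mem_zpowers v))
    ht hv)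

/-- A group normalized by a four-group is generated by the fixed points of its involutions. -/
theorem exists_four_fixed {t v : G} (ht : orderOf t = 2) (hv : orderOf v = 2) (hne : t ≠ v)
    (hc : t * v = v * t) {Q C : Subgroup G} (hQ : Odd (Nat.card Q))
    (htQ : t ∈ normalizer (Q : Set G)) (hvQ : v ∈ normalizer (Q : Set G)) (hnot : ¬ Q ≤ C) :
    ∃ a, (a = t ∨ a = v ∨ a = t * v) ∧ ¬ Q ⊓ centralizer ({a} : Set G) ≤ C := by
  have ht2 : t * t = 1 := by rw [← pow_two, ← ht, pow_orderOf_eq_one]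
  have hv2 : v * v = 1 := by rw [← pow_two, ← hv, pow_orderOf_eq_one]
  haveI := four_comm hc
  by_contra hall
  refine hnot ((Coprime.le_iSup_centralizer_of_not_isCyclic (four_not_isCyclic ht hv hne)
    (four_le htQ hvQ) (odd_coprime_four ht2 hv2 hc hQ)).trans (iSup_le fun a => ?_))
  by_contra ha
  exact hall ⟨a, (mem_four ht2 hv2 hc a.2.1).resolve_left a.2.2, ha⟩

/-- If an invariant Sylow subgroup lies in `C(t)` then so do all invariant `p`-subgroups. -/
theorem le_centralizer_of_sylow {t : G} (ht : orderOf t = 2) {K : Subgroup G} (hK : Odd (Nat.card K))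
    (htK : t ∈ normalizer (K : Set G)) {p : ℕ} [Fact p.Prime] (P : Sylow p K)
    (hP : (P : Subgroup K).map K.subtype ≤ centralizer ({t} : Set G)) {Q : Subgroup G} (hQK : Q ≤ K)
    (hQ : IsPGroup p Q) (htQ : t ∈ normalizer (Q : Set G)) : Q ≤ centralizer ({t} : Set G) := by
  have hct : (Nat.card (zpowers t)).Coprime (Nat.card K) := by
    rw [Nat.card_zpowers, ht]; exact Nat.coprime_two_left.2 hK
  haveI : IsMulCommutative (zpowers t) := IsCyclic.isMulCommutative
  have hsol : Group.IsSolvable (zpowers t) ∨ Group.IsSolvable K :=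
    Or.inl (Group.isSolvable_of_comm fun a b => mul_comm' a b)
  obtain ⟨P₁, hQP, hP₁⟩ := Coprime.exists_invariant_sylow_ge (zpowers_le.2 htK) hct hsol hQK hQ
    (zpowers_le.2 htQ)
  have hP₀ : zpowers t ≤ normalizer (((P : Subgroup K).map K.subtype : Subgroup G) : Set G) :=
    zpowers_le.2 (Fusion.le_normalizer_of_conj_mem fun x hx => by
      rwa [← mem_centralizer_singleton_iff.1 (hP hx), mul_inv_cancel_right])
  obtain ⟨c, hcm, he⟩ := Coprime.exists_centralizer_conj_sylow (zpowers_le.2 htK) hct hsol P P₁ hP₀ hP₁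
  intro q hq
  obtain ⟨p', hp, rfl⟩ := he.le (hQP hq)
  have hct' : c * t = t * c := (mem_centralizer_iff.1 hcm.2 t (mem_zpowers t)).symm
  exact mul_mem (mul_mem (mem_centralizer_singleton_iff.2 hct') (hP hp))
    (inv_mem (mem_centralizer_singleton_iff.2 hct'))

/-- An element fixing or inverting `a` normalizes its centralizer. -/
theorem mem_normalizer_centralizer {v a : G} (hv : v ∈ invOrFix a) :
    v ∈ normalizer ((centralizer ({a} : Set G) : Subgroup G) : Set G) := by
  refine mem_normalizer_of_cj_eq ?_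
  rw [show cj v (centralizer ({a} : Set G)) = centralizer ({v * a * v⁻¹} : Set G) from cj_Cg v a]
  rcases mem_invOrFix.1 hv with h | h <;> rw [h]
  ext x
  rw [mem_centralizer_singleton_iff, mem_centralizer_singleton_iff]
  exact ⟨fun e => (Commute.inv_right_iff.1 e).eq, fun e => (Commute.inv_right e).eq⟩

theorem mem_normalizer_cor {v a : G} (hv : v ∈ invOrFix a) :
    v ∈ normalizer (cor (centralizer ({a} : Set G)) : Set G) :=
  normalizer_le_normalizer_cor _ (mem_normalizer_centralizer hv)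

end Group

namespace Cfg

variable {G : Type u} [Group G] [Finite G] {F : Type} [Field F] [Fintype F] (c : Cfg G F)
include c

/-- A torus element of prime order fixed by a field automorphism of prime order. -/
structure Tor (y : fieldPart c.S) (s : ℕ) (a : Fˣ) : Prop where
  gen : c.Gen
  hy : (orderOf y).Prime
  prime : s.Prime
  fix : c.σ y (a : F) = a
  ord : orderOf (c.d a) = s

theorem fix_of_sq (y : fieldPart c.S) {b : F} (h : c.σ y (b ^ 2) = b ^ 2) : c.σ y b = b := by
  rw [map_pow] at h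
  rcases eq_or_ne b 0 with rfl | hb
  · exact map_zero _
  refine (sq_eq_sq_iff_eq_or_eq_neg.1 h).resolve_right fun e => ?_
  have hit : ∀ k : ℕ, (c.σ y ^ (2 * k + 1)) b = -b := by
    intro k
    induction k with
    | zero => simpa using e
    | succ k ih =>
      rw [show 2 * (k + 1) + 1 = (2 * k + 1) + 1 + 1 by ring, pow_succ', pow_succ', RingAut.mul_apply,
        RingAut.mul_apply, ih, map_neg, e, neg_neg, e]
  obtain ⟨k, hk⟩ := c.odd_orderOf y
  have h6 := hit k
  rw [← map_pow c.σ, ← hk, pow_orderOf_eq_one, map_one, RingAut.one_apply] at h6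
  exact hb ((mul_eq_zero.1 (show (2 : F) * b = 0 by linear_combination h6)).resolve_left c.two_ne)

theorem exists_tor (hg : c.Gen) (y : fieldPart c.S) (hy : (orderOf y).Prime) {h : G} (hH : h ∈ c.H)
    (hhy : h * y = y * h) (hs : (orderOf h).Prime) : ∃ a, h = c.d a ∧ c.Tor y (orderOf h) a := by
  obtain ⟨a, rfl⟩ := c.mem_H.1 hH
  refine ⟨a, rfl, hg, hy, hs, c.fix_of_sq y ?_, rfl⟩
  have e : c.d (Units.map (c.σ y : F →* F) a) = c.d a := by
    rw [← c.y_d, ← hhy, mul_inv_cancel_right]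
  have h2 : c.d (Units.map (c.σ y : F →* F) a * a⁻¹) = 1 := by
    rw [d_mul, e, ← d_mul, mul_inv_cancel]
    exact c.d_eq_one.2 (Or.inl rfl)
  rcases c.d_eq_one.1 h2 with r | r <;> rw [mul_inv_eq_iff_eq_mul] at r <;>
    have r' := congrArg Units.val r <;> simp at r' <;> simp [r']

variable {c} {y : fieldPart c.S} {s : ℕ} {a : Fˣ}

namespace Tor

theorem mod_four (hT : c.Tor y s a) : Fintype.card F % 4 = 3 := by
  have := (c.exists_three_pow hT.gen y hT.hy).1
  omega

theorem dvd_half (hT : c.Tor y s a) : s ∣ (Fintype.card F - 1) / 2 := by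
  have h := Subgroup.orderOf_dvd_natCard _ (c.mem_H.2 ⟨a, rfl⟩)
  rw [hT.ord] at h
  rwa [← c.card_H, Nat.mul_div_cancel _ (show 0 < 2 by omega)]

theorem dvd_sub (hT : c.Tor y s a) : s ∣ Fintype.card F - 1 :=
  hT.dvd_half.trans (Nat.div_dvd_of_dvd (by have := hT.mod_four; omega))

theorem ne_two (hT : c.Tor y s a) : s ≠ 2 := by
  intro h
  have := hT.dvd_half
  have := hT.mod_four
  subst h
  omega

theorem odd (hT : c.Tor y s a) : Odd s := hT.prime.odd_of_ne_two hT.ne_two

theorem seven (hT : c.Tor y s a) : s ≠ 3 ∧ s ≠ 5 := by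
  obtain ⟨-, n, hn, hq, h5⟩ := c.exists_three_pow hT.gen y hT.hy
  have h3 := (c.three_not_dvd hn hq).1
  have := hT.dvd_sub
  refine ⟨?_, ?_⟩ <;> rintro rfl <;> omega

theorem not_dvd_f (hT : c.Tor y s a) : ¬ s ∣ c.f := fun h =>
  (c.not_dvd_of_dvd_f hT.gen hT.prime h).1 hT.dvd_sub

theorem pow_eq (hT : c.Tor y s a) : ((a : F) ^ 2) ^ s = 1 := by
  have h : c.d (a ^ s) = 1 := by
    have hp : ∀ k : ℕ, c.d (a ^ k) = c.d a ^ k := by
      intro k
      induction k with
      | zero => rw [pow_zero, pow_zero]; exact c.d_eq_one.2 (Or.inl rfl)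
      | succ k ih => rw [pow_succ, d_mul, ih, pow_succ]
    rw [hp, ← hT.ord, pow_orderOf_eq_one]
  rw [← pow_mul, mul_comm, pow_mul]
  rcases c.d_eq_one.1 h with r | r <;> rw [← Units.val_pow_eq_pow_val, r] <;> simp

theorem sq_ne (hT : c.Tor y s a) : (a : F) ^ 2 ≠ 1 := fun e => by
  have h := hT.ord
  rw [c.d_eq_one.2 ((sq_eq_one_iff.1 e).imp (fun r => Units.ext r) fun r => Units.ext (by simpa using r)),
    orderOf_one] at h
  exact hT.prime.ne_one h.symm

theorem orderOf_sq (hT : c.Tor y s a) : orderOf ((a : F) ^ 2) = s := by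
  haveI := Fact.mk hT.prime
  exact orderOf_eq_prime hT.pow_eq hT.sq_ne

theorem dvd_fixCard (hT : c.Tor y s a) : s ∣ c.fixCard y - 1 := by
  haveI : Fintype (c.fixField y) := Fintype.ofFinite _
  set z : c.fixField y := ⟨(a : F) ^ 2, pow_mem hT.fix 2⟩
  have hz : orderOf z = s := by
    rw [← hT.orderOf_sq]
    exact (orderOf_injective ((c.fixField y).subtype.toMonoidHom) Subtype.val_injective z).symm
  have hz0 : z ≠ 0 := fun e => pow_ne_zero 2 a.ne_zero (congrArg Subtype.val e)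
  rw [← hz, ← c.card_fixField, Nat.card_eq_fintype_card]
  exact orderOf_dvd_of_pow_eq_one (FiniteField.pow_card_sub_one_eq_one z hz0)

/-- All the elements of order `s` of the split torus are fixed. -/
theorem tor_of_ord (hT : c.Tor y s a) {b : Fˣ} (hb : orderOf (c.d b) = s) : c.Tor y s b := by
  refine ⟨hT.gen, hT.hy, hT.prime, c.fix_of_sq y ?_, hb⟩
  have hp : ∀ k : ℕ, c.d (b ^ k) = c.d b ^ k := by
    intro k
    induction k with
    | zero => rw [pow_zero, pow_zero]; exact c.d_eq_one.2 (Or.inl rfl)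
    | succ k ih => rw [pow_succ, d_mul, ih, pow_succ]
  have h : c.d (b ^ s) = 1 := by rw [hp, ← hb, pow_orderOf_eq_one]
  have hbs : ((b : F) ^ 2) ^ s = 1 := by
    rw [← pow_mul, mul_comm, pow_mul]
    rcases c.d_eq_one.1 h with r | r <;> rw [← Units.val_pow_eq_pow_val, r] <;> simp
  haveI : NeZero s := ⟨hT.prime.ne_zero⟩
  obtain ⟨k, -, hk⟩ := (IsPrimitiveRoot.iff_orderOf.2 hT.orderOf_sq).eq_pow_of_pow_eq_one hbs
  rw [← hk, map_pow, map_pow, hT.fix]

theorem orderOf_split (hT : c.Tor y s a) : orderOf (pr (splitSL F a)) = s :=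
  (c.orderOf_φ _).symm.trans hT.ord

end Tor

variable (c)

/-- In the centralizer of an element with a torus of odd order the odd core has index two. -/
theorem cor_of_odd_torus {m : PSL2[F]} (hm : Odd (Nat.card (centralizer ({m} : Set PSL2[F]))))
    {g : G} (hgm : g * c.φ m = c.φ m * g) :
    (Odd (orderOf g) → g ∈ cor (centralizer ({c.φ m} : Set G))) ∧
      (g ∈ cor (centralizer ({c.φ m} : Set G)) ∨ c.t * g ∈ cor (centralizer ({c.φ m} : Set G))) := by
  haveI : Fact (Nat.Prime 2) := ⟨Nat.prime_two⟩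
  refine mem_cor_of_two (AbTwo.abelian_of_one c.S c.hyp.isMulCommutative)
    (mem_centralizer_singleton_iff.2 (c.φ_comm m).symm) c.orderOf_t (fun x hxm hxt hx2 => ?_)
    (mem_centralizer_singleton_iff.2 hgm)
  obtain ⟨k, hk⟩ := hx2
  have hπ : c.π ⟨x, mem_centralizer_singleton_iff.2 hxt⟩ = 1 :=
    c.π_eq_one_of_pgroup Nat.prime_two
      (fun h => (Nat.not_even_iff_odd.2 c.odd_f) (even_iff_two_dvd.2 h)) ⟨k, hk⟩
  obtain ⟨l, hl⟩ := c.exists_of_π_eq_one hxt hπ
  have hlm : Commute (c.φ l) (c.φ m) := by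
    rcases hl with h | h
    · exact h ▸ mem_centralizer_singleton_iff.1 hxm
    · have ht : Commute c.t (c.φ m) := (c.φ_comm m).symm
      have := ht.inv_left.mul_left (h ▸ mem_centralizer_singleton_iff.1 hxm :
        Commute (c.t * c.φ l) (c.φ m))
      rwa [inv_mul_cancel_left] at this
  have hlc : l ∈ centralizer ({m} : Set PSL2[F]) :=
    mem_centralizer_singleton_iff.2 (c.φ_inj (by rw [map_mul, map_mul]; exact hlm.eq))
  have hl2 : orderOf l ∣ 2 ^ (k + 1) := by
    refine orderOf_dvd_of_pow_eq_one (c.φ_inj ?_)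
    rw [map_pow, map_one]
    have e : c.φ l ^ 2 = x ^ 2 := by
      rcases hl with h | h <;> rw [h]
      rw [(show Commute c.t (c.φ l) from (c.φ_comm l).symm).mul_pow, pow_two c.t, c.t_sq, one_mul]
    rw [pow_succ', pow_mul, e, ← pow_mul, ← pow_succ', pow_succ, pow_mul, hk, one_pow]
  have hl1 : l = 1 := orderOf_eq_one_iff.1 (Nat.eq_one_of_dvd_coprimes
    ((Nat.coprime_two_left.2 hm).pow_left (k + 1)) hl2 (Subgroup.orderOf_dvd_natCard _ hlc))
  rw [hl1, map_one, mul_one] at hl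
  exact hl

theorem mem_cor_of_odd_torus {m : PSL2[F]} (hm : Odd (Nat.card (centralizer ({m} : Set PSL2[F]))))
    {g : G} (hgm : g * c.φ m = c.φ m * g) (ho : Odd (orderOf g)) :
    g ∈ cor (centralizer ({c.φ m} : Set G)) :=
  (c.cor_of_odd_torus hm hgm).1 ho

theorem odd_card_cent_split {n : ℕ} (hn : n ≠ 0) (hq : Fintype.card F = 3 ^ n)
    (h4 : Fintype.card F % 4 = 3) {m : PSL2[F]} {l : ℕ} (hl : l.Prime) (h2 : l ≠ 2) (h3 : l ≠ 3)
    (hm : orderOf m = l) (hd : l ∣ Fintype.card F - 1) :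
    Odd (Nat.card (centralizer ({m} : Set PSL2[F]))) := by
  haveI := c.charP_three hn hq
  rw [card_cent_sub (by have := c.five_le; omega) c.q_odd hl h2 h3 hm hd, Nat.odd_iff]
  omega

/-- The involutions `i` and `t i`. -/
theorem iv_facts {v : G} (hv : v = c.i ∨ v = c.t * c.i) :
    v ∈ (c.S : Subgroup G) ∧ v ≠ 1 ∧ v ≠ c.t ∧ v * v = 1 ∧
      (∀ (e : Fˣ) (z : fieldPart c.S), v * (c.d e * z) * v⁻¹ = c.d e⁻¹ * z) := by
  have hS : v ∈ (c.S : Subgroup G) := by
    rcases hv with rfl | rfl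
    exacts [c.i_mem, mul_mem c.t_mem c.i_mem]
  refine ⟨hS, ?_, ?_, c.hyp.sq v hS, fun e z => ?_⟩
  · rcases hv with rfl | rfl
    · exact c.i_ne
    · exact fun h => c.i_ne_t ((eq_inv_of_mul_eq_one_right h).trans c.t_inv)
  · rcases hv with rfl | rfl
    · exact c.i_ne_t
    · exact fun h => c.i_ne (mul_left_cancel (h.trans (mul_one c.t).symm))
  · have hz : Commute v (z : G) := (c.y_comm_S z hS).symm
    have he : v * c.d e * v⁻¹ = c.d e⁻¹ := by
      rw [d, c.conj_φ (τ := pr jSL) (by exact hv)]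
      refine congrArg c.φ ?_
      rw [show (pr jSL * QuotientGroup.mk (splitSL F e) * (pr jSL)⁻¹ : PSL2[F]) =
        pr (jSL * splitSL F e * jSL⁻¹) from rfl, jSL_conj_splitSL]
    calc v * (c.d e * (z : G)) * v⁻¹ = v * c.d e * v⁻¹ * (v * z * v⁻¹) := by group
      _ = c.d e⁻¹ * z := by rw [he, hz.eq, mul_inv_cancel_right]

theorem iv_inverts {v : G} (hv : v = c.i ∨ v = c.t * c.i) (e : Fˣ) :
    v * c.d e * v⁻¹ = (c.d e)⁻¹ := by
  have h := (c.iv_facts hv).2.2.2.2 e 1
  rw [Subgroup.coe_one, mul_one, mul_one] at h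
  rw [h, eq_inv_iff_mul_eq_one, ← d_mul, inv_mul_cancel]
  exact c.d_eq_one.2 (Or.inl rfl)

/-- A four-group invariant `l`-group in the centralizer of a torus element not in `C(t)` has an
inverted element fixed by `i` or by `t i`. -/
theorem exists_v_inverted {l : ℕ} [Fact l.Prime] (h2 : l ≠ 2) {Q : Subgroup G} (hQ : IsPGroup l Q)
    (htQ : c.t ∈ normalizer (Q : Set G)) (hiQ : c.i ∈ normalizer (Q : Set G))
    (hnot : ¬ Q ≤ centralizer ({c.t} : Set G)) :
    ∃ v w, (v = c.i ∨ v = c.t * c.i) ∧ w ∈ Q ∧ w * v = v * w ∧ orderOf w = l ∧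
      c.t * w * c.t⁻¹ = w⁻¹ := by
  have hodd : Odd (Nat.card Q) := by
    obtain ⟨n, hn⟩ := IsPGroup.iff_card.1 hQ
    exact hn ▸ ((Fact.out : l.Prime).odd_of_ne_two h2).pow
  obtain ⟨v, hv, hnv⟩ := exists_four_fixed c.orderOf_t (orderOf_eq_prime (by rw [pow_two, c.i_sq]) c.i_ne)
    (Ne.symm c.i_ne_t) c.i_comm_t.symm hodd htQ hiQ hnot
  have hv' : v = c.i ∨ v = c.t * c.i := hv.resolve_left fun e => hnv (e ▸ inf_le_right)
  have hS := (c.iv_facts hv').1
  have htv : c.t ∈ normalizer ((Q ⊓ centralizer ({v} : Set G) : Subgroup G) : Set G) :=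
    inf_normalizer_le_normalizer_inf ⟨htQ, le_normalizer
      (mem_centralizer_singleton_iff.2 (c.hyp.comm c.t_mem hS))⟩
  obtain ⟨w, hw, how, hiw⟩ := exists_inverted (hQ.to_le inf_le_left) c.t_sq htv hnv
  exact ⟨v, w, hv', hw.1, mem_centralizer_singleton_iff.1 hw.2, how, hiw⟩

/-- An element of prime order of `C(t)` inverted by another point of `S`, in coordinates. -/
theorem exists_coords {l : ℕ} (hl : l.Prime) (h2 : l ≠ 2) (hf : ¬ l ∣ c.f) {u w : G}
    (hu : u ∈ (c.S : Subgroup G)) (hut : u ≠ c.t) (hwt : w * c.t = c.t * w) (ho : orderOf w = l)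
    (hi : u * w * u⁻¹ = w⁻¹) :
    ∃ x τ, w = c.φ x ∧ orderOf x = l ∧ x ^ 2 ≠ 1 ∧ τ * τ = 1 ∧ τ ≠ 1 ∧
      (u = c.φ τ ∨ u = c.t * c.φ τ) ∧ τ * x * τ⁻¹ = x⁻¹ := by
  obtain ⟨x, hx⟩ := c.eq_φ_of_pgroup hl h2 hf hwt ⟨1, by rw [pow_one, ← ho, pow_orderOf_eq_one]⟩
  obtain ⟨τ, hτ2, hτ⟩ := c.involution_cent (c.hyp.comm hu c.t_mem) (c.hyp.sq u hu)
  have hox : orderOf x = l := by rw [← c.orderOf_φ, ← hx, ho]
  have hix : τ * x * τ⁻¹ = x⁻¹ := c.φ_inj (by rw [← c.conj_φ hτ, map_inv, ← hx, hi])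
  refine ⟨x, τ, hx, hox, sq_ne_one_of_prime hl h2 hox, hτ2, ?_, hτ, hix⟩
  rintro rfl
  rw [one_mul, inv_one, mul_one] at hix
  exact sq_ne_one_of_prime hl h2 hox (by rw [pow_two]; nth_rewrite 2 [hix]; rw [mul_inv_cancel])

/-- An element of odd order fixed by an inverting involution and commuting with `x` is trivial. -/
theorem eq_one_of_fixed {u : G} {x τ z : PSL2[F]} (hx : x ^ 2 ≠ 1)
    (hτ : u = c.φ τ ∨ u = c.t * c.φ τ) (hix : τ * x * τ⁻¹ = x⁻¹) (hzx : z * x = x * z)
    (ho : Odd (orderOf z)) (hzu : u * c.φ z * u⁻¹ = c.φ z) : z = 1 := by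
  rw [c.conj_φ hτ] at hzu
  have h := sq_eq_one_of_inverted c.q_odd hx hix hzx (mul_inv_eq_iff_eq_mul.1 (c.φ_inj hzu)).symm
  exact orderOf_eq_one_iff.1 (Nat.eq_one_of_dvd_coprimes (Nat.coprime_two_left.2 ho)
    (orderOf_dvd_of_pow_eq_one h) dvd_rfl)

end Cfg

end Cfsg.Lib.Walter3.Field
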