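import Cfsg.Agent.Lib.Walter3.Field.CentTorusPoints

/-!
# The invariant `s`-subgroups of the centralizer of an element of order `s`

An inverted element of order `s` fixed by `i` would commute with the field automorphism, whose
centralizer has cyclic Sylow `s`-subgroups.
-/

set_option autoImplicit false
set_option linter.unusedSectionVars false
set_option linter.style.haveILetI false

namespace Cfsg.Lib.Walter3.Field

open Subgroup Cfsg Cfsg.Lib Matrix
open Cfsg.Lib.Linear.AutPSL (fld)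
open Cfsg.Lib.TwoDim (splitSL)
open scoped MatrixGroups

universe u

local notation "PSL2[" K "]" => Matrix.ProjectiveSpecialLinearGroup (Fin 2) K

namespace Cfg

variable {G : Type u} [Group G] [Finite G] {F : Type} [Field F] [Fintype F] {c : Cfg G F}
  {y : fieldPart c.S} {s : ℕ} {a : Fˣ}

namespace Tor

theorem sq_ne_neg (hT : c.Tor y s a) : (a : F) ^ 2 ≠ -1 := by
  intro e
  have hns : ¬ IsSquare (-1 : F) := by
    rw [FiniteField.isSquare_neg_one_iff]; have := hT.mod_four; omega
  exact hns ⟨a, by rw [← pow_two, e]⟩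

/-- The conjugate by `y` of an element of order `s` commuting with its conjugate is the element. -/
theorem fld_eq (hT : c.Tor y s a) {x : PSL2[F]} (hx : orderOf x = s)
    (hc : fld (c.σ y) x * x = x * fld (c.σ y) x) :
    fld (c.σ y) x = x ∨ fld (c.σ y) x = x⁻¹ := by
  obtain ⟨-, n, hn, hq, -⟩ := c.exists_three_pow hT.gen y hT.hy
  obtain ⟨g, b, rfl⟩ := c.exists_conj_split hn hq hT.prime hT.ne_two hT.dvd_sub hx
  set D := pr (splitSL F b) with hD
  have hoD : orderOf (c.d b) = s := by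
    show orderOf (c.φ D) = s
    rw [c.orderOf_φ, ← hx, ← MulAut.conj_apply, MulEquiv.orderOf_eq]
  have hb := hT.tor_of_ord hoD
  have hfD : fld (c.σ y) D = D := by
    rw [hD, fld_splitSL, show Units.map (c.σ y : F →* F) b = b from Units.ext (by simpa using hb.fix)]
  set g' := fld (c.σ y) g
  have hx' : fld (c.σ y) (g * D * g⁻¹) = g' * D * g'⁻¹ := by rw [map_mul, map_mul, map_inv, hfD]
  rw [hx'] at hc ⊢
  set k := g⁻¹ * g' with hk
  have hkc : k * D * k⁻¹ * D = D * (k * D * k⁻¹) := by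
    calc k * D * k⁻¹ * D = g⁻¹ * (g' * D * g'⁻¹ * (g * D * g⁻¹)) * g := by rw [hk]; group
      _ = g⁻¹ * (g * D * g⁻¹ * (g' * D * g'⁻¹)) * g := by rw [hc]
      _ = D * (k * D * k⁻¹) := by rw [hk]; group
  obtain ⟨e, he⟩ := comm_splitSL hb.sq_ne hb.sq_ne_neg hkc
  have hoe : orderOf (c.d e) = s := by
    show orderOf (c.φ _) = s
    rw [c.orderOf_φ]
    show orderOf (pr (splitSL F e)) = s
    rw [← he, ← MulAut.conj_apply, MulEquiv.orderOf_eq]
    exact hb.orderOf_split
  have hte := hT.tor_of_ord hoe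
  have hfin : pr (splitSL F e) = D ∨ pr (splitSL F e) = D⁻¹ := by
    have hD' : D⁻¹ = pr (splitSL F b⁻¹) := by rw [hD, map_inv]; rfl
    rw [hD', hD]
    have key : ∀ u v : Fˣ, (u : F) ^ 2 = (v : F) ^ 2 → pr (splitSL F u) = pr (splitSL F v) := by
      intro u v huv
      have hone : pr (splitSL F (u * v⁻¹)) = 1 := pr_splitSL_eq_one.2 (by
        rcases sq_eq_sq_iff_eq_or_eq_neg.1 huv with r | r
        · left; rw [mul_inv_eq_one]; exact Units.ext r
        · right
          refine Units.ext ?_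
          push_cast
          rw [r, neg_mul, mul_inv_cancel₀ v.ne_zero])
      rw [map_mul, map_inv, pr, QuotientGroup.mk_mul, QuotientGroup.mk_inv, mul_inv_eq_one] at hone
      exact hone
    rcases conj_splitSL hte.sq_ne hte.sq_ne_neg he with ⟨-, h⟩ | h
    · exact Or.inl (key e b h.symm)
    · refine Or.inr (key e b⁻¹ ?_)
      rw [Units.val_inv_eq_inv_val, inv_pow]
      exact eq_inv_of_mul_eq_one_right h
  have hfinal : g' * D * g'⁻¹ = g * pr (splitSL F e) * g⁻¹ := by rw [← he, hk]; group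
  rw [hfinal]
  rcases hfin with r | r <;> rw [r]
  · exact Or.inl rfl
  · right; group

/-- The Sylow subgroups of `C(y)` are cyclic for the prime `s`. -/
theorem zpowers_eq (hT : c.Tor y s a) {w k : G} (hw : orderOf w = s) (hk : orderOf k = s)
    (hwy : w * y = y * w) (hky : k * y = y * k) (hwk : w * k = k * w) : zpowers w = zpowers k := by
  classical
  haveI := Fact.mk hT.prime
  set C : Subgroup G := centralizer ({(y : G)} : Set G)
  let ι : (c.fixField y)ˣ →* Fˣ := Units.map ((c.fixField y).subtype : c.fixField y →* F)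
  have hι : Function.Injective ι := Units.map_injective Subtype.val_injective
  let ψ : (c.fixField y)ˣ →* G := ((c.φ.comp (QuotientGroup.mk' _)).comp (splitSL F)).comp ι
  have hψ : ∀ v, ψ v = c.d (ι v) := fun v => rfl
  have hψC : ∀ v, ψ v ∈ C := fun v => mem_centralizer_singleton_iff.2 (by
    have e : Units.map (c.σ y : F →* F) (ι v) = ι v := Units.ext (v : c.fixField y).2
    have := c.y_d y (ι v)
    rw [e, mul_inv_eq_iff_eq_mul] at this
    rw [hψ]
    exact this.symm)
  have hker : IsPGroup 2 ψ.ker := fun v => ⟨1, Subtype.ext (by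
    rw [SubmonoidClass.coe_pow, pow_one, Subgroup.coe_one]
    refine hι ?_
    rw [map_pow, map_one]
    rcases c.d_eq_one.1 ((hψ v).symm.trans v.2) with r | r <;> rw [r] <;> simp)⟩
  obtain ⟨j, hj⟩ := IsPGroup.iff_card.1 hker
  let R := ψ.range.subgroupOf C
  have hRC : ψ.range ≤ C := by rintro _ ⟨v, rfl⟩; exact hψC v
  haveI hcy : IsCyclic R := by
    haveI : IsCyclic (c.fixField y)ˣ := inferInstance
    haveI : IsCyclic ψ.range := isCyclic_of_surjective ψ.rangeRestrict ψ.rangeRestrict_surjective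
    exact isCyclic_of_surjective (subgroupOfEquivOfLe hRC).symm.toMonoidHom
      (subgroupOfEquivOfLe hRC).symm.surjective
  have hidx : ¬ s ∣ R.index := by
    intro h
    have h1 := R.card_mul_index
    have h2 : Nat.card ψ.range * 2 ^ j = c.fixCard y - 1 := by
      rw [← hj, ← index_ker, mul_comm, ψ.ker.card_mul_index, Nat.card_units, c.card_fixField]
    rw [Nat.card_congr (subgroupOfEquivOfLe hRC).toEquiv,
      show Nat.card C = _ from (hT.gen y hT.hy).2.2.2, ← h2] at h1
    have h3 : R.index = 2 ^ j * (c.f * (c.fixCard y ^ 3 * (c.fixCard y ^ 3 + 1))) :=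
      Nat.eq_of_mul_eq_mul_left (Nat.card_pos (α := ψ.range)) (h1.trans (by ring))
    have hd := hT.dvd_fixCard
    have h2s : ¬ s ∣ 2 := fun e => hT.ne_two ((Nat.prime_dvd_prime_iff_eq hT.prime Nat.prime_two).1 e)
    have hqpos : 1 ≤ c.fixCard y := by
      rcases (hT.gen y hT.hy).2.1 with ⟨m, -, hm⟩
      exact hm ▸ Nat.one_le_pow _ _ (by omega)
    rcases hT.prime.dvd_mul.1 (h3 ▸ h) with e | e
    · exact h2s (hT.prime.dvd_of_dvd_pow e)
    rcases hT.prime.dvd_mul.1 e with e | e
    · exact hT.not_dvd_f e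
    rcases hT.prime.dvd_mul.1 e with e | e
    · have := Nat.dvd_sub (hT.prime.dvd_of_dvd_pow e) hd
      rw [show c.fixCard y - (c.fixCard y - 1) = 1 by omega] at this
      exact hT.prime.not_dvd_one this
    · refine h2s ?_
      have h4 : c.fixCard y - 1 ∣ c.fixCard y ^ 3 - 1 := Nat.sub_one_dvd_pow_sub_one _ _
      have := Nat.dvd_sub e (hd.trans h4)
      rwa [show c.fixCard y ^ 3 + 1 - (c.fixCard y ^ 3 - 1) = 2 by
        have := Nat.one_le_pow 3 (c.fixCard y) hqpos
        omega] at this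
  set w' : C := ⟨w, mem_centralizer_singleton_iff.2 hwy⟩
  set k' : C := ⟨k, mem_centralizer_singleton_iff.2 hky⟩
  have hw' : orderOf w' = s := (Subgroup.orderOf_coe w').symm.trans hw
  have hk' : orderOf k' = s := (Subgroup.orderOf_coe k').symm.trans hk
  have hP : IsPGroup s (zpowers w' ⊔ zpowers k' : Subgroup C) := by
    refine IsPGroup.to_sup_of_normal_right'
      (IsPGroup.of_card (n := 1) (by rw [Nat.card_zpowers, hw', pow_one]))
      (IsPGroup.of_card (n := 1) (by rw [Nat.card_zpowers, hk', pow_one]))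
      (zpowers_le.2 (Fusion.le_normalizer_of_conj_mem fun x hx => ?_))
    obtain ⟨i, rfl⟩ := mem_zpowers_iff.1 hx
    have hcm : Commute w' (k' ^ i) := (show Commute w' k' from Subtype.ext hwk).zpow_right i
    rw [hcm.eq, mul_inv_cancel_right]
    exact zpow_mem (mem_zpowers _) i
  obtain ⟨g, hg⟩ := exists_conj_mem_of_pgroup R hidx hP
  have hconj : ∀ x : C, orderOf (g⁻¹ * x * g) = orderOf x := fun x => by
    rw [show g⁻¹ * x * g = MulAut.conj g⁻¹ x by simp]
    exact orderOf_injective (MulAut.conj g⁻¹).toMonoidHom (MulAut.conj g⁻¹).injective x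
  set w'' : R := ⟨_, hg w' (mem_sup_left (mem_zpowers _))⟩
  set k'' : R := ⟨_, hg k' (mem_sup_right (mem_zpowers _))⟩
  have he := Invol.zpowers_eq_of_cyclic (x := w'') (y := k'')
    (by rw [← Subgroup.orderOf_coe w'', ← Subgroup.orderOf_coe k'', hconj, hconj, hw', hk'])
  obtain ⟨i, hi⟩ := mem_zpowers_iff.1 (he ▸ mem_zpowers w'' : w'' ∈ zpowers k'')
  have hi' : w = k ^ i := by
    have h := congrArg (fun z : R => g * (z : C) * g⁻¹) hi
    simp only [SubgroupClass.coe_zpow, w'', k''] at h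
    rw [← conj_zpow] at h
    have h' : w' = k' ^ i := by
      calc w' = g * (g⁻¹ * w' * g) * g⁻¹ := by group
        _ = (g * (g⁻¹ * k' * g) * g⁻¹) ^ i := h.symm
        _ = k' ^ i := by group
    exact congrArg Subtype.val h'
  exact eq_of_le_of_card_ge (zpowers_le.2 (hi' ▸ zpow_mem (mem_zpowers k) i))
    (by rw [Nat.card_zpowers, Nat.card_zpowers, hw, hk])

/-- No element of order `s` of `C(h)` fixed by `i` or `t i` is inverted by `t`. -/
theorem case_same (hT : c.Tor y s a) {v w : G} (hv : v = c.i ∨ v = c.t * c.i)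
    (hwd : w * c.d a = c.d a * w) (hwv : w * v = v * w) (how : orderOf w = s)
    (hiw : c.t * w * c.t⁻¹ = w⁻¹) : False := by
  obtain ⟨hS, hv1, hvt, -, hvd⟩ := c.iv_facts hv
  obtain ⟨n, hn, hcv⟩ := c.exists_at ⟨hS, hv1⟩
  set c' := c.conjBy n hn
  have hd4 : Odd (Nat.card (centralizer ({pr (splitSL F a)} : Set PSL2[F]))) := by
    obtain ⟨-, j, hj, hq, -⟩ := c.exists_three_pow hT.gen y hT.hy
    exact c.odd_card_cent_split hj hq hT.mod_four hT.prime hT.ne_two hT.seven.1 hT.orderOf_split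
      hT.dvd_sub
  set X : Subgroup G := centralizer ({c.d a} : Set G) with hX
  have hodd_d : Odd (orderOf (c.d a)) := hT.ord ▸ hT.odd
  have hmemcor : ∀ g ∈ X, Odd (orderOf g) → g ∈ cor X := fun g hg ho =>
    c.mem_cor_of_odd_torus (m := pr (splitSL F a)) hd4 (mem_centralizer_singleton_iff.1 hg) ho
  set M : Subgroup G := cor X ⊓ c'.L
  have hML : ∀ g ∈ M, g * v = v * g := fun g hg => by
    obtain ⟨m, rfl⟩ := hg.2
    exact hcv ▸ c'.φ_comm m
  obtain ⟨x, τ, hwx, hox, hx2, hτ2, -, hτ, hix⟩ := c'.exists_coords hT.prime hT.ne_two hT.not_dvd_f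
    (u := c.t) c.t_mem (by rw [hcv]; exact hvt.symm) (by rw [hcv]; exact hwv) how hiw
  -- `M` is inverted by `t`
  have htX : c.t ∈ X := mem_centralizer_singleton_iff.2 (c.d_comm_t a).symm
  have htM : c.t ∈ normalizer (M : Set G) := Fusion.le_normalizer_of_conj_mem fun g hg => by
    refine ⟨(mem_normalizer_iff.1 (le_normalizer_cor X htX) g).1 hg.1, ?_⟩
    obtain ⟨m, rfl⟩ := hg.2
    exact ⟨_, (c'.conj_φ hτ m).symm⟩
  have hfree : ∀ g ∈ M, g * c.t = c.t * g → g = 1 := by
    intro g hg hgt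
    obtain ⟨e, z, hgz, -⟩ := c.cent_t_d hodd_d hT.sq_ne hgt
      (mem_centralizer_singleton_iff.1 (cor_le X hg.1))
    have hvt' : Commute v c.t := c.hyp.comm hS c.t_mem
    have he : c.d e⁻¹ = c.d e := by
      refine mul_right_cancel (b := (z : G)) ?_
      rw [← hvd e z]
      have hcomm : Commute v (c.d e * z) := by
        have hg' : Commute v g := (hML g hg).symm
        rcases hgz with r | r
        · exact r ▸ hg'
        · have := hvt'.inv_right.mul_right (r ▸ hg' : Commute v (c.t * (c.d e * z)))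
          rwa [inv_mul_cancel_left] at this
      rw [hcomm.eq, mul_inv_cancel_right]
    have hd1 : c.d e = 1 := by
      have h2 : c.d e ^ 2 = 1 := by
        rw [pow_two]
        nth_rewrite 1 [← he]
        rw [← d_mul, inv_mul_cancel]
        exact c.d_eq_one.2 (Or.inl rfl)
      have ho : ¬ 2 ∣ Nat.card c.H := by have := c.card_H; have := hT.mod_four; omega
      exact orderOf_eq_one_iff.1 (Nat.eq_one_of_dvd_coprimes
        ((Nat.Prime.coprime_iff_not_dvd Nat.prime_two).2 ho) (orderOf_dvd_of_pow_eq_one h2)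
        (Subgroup.orderOf_dvd_natCard _ (c.mem_H.2 ⟨e, rfl⟩)))
    rw [hd1, one_mul] at hgz
    have hgz' : g = z := by
      refine hgz.resolve_right fun r => ?_
      obtain ⟨j, hj⟩ := Odd.of_dvd_nat (odd_cor X) (Subgroup.orderOf_dvd_natCard _ hg.1)
      have h1 : g ^ (2 * j + 1) = 1 := hj ▸ pow_orderOf_eq_one g
      rw [r, ((c.y_comm_t z).symm).mul_pow, pow_succ c.t, pow_mul c.t, pow_two c.t, c.t_sq, one_pow,
        one_mul, ← SubmonoidClass.coe_pow] at h1
      exact (c.decomp_unique (l := 1) (l' := 1) (y := 1) (y' := z ^ (2 * j + 1))).2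
        (by rw [map_one, one_mul, one_mul, h1]; rfl)
    obtain ⟨m, hm⟩ := hg.2
    have := (c'.decomp_unique (l := m) (l' := 1) (y := 1) (y' := z)).1 (by
      rw [map_one, one_mul, Subgroup.coe_one, mul_one, hm]; exact hgz')
    rw [← hm, this.1, map_one]
  obtain ⟨-, hMc⟩ := inverted_of_fixed_free c.t_sq htM hfree
  have hwM : w ∈ M := ⟨hmemcor w (mem_centralizer_singleton_iff.2 hwd) (how ▸ hT.odd), ⟨x, hwx.symm⟩⟩
  have hyd : (y : G) * c.d a = c.d a * y := by
    have e : Units.map (c.σ y : F →* F) a = a := Units.ext (by simpa using hT.fix)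
    have := c.y_d y a
    rwa [e, mul_inv_eq_iff_eq_mul] at this
  have hyM : (y : G) * w * (y : G)⁻¹ ∈ M :=
    ⟨(mem_normalizer_iff.1 (le_normalizer_cor X (mem_centralizer_singleton_iff.2 hyd)) w).1 hwM.1,
      ⟨_, (by rw [hwx]; exact (c'.conj y x).symm)⟩⟩
  have hxx : fld (c.σ y) x * x = x * fld (c.σ y) x := by
    refine c'.φ_inj ?_
    rw [map_mul, map_mul, ← hwx, show c'.φ (fld (c.σ y) x) = (y : G) * w * (y : G)⁻¹ by
      rw [hwx]; exact (c'.conj y x).symm]
    exact hMc _ hyM _ hwM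
  have hwy : w * y = y * w := by
    have hcj : (y : G) * w * (y : G)⁻¹ = c'.φ (fld (c.σ y) x) := by rw [hwx]; exact c'.conj y x
    rcases hT.fld_eq hox hxx with r | r
    · rw [r, ← hwx, mul_inv_eq_iff_eq_mul] at hcj
      exact hcj.symm
    · rw [r, map_inv, ← hwx] at hcj
      exact (fix_of_odd (mem_invOrFix.2 (Or.inr hcj))
        (by rw [Subgroup.orderOf_coe]; exact c.odd_orderOf y)).symm
  have hz := hT.zpowers_eq how hT.ord hwy hyd.symm hwd
  obtain ⟨i, hi⟩ := mem_zpowers_iff.1 (hz ▸ mem_zpowers w : w ∈ zpowers (c.d a))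
  have hwt : Commute c.t w := hi ▸ (show Commute c.t (c.d a) from (c.d_comm_t a).symm).zpow_right i
  rw [hwt.eq, mul_inv_cancel_right] at hiw
  exact sq_ne_one_of_prime hT.prime hT.ne_two how (by rw [pow_two]; nth_rewrite 2 [hiw]; rw [mul_inv_cancel])

/-- The invariant `s`-subgroups of the centralizer of a torus element of order `s` lie in `C(t)`. -/
theorem le_cent_t (hT : c.Tor y s a) {Q : Subgroup G} (hQ : IsPGroup s Q)
    (hQX : Q ≤ centralizer ({c.d a} : Set G)) (htQ : c.t ∈ normalizer (Q : Set G)) :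
    Q ≤ centralizer ({c.t} : Set G) := by
  haveI := Fact.mk hT.prime
  obtain ⟨-, j, hj, hq, -⟩ := c.exists_three_pow hT.gen y hT.hy
  have hd4 := c.odd_card_cent_split hj hq hT.mod_four hT.prime hT.ne_two hT.seven.1 hT.orderOf_split
      hT.dvd_sub
  set X : Subgroup G := centralizer ({c.d a} : Set G)
  have htX : c.t ∈ X := mem_centralizer_singleton_iff.2 (c.d_comm_t a).symm
  have htK := le_normalizer_cor X htX
  have hiK : c.i ∈ normalizer (cor X : Set G) :=
    mem_normalizer_cor (mem_invOrFix.2 (Or.inr (c.iv_inverts (Or.inl rfl) a)))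
  have hit : c.t * c.i = c.i * c.t := c.i_comm_t.symm
  haveI := four_comm hit
  obtain ⟨P, hP⟩ := Coprime.exists_invariant_sylow (four_le htK hiK)
    (odd_coprime_four c.t_sq c.i_sq hit (odd_cor X))
    (Or.inl (Group.isSolvable_of_comm fun a b => mul_comm' a b)) s
  have hPt : (P : Subgroup (cor X)).map (cor X).subtype ≤ centralizer ({c.t} : Set G) := by
    by_contra hnot
    obtain ⟨v, w, hv, hwP, hwv, how, hiw⟩ := c.exists_v_inverted hT.ne_two (P.2.map _)
      (hP (mem_sup_left (mem_zpowers _))) (hP (mem_sup_right (mem_zpowers _))) hnot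
    exact hT.case_same hv (mem_centralizer_singleton_iff.1 (cor_le X (map_subtype_le _ hwP))) hwv how hiw
  refine le_centralizer_of_sylow c.orderOf_t (odd_cor X) htK P hPt (fun g hg => ?_) hQ htQ
  refine c.mem_cor_of_odd_torus (m := pr (splitSL F a)) hd4 (mem_centralizer_singleton_iff.1 (hQX hg)) ?_
  obtain ⟨k, hk⟩ := hQ ⟨g, hg⟩
  exact Odd.of_dvd_nat hT.odd.pow (orderOf_dvd_of_pow_eq_one (congrArg Subtype.val hk))

/-- The same for every element of order `s` of `L`. -/
theorem le_cent_t_conj (hT : c.Tor y s a) {m : PSL2[F]} (hm : orderOf m = s) {Q : Subgroup G}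
    (hQ : IsPGroup s Q) (hQX : Q ≤ centralizer ({c.φ m} : Set G))
    (htQ : c.t ∈ normalizer (Q : Set G)) : Q ≤ centralizer ({c.t} : Set G) := by
  obtain ⟨-, j, hj, hq, -⟩ := c.exists_three_pow hT.gen y hT.hy
  obtain ⟨g, b, rfl⟩ := c.exists_conj_split hj hq hT.prime hT.ne_two hT.dvd_sub hm
  have hb : orderOf (c.d b) = s := by
    show orderOf (c.φ _) = s
    rw [c.orderOf_φ, ← hm, ← MulAut.conj_apply, MulEquiv.orderOf_eq]
  have hgt : Commute (c.φ g) c.t := c.φ_comm g
  have hcj : cj (c.φ g)⁻¹ (centralizer ({c.φ (g * pr (splitSL F b) * g⁻¹)} : Set G)) =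
      centralizer ({c.d b} : Set G) := by
    rw [show centralizer ({c.φ (g * pr (splitSL F b) * g⁻¹)} : Set G) =
      Cg (c.φ (g * pr (splitSL F b) * g⁻¹)) from rfl, cj_Cg, inv_inv, map_mul, map_mul, map_inv,
      show (c.φ g)⁻¹ * (c.φ g * c.φ (pr (splitSL F b)) * (c.φ g)⁻¹) * c.φ g = c.d b by
        rw [show c.d b = c.φ (pr (splitSL F b)) from rfl]; group]
  have h := (hT.tor_of_ord hb).le_cent_t (Q := cj (c.φ g)⁻¹ Q) (hQ.map _) (hcj ▸ cj_mono hQX)
    (mem_normalizer_of_cj_eq (by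
      rw [cj_cj, ← hgt.inv_left.eq, ← cj_cj, cj_eq_self htQ]))
  intro z hz
  have h' := mem_centralizer_singleton_iff.1 (h (conj_mem_cj (g := (c.φ g)⁻¹) hz))
  rw [inv_inv] at h'
  refine mem_centralizer_singleton_iff.2 ?_
  calc z * c.t = c.φ g * ((c.φ g)⁻¹ * z * c.φ g * c.t) * (c.φ g)⁻¹ := by
        rw [mul_assoc _ (c.φ g) c.t, hgt.eq]; group
    _ = c.φ g * (c.t * ((c.φ g)⁻¹ * z * c.φ g)) * (c.φ g)⁻¹ := by rw [h']
    _ = c.t * z := by rw [← mul_assoc (c.φ g) c.t, hgt.eq]; group

end Tor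

end Cfg

end Cfsg.Lib.Walter3.Field
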