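import Cfsg.Agent.Lib.Walter3.Field.Exists

/-!
# Working with the coordinates

The decomposition `C(t) = (⟨t⟩ × L) F₀`, its projection on the field part, the standard elements and
the first consequences: no element with nontrivial field part is inverted inside `C(t)`, and two
elements of the field part conjugate in `G` are equal.
-/

set_option autoImplicit false
set_option linter.unusedSectionVars false
set_option linter.style.haveILetI false

namespace Cfsg.Lib.Walter3.Field

open Subgroup Cfsg Matrix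
open Cfsg.Lib.Linear.AutPSL (fld innd innd_eq_fld)
open Cfsg.Lib.TwoDim (splitSL)
open scoped MatrixGroups

universe u

local notation "PSL2[" K "]" => Matrix.ProjectiveSpecialLinearGroup (Fin 2) K

namespace Cfg

variable {G : Type u} [Group G] [Finite G] {F : Type} [Field F] [Fintype F] (c : Cfg G F)
include c

theorem q_odd : Fintype.card F % 2 = 1 := by rcases c.sign with h | h <;> omega

theorem two_ne : (2 : F) ≠ 0 := two_ne_zero_of c.q_odd

theorem t_mem : c.t ∈ (c.S : Subgroup G) := c.pt.1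

theorem t_ne : c.t ≠ 1 := c.pt.2

theorem t_sq : c.t * c.t = 1 := c.hyp.sq c.t c.t_mem

theorem t_inv : c.t⁻¹ = c.t := inv_eq_of_mul_eq_one_right c.t_sq

theorem orderOf_t : orderOf c.t = 2 := c.hyp.orderOf_pt c.pt

theorem y_comm_S (y : fieldPart c.S) {s : G} (hs : s ∈ (c.S : Subgroup G)) :
    Commute (y : G) s := (mem_centralizer_iff.1 (fieldPart_le c.S y.2) s hs).symm

theorem y_comm_t (y : fieldPart c.S) : Commute (y : G) c.t := c.y_comm_S y c.t_mem

theorem y_comm_y (y z : fieldPart c.S) : Commute (y : G) (z : G) := by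
  haveI := c.cyclic
  letI : CommGroup (fieldPart c.S) := IsCyclic.commGroup
  exact congrArg Subtype.val (mul_comm y z)

theorem odd_f : Odd c.f := odd_card_fieldPart c.S

theorem odd_orderOf (y : fieldPart c.S) : Odd (orderOf y) :=
  c.odd_f.of_dvd_nat (orderOf_dvd_natCard y)

theorem eq_one_of_sq (y : fieldPart c.S) (h : y * y = 1) : y = 1 := by
  have h1 : orderOf y ∣ 2 := orderOf_dvd_of_pow_eq_one (by rw [pow_two, h])
  rcases (Nat.dvd_prime Nat.prime_two).1 h1 with e | e
  · exact orderOf_eq_one_iff.1 e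
  · exact absurd (e ▸ c.odd_orderOf y) (by decide)

/-- The element `φ l y` is trivial only trivially. -/
theorem eq_one_of_φ_mul {l : PSL2[F]} {y : fieldPart c.S}
    (h : c.φ l * y = 1 ∨ c.t * c.φ l * y = 1) : l = 1 ∧ y = 1 ∧ c.φ l * y = 1 := by
  have hy : c.σ y = 1 := by
    obtain ⟨A, hA⟩ := QuotientGroup.mk_surjective l⁻¹
    have e : (fld (c.σ y) : MulAut PSL2[F]) = MulAut.conj l⁻¹ := by
      refine MulEquiv.ext fun z => c.φ_inj ?_
      rw [← c.conj, MulAut.conj_apply, map_mul, map_mul, inv_inv, map_inv]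
      rcases h with h | h
      · rw [show (y : G) = (c.φ l)⁻¹ from (eq_inv_of_mul_eq_one_right h), inv_inv]
      · rw [show (y : G) = (c.φ l)⁻¹ * c.t from by
          rw [eq_inv_of_mul_eq_one_right h, _root_.mul_inv_rev, c.t_inv], _root_.mul_inv_rev, c.t_inv, inv_inv,
          mul_assoc (c.φ l)⁻¹ c.t, ← c.φ_comm z, mul_assoc (c.φ l)⁻¹ (c.φ z * c.t), mul_assoc (c.φ z),
          ← mul_assoc c.t c.t, c.t_sq, one_mul, mul_assoc]
    rw [← hA, Cfsg.Lib.Linear.AutPSL.conj_mk] at e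
    exact (innd_eq_fld e.symm).1
  have hy1 : y = 1 := c.σ_inj (hy.trans (map_one c.σ).symm)
  subst hy1
  rcases h with h | h
  · exact ⟨c.φ_inj (by simpa using h), rfl, h⟩
  · refine absurd ?_ (c.φ_ne l)
    rw [Subgroup.coe_one, mul_one] at h
    rw [eq_inv_of_mul_eq_one_right h, c.t_inv]

theorem φ_mul_φ_mul (l l' : PSL2[F]) (y y' : fieldPart c.S) :
    c.φ l * y * (c.φ l' * y') = c.φ (l * fld (c.σ y) l') * (y * y' : fieldPart c.S) := by
  rw [map_mul, ← c.conj, Subgroup.coe_mul]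
  group

theorem φ_mul_inv (l : PSL2[F]) (y : fieldPart c.S) :
    (c.φ l * y)⁻¹ = c.φ (fld (c.σ y⁻¹) l⁻¹) * (y⁻¹ : fieldPart c.S) := by
  rw [← c.conj, map_inv, Subgroup.coe_inv]
  group

theorem t_comm_φy (l : PSL2[F]) (y : fieldPart c.S) : Commute c.t (c.φ l * y) :=
  (show Commute c.t (c.φ l) from (c.φ_comm l).symm).mul_right (c.y_comm_t y).symm

/-- Uniqueness of the decomposition. -/
theorem decomp_unique {l l' : PSL2[F]} {y y' : fieldPart c.S} :
    (c.φ l * y = c.φ l' * y' → l = l' ∧ y = y') ∧ c.φ l * y ≠ c.t * (c.φ l' * y') := by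
  have key : ∀ {g : G}, c.φ l * y = g * (c.φ l' * y') →
      g = c.φ (l * fld (c.σ y) (fld (c.σ y'⁻¹) l'⁻¹)) * (y * y'⁻¹ : fieldPart c.S) := by
    intro g h
    rw [← φ_mul_φ_mul, ← φ_mul_inv, h, mul_inv_cancel_right]
  refine ⟨fun h => ?_, fun h => ?_⟩
  · obtain ⟨-, hy, -⟩ := c.eq_one_of_φ_mul (Or.inl (key (g := 1) (by rw [one_mul]; exact h)).symm)
    have hyy : y = y' := mul_inv_eq_one.1 hy
    subst hyy
    exact ⟨c.φ_inj (mul_right_cancel h), rfl⟩
  · have h1 := key h
    have h2 : c.t * c.φ (l * fld (c.σ y) (fld (c.σ y'⁻¹) l'⁻¹)) * (y * y'⁻¹ : fieldPart c.S) = 1 := by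
      rw [mul_assoc, ← h1, c.t_sq]
    exact c.t_ne (h1.trans (c.eq_one_of_φ_mul (Or.inr h2)).2.2)

theorem exists_decomp (g : centralizer ({c.t} : Set G)) :
    ∃ y : fieldPart c.S, ∃ l : PSL2[F], (g : G) = c.φ l * y ∨ (g : G) = c.t * (c.φ l * y) := by
  obtain ⟨l, y, h⟩ := c.decomp g (mem_centralizer_singleton_iff.1 g.2)
  exact ⟨y, l, h.imp id fun e => by rw [e, mul_assoc]⟩

/-- The projection of `C(t)` on the field part. -/
noncomputable def πfun (g : centralizer ({c.t} : Set G)) : fieldPart c.S := (c.exists_decomp g).choose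

theorem πfun_eq {g : centralizer ({c.t} : Set G)} {l : PSL2[F]} {y : fieldPart c.S}
    (h : (g : G) = c.φ l * y ∨ (g : G) = c.t * (c.φ l * y)) : c.πfun g = y := by
  obtain ⟨l', h'⟩ := (c.exists_decomp g).choose_spec
  change (g : G) = c.φ l' * (c.πfun g : G) ∨ (g : G) = c.t * (c.φ l' * (c.πfun g : G)) at h'
  rcases h with h | h <;> rcases h' with h' | h'
  · exact (c.decomp_unique.1 (h'.symm.trans h)).2
  · exact absurd (h.symm.trans h') c.decomp_unique.2
  · exact absurd (h'.symm.trans h) c.decomp_unique.2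
  · exact (c.decomp_unique.1 (mul_left_cancel (h'.symm.trans h))).2

/-- The projection is a homomorphism. -/
noncomputable def π : centralizer ({c.t} : Set G) →* fieldPart c.S :=
  MonoidHom.mk' c.πfun fun a b => by
    obtain ⟨y, l, ha⟩ := c.exists_decomp a
    obtain ⟨z, m, hb⟩ := c.exists_decomp b
    rw [c.πfun_eq ha, c.πfun_eq hb]
    refine c.πfun_eq (l := l * fld (c.σ y) m) ?_
    rw [Subgroup.coe_mul, ← φ_mul_φ_mul]
    rcases ha with ha | ha <;> rcases hb with hb | hb <;> rw [ha, hb]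
    · exact Or.inl rfl
    · exact Or.inr (by rw [← mul_assoc, ← (c.t_comm_φy l y).eq, mul_assoc])
    · exact Or.inr (by rw [mul_assoc])
    · refine Or.inl ?_
      rw [mul_assoc c.t, ← mul_assoc (c.φ l * (y : G)) c.t, ← (c.t_comm_φy l y).eq, mul_assoc c.t,
        ← mul_assoc c.t c.t, c.t_sq, one_mul]

theorem π_eq {g : centralizer ({c.t} : Set G)} {l : PSL2[F]} {y : fieldPart c.S}
    (h : (g : G) = c.φ l * y ∨ (g : G) = c.t * (c.φ l * y)) : c.π g = y := c.πfun_eq h

theorem exists_of_π_eq_one {g : G} (hg : g * c.t = c.t * g)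
    (h : c.π ⟨g, mem_centralizer_singleton_iff.2 hg⟩ = 1) :
    ∃ l, g = c.φ l ∨ g = c.t * c.φ l := by
  obtain ⟨y, l, hl⟩ := c.exists_decomp ⟨g, mem_centralizer_singleton_iff.2 hg⟩
  rw [c.π_eq hl] at h
  subst h
  simp only [Subgroup.coe_one, mul_one] at hl
  exact ⟨l, hl⟩

/-- An element inverted by an involution of `C(t)` has trivial field part. -/
theorem π_eq_one_of_inverted {g v : centralizer ({c.t} : Set G)} (hv : v * v = 1)
    (h : v * g * v⁻¹ = g⁻¹) : c.π g = 1 := by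
  have hv1 : c.π v = 1 := c.eq_one_of_sq _ (by rw [← map_mul, hv, map_one])
  have e := congrArg c.π h
  rw [map_mul, map_mul, map_inv, map_inv, hv1, one_mul, inv_one, mul_one] at e
  refine c.eq_one_of_sq _ ?_
  nth_rewrite 2 [e]
  rw [mul_inv_cancel]

theorem involution_cent {v : G} (hv : v * c.t = c.t * v) (h2 : v * v = 1) :
    ∃ l, l * l = 1 ∧ (v = c.φ l ∨ v = c.t * c.φ l) := by
  obtain ⟨l, hl⟩ := c.exists_of_π_eq_one hv (c.eq_one_of_sq _ (by
    rw [← map_mul, show (⟨v, mem_centralizer_singleton_iff.2 hv⟩ : centralizer ({c.t} : Set G)) *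
      ⟨v, mem_centralizer_singleton_iff.2 hv⟩ = 1 from Subtype.ext h2, map_one]))
  refine ⟨l, c.φ_inj ?_, hl⟩
  rw [map_one, ← h2]
  rcases hl with h | h
  · rw [h, map_mul]
  · rw [h, map_mul, mul_assoc, ← mul_assoc (c.φ l) c.t, c.φ_comm, mul_assoc, ← mul_assoc c.t c.t,
      c.t_sq, one_mul]

/-- The decomposition as a bijection. -/
theorem card_cent :
    Nat.card (centralizer ({c.t} : Set G)) = 2 * (Nat.card PSL2[F] * c.f) := by
  let m : (PSL2[F] × fieldPart c.S) ⊕ (PSL2[F] × fieldPart c.S) → centralizer ({c.t} : Set G) :=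
    Sum.elim
      (fun p => ⟨c.φ p.1 * p.2, mem_centralizer_singleton_iff.2 (c.t_comm_φy p.1 p.2).eq.symm⟩)
      (fun p => ⟨c.t * (c.φ p.1 * p.2), mem_centralizer_singleton_iff.2
        ((Commute.refl c.t).mul_right (c.t_comm_φy p.1 p.2)).eq.symm⟩)
  have hm : Function.Bijective m := by
    refine ⟨?_, fun g => ?_⟩
    · rintro (⟨l, y⟩ | ⟨l, y⟩) (⟨l', y'⟩ | ⟨l', y'⟩) h <;> have h' := congrArg Subtype.val h <;>
        simp only [m, Sum.elim_inl, Sum.elim_inr] at h'
      · obtain ⟨rfl, rfl⟩ := c.decomp_unique.1 h'; rfl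
      · exact absurd h' c.decomp_unique.2
      · exact absurd h'.symm c.decomp_unique.2
      · obtain ⟨rfl, rfl⟩ := c.decomp_unique.1 (mul_left_cancel h'); rfl
    · obtain ⟨y, l, h | h⟩ := c.exists_decomp g
      · exact ⟨Sum.inl (l, y), Subtype.ext h.symm⟩
      · exact ⟨Sum.inr (l, y), Subtype.ext h.symm⟩
  rw [← Nat.card_congr (Equiv.ofBijective m hm), Nat.card_sum, Nat.card_prod, ← two_mul]
  rfl

/-! ### The standard elements -/

theorem u_add (a b : F) : c.u (a + b) = c.u a * c.u b := by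
  rw [u, u, u, ofAdd_add, map_mul uSL, QuotientGroup.mk_mul, map_mul]

theorem u_injective : Function.Injective c.u := fun a b h =>
  Multiplicative.ofAdd.injective (pr_uSL_injective c.q_odd (c.φ_inj h))

theorem u_neg (a : F) : c.u (-a) = (c.u a)⁻¹ := by
  rw [eq_inv_iff_mul_eq_one, ← u_add, neg_add_cancel]
  rw [u, ofAdd_zero, map_one uSL, QuotientGroup.mk_one, map_one]

theorem d_mul (a b : Fˣ) : c.d (a * b) = c.d a * c.d b := by
  rw [d, d, d, map_mul (splitSL F), QuotientGroup.mk_mul, map_mul]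

theorem d_eq_one {a : Fˣ} : c.d a = 1 ↔ a = 1 ∨ a = -1 := by
  rw [d, ← map_one c.φ, c.φ_inj.eq_iff]
  exact pr_splitSL_eq_one

theorem mem_U {g : G} : g ∈ c.U ↔ ∃ a : F, c.u a = g := Iff.rfl

theorem mem_H {g : G} : g ∈ c.H ↔ ∃ a : Fˣ, c.d a = g := Iff.rfl

theorem card_U : Nat.card c.U = Fintype.card F := by
  rw [U, ← Nat.card_eq_fintype_card]
  exact (Nat.card_congr (MonoidHom.ofInjective (show Function.Injective
    ((c.φ.comp (QuotientGroup.mk' _)).comp uSL) from fun a b h =>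
      pr_uSL_injective c.q_odd (c.φ_inj h))).toEquiv).symm

theorem card_H : Nat.card c.H * 2 = Fintype.card F - 1 := by
  classical
  set ψ := (c.φ.comp (QuotientGroup.mk' _)).comp (splitSL F)
  have hk : (ψ.ker : Set Fˣ) = ({1, -1} : Finset Fˣ) := by
    ext a
    simp only [SetLike.mem_coe, MonoidHom.mem_ker, Finset.coe_insert, Finset.coe_singleton,
      Set.mem_insert_iff, Set.mem_singleton_iff]
    exact c.d_eq_one
  have h2 : Nat.card ψ.ker = 2 := by
    show Nat.card (ψ.ker : Set Fˣ) = 2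
    rw [hk, Nat.card_coe_set_eq, Set.ncard_coe_finset, Finset.card_pair]
    intro h
    have := congrArg Units.val h
    simp only [Units.val_one, Units.val_neg] at this
    exact c.two_ne (by linear_combination this)
  have h := ψ.ker.card_mul_index
  rw [h2, Subgroup.index_ker, Nat.card_units, Nat.card_eq_fintype_card (α := F)] at h
  rw [H, mul_comm]
  exact h

theorem i_mem : c.i ∈ (c.S : Subgroup G) := c.j_mem

theorem i_ne : c.i ≠ 1 := fun h => pr_jSL_ne (c.φ_inj (h.trans (map_one c.φ).symm))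

theorem i_ne_t : c.i ≠ c.t := c.φ_ne _

theorem i_sq : c.i * c.i = 1 := c.hyp.sq _ c.i_mem

theorem i_comm_t : c.i * c.t = c.t * c.i := c.φ_comm _

theorem i_d (a : Fˣ) : c.i * c.d a * c.i⁻¹ = c.d a⁻¹ := by
  rw [i, d, d, ← map_inv, ← map_mul, ← map_mul, ← jSL_conj_splitSL]; rfl

theorem d_u (a : Fˣ) (b : F) : c.d a * c.u b * (c.d a)⁻¹ = c.u ((a : F) ^ 2 * b) := by
  rw [d, u, u, ← map_inv, ← map_mul, ← map_mul, ← splitSL_conj_uSL]; rfl

theorem y_u (y : fieldPart c.S) (a : F) : (y : G) * c.u a * (y : G)⁻¹ = c.u (c.σ y a) := by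
  rw [u, c.conj, u]
  exact congrArg c.φ (fld_uSL _ _)

theorem y_d (y : fieldPart c.S) (a : Fˣ) :
    (y : G) * c.d a * (y : G)⁻¹ = c.d (Units.map (c.σ y : F →* F) a) := by
  rw [d, c.conj, d]
  exact congrArg c.φ (fld_splitSL _ _)

theorem u_comm_t (a : F) : c.u a * c.t = c.t * c.u a := c.φ_comm _

theorem d_comm_t (a : Fˣ) : c.d a * c.t = c.t * c.d a := c.φ_comm _

/-- No involution of `C(t)` inverts a nontrivial element of `U` when `q ≡ 3 (mod 4)`. -/
theorem u_not_inverted (hq : Fintype.card F % 4 = 3) {a : F} (ha : a ≠ 0) {v : G}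
    (hv : v * c.t = c.t * v) (h2 : v * v = 1) : v * c.u a * v⁻¹ ≠ (c.u a)⁻¹ := by
  intro h
  obtain ⟨l, -, rfl | rfl⟩ := c.involution_cent hv h2
  · refine not_inv_uSL hq ha l (c.φ_inj ?_)
    rw [map_mul, map_mul, map_inv]
    exact h.trans (c.u_neg a).symm
  · refine not_inv_uSL hq ha l (c.φ_inj ?_)
    rw [map_mul, map_mul, map_inv]
    refine Eq.trans ?_ (h.trans (c.u_neg a).symm)
    rw [_root_.mul_inv_rev, c.t_inv, mul_assoc c.t (c.φ l), mul_assoc c.t, ← mul_assoc (c.φ l * c.u a)]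
    have hc : Commute c.t (c.φ l * c.u a * (c.φ l)⁻¹) := by
      have hl : Commute c.t (c.φ l) := (c.φ_comm l).symm
      exact (hl.mul_right (c.u_comm_t a).symm).mul_right hl.inv_right
    rw [← mul_assoc, hc.eq, mul_assoc _ c.t, c.t_sq, mul_one]
    rfl

/-- Two conjugate elements of the field part are equal. -/
theorem eq_of_conj {y z : fieldPart c.S} {g : G} (h : g * y * g⁻¹ = (z : G)) : z = y := by
  haveI : Fact (Nat.Prime 2) := ⟨Nat.prime_two⟩
  set C := centralizer ({(z : G)} : Set G)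
  have h1 : (c.S : Subgroup G) ≤ C := fun s hs =>
    mem_centralizer_singleton_iff.2 (c.y_comm_S z hs).eq.symm
  have h2 : ((g • c.S : Sylow 2 G) : Subgroup G) ≤ C := by
    rintro _ ⟨s, hs, rfl⟩
    refine mem_centralizer_singleton_iff.2 ?_
    show g * s * g⁻¹ * (z : G) = (z : G) * (g * s * g⁻¹)
    rw [← h, show g * s * g⁻¹ * (g * y * g⁻¹) = g * (s * y) * g⁻¹ by group,
      ← (c.y_comm_S y hs).eq]
    group
  obtain ⟨⟨k, hk⟩, hkS⟩ := MulAction.exists_smul_eq C ((g • c.S).subtype h2) (c.S.subtype h1)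
  have h3 : (k * g) • c.S = c.S := by
    have hle : ((k * g) • c.S : Sylow 2 G) ≤ C := by
      rw [mul_smul]
      exact Sylow.smul_le h2 ⟨k, hk⟩
    refine Sylow.subtype_injective (hP := hle) (hQ := h1) ?_
    rw [← hkS, Sylow.smul_subtype]
    congr 1
    exact mul_smul k g c.S
  have h4 := c.normalizer_centralizes (Sylow.smul_eq_iff_mem_normalizer.1 h3)
  have h5 := mem_centralizer_iff.1 h4 _ y.2
  refine Subtype.ext ?_
  rw [mem_centralizer_singleton_iff] at hk
  calc (z : G) = k * z * k⁻¹ := by rw [hk]; group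
    _ = k * (g * y * g⁻¹) * k⁻¹ := by rw [h]
    _ = (k * g) * y * (k * g)⁻¹ := by group
    _ = y := by rw [← h5]; group

theorem eq_one_of_conj_inv {y : fieldPart c.S} {g : G} (h : g * y * g⁻¹ = (y : G)⁻¹) : y = 1 :=
  c.eq_one_of_sq y (by
    have := c.eq_of_conj (y := y) (z := y⁻¹) h
    nth_rewrite 2 [← this]
    rw [mul_inv_cancel])

end Cfg

end Cfsg.Lib.Walter3.Field
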