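import Cfsg.Agent.Lib.Walter3.Field.Cover
import Cfsg.Agent.Lib.Char.TwoClass

/-!
# The restriction of a constituent of `Θ_μ` to `B`

The fixed space of `R` in such a constituent is the character `μ ρ`, so the value at `t` is
congruent to one modulo the order of `H`.
-/

set_option autoImplicit false
set_option linter.unusedSectionVars false
set_option linter.style.haveILetI false

namespace Cfsg.Lib.Walter3.Field

open Subgroup Cfsg Cfsg.Lib.Char Module
open scoped ComplexConjugate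

universe u

section Fixed

variable {A : Type u} [Group A] [Finite A]

/-- A character without fixed points on `R` sums to zero on every coset of `R`. -/
theorem sum_coset_eq_zero (R : Subgroup A) [Fintype R] {ψ : A → ℂ} (hψ : IsCharacter A ψ)
    (h : ∑ r : R, ψ r = 0) (g : A) : ∑ r : R, ψ ((r : A) * g) = 0 := by
  obtain ⟨n, ρ, rfl⟩ := hψ
  set E : (Fin n → ℂ) →ₗ[ℂ] (Fin n → ℂ) := (Nat.card R : ℂ)⁻¹ • ∑ r : R, ρ (r : A) with hE
  have hR0 : (Nat.card R : ℂ) ≠ 0 := Nat.cast_ne_zero.2 Nat.card_pos.ne'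
  have htr : ∀ z : A, LinearMap.trace ℂ (Fin n → ℂ) (E * ρ z) =
      (Nat.card R : ℂ)⁻¹ * ∑ r : R, ρ.character ((r : A) * z) := fun z => by
    rw [hE, smul_mul_assoc, map_smul, Finset.sum_mul, map_sum, smul_eq_mul]
    simp [Representation.character, map_mul]
  have hEr : ∀ r : R, ρ (r : A) * E = E := fun r => by
    rw [hE, mul_smul_comm, Finset.mul_sum]
    congr 1
    refine Fintype.sum_equiv (Equiv.mulLeft r) _ _ fun s => ?_
    simp [map_mul]
  have hid : E * E = E := by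
    conv_lhs => arg 1; rw [hE]
    rw [smul_mul_assoc, Finset.sum_mul, Finset.sum_congr rfl fun r _ => hEr r, Finset.sum_const,
      Finset.card_univ, ← Nat.cast_smul_eq_nsmul ℂ, smul_smul, ← Nat.card_eq_fintype_card,
      inv_mul_cancel₀ hR0, one_smul]
  have hproj : LinearMap.IsProj (LinearMap.range E) E :=
    ⟨fun x => ⟨x, rfl⟩, by rintro _ ⟨y, rfl⟩; exact LinearMap.congr_fun hid y⟩
  have h0 : LinearMap.trace ℂ (Fin n → ℂ) E = 0 := by
    have := htr 1
    rw [map_one, mul_one] at this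
    simp only [mul_one] at this
    rw [this, h, mul_zero]
  rw [hproj.trace, Nat.cast_eq_zero, Submodule.finrank_eq_zero, LinearMap.range_eq_bot] at h0
  have := htr g
  rw [h0, zero_mul, map_zero, eq_comm, mul_eq_zero] at this
  exact this.resolve_left (inv_ne_zero hR0)

/-- A character contains each of its constituents. -/
theorem isCharacter_sub_of_inner_ne [Fintype A] {f φ : A → ℂ} (hf : IsCharacter A f)
    (hφ : IsIrrCharacter A φ) (h : classInner f φ ≠ 0) : IsCharacter A (f - φ) := by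
  refine isCharacter_iff.2 ⟨(hf.isGeneralized.sub hφ.isGeneralized).isClassFunction, fun χ hχ => ?_⟩
  obtain ⟨m, hm⟩ := hf.exists_nat_classInner hχ.isCharacter
  rw [classInner_sub_left, hm]
  by_cases e : φ = χ
  · subst e
    rw [classInner_irr_self hφ]
    have : m ≠ 0 := fun e0 => h (by rw [hm, e0, Nat.cast_zero])
    exact ⟨m - 1, by rw [Nat.cast_sub (Nat.one_le_iff_ne_zero.2 this), Nat.cast_one]⟩
  · rw [classInner_irr_ne hφ hχ e, sub_zero]
    exact ⟨m, rfl⟩

end Fixed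

variable {G : Type u} [Group G] [Fintype G] {F : Type} [Field F] [Fintype F] {c : Cfg G F}

namespace Full

variable (D : Full c)
include D

theorem ρ_R {r : G} (hr : r ∈ D.bd.R) : D.ρ ⟨r, D.R_le_B hr⟩ = 1 := by
  rw [D.ρ_eq (g := ⟨r, D.R_le_B hr⟩) (e := 1) (y := 1) hr
    (Or.inl (by rw [c.d_one, Subgroup.coe_one, one_mul, mul_one]))]

/-- The value at `t` is an integer. -/
theorem exists_int_t (χ : IrrCharacter G) : ∃ a : ℤ, (χ : G → ℂ) c.t = a := by
  obtain ⟨k, hk⟩ := c.char_mod_eight χ.2.isCharacter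
  obtain ⟨d, -, hd⟩ := χ.2.exists_degree
  have h : (χ : G → ℂ) c.t = ((((8 * k - d : ℤ) : ℚ) / 7 : ℚ) : ℂ) := by
    push_cast
    rw [← hd]
    linear_combination hk / 7
  obtain ⟨a, ha⟩ := exists_int_of_isIntegral_rat (h ▸ χ.2.isCharacter.isIntegral c.t)
  exact ⟨a, by rw [h, ha, Rat.cast_intCast]⟩

end Full

namespace Pair

variable {D : Full c} {μ : c.Dual}

/-- A constituent less `μ ρ`, on `B`. -/
noncomputable def rest (P : Pair D μ) : D.B → ℂ := fun b => (P.χ : G → ℂ) b - (μ (D.ρ b) : ℂ)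

theorem isCharacter_rest (P : Pair D μ) : IsCharacter D.B P.rest := by
  classical
  haveI := Fintype.ofFinite D.B
  refine isCharacter_sub_of_inner_ne (P.χ.2.isCharacter.comp D.B.subtype)
    (isIrrCharacter_linear (μ.comp D.ρ)) ?_
  rw [← classInner_conj_symm, show classInner (fun b : D.B => (μ (D.ρ b) : ℂ))
      (fun b : D.B => (P.χ : G → ℂ) b) = classInner (D.Th μ) (P.χ : G → ℂ) from
    (classInner_indFun D.B _ P.χ.2.isClassFunction).symm, P.inner_left, map_one]
  exact one_ne_zero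

open Classical in
theorem sum_R_nonneg (P : Pair D μ) :
    ∃ m : ℕ, ∑ r : D.bd.R, P.rest (inclusion D.R_le_B r) = (Nat.card D.bd.R : ℂ) * m := by
  obtain ⟨m, hm⟩ := (P.isCharacter_rest.comp (inclusion D.R_le_B)).exists_nat_classInner
    (isCharacter_one (G := D.bd.R))
  refine ⟨m, ?_⟩
  rw [← hm, classInner, ← mul_assoc, mul_inv_cancel₀ (Nat.cast_ne_zero.2 Nat.card_pos.ne'), one_mul]
  simp

open Classical in
theorem sum_R_rest (P : Pair D μ) : ∑ r : D.bd.R, P.rest (inclusion D.R_le_B r) = 0 := by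
  obtain ⟨m, hm⟩ := P.sum_R_nonneg
  obtain ⟨m', hm'⟩ := P.swap.sum_R_nonneg
  have h : ∑ r : D.bd.R, P.rest (inclusion D.R_le_B r) +
      ∑ r : D.bd.R, P.swap.rest (inclusion D.R_le_B r) = 0 := by
    have e : ∀ r : D.bd.R, P.rest (inclusion D.R_le_B r) + P.swap.rest (inclusion D.R_le_B r) =
        D.Th μ r - 2 := fun r => by
      show (P.χ : G → ℂ) r - (μ (D.ρ ⟨r, D.R_le_B r.2⟩) : ℂ) +
        ((P.χ' : G → ℂ) r - (μ (D.ρ ⟨r, D.R_le_B r.2⟩) : ℂ)) = _
      rw [D.ρ_R r.2, map_one, Units.val_one, P.eq, Pi.add_apply]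
      ring
    rw [← Finset.sum_add_distrib, Finset.sum_congr rfl fun r _ => e r, Finset.sum_sub_distrib,
      D.sum_R_Th, Finset.sum_const, Finset.card_univ, nsmul_eq_mul, ← Nat.card_eq_fintype_card]
    ring
  rw [hm, hm', ← mul_add, mul_eq_zero] at h
  have h2 : ((m + m' : ℕ) : ℂ) = 0 := by
    push_cast
    exact h.resolve_left (Nat.cast_ne_zero.2 Nat.card_pos.ne')
  have := Nat.cast_eq_zero.1 h2
  rw [hm, show m = 0 by omega, Nat.cast_zero, mul_zero]

open Classical in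
/-- The average over a coset of `R` in `B`. -/
theorem avg (P : Pair D μ) {g : G} (hg : g ∈ D.B) :
    ∑ r : D.bd.R, (P.χ : G → ℂ) ((r : G) * g) =
      (Nat.card D.bd.R : ℂ) * μ (D.ρ ⟨g, hg⟩) := by
  set R' := D.bd.R.subgroupOf D.B
  let eR : R' ≃ D.bd.R := (Subgroup.subgroupOfEquivOfLe D.R_le_B).toEquiv
  have h0 : ∑ r : R', P.rest r = 0 := by
    rw [← P.sum_R_rest]
    exact Fintype.sum_equiv eR _ _ fun r => rfl
  have h := sum_coset_eq_zero R' P.isCharacter_rest h0 ⟨g, hg⟩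
  rw [Fintype.sum_equiv eR (fun r : R' => P.rest ((r : D.B) * ⟨g, hg⟩))
    (fun r : D.bd.R => P.rest (inclusion D.R_le_B r * ⟨g, hg⟩)) fun r => rfl] at h
  have e : ∀ r : D.bd.R, P.rest (inclusion D.R_le_B r * ⟨g, hg⟩) =
      (P.χ : G → ℂ) ((r : G) * g) - μ (D.ρ ⟨g, hg⟩) := fun r => by
    show (P.χ : G → ℂ) ((r : G) * g) - (μ (D.ρ (⟨r, D.R_le_B r.2⟩ * ⟨g, hg⟩)) : ℂ) = _
    rw [map_mul, D.ρ_R r.2, one_mul]
  rw [Finset.sum_congr rfl fun r _ => e r, Finset.sum_sub_distrib, sub_eq_zero, Finset.sum_const,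
    Finset.card_univ, nsmul_eq_mul, ← Nat.card_eq_fintype_card] at h
  exact h

/-- The constituents are one at `t h` for `h ∈ H#`. -/
theorem apply_th (P : Pair D μ) {h : G} (hh : h ∈ c.H) (h1 : h ≠ 1) :
    (P.χ : G → ℂ) (c.t * h) = 1 := by
  classical
  obtain ⟨T⟩ := D.exists_tor
  have hm : c.t * h ∈ c.M := mul_mem c.t_mem_M (c.H_le_M hh)
  have hcomm : Commute c.t h := c.comm_t_of_mem_M (c.H_le_M hh)
  have hsq : h * h ≠ 1 := by
    intro e
    have h2 : orderOf h ∣ 2 := orderOf_dvd_of_pow_eq_one (by rw [pow_two, e])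
    have h3 := Subgroup.orderOf_dvd_natCard _ hh
    have h4 := Nat.dvd_gcd h2 h3
    rw [Nat.coprime_two_left.2 D.odd_card_H, Nat.dvd_one, orderOf_eq_one_iff] at h4
    exact h1 h4
  have hc : ∀ r ∈ D.bd.R, r * (c.t * h) = c.t * h * r → r = 1 := fun r hr he => by
    refine D.bd.fpf _ (mul_mem hh hh) hsq r hr ?_
    have e : c.t * h * (c.t * h) = h * h := by
      rw [hcomm.symm.mul_mul_mul_comm, c.t_sq, one_mul]
    have := (Commute.mul_right (show Commute r (c.t * h) from he) he)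
    rw [e] at this
    exact this.eq
  have hB := D.M_le_B hm
  have he : ∀ r : D.bd.R, (P.χ : G → ℂ) ((r : G) * (c.t * h)) = (P.χ : G → ℂ) (c.t * h) := fun r => by
    obtain ⟨r', -, e⟩ := T.class_Rm hm hc r.2
    rw [← e, P.χ.2.isClassFunction]
  have hρ : D.ρ ⟨c.t * h, hB⟩ = 1 := by
    obtain ⟨e, rfl⟩ := c.mem_H.1 hh
    rw [D.ρ_eq (g := ⟨c.t * c.d e, hB⟩) (r := 1) (e := e) (y := 1) (one_mem _)
      (Or.inr (by rw [Subgroup.coe_one, one_mul, mul_one]))]
  have ha := P.avg hB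
  rw [Finset.sum_congr rfl fun r _ => he r, Finset.sum_const, Finset.card_univ, nsmul_eq_mul,
    ← Nat.card_eq_fintype_card, hρ, map_one, Units.val_one] at ha
  exact mul_left_cancel₀ (Nat.cast_ne_zero.2 Nat.card_pos.ne') ha

/-- The value at `t` is congruent to one modulo `|H|`. -/
theorem dvd_t_sub_one (P : Pair D μ) {a : ℤ} (ha : (P.χ : G → ℂ) c.t = a) :
    (Nat.card c.H : ℤ) ∣ a - 1 := by
  classical
  have hint := isIntegral_avg_of_commute P.χ.2.isCharacter (g := c.t) c.H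
    fun x hx => (c.comm_t_of_mem_M (c.H_le_M hx)).eq
  have hsum : ∑ x : c.H, (P.χ : G → ℂ) (c.t * x) = (a : ℂ) + ((Nat.card c.H : ℂ) - 1) := by
    rw [← Finset.add_sum_erase _ _ (Finset.mem_univ (1 : c.H)), OneMemClass.coe_one, mul_one, ha,
      Finset.sum_congr rfl fun x hx => P.apply_th x.2 fun e =>
        (Finset.mem_erase.1 hx).1 (Subtype.ext e), Finset.sum_const, Finset.card_erase_of_mem
      (Finset.mem_univ _), Finset.card_univ, nsmul_eq_mul, mul_one, Nat.cast_sub (Fintype.card_pos),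
      Nat.cast_one, ← Nat.card_eq_fintype_card]
  rw [hsum] at hint
  obtain ⟨m, hm⟩ := exists_int_of_isIntegral_rat
    (q := (((a + (Nat.card c.H - 1) : ℤ) : ℚ) / Nat.card c.H)) (by push_cast; exact hint)
  rw [div_eq_iff (Nat.cast_ne_zero.2 Nat.card_pos.ne')] at hm
  have hm' : a + ((Nat.card c.H : ℤ) - 1) = m * Nat.card c.H := by exact_mod_cast hm
  exact ⟨m - 1, by linear_combination hm'⟩

end Pair

end Cfsg.Lib.Walter3.Field
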