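import Cfsg.Agent.Lib.Walter3.Field.Arith
import Cfsg.Agent.Lib.Char.Dade

/-!
# `G = B ∪ R i B` and the characters induced from `B`

With `|G : B| = q³ + 1` there are two double cosets of `B`, so `Θ_μ = Ind (μ ρ)` has norm two and
is the sum of two irreducible characters.
-/

set_option autoImplicit false
set_option linter.unusedSectionVars false
set_option linter.style.haveILetI false

namespace Cfsg.Lib.Walter3.Field

open Subgroup Cfsg Cfsg.Lib.Char
open scoped ComplexConjugate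

universe u

variable {G : Type u} [Group G] [Fintype G] {F : Type} [Field F] [Fintype F] {c : Cfg G F}

/-- A character of norm two is the sum of two irreducible characters. -/
theorem exists_pair_of_norm_two {f : G → ℂ} (hf : IsCharacter G f) (h : classInner f f = 2) :
    ∃ a b : IrrCharacter G, a ≠ b ∧ f = (a : G → ℂ) + (b : G → ℂ) := by
  classical
  obtain ⟨hcl, hn⟩ := isCharacter_iff.1 hf
  choose n hn using fun χ : IrrCharacter G => hn χ χ.2
  have hsum : ∑ χ, n χ * n χ = 2 := by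
    rw [classInner_eq_sum hcl] at h
    simp only [hn, map_natCast] at h
    exact_mod_cast h
  have hle : ∀ χ, n χ ≤ 1 := fun χ => by
    have h1 := hsum ▸ Finset.single_le_sum (f := fun y => n y * n y) (fun y _ => Nat.zero_le _)
      (Finset.mem_univ χ)
    nlinarith
  set S := Finset.univ.filter fun χ : IrrCharacter G => n χ = 1 with hS
  have h01 : ∀ χ, n χ * n χ = if n χ = 1 then 1 else 0 := fun χ => by
    have := hle χ
    interval_cases h' : n χ <;> simp
  rw [Finset.sum_congr rfl fun χ _ => h01 χ, ← Finset.sum_filter, Finset.sum_const, smul_eq_mul,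
    mul_one, ← hS] at hsum
  obtain ⟨a, b, hab, e⟩ := Finset.card_eq_two.1 hsum
  refine ⟨a, b, hab, ?_⟩
  conv_lhs => rw [eq_sum_classInner hcl]
  have : ∀ χ : IrrCharacter G, classInner f (χ : G → ℂ) • (χ : G → ℂ) =
      if χ ∈ S then (χ : G → ℂ) else 0 := fun χ => by
    have := hle χ
    rw [hn χ, hS]
    interval_cases h' : n χ <;> simp [h']
  rw [Finset.sum_congr rfl fun χ _ => this χ, Finset.sum_ite_mem, Finset.univ_inter, e,
    Finset.sum_pair hab]

namespace Full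

variable (D : Full c)
include D

/-- The index of the centralizer of an involution. -/
theorem index_t : (centralizer ({c.t} : Set G)).index + Fintype.card F ^ 3 =
    Fintype.card F ^ 2 * (Fintype.card F ^ 2 + 1) := by
  have h := D.index_centralizer_t
  rw [D.index_B] at h
  refine Nat.eq_of_mul_eq_mul_right (show 0 < Fintype.card F + 1 by omega) ?_
  rw [add_mul, h]
  ring

/-- `G = B ∪ R i B`. -/
theorem cover (x : G) : x ∈ D.B ∨ ∃ r : D.bd.R, ((r : G) * c.i)⁻¹ * x ∈ D.B := by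
  let ι : D.B ⊕ (D.bd.R × D.B) → G := Sum.elim (fun z => (z : G)) fun p => (p.1 : G) * c.i * p.2
  have key : ∀ (v : D.bd.R) (z z' : D.B), (v : G) * c.i * z ≠ z' := by
    intro v z z' h
    refine D.i_notMem ?_
    have e : c.i = (v : G)⁻¹ * z' * (z : G)⁻¹ := by rw [← h]; group
    rw [e]
    exact mul_mem (mul_mem (inv_mem (D.R_le_B v.2)) z'.2) (inv_mem z.2)
  have hι : Function.Injective ι := by
    rintro (z | ⟨v, z⟩) (z' | ⟨v', z'⟩) h <;> simp only [ι, Sum.elim_inl, Sum.elim_inr] at h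
    · exact congrArg _ (Subtype.ext h)
    · exact absurd h.symm (key v' z' z)
    · exact absurd h (key v z z')
    · obtain rfl : v = v' := Subtype.ext (D.ri_unique v.2 v'.2 (by
        rw [show ((v : G) * c.i)⁻¹ * ((v' : G) * c.i) = (z : G) * (z' : G)⁻¹ from by
          calc ((v : G) * c.i)⁻¹ * ((v' : G) * c.i)
              = ((v : G) * c.i)⁻¹ * ((v' : G) * c.i * z') * (z' : G)⁻¹ := by group
            _ = (z : G) * (z' : G)⁻¹ := by rw [← h]; group]
        exact mul_mem z.2 (inv_mem z'.2)))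
      exact congrArg _ (Prod.ext rfl (Subtype.ext (mul_left_cancel h)))
  have hcard : Nat.card (D.B ⊕ (D.bd.R × D.B)) = Nat.card G := by
    rw [Nat.card_sum, Nat.card_prod, D.bd.card, ← D.B.card_mul_index, D.index_B]
    ring
  obtain ⟨p, hp⟩ := (hι.bijective_of_nat_card_le hcard.ge).2 x
  rcases p with z | ⟨v, z⟩
  · exact Or.inl (hp ▸ z.2)
  · refine Or.inr ⟨v, ?_⟩
    rw [← hp]
    simp only [ι, Sum.elim_inr, inv_mul_cancel_left]
    exact z.2

/-- `μ ρ` on `B`, extended by zero. -/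
noncomputable def bG (μ : c.Dual) : G → ℂ := extendByZero D.B fun b => (μ (D.ρ b) : ℂ)

theorem bG_of_mem (μ : c.Dual) {g : G} (hg : g ∈ D.B) : D.bG μ g = (μ (D.ρ ⟨g, hg⟩) : ℂ) :=
  extendByZero_of_mem _ _ hg

theorem bG_zero (μ : c.Dual) {g : G} (hg : g ∉ D.B) : D.bG μ g = 0 := extendByZero_of_notMem _ _ hg

theorem bG_conj (μ : c.Dual) {z : G} (hz : z ∈ D.B) (g : G) :
    D.bG μ (z⁻¹ * g * z) = D.bG μ g := by
  by_cases hg : g ∈ D.B
  · rw [D.bG_of_mem μ hg, D.bG_of_mem μ (mul_mem (mul_mem (inv_mem hz) hg) hz),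
      D.ρ_conj (g := ⟨g, hg⟩) (mul_mem (mul_mem (inv_mem hz) hg) hz)]
  · rw [D.bG_zero μ hg, D.bG_zero μ fun h => hg ?_]
    have := mul_mem (mul_mem hz h) (inv_mem hz)
    rwa [show z * (z⁻¹ * g * z) * z⁻¹ = g by group] at this

/-- The induced character `Θ_μ`. -/
noncomputable def Th (μ : c.Dual) : G → ℂ := indFun D.B fun b => (μ (D.ρ b) : ℂ)

theorem isCharacter_Th (μ : c.Dual) : IsCharacter G (D.Th μ) :=
  isCharacter_indFun D.B (isIrrCharacter_linear (μ.comp D.ρ)).isCharacter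

theorem Th_one (μ : c.Dual) : D.Th μ 1 = (Fintype.card F : ℂ) ^ 3 + 1 := by
  rw [Th, indFun_apply_one, D.index_B, map_one, map_one, Units.val_one, mul_one]
  push_cast
  rfl

theorem Th_eq_Dif (μ : c.Dual) : D.Th μ = D.Dif μ + D.Th 1 := by
  rw [Dif, Th, Th, ← indFun_add]
  congr 1
  funext b
  simp [aD]

open Classical in
/-- The value of `Θ_μ` through the two double cosets. -/
theorem Th_apply (μ : c.Dual) (g : G) :
    D.Th μ g = D.bG μ g + ∑ r : D.bd.R, D.bG μ (((r : G) * c.i)⁻¹ * g * ((r : G) * c.i)) := by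
  have h := D.sum_cosets D.B D.bd.R le_rfl le_rfl (f := fun x => D.bG μ (x⁻¹ * g * x)) fun x _ =>
    (D.cover x).imp_right fun ⟨r, hr⟩ => ⟨r, r.2, hr⟩
  rw [show D.Th μ g = (Nat.card D.B : ℂ)⁻¹ * ∑ x : G, D.bG μ (x⁻¹ * g * x) from rfl, h]
  have e1 : ∀ z : D.B, D.bG μ ((z : G)⁻¹ * g * z) = D.bG μ g := fun z => D.bG_conj μ z.2 g
  have e2 : ∀ (r : D.bd.R) (z : D.B),
      D.bG μ (((r : G) * c.i * z)⁻¹ * g * ((r : G) * c.i * z)) =
        D.bG μ (((r : G) * c.i)⁻¹ * g * ((r : G) * c.i)) := fun r z => by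
    rw [show ((r : G) * c.i * z)⁻¹ * g * ((r : G) * c.i * z) =
      (z : G)⁻¹ * (((r : G) * c.i)⁻¹ * g * ((r : G) * c.i)) * z by group, D.bG_conj μ z.2]
  rw [Finset.sum_congr rfl fun z _ => e1 z,
    Finset.sum_congr rfl fun r _ => Finset.sum_congr rfl fun z _ => e2 r z]
  simp only [Finset.sum_const, Finset.card_univ, nsmul_eq_mul,
    ← Nat.card_eq_fintype_card, ← Finset.mul_sum, ← mul_add]
  rw [← mul_assoc, inv_mul_cancel₀ (Nat.cast_ne_zero.2 Nat.card_pos.ne'), one_mul]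

theorem conj_ri_mem {g r : G} (hg : g ∈ D.B) (hr : r ∈ D.bd.R)
    (h : (r * c.i)⁻¹ * g * (r * c.i) ∈ D.B) : r⁻¹ * g * r ∈ c.M := by
  refine D.mem_M_of_conj_i (mul_mem (mul_mem (inv_mem (D.R_le_B hr)) hg) (D.R_le_B hr)) ?_
  rw [_root_.mul_inv_rev, c.i_inv] at h
  rw [c.i_inv]
  convert h using 1
  group

open Classical in
theorem inner_Th (μ ν : c.Dual) :
    classInner (D.Th μ) (D.Th ν) = if μ = ν then 2 else 0 := by
  haveI := Fintype.ofFinite D.B
  rw [show classInner (D.Th μ) (D.Th ν) = _ from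
    classInner_indFun D.B _ (D.isCharacter_Th ν).isClassFunction, classInner]
  simp only [D.Th_apply ν, map_add, map_sum, mul_add, Finset.sum_add_distrib]
  have h1 : ∑ b : D.B, (μ (D.ρ b) : ℂ) * conj (D.bG ν b) =
      (Nat.card D.B : ℂ) * if μ = ν then 1 else 0 := by
    have h := sum_pair (μ.comp D.ρ) (ν.comp D.ρ)
    simp only [MonoidHom.comp_apply] at h
    rw [show ∑ b : D.B, (μ (D.ρ b) : ℂ) * conj (D.bG ν b) =
      ∑ b : D.B, (μ (D.ρ b) : ℂ) * conj (ν (D.ρ b) : ℂ) from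
        Finset.sum_congr rfl fun b _ => by rw [D.bG_of_mem ν b.2], h, mul_ite, mul_one, mul_zero]
    exact if_congr (MonoidHom.cancel_right D.ρ_surjective) rfl rfl
  have h2 : ∀ r : D.bd.R,
      ∑ b : D.B, (μ (D.ρ b) : ℂ) * conj (D.bG ν (((r : G) * c.i)⁻¹ * b * ((r : G) * c.i))) =
        (Nat.card c.M : ℂ) * if μ = ν then 1 else 0 := by
    intro r
    have hm : ∀ m : c.M, (r : G) * m * (r : G)⁻¹ ∈ D.B := fun m =>
      mul_mem (mul_mem (D.R_le_B r.2) (D.M_le_B m.2)) (inv_mem (D.R_le_B r.2))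
    rw [← Finset.sum_of_injOn (t := Finset.univ) (s := (Finset.univ : Finset c.M))
      (f := fun m => (μ (D.ρ ⟨_, hm m⟩) : ℂ) *
        conj (D.bG ν (((r : G) * c.i)⁻¹ * ((r : G) * m * (r : G)⁻¹) * ((r : G) * c.i))))
      (fun m => (⟨_, hm m⟩ : D.B))
      (fun a _ b _ e => Subtype.ext (mul_left_cancel (mul_right_cancel (congrArg Subtype.val e))))
      (by simp) (fun b _ hb => ?_) fun m _ => rfl]
    · have h := sum_pair ((μ.comp D.ρ).comp (inclusion D.M_le_B)) ((ν.comp D.ρ).comp (inclusion D.M_le_B))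
      rw [mul_ite, mul_one, mul_zero, ← if_congr (MonoidHom.cancel_right
        (D.ρ_M_surjective D.M_le_B le_rfl)) rfl rfl]
      refine Eq.trans (Finset.sum_congr rfl fun m _ => ?_) (h.trans (if_congr ?_ rfl rfl))
      · have e : ((r : G) * c.i)⁻¹ * ((r : G) * m * (r : G)⁻¹) * ((r : G) * c.i) =
            c.i * (m : G) * c.i⁻¹ := by
          rw [_root_.mul_inv_rev, c.i_inv]; group
        have hr' : D.ρ ⟨_, hm m⟩ = D.ρ ⟨m, D.M_le_B m.2⟩ := by
          rw [D.ρ_congr (g := ⟨_, hm m⟩) (h := (⟨(r : G), D.R_le_B r.2⟩ : D.B)⁻¹⁻¹ *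
            ⟨m, D.M_le_B m.2⟩ * (⟨(r : G), D.R_le_B r.2⟩ : D.B)⁻¹) (by simp), D.ρ_conj_B]
        rw [e, D.bG_of_mem ν (D.M_le_B (c.i_conj_M m.2)), hr',
          D.ρ_iMi (g := ⟨(m : G), D.M_le_B m.2⟩) m.2 (D.M_le_B (c.i_conj_M m.2))]
        rfl
      · exact Iff.rfl
    · by_cases h : ((r : G) * c.i)⁻¹ * b * ((r : G) * c.i) ∈ D.B
      · exact absurd ⟨⟨_, D.conj_ri_mem b.2 r.2 h⟩, by simp, Subtype.ext (by group)⟩ hb
      · rw [D.bG_zero ν h, map_zero, mul_zero]
  rw [h1, Finset.sum_congr rfl fun b _ => Finset.mul_sum _ _ _, Finset.sum_comm,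
    Finset.sum_congr rfl fun r _ => h2 r, Finset.sum_const, Finset.card_univ,
    ← Nat.card_eq_fintype_card, nsmul_eq_mul]
  have hq : (Nat.card D.bd.R : ℂ) * Nat.card c.M = Nat.card D.B := by
    rw [D.card_B, D.bd.card, c.card_M]; push_cast; ring
  rw [← mul_assoc (Nat.card D.bd.R : ℂ), hq]
  have h0 : (Nat.card D.B : ℂ) ≠ 0 := Nat.cast_ne_zero.2 Nat.card_pos.ne'
  field_simp
  split_ifs <;> ring

theorem Th_t (μ : c.Dual) : D.Th μ c.t = (Fintype.card F : ℂ) + 1 := by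
  classical
  rw [D.Th_eq_Dif μ, Pi.add_apply, D.Dif_t, zero_add, D.Th_apply]
  have hB : c.t ∈ D.B := D.M_le_B c.t_mem_M
  have e : ∀ r : D.bd.R, D.bG 1 (((r : G) * c.i)⁻¹ * c.t * ((r : G) * c.i)) =
      if (r : G) ∈ c.U then 1 else 0 := by
    intro r
    split_ifs with h
    · have hc : (r : G)⁻¹ * c.t * r = c.t := by
        obtain ⟨a, ha⟩ := c.mem_U.1 h
        rw [← ha, mul_assoc, ← c.u_comm_t a, inv_mul_cancel_left]
      have e : ((r : G) * c.i)⁻¹ * c.t * ((r : G) * c.i) = c.t := by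
        rw [show ((r : G) * c.i)⁻¹ * c.t * ((r : G) * c.i) = c.i⁻¹ * ((r : G)⁻¹ * c.t * r) * c.i by
          group, hc, mul_assoc, ← c.i_comm_t, inv_mul_cancel_left]
      rw [e, D.bG_of_mem 1 hB, MonoidHom.one_apply, Units.val_one]
    · refine D.bG_zero 1 fun hm => h (D.bd.inf_cent _ r.2 ?_)
      have hM := D.conj_ri_mem hB r.2 hm
      rcases c.invol_M hM (by
        rw [show (r : G)⁻¹ * c.t * r * ((r : G)⁻¹ * c.t * r) = (r : G)⁻¹ * (c.t * c.t) * r by group,
          c.t_sq]; group) D.odd_card_H with e | e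
      · exact absurd (by calc c.t = r * ((r : G)⁻¹ * c.t * r) * (r : G)⁻¹ := by group
          _ = 1 := by rw [e]; group) c.t_ne
      · calc (r : G) * c.t = r * ((r : G)⁻¹ * c.t * r) := by rw [e]
          _ = c.t * r := by group
  rw [D.bG_of_mem 1 hB, MonoidHom.one_apply, Units.val_one, Finset.sum_congr rfl fun r _ => e r,
    Finset.sum_boole, add_comm (1 : ℂ), ← c.card_U]
  congr 2
  rw [← Fintype.card_subtype, ← Nat.card_eq_fintype_card]
  exact Nat.card_congr ⟨fun r => ⟨r.1, r.2⟩, fun u => ⟨⟨u, D.bd.U_le u.2⟩, u.2⟩,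
    fun r => by rfl, fun u => by rfl⟩

open Classical in
theorem sum_R_Th (μ : c.Dual) : ∑ r : D.bd.R, D.Th μ r = 2 * (Nat.card D.bd.R : ℂ) := by
  have hρ : ∀ {r : G} (hr : r ∈ D.bd.R), D.ρ ⟨r, D.R_le_B hr⟩ = 1 := fun {r} hr => by
    rw [D.ρ_eq (g := ⟨r, D.R_le_B hr⟩) (e := 1) (y := 1) hr
      (Or.inl (by rw [c.d_one, Subgroup.coe_one, one_mul, mul_one]))]
  simp only [D.Th_apply μ, Finset.sum_add_distrib]
  have e1 : ∑ r : D.bd.R, D.bG μ r = (Nat.card D.bd.R : ℂ) := by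
    rw [Finset.sum_congr rfl fun r _ => by
      rw [D.bG_of_mem μ (D.R_le_B r.2), hρ r.2, map_one, Units.val_one]]
    simp [Nat.card_eq_fintype_card]
  have e2 : ∀ v : D.bd.R, ∑ r : D.bd.R, D.bG μ (((v : G) * c.i)⁻¹ * r * ((v : G) * c.i)) = 1 := by
    intro v
    rw [Finset.sum_eq_single (1 : D.bd.R) (fun r _ hr => D.bG_zero μ fun h => hr ?_) (by simp),
      OneMemClass.coe_one, show ((v : G) * c.i)⁻¹ * 1 * ((v : G) * c.i) = 1 by group,
      D.bG_of_mem μ (one_mem _)]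
    · rw [show D.ρ ⟨1, one_mem D.B⟩ = 1 from map_one D.ρ, map_one, Units.val_one]
    · have hm := D.conj_ri_mem (D.R_le_B r.2) v.2 h
      have h1 := D.R_inf_M (mul_mem (mul_mem (inv_mem v.2) r.2) v.2) hm
      refine Subtype.ext ?_
      rw [OneMemClass.coe_one]
      calc (r : G) = v * ((v : G)⁻¹ * r * v) * (v : G)⁻¹ := by group
        _ = 1 := by rw [h1]; group
  rw [e1, Finset.sum_comm, Finset.sum_congr rfl fun v _ => e2 v]
  simp only [Finset.sum_const, Finset.card_univ, nsmul_eq_mul, mul_one, ← Nat.card_eq_fintype_card]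
  ring

end Full

/-- The two constituents of `Θ_μ`. -/
structure Pair (D : Full c) (μ : c.Dual) where
  /-- The first constituent. -/
  χ : IrrCharacter G
  /-- The second constituent. -/
  χ' : IrrCharacter G
  ne : χ ≠ χ'
  eq : D.Th μ = (χ : G → ℂ) + (χ' : G → ℂ)

namespace Pair

variable {D : Full c} {μ : c.Dual}

/-- Exchange the constituents. -/
def swap (P : Pair D μ) : Pair D μ := ⟨P.χ', P.χ, P.ne.symm, P.eq.trans (add_comm _ _)⟩

theorem inner_left (P : Pair D μ) : classInner (D.Th μ) (P.χ : G → ℂ) = 1 := by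
  rw [P.eq, classInner_add_left, classInner_irr_self P.χ.2,
    classInner_irr_ne P.χ'.2 P.χ.2 fun e => P.ne (Subtype.ext e.symm), add_zero]

theorem mem_cases (P : Pair D μ) {ψ : IrrCharacter G} (h : classInner (D.Th μ) (ψ : G → ℂ) ≠ 0) :
    ψ = P.χ ∨ ψ = P.χ' := by
  by_contra hn
  push Not at hn
  refine h ?_
  rw [P.eq, classInner_add_left, classInner_irr_ne P.χ.2 ψ.2 fun e => hn.1 (Subtype.ext e.symm),
    classInner_irr_ne P.χ'.2 ψ.2 fun e => hn.2 (Subtype.ext e.symm), add_zero]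

theorem ne_of_ne {ν : c.Dual} (P : Pair D μ) (Q : Pair D ν) (h : μ ≠ ν) : P.χ ≠ Q.χ := by
  classical
  intro e
  have hl : ∀ (ρ : c.Dual) (R : Pair D ρ) (ψ : IrrCharacter G),
      ∃ n : ℕ, classInner (ψ : G → ℂ) (D.Th ρ) = n := fun ρ R ψ =>
    ψ.2.isCharacter.exists_nat_classInner (D.isCharacter_Th ρ)
  obtain ⟨n, hn⟩ := hl ν Q P.χ'
  have h1 : classInner (P.χ : G → ℂ) (D.Th ν) = 1 := by
    rw [e, ← classInner_conj_symm, Q.inner_left, map_one]
  have h2 := D.inner_Th μ ν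
  rw [P.eq, classInner_add_left, h1, hn, if_neg h] at h2
  have : ((1 + n : ℕ) : ℂ) = 0 := by push_cast; exact h2
  have := Nat.cast_eq_zero.1 this
  omega

end Pair

namespace Full

theorem exists_pair (D : Full c) (μ : c.Dual) : Nonempty (Pair D μ) := by
  classical
  obtain ⟨a, b, hab, e⟩ := exists_pair_of_norm_two (D.isCharacter_Th μ)
    (by rw [D.inner_Th, if_pos rfl])
  exact ⟨⟨a, b, hab, e⟩⟩

end Full

end Cfsg.Lib.Walter3.Field
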