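import Cfsg.Agent.Lib.Walter3.Field.Arith

/-!
# The possible values of the constituents of `Θ_μ`

For a constituent of degree `y` with value `a` at `t` the other one has degree `q³ + 1 - y` and
value `q + 1 - a`; the equation between them leaves four values of `a`.
-/

set_option autoImplicit false
set_option linter.unusedSectionVars false
set_option linter.style.haveILetI false

namespace Cfsg.Lib.Walter3.Field

/-- The two constituents do not agree at both `1` and `t`. -/
theorem not_both_half {q a y : ℤ} (hq : 3 ≤ q)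
    (heq : q * (a ^ 2 * (q ^ 3 + 1 - y) + (q + 1 - a) ^ 2 * y) = (q + 1) * (y * (q ^ 3 + 1 - y)))
    (hy : 2 * y = q ^ 3 + 1) (ha : 2 * a = q + 1) : False := by
  rw [show q ^ 3 + 1 - y = y by linarith, show q + 1 - a = a by linarith,
    show q + 1 = 2 * a by linarith] at heq
  have hy' : y = a * (q ^ 2 - q + 1) := by
    refine mul_left_cancel₀ (show (2 : ℤ) ≠ 0 by norm_num) ?_
    linear_combination hy - (q ^ 2 - q + 1) * ha
  have hpos : 0 < y := by
    have : 0 < q ^ 3 + 1 := by positivity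
    omega
  have h1 : (q - (q ^ 2 - q + 1)) * (2 * a ^ 2 * y) = 0 := by
    linear_combination heq + (2 * a * y) * hy'
  rcases mul_eq_zero.1 h1 with h | h
  · nlinarith
  · have : 0 < 2 * a ^ 2 * y := by
      have : 0 < a := by omega
      positivity
    omega

theorem square_cases {v h M m q : ℤ} (hM : M * M = 16 * (v * (h * h) + 1))
    (hMdef : M = m + v * q - 4) (hv : v = 1 ∨ v = 2 ∨ v = 3) (hm : m % 2 = 0) (hq : q % 2 = 1)
    (hh : h % 2 = 1) (hh2 : 2 ≤ h) : False := by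
  rcases hv with rfl | rfl | rfl
  · rcases le_or_gt 0 M with h0 | h0
    · have : 4 * h < M := by nlinarith
      have : (4 * h + 1) * (4 * h + 1) ≤ M * M := by nlinarith
      nlinarith
    · have : 4 * h < -M := by nlinarith
      have : (4 * h + 1) * (4 * h + 1) ≤ M * M := by nlinarith
      nlinarith
  · obtain ⟨s, hs⟩ : ∃ s, M = 4 * s := by
      obtain ⟨M', rfl⟩ : ∃ M', M = 2 * M' := ⟨M / 2, by omega⟩
      have h1 : (M' * M') % 2 = 0 := by
        have : M' * M' = 4 * (2 * (h * h) + 1) := by linarith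
        omega
      rw [Int.mul_emod] at h1
      exact ⟨M' / 2, by rcases Int.emod_two_eq_zero_or_one M' with e | e <;> rw [e] at h1 <;> omega⟩
    subst hs
    have h1 : s * s = 2 * (h * h) + 1 := by linarith
    have hs2 : s % 2 = 1 := by
      rcases Int.emod_two_eq_zero_or_one s with e | e
      · have : (s * s) % 2 = 0 := by rw [Int.mul_emod, e]; rfl
        omega
      · exact e
    obtain ⟨t, rfl⟩ : ∃ t, s = 2 * t + 1 := ⟨s / 2, by omega⟩
    have h2 : (h * h) % 2 = 0 := by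
      have : h * h = 2 * (t * t + t) := by linarith
      omega
    rw [Int.mul_emod, hh] at h2
    norm_num at h2
  · have h1 : (M * M) % 2 = 1 := by
      rw [Int.mul_emod, show M % 2 = 1 by omega]
      rfl
    omega

theorem large_factor {q h m u w : ℤ} (hq : q = 2 * h + 1) (hh : h % 2 = 1) (hq27 : 27 ≤ q)
    (hm : 8 < m) (hm2 : m % 2 = 0)
    (hprod : u * w = q ^ 2 * (m * (m - 8))) (hsum : u + w = 4 * (q ^ 2 + 1) - 2 * (m * q))
    (hu : 0 < u) (hw : 0 < w) (hd : q ^ 2 ∣ u) : False := by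
  obtain ⟨v, rfl⟩ := hd
  have hq2 : (0 : ℤ) < q ^ 2 := by positivity
  have hv0 : 0 < v := (pos_iff_pos_of_mul_pos hu).1 hq2
  have hvw : v * w = m * (m - 8) := mul_left_cancel₀ hq2.ne' (by linear_combination hprod)
  have hv4 : v < 4 := by
    by_contra hc
    have : q ^ 2 * 4 ≤ q ^ 2 * v := mul_le_mul_of_nonneg_left (not_lt.1 hc) hq2.le
    nlinarith
  refine square_cases (v := v) (h := h) (M := m + v * q - 4) (m := m) (q := q) ?_ rfl (by omega) hm2
    (by omega) hh (by omega)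
  subst hq
  linear_combination v * hsum - hvw

/-- The values of a constituent. -/
theorem degree_cases {q a y : ℤ} {n : ℕ} (hq : q = 3 ^ n) (hq27 : 27 ≤ q) (hq8 : q % 8 = 3)
    (heq : q * (a ^ 2 * (q ^ 3 + 1 - y) + (q + 1 - a) ^ 2 * y) = (q + 1) * (y * (q ^ 3 + 1 - y)))
    (hh : (q - 1) / 2 ∣ a - 1) (h8 : 8 ∣ y - a) (hy : y % 2 = 1) :
    a = 1 ∧ y = 1 ∨ a = q ∨ a = 2 * q - 1 ∨ a = 2 - q := by
  have hcop : ∀ b : ℤ, ¬ 3 ∣ b → IsCoprime q b := fun b hb => hq ▸ coprime_three_pow hb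
  have h3q : (3 : ℤ) ∣ q := hq ▸ dvd_pow_self 3 (by rintro rfl; norm_num at hq; omega)
  set A := 2 * q * a + (q - 1) ^ 2 * (q + 1) with hA
  have hquad : y ^ 2 - A * y + q * a ^ 2 * (q ^ 2 - q + 1) = 0 := by
    refine (mul_eq_zero.1 (show (q + 1) * _ = 0 from ?_)).resolve_left (show q + 1 ≠ 0 by omega)
    rw [hA]
    linear_combination heq
  obtain ⟨h, hhq⟩ : ∃ h, q = 2 * h + 1 := ⟨q / 2, by omega⟩
  obtain ⟨k, hk⟩ : h ∣ a - 1 := by rwa [show (q - 1) / 2 = h by omega] at hh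
  have hhodd : h % 2 = 1 := by omega
  have haodd : a % 2 = 1 := by omega
  obtain ⟨i, rfl⟩ : ∃ i, k = 2 * i := by
    refine ⟨k / 2, ?_⟩
    have : (h * k) % 2 = 0 := by omega
    rw [Int.mul_emod, hhodd, one_mul, Int.emod_emod] at this
    omega
  set m := 4 * i * (i - 1) with hm
  have hsq : (2 * y - A) ^ 2 = (q - 1) ^ 2 * ((q ^ 2 + 1) ^ 2 - m * q * (q - 1) ^ 2) := by
    have ha : a = 1 + h * (2 * i) := by linarith
    rw [hA, hm] at *
    subst ha hhq
    linear_combination 4 * hquad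
  obtain ⟨Z, hZ⟩ : q - 1 ∣ 2 * y - A := dvd_of_sq_dvd_sq (Dvd.intro _ hsq.symm)
  have hE : Z ^ 2 = (q ^ 2 + 1) ^ 2 - m * q * (q - 1) ^ 2 := by
    refine mul_left_cancel₀ (pow_ne_zero 2 (show q - 1 ≠ 0 by omega)) ?_
    rw [← hsq, hZ]
    ring
  by_cases hi : i = 0 ∨ i = 1 ∨ i = 2 ∨ i = -1
  · rcases hi with rfl | rfl | rfl | rfl
    · obtain rfl : a = 1 := by linarith
      left
      refine ⟨rfl, ?_⟩
      have h0 : (y - 1) * (y - q * (q ^ 2 - q + 1)) = 0 := by rw [hA] at hquad; linear_combination hquad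
      rcases mul_eq_zero.1 h0 with e | e
      · linarith
      · exfalso
        obtain ⟨j, rfl⟩ : ∃ j, q = 8 * j + 3 := ⟨q / 8, by omega⟩
        have hy' : y - 1 = 8 * (64 * j ^ 3 + 64 * j ^ 2 + 22 * j + 2) + 4 := by linear_combination e
        omega
    · exact Or.inr (Or.inl (by linarith))
    · exact Or.inr (Or.inr (Or.inl (by linarith)))
    · exact Or.inr (Or.inr (Or.inr (by linarith)))
  exfalso
  push Not at hi
  have hii : 6 ≤ i * (i - 1) := by
    rcases show 3 ≤ i ∨ i ≤ -2 by omega with h' | h' <;> nlinarith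
  have hm8 : 8 < m := by rw [hm, mul_assoc]; omega
  have hm2 : m % 2 = 0 := by rw [hm, mul_assoc]; omega
  have hmq : m ≤ q + 2 := by
    by_contra hc
    have h1 : (q + 3) * (q * (q - 1) ^ 2) ≤ m * (q * (q - 1) ^ 2) :=
      mul_le_mul_of_nonneg_right (by omega) (by positivity)
    have h2 : m * (q * (q - 1) ^ 2) ≤ (q ^ 2 + 1) ^ 2 := by linarith [sq_nonneg Z]
    have h3 : 27 * (q * q) ≤ q * (q * q) := mul_le_mul_of_nonneg_right hq27 (by positivity)
    linarith [mul_self_nonneg q]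
  set P := 2 * (q ^ 2 + 1) - m * q with hP
  have hprod : (P - 2 * Z) * (P + 2 * Z) = q ^ 2 * (m * (m - 8)) := by
    rw [hP]
    linear_combination (-4 : ℤ) * hE
  have hP0 : 0 < P := by rw [hP]; nlinarith
  have hpos : 0 < (P - 2 * Z) * (P + 2 * Z) := by
    rw [hprod]
    have : 0 < m * (m - 8) := mul_pos (by omega) (by omega)
    positivity
  obtain ⟨hu, hw⟩ : 0 < P - 2 * Z ∧ 0 < P + 2 * Z := by
    rcases mul_pos_iff.1 hpos with h' | h'
    · exact h'
    · omega
  have hP3 : ¬ (3 : ℤ) ∣ P := fun hd => by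
    obtain ⟨w, hw'⟩ := h3q
    have h2 := dvd_sub hd (Dvd.intro (6 * w ^ 2 - m * w) rfl : (3 : ℤ) ∣ 3 * (6 * w ^ 2 - m * w))
    rw [show P - 3 * (6 * w ^ 2 - m * w) = (2 : ℤ) by rw [hP, hw']; ring] at h2
    omega
  by_cases h3 : (3 : ℤ) ∣ P - 2 * Z
  · have h3' : ¬ (3 : ℤ) ∣ P + 2 * Z := fun h' => hP3 (by omega)
    exact large_factor hhq hhodd hq27 hm8 hm2 hprod (by rw [hP]; ring) hu hw
      (((hcop _ h3').pow_left).dvd_of_dvd_mul_right (Dvd.intro _ hprod.symm))
  · exact large_factor hhq hhodd hq27 hm8 hm2 ((mul_comm _ _).trans hprod) (by rw [hP]; ring) hw hu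
      (((hcop _ h3).pow_left).dvd_of_dvd_mul_left (Dvd.intro _ hprod.symm))

end Cfsg.Lib.Walter3.Field
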