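import Cfsg.Agent.Lib.Walter3.Field.Local

/-!
# The diagonal subgroup of `C(t)`

`M = ⟨t⟩ × H F₀`, the sign character of `C(t)` and the normalizer of an element of the torus.
-/

set_option autoImplicit false
set_option linter.unusedSectionVars false
set_option linter.style.haveILetI false

namespace Cfsg.Lib.Walter3.Field

open Subgroup Cfsg
open Cfsg.Lib.TwoDim (splitSL)
open Cfsg.Lib.Linear.AutPSL (fld)
open scoped MatrixGroups

universe u

local notation "PSL2[" K "]" => Matrix.ProjectiveSpecialLinearGroup (Fin 2) K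

namespace Cfg

variable {G : Type u} [Group G] [Finite G] {F : Type} [Field F] [Fintype F] (c : Cfg G F)
include c

theorem d_one : c.d 1 = 1 := c.d_eq_one.2 (Or.inl rfl)

theorem u_zero : c.u 0 = 1 := by
  have h := c.u_add 0 0
  rw [add_zero] at h
  exact mul_right_cancel (h.symm.trans (one_mul _).symm)

theorem d_inv (a : Fˣ) : c.d a⁻¹ = (c.d a)⁻¹ := by
  rw [eq_inv_iff_mul_eq_one, ← d_mul, inv_mul_cancel, d_one]

theorem d_pow (a : Fˣ) (k : ℕ) : c.d (a ^ k) = c.d a ^ k := by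
  induction k with
  | zero => rw [pow_zero, pow_zero, d_one]
  | succ k ih => rw [pow_succ, pow_succ, d_mul, ih]

theorem y_comm_i (y : fieldPart c.S) : Commute (y : G) c.i := c.y_comm_S y c.i_mem

theorem de_comm_t (e : Fˣ) (y : fieldPart c.S) : Commute c.t (c.d e * (y : G)) :=
  (show Commute c.t (c.d e) from (c.d_comm_t e).symm).mul_right (c.y_comm_t y).symm

theorem de_mul (e e' : Fˣ) (y y' : fieldPart c.S) :
    c.d e * (y : G) * (c.d e' * (y' : G)) =
      c.d (e * Units.map (c.σ y : F →* F) e') * (y * y' : fieldPart c.S) := by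
  rw [d_mul, ← c.y_d, Subgroup.coe_mul]
  group

/-- The subgroup `⟨t⟩ × H F₀`. -/
def M : Subgroup G where
  carrier := {g | ∃ (e : Fˣ) (y : fieldPart c.S), g = c.d e * y ∨ g = c.t * (c.d e * y)}
  one_mem' := ⟨1, 1, Or.inl (by rw [d_one, Subgroup.coe_one, one_mul])⟩
  mul_mem' := by
    rintro a b ⟨e, y, ha⟩ ⟨e', y', hb⟩
    refine ⟨e * Units.map (c.σ y : F →* F) e', y * y', ?_⟩
    rw [← de_mul]
    rcases ha with rfl | rfl <;> rcases hb with rfl | rfl
    · exact Or.inl rfl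
    · exact Or.inr (by rw [← mul_assoc, ← (c.de_comm_t e y).eq, mul_assoc])
    · exact Or.inr (by rw [mul_assoc])
    · refine Or.inl ?_
      rw [mul_assoc c.t, ← mul_assoc (c.d e * (y : G)) c.t, ← (c.de_comm_t e y).eq, mul_assoc c.t,
        ← mul_assoc c.t c.t, c.t_sq, one_mul]
  inv_mem' := by
    rintro a ⟨e, y, ha⟩
    refine ⟨Units.map (c.σ y⁻¹ : F →* F) e⁻¹, y⁻¹, ?_⟩
    have h : (c.d e * (y : G))⁻¹ = c.d (Units.map (c.σ y⁻¹ : F →* F) e⁻¹) * (y⁻¹ : fieldPart c.S) := by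
      rw [← c.y_d, d_inv, Subgroup.coe_inv]
      group
    rcases ha with rfl | rfl
    · exact Or.inl h
    · refine Or.inr ?_
      rw [← h, _root_.mul_inv_rev, c.t_inv, (c.de_comm_t e y).inv_right.eq]

theorem mem_M {g : G} :
    g ∈ c.M ↔ ∃ (e : Fˣ) (y : fieldPart c.S), g = c.d e * y ∨ g = c.t * (c.d e * y) := Iff.rfl

theorem t_mem_M : c.t ∈ c.M :=
  ⟨1, 1, Or.inr (by rw [d_one, Subgroup.coe_one, one_mul, mul_one])⟩

theorem H_le_M : c.H ≤ c.M := by
  intro g hg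
  obtain ⟨a, rfl⟩ := c.mem_H.1 hg
  exact ⟨a, 1, Or.inl (by rw [Subgroup.coe_one, mul_one])⟩

theorem F_le_M : fieldPart c.S ≤ c.M := fun g hg =>
  ⟨1, ⟨g, hg⟩, Or.inl (by rw [d_one, one_mul])⟩

theorem M_le_Ct : c.M ≤ centralizer ({c.t} : Set G) := by
  rintro g ⟨e, y, rfl | rfl⟩
  · exact mem_centralizer_singleton_iff.2 (c.de_comm_t e y).eq.symm
  · exact mem_centralizer_singleton_iff.2 ((Commute.refl c.t).mul_right (c.de_comm_t e y)).eq.symm

theorem comm_t_of_mem_M {g : G} (hg : g ∈ c.M) : Commute c.t g :=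
  (mem_centralizer_singleton_iff.1 (c.M_le_Ct hg)).symm

theorem i_conj_de (e : Fˣ) (y : fieldPart c.S) :
    c.i * (c.d e * (y : G)) * c.i⁻¹ = c.d e⁻¹ * y := by
  rw [← c.i_d, show c.i * (c.d e * (y : G)) * c.i⁻¹ = c.i * c.d e * c.i⁻¹ * (c.i * y * c.i⁻¹) by group,
    ← (c.y_comm_i y).eq, mul_inv_cancel_right]

theorem i_inv : c.i⁻¹ = c.i := inv_eq_of_mul_eq_one_right c.i_sq

theorem i_conj_M {g : G} (hg : g ∈ c.M) : c.i * g * c.i⁻¹ ∈ c.M := by
  obtain ⟨e, y, rfl | rfl⟩ := hg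
  · exact ⟨e⁻¹, y, Or.inl (c.i_conj_de e y)⟩
  · refine ⟨e⁻¹, y, Or.inr ?_⟩
    rw [← c.i_conj_de, ← mul_assoc c.i, c.i_comm_t]
    group

/-- The projection on the field part along `φ`. -/
theorem π_de {g : centralizer ({c.t} : Set G)} {e : Fˣ} {y : fieldPart c.S}
    (h : (g : G) = c.d e * y ∨ (g : G) = c.t * (c.d e * y)) : c.π g = y := c.π_eq h

theorem de_unique {e e' : Fˣ} {y y' : fieldPart c.S} :
    (c.d e * (y : G) = c.d e' * y' → c.d e = c.d e' ∧ y = y') ∧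
      c.d e * (y : G) ≠ c.t * (c.d e' * y') :=
  ⟨fun h => by
    obtain ⟨h1, h2⟩ := c.decomp_unique.1 h
    exact ⟨congrArg c.φ h1, h2⟩, c.decomp_unique.2⟩

theorem card_M : Nat.card c.M = (Fintype.card F - 1) * c.f := by
  let m : (c.H × fieldPart c.S) ⊕ (c.H × fieldPart c.S) → c.M :=
    Sum.elim (fun p => ⟨(p.1 : G) * p.2, mul_mem (c.H_le_M p.1.2) (c.F_le_M p.2.2)⟩)
      (fun p => ⟨c.t * ((p.1 : G) * p.2),
        mul_mem c.t_mem_M (mul_mem (c.H_le_M p.1.2) (c.F_le_M p.2.2))⟩)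
  have hm : Function.Bijective m := by
    refine ⟨?_, fun g => ?_⟩
    · rintro (⟨⟨a, ha⟩, y⟩ | ⟨⟨a, ha⟩, y⟩) (⟨⟨b, hb⟩, y'⟩ | ⟨⟨b, hb⟩, y'⟩) h <;>
        have h' := congrArg Subtype.val h <;> simp only [m, Sum.elim_inl, Sum.elim_inr] at h' <;>
        obtain ⟨e, rfl⟩ := c.mem_H.1 ha <;> obtain ⟨e', rfl⟩ := c.mem_H.1 hb
      · obtain ⟨h1, rfl⟩ := c.de_unique.1 h'
        simp only [h1]
      · exact absurd h' c.de_unique.2
      · exact absurd h'.symm c.de_unique.2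
      · obtain ⟨h1, rfl⟩ := c.de_unique.1 (mul_left_cancel h')
        simp only [h1]
    · obtain ⟨e, y, h | h⟩ := c.mem_M.1 g.2
      · exact ⟨Sum.inl (⟨c.d e, c.mem_H.2 ⟨e, rfl⟩⟩, y), Subtype.ext h.symm⟩
      · exact ⟨Sum.inr (⟨c.d e, c.mem_H.2 ⟨e, rfl⟩⟩, y), Subtype.ext h.symm⟩
  rw [← Nat.card_congr (Equiv.ofBijective m hm), Nat.card_sum, Nat.card_prod, ← two_mul,
    ← mul_assoc, mul_comm 2, c.card_H]
  rfl

theorem invol_M {g : G} (hg : g ∈ c.M) (h2 : g * g = 1) (hH : Odd (Nat.card c.H)) :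
    g = 1 ∨ g = c.t := by
  have key : ∀ (e : Fˣ) (y : fieldPart c.S),
      c.d e * (y : G) * (c.d e * (y : G)) = 1 → c.d e * (y : G) = 1 := by
    intro e y h
    rw [de_mul] at h
    obtain ⟨h1, h3⟩ := (c.de_unique (e' := 1) (y' := 1)).1
      (h.trans (by rw [d_one, Subgroup.coe_one, one_mul]))
    obtain rfl := c.eq_one_of_sq y h3
    rw [Subgroup.coe_one, mul_one]
    rw [map_one c.σ, d_one] at h1
    have h4 : c.d e ^ 2 = 1 := by rw [pow_two, ← d_mul, ← h1]; rfl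
    let z : c.H := ⟨c.d e, c.mem_H.2 ⟨e, rfl⟩⟩
    have h5 : orderOf z ∣ Nat.gcd 2 (Nat.card c.H) :=
      Nat.dvd_gcd (orderOf_dvd_of_pow_eq_one (Subtype.ext h4)) (orderOf_dvd_natCard z)
    rw [(Nat.coprime_two_left.2 hH).gcd_eq_one, Nat.dvd_one, orderOf_eq_one_iff] at h5
    exact congrArg Subtype.val h5
  obtain ⟨e, y, rfl | rfl⟩ := hg
  · exact Or.inl (key e y h2)
  · right
    rw [key e y ?_, mul_one]
    rw [← h2, mul_assoc c.t, ← mul_assoc (c.d e * (y : G)) c.t, ← (c.de_comm_t e y).eq, mul_assoc c.t,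
      ← mul_assoc c.t c.t, c.t_sq, one_mul]

/-! ### The sign of an element of `C(t)` -/

/-- The elements of `L F₀`. -/
def Even' (g : G) : Prop := ∃ (l : PSL2[F]) (y : fieldPart c.S), g = c.φ l * y

open Classical in
/-- The sign character of `C(t)`, with kernel `L F₀`. -/
noncomputable def sgn : centralizer ({c.t} : Set G) →* ℂˣ :=
  MonoidHom.mk' (fun g => if c.Even' (g : G) then 1 else -1) fun a b => by
    obtain ⟨y, l, ha⟩ := c.exists_decomp a
    obtain ⟨z, m, hb⟩ := c.exists_decomp b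
    have hP : ∀ {g : G} {l : PSL2[F]} {y : fieldPart c.S}, g = c.φ l * y → c.Even' g :=
      fun h => ⟨_, _, h⟩
    have hN : ∀ {g : G} {l : PSL2[F]} {y : fieldPart c.S}, g = c.t * (c.φ l * y) → ¬ c.Even' g := by
      rintro g l y h ⟨l', y', h'⟩
      exact c.decomp_unique.2 (h'.symm.trans h)
    have hc : Commute c.t (c.φ l * y) := c.t_comm_φy l y
    rcases ha with ha | ha <;> rcases hb with hb | hb
    · rw [if_pos (hP ha), if_pos (hP hb), if_pos (hP (g := ((a * b : _) : G)) (l := l * fld (c.σ y) m) (y := y * z) ?_), one_mul]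
      rw [Subgroup.coe_mul, ha, hb, φ_mul_φ_mul]
    · rw [if_pos (hP ha), if_neg (hN hb), if_neg (hN (g := ((a * b : _) : G)) (l := l * fld (c.σ y) m) (y := y * z) ?_), one_mul]
      rw [Subgroup.coe_mul, ha, hb, ← mul_assoc, ← hc.eq, mul_assoc, φ_mul_φ_mul]
    · rw [if_neg (hN ha), if_pos (hP hb), if_neg (hN (g := ((a * b : _) : G)) (l := l * fld (c.σ y) m) (y := y * z) ?_), mul_one]
      rw [Subgroup.coe_mul, ha, hb, mul_assoc, φ_mul_φ_mul]
    · rw [if_neg (hN ha), if_neg (hN hb), if_pos (hP (g := ((a * b : _) : G)) (l := l * fld (c.σ y) m) (y := y * z) ?_), neg_mul_neg,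
        one_mul]
      rw [Subgroup.coe_mul, ha, hb, mul_assoc c.t, ← mul_assoc (c.φ l * (y : G)) c.t, ← hc.eq,
        mul_assoc c.t, ← mul_assoc c.t c.t, c.t_sq, one_mul, φ_mul_φ_mul]

theorem sgn_inl {g : centralizer ({c.t} : Set G)} {l : PSL2[F]} {y : fieldPart c.S}
    (h : (g : G) = c.φ l * y) : (c.sgn g : ℂ) = 1 := by
  classical
  show ((if c.Even' (g : G) then 1 else -1 : ℂˣ) : ℂ) = 1
  rw [if_pos ⟨l, y, h⟩, Units.val_one]

theorem sgn_inr {g : centralizer ({c.t} : Set G)} {l : PSL2[F]} {y : fieldPart c.S}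
    (h : (g : G) = c.t * (c.φ l * y)) : (c.sgn g : ℂ) = -1 := by
  classical
  show ((if c.Even' (g : G) then 1 else -1 : ℂˣ) : ℂ) = -1
  rw [if_neg, Units.val_neg, Units.val_one]
  rintro ⟨l', y', h'⟩
  exact c.decomp_unique.2 (h'.symm.trans h)

/-- An element of `C(t)` conjugating one element of odd order of the torus to another one. -/
theorem cent_t_conj_d {a b : Fˣ} (h1 : (a : F) ^ 2 ≠ 1) (h2 : (a : F) ^ 2 ≠ -1) {g : G}
    (hgt : g * c.t = c.t * g) (h : g * c.d b * g⁻¹ = c.d a) : g ∈ c.M ∨ g * c.i ∈ c.M := by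
  obtain ⟨y, l, hl⟩ := c.exists_decomp ⟨g, mem_centralizer_singleton_iff.2 hgt⟩
  change g = _ ∨ g = _ at hl
  have key : l * pr (splitSL F (Units.map (c.σ y : F →* F) b)) * l⁻¹ = pr (splitSL F a) := by
    refine c.φ_inj ?_
    rw [map_mul, map_mul, map_inv]
    show c.φ l * c.d _ * (c.φ l)⁻¹ = c.d a
    rw [← c.y_d, ← h]
    rcases hl with e | e
    · rw [e]; group
    · have hc : Commute c.t (c.φ l * (y : G) * c.d b * (c.φ l * (y : G))⁻¹) := by
        have hb : Commute c.t (c.d b) := (c.d_comm_t b).symm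
        exact ((c.t_comm_φy l y).mul_right hb).mul_right (c.t_comm_φy l y).inv_right
      rw [e, show c.t * (c.φ l * (y : G)) * c.d b * (c.t * (c.φ l * (y : G)))⁻¹ =
        c.t * (c.φ l * (y : G) * c.d b * (c.φ l * (y : G))⁻¹) * c.t⁻¹ by group, hc.eq,
        mul_inv_cancel_right]
      group
  have mem : ∀ e : Fˣ, ∀ x : G, x = c.d e * (y : G) ∨ x = c.t * (c.d e * (y : G)) → x ∈ c.M :=
    fun e x hx => ⟨e, y, hx⟩
  rcases conj_splitSL h1 h2 key with ⟨⟨e, rfl⟩, -⟩ | hsq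
  · exact Or.inl (mem e g hl)
  · right
    have key2 : pr (jSL : SL(2, F)) * l * pr (splitSL F (Units.map (c.σ y : F →* F) b)) *
        (pr jSL * l)⁻¹ = pr (splitSL F a⁻¹) := by
      rw [show pr (jSL : SL(2, F)) * l * pr (splitSL F (Units.map (c.σ y : F →* F) b)) *
        (pr jSL * l)⁻¹ = pr jSL * (l * pr (splitSL F (Units.map (c.σ y : F →* F) b)) * l⁻¹) *
          (pr jSL)⁻¹ by group, key, ← jSL_conj_splitSL]
      rfl
    have h1' : ((a⁻¹ : Fˣ) : F) ^ 2 ≠ 1 := by simpa using h1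
    have h2' : ((a⁻¹ : Fˣ) : F) ^ 2 ≠ -1 := by
      intro e
      refine h2 ?_
      rw [Units.val_inv_eq_inv_val, inv_pow, inv_eq_iff_eq_inv] at e
      rw [e, inv_neg, inv_one]
    rcases conj_splitSL h1' h2' key2 with ⟨⟨e, he⟩, -⟩ | hsq'
    · have hj : c.φ (pr jSL) = c.i := rfl
      have hl' : c.φ l = c.i * c.d e := by
        rw [← c.i_inv, ← hj, ← map_inv, show c.d e = c.φ (pr (splitSL F e)) from rfl, ← map_mul, ← he,
          inv_mul_cancel_left]
      have e1 : c.φ l * (y : G) * c.i = c.d e⁻¹ * y := by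
        rw [hl', ← c.i_conj_de, mul_assoc c.i, c.i_inv]
      refine mem e⁻¹ _ ?_
      rcases hl with r | r
      · exact Or.inl (by rw [r, e1])
      · exact Or.inr (by rw [r, mul_assoc, e1])
    · exfalso
      have hb : ((Units.map (c.σ y : F →* F) b : Fˣ) : F) ^ 2 ≠ 0 := pow_ne_zero _ (Units.ne_zero _)
      have ha : ((a : Fˣ) : F) ^ 2 ≠ 0 := pow_ne_zero _ (Units.ne_zero _)
      rw [Units.val_inv_eq_inv_val, inv_pow, mul_inv_eq_one₀ ha] at hsq'
      rw [hsq'] at hsq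
      have : ((a : F) ^ 2 - 1) * ((a : F) ^ 2 + 1) = 0 := by linear_combination hsq
      rcases mul_eq_zero.1 this with e | e
      · exact h1 (sub_eq_zero.1 e)
      · exact h2 (eq_neg_of_add_eq_zero_left e)

end Cfg

end Cfsg.Lib.Walter3.Field
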