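import Cfsg.Agent.Lib.Walter3.Field.Matrices

/-!
# Existence of the coordinates
-/

set_option autoImplicit false
set_option linter.unusedSectionVars false
set_option linter.style.haveILetI false

namespace Cfsg.Lib.Walter3.Field

open Subgroup Cfsg Matrix
open Cfsg.Lib.Linear.AutPSL (fld innd fld_mk innd_mk cnjHom_coe innd_eq_fld innd_scalar fld_mul_innd)
open Cfsg.Lib.Dickson.KleinClasses (mk_eq_iff)
open scoped MatrixGroups

universe u

local notation "PSL2[" K "]" => Matrix.ProjectiveSpecialLinearGroup (Fin 2) K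

variable {F : Type} [Field F] [Fintype F]

/-- A matrix commuting with the two standard elements is scalar. -/
theorem scalar_of_comm (h2 : (2 : F) ≠ 0) {a b : F} (h : a * a + b * b = -1)
    {X : Matrix (Fin 2) (Fin 2) F} (hJ : X * !![0, -1; 1, 0] = !![0, -1; 1, 0] * X)
    (hM : X * !![a, b; b, -a] = !![a, b; b, -a] * X) :
    X ∈ Set.range (Matrix.scalar (Fin 2) : F → Matrix (Fin 2) (Fin 2) F) := by
  have j00 := congrFun (congrFun hJ 0) 0
  have j01 := congrFun (congrFun hJ 0) 1
  have m00 := congrFun (congrFun hM 0) 0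
  have m01 := congrFun (congrFun hM 0) 1
  simp [Matrix.mul_apply, Fin.sum_univ_two] at j00 j01 m00 m01
  have hb : X 0 1 * b = 0 := by
    have : (2 : F) * (X 0 1 * b) = 0 := by linear_combination m00 + b * j00
    exact (mul_eq_zero.1 this).resolve_left h2
  have ha : X 0 1 * a = 0 := by
    have : (2 : F) * (X 0 1 * a) = 0 := by linear_combination -m01 + b * j01
    exact (mul_eq_zero.1 this).resolve_left h2
  have h01 : X 0 1 = 0 := by linear_combination -a * ha - b * hb + X 0 1 * h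
  refine ⟨X 0 0, ?_⟩
  ext i j
  fin_cases i <;> fin_cases j <;> simp [Matrix.scalar_apply]
  · exact h01.symm
  · linear_combination -j00 + h01
  · linear_combination j01

/-- An inner-diagonal automorphism fixing an element conjugates the matrix to itself up to sign. -/
theorem sign_of_fix {A : GL (Fin 2) F} {X : SL(2, F)}
    (h : (innd A : MulAut PSL2[F]) (pr X) = pr X) :
    ∃ s : F, (s = 1 ∨ s = -1) ∧ (A : Matrix (Fin 2) (Fin 2) F) * (X : Matrix (Fin 2) (Fin 2) F) =
      s • ((X : Matrix (Fin 2) (Fin 2) F) * (A : Matrix (Fin 2) (Fin 2) F)) := by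
  rw [pr, innd_mk] at h
  have e := mk_eq_iff.1 h
  rw [cnjHom_coe] at e
  rcases e with e | e
  · refine ⟨1, Or.inl rfl, ?_⟩
    rw [one_smul]
    conv_rhs => rw [e]
    rw [Matrix.mul_assoc _ _ (A : Matrix (Fin 2) (Fin 2) F), Units.inv_mul, Matrix.mul_one]
  · refine ⟨-1, Or.inr rfl, ?_⟩
    rw [neg_one_smul]
    conv_rhs => rw [e]
    rw [Matrix.neg_mul, neg_neg, Matrix.mul_assoc _ _ (A : Matrix (Fin 2) (Fin 2) F), Units.inv_mul,
      Matrix.mul_one]

/-- An automorphism of odd order fixing the standard four-group is a field automorphism. -/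
theorem exists_fld (hodd : Fintype.card F % 2 = 1) {a b : F} (h : a * a + b * b = -1)
    (hab : ∀ τ : F ≃+* F, τ a = a ∧ τ b = b) (β : MulAut PSL2[F]) {n : ℕ} (hn : Odd n)
    (hβ : β ^ n = 1) (hj : β (pr jSL) = pr jSL) (hm : β (pr (mSL a b h)) = pr (mSL a b h)) :
    ∃ τ : F ≃+* F, β = fld τ := by
  obtain ⟨A, τ, rfl⟩ := GW.PGL.exists_decomp_two β
  have h2 := two_ne_zero_of (F := F) hodd
  rw [MulAut.mul_apply, fld_jSL] at hj
  rw [MulAut.mul_apply, fld_mSL τ h (hab τ).1 (hab τ).2] at hm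
  obtain ⟨s, hs, ej⟩ := sign_of_fix hj
  obtain ⟨r, hr, em⟩ := sign_of_fix hm
  rw [jSL_coe] at ej
  change (A : Matrix (Fin 2) (Fin 2) F) * !![a, b; b, -a] = r • (!![a, b; b, -a] * (A : Matrix (Fin 2) (Fin 2) F)) at em
  -- matrices with the same signs as `A` induce the same automorphism
  have same : ∀ B : GL (Fin 2) F,
      (B : Matrix (Fin 2) (Fin 2) F) * !![0, -1; 1, 0] = s • (!![0, -1; 1, 0] * (B : Matrix (Fin 2) (Fin 2) F)) →
      (B : Matrix (Fin 2) (Fin 2) F) * !![a, b; b, -a] = r • (!![a, b; b, -a] * (B : Matrix (Fin 2) (Fin 2) F)) →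
      (innd (B * A) : MulAut PSL2[F]) = 1 := by
    intro B eBj eBm
    refine innd_scalar ?_
    rw [Units.val_mul]
    have key : ∀ (X : Matrix (Fin 2) (Fin 2) F) (k : F), (k = 1 ∨ k = -1) →
        (A : Matrix (Fin 2) (Fin 2) F) * X = k • (X * (A : Matrix (Fin 2) (Fin 2) F)) →
        (B : Matrix (Fin 2) (Fin 2) F) * X = k • (X * (B : Matrix (Fin 2) (Fin 2) F)) →
        ((B : Matrix (Fin 2) (Fin 2) F) * A) * X = X * ((B : Matrix (Fin 2) (Fin 2) F) * A) := by
      intro X k hk e1 e2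
      rw [Matrix.mul_assoc, e1, Matrix.mul_smul, ← Matrix.mul_assoc, e2, Matrix.smul_mul, smul_smul,
        Matrix.mul_assoc]
      rcases hk with rfl | rfl <;> simp
    exact scalar_of_comm h2 h (key _ s hs ej eBj) (key _ r hr em eBm)
  set A' : GL (Fin 2) F := GeneralLinearGroup.map τ.toRingHom A with hA'
  have hA'v : (A' : Matrix (Fin 2) (Fin 2) F) = (A : Matrix (Fin 2) (Fin 2) F).map τ := rfl
  have hk : ∀ (X : Matrix (Fin 2) (Fin 2) F) (k : F), (k = 1 ∨ k = -1) → X.map τ = X →
      (A : Matrix (Fin 2) (Fin 2) F) * X = k • (X * (A : Matrix (Fin 2) (Fin 2) F)) →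
      (A' : Matrix (Fin 2) (Fin 2) F) * X = k • (X * (A' : Matrix (Fin 2) (Fin 2) F)) := by
    intro X k hk hX e
    have hτk : τ k = k := by rcases hk with rfl | rfl <;> simp
    have := congrArg (fun Y : Matrix (Fin 2) (Fin 2) F => Y.map (τ : F →+* F)) e
    simp only [Matrix.map_mul] at this
    have hsm : ∀ Y : Matrix (Fin 2) (Fin 2) F,
        (k • Y).map (τ : F →+* F) = k • Y.map (τ : F →+* F) := fun Y =>
      Matrix.ext fun i j => show τ (k * Y i j) = k * τ (Y i j) by rw [map_mul, hτk]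
    rw [hsm, Matrix.map_mul] at this
    rw [hA'v]
    rw [show X.map (τ : F →+* F) = X from hX] at this
    exact this
  have h1 : (innd (A * A) : MulAut PSL2[F]) = 1 := same A ej em
  have h1' : (innd (A' * A) : MulAut PSL2[F]) = 1 := same A'
    (hk _ s hs (Matrix.ext fun i j => by fin_cases i <;> fin_cases j <;> simp) ej)
    (hk _ r hr (Matrix.ext fun i j => by fin_cases i <;> fin_cases j <;> simp [(hab τ).1, (hab τ).2]) em)
  rw [map_mul] at h1 h1'
  have hcomm : Commute (innd A : MulAut PSL2[F]) (fld τ) := by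
    show innd A * fld τ = fld τ * innd A
    rw [fld_mul_innd, ← hA', mul_right_cancel (h1'.trans h1.symm)]
  obtain ⟨k, rfl⟩ := hn
  rw [hcomm.mul_pow, pow_succ (innd A), pow_mul (innd A), pow_two (innd A), h1, one_pow, one_mul,
    mul_eq_one_iff_eq_inv, ← map_pow, ← map_inv] at hβ
  obtain ⟨-, hA⟩ := innd_eq_fld hβ
  exact ⟨τ, by rw [innd_scalar hA, one_mul]⟩

variable {G : Type u} [Group G] [Finite G]

omit [Fintype F] in
theorem exists_prime_field_pair [Finite F] : ∃ a b : F, a * a + b * b = -1 ∧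
    ∀ τ : F ≃+* F, τ a = a ∧ τ b = b := by
  obtain ⟨p, hp⟩ := CharP.exists F
  haveI := hp
  haveI : NeZero p := ⟨(CharP.char_is_prime F p).ne_zero⟩
  obtain ⟨a, b, hab⟩ := CharP.sq_add_sq F p (-1)
  exact ⟨(a : F), (b : F), by simpa [pow_two] using hab, fun τ => ⟨map_natCast τ a, map_natCast τ b⟩⟩

/-- Coordinates exist. -/
theorem exists_cfg (S : Sylow 2 G) (hS : Hyp S) (below : FieldBelow G) {t : G} (ht : Pt S t)
    {L : Subgroup ↥(centralizer ({t} : Set G))} (hL : FieldSetup S t L) :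
    ∃ (F : Type) (_ : Field F) (_ : Fintype F) (c : Cfg G F), c.S = S ∧ c.t = t := by
  classical
  haveI : Fact (Nat.Prime 2) := ⟨Nat.prime_two⟩
  let C := centralizer ({t} : Set G)
  obtain ⟨T, tC, htC, hT, hM, hinf, hsup⟩ := hL.model
  obtain ⟨F, iF, iT, h38, h5, ⟨e⟩⟩ := hM.iso
  refine ⟨F, iF, iT, ?_⟩
  have hodd : Fintype.card F % 2 = 1 := by omega
  haveI := hM.normal
  obtain ⟨a, b, hab, hfix⟩ := exists_prime_field_pair (F := F)
  have htC2 : tC * tC = 1 := Subtype.ext (by rw [Subgroup.coe_mul, htC, hS.sq t ht.1]; rfl)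
  have hT8 : Nat.card (T : Subgroup C) = 8 := by
    have hSC : (S : Subgroup G) ≤ C := hS.le_Cg ht.1
    rw [show (T : Subgroup C) = (S : Subgroup G).subgroupOf C from Subgroup.ext hT,
      Nat.card_congr (subgroupOfEquivOfLe hSC).toEquiv, hS.card]
  have hTsq : ∀ x ∈ (T : Subgroup C), x * x = 1 := fun x hx => Subtype.ext (hS.sq _ ((hT x).1 hx))
  -- the four-group of `L`
  set W := ((T : Subgroup C).subgroupOf L).map e.toMonoidHom with hW
  have hW4 : 4 ≤ Nat.card W := by
    rw [hW, Subgroup.card_map_of_injective (f := e.toMonoidHom) e.injective]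
    have h1 : Nat.card ((T : Subgroup C).subgroupOf L) * L.relIndex T = 8 := by
      have h := relIndex_mul_relIndex ⊥ ((T : Subgroup C) ⊓ L) (T : Subgroup C) bot_le inf_le_left
      rw [relIndex_bot_left, relIndex_bot_left, inf_comm, inf_relIndex_right, hT8] at h
      rw [← inf_subgroupOf_right, Nat.card_congr (subgroupOfEquivOfLe inf_le_right).toEquiv, inf_comm]
      exact h
    have h2 : L.relIndex T ∣ 2 := by
      refine dvd_trans ?_ (?_ : L.relIndex (zpowers tC ⊔ L) ∣ 2)
      · haveI : (L.subgroupOf (zpowers tC ⊔ L)).Normal := normal_subgroupOf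
        rw [← relIndex_subgroupOf hM.le]
        exact relIndex_dvd_index_of_normal _ _
      · rw [relIndex_sup_right]
        exact (L.subgroupOf (zpowers tC)).index_dvd_card.trans
          ((Nat.card_zpowers tC).symm ▸ orderOf_dvd_of_pow_eq_one (by rw [pow_two, htC2]))
    rcases (Nat.dvd_prime Nat.prime_two).1 h2 with h | h <;> rw [h] at h1 <;> omega
  have hW2 : IsPGroup 2 W := (T.2.comap_of_injective L.subtype L.subtype_injective).map _
  have hjm : IsPGroup 2 ↥(zpowers (pr (jSL : SL(2, F))) ⊔ zpowers (pr (mSL a b hab))) := by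
    refine IsPGroup.to_sup_of_normal_right'
      (IsPGroup.of_card (n := 1) (by rw [Nat.card_zpowers, pow_one,
        orderOf_eq_prime (by rw [pow_two, pr_jSL_sq]) pr_jSL_ne]))
      (IsPGroup.of_card (n := 1) (by rw [Nat.card_zpowers, pow_one,
        orderOf_eq_prime (by rw [pow_two, pr_mSL_sq]) (pr_jm_ne hodd hab).1])) ?_
    refine zpowers_le.2 (centralizer_le_normalizer _ (mem_centralizer_iff.2 ?_))
    intro x hx
    obtain ⟨k, rfl⟩ := mem_zpowers_iff.1 hx
    exact ((show Commute (pr (jSL : SL(2, F))) (pr (mSL a b hab)) from pr_jm_comm hab).zpow_right k).eq.symm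
  have hcard : ¬ 2 ^ 3 ∣ Nat.card PSL2[F] := by
    intro h
    have hc := Dickson.card_psl_mul (K := F) hodd
    have h16 : 16 ∣ Fintype.card F * (Fintype.card F ^ 2 - 1) := hc ▸ Nat.mul_dvd_mul_left 2 h
    have hsq : 16 ∣ Fintype.card F ^ 2 - 1 :=
      (Nat.Coprime.pow_left 4 (Nat.coprime_two_left.2 (Nat.odd_iff.2 hodd))).dvd_of_dvd_mul_left h16
    obtain ⟨k, hk⟩ : ∃ k, Fintype.card F = 8 * k + Fintype.card F % 8 := ⟨Fintype.card F / 8, by omega⟩
    set r := Fintype.card F % 8
    have : Fintype.card F ^ 2 = 16 * (4 * k * k + k * r) + r * r := by rw [hk]; ring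
    rcases h38 with e8 | e8 <;> rw [e8] at this <;> omega
  obtain ⟨P, hP⟩ := hW2.exists_le_sylow
  obtain ⟨Q, hQ⟩ := hjm.exists_le_sylow
  have hPW : (P : Subgroup PSL2[F]) = W := by
    refine (eq_of_le_of_card_ge hP ?_).symm
    obtain ⟨k, hk⟩ := IsPGroup.iff_card.1 P.2
    rw [hk]
    refine le_trans (Nat.pow_le_pow_right two_pos (?_ : k ≤ 2)) hW4
    by_contra hlt
    exact hcard ((pow_dvd_pow 2 (by omega : 3 ≤ k)).trans (hk ▸ card_subgroup_dvd_card _))
  obtain ⟨g, hg⟩ := MulAction.exists_smul_eq PSL2[F] P Q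
  set e' : L ≃* PSL2[F] := e.trans (MulAut.conj g) with he'
  have hback : ∀ x ∈ (Q : Subgroup PSL2[F]), ((e'.symm x : C) : G) ∈ (S : Subgroup G) := by
    intro x hx
    rw [← hg, Sylow.coe_subgroup_smul, hPW] at hx
    obtain ⟨_, ⟨s, hs, rfl⟩, rfl⟩ := hx
    have hxs : ∀ z, z = MulAut.conj g (e s) → e'.symm z = s := fun z hz =>
      e'.injective ((e'.apply_symm_apply z).trans hz)
    rw [← hT]
    exact (congrArg (fun z : L => (z : C)) (hxs _ rfl)).symm ▸ (hs : (s : C) ∈ (T : Subgroup C))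
  have hjQ : pr (jSL : SL(2, F)) ∈ (Q : Subgroup PSL2[F]) := hQ (mem_sup_left (mem_zpowers _))
  have hmQ : pr (mSL a b hab) ∈ (Q : Subgroup PSL2[F]) := hQ (mem_sup_right (mem_zpowers _))
  -- the field part inside `C`
  have hFC : fieldPart S ≤ C := hL.le
  have hfixS : ∀ (y : fieldPart S) (x : PSL2[F]), x ∈ (Q : Subgroup PSL2[F]) →
      GW.PGL.autHom e' (inclusion hFC y) x = x := by
    intro y x hx
    rw [GW.PGL.autHom_apply, ← e'.eq_symm_apply]
    refine Subtype.ext (Subtype.ext ?_)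
    rw [MulAut.conjNormal_apply, Subgroup.coe_mul, Subgroup.coe_mul, Subgroup.coe_inv]
    show (y : G) * _ * (y : G)⁻¹ = _
    rw [← mem_centralizer_iff.1 (fieldPart_le S y.2) _ (hback x hx), mul_inv_cancel_right]
  have hτ : ∀ y : fieldPart S, ∃ τ : F ≃+* F, GW.PGL.autHom e' (inclusion hFC y) = fld τ := by
    intro y
    refine exists_fld hodd hab hfix _ (Odd.of_dvd_nat (odd_card_fieldPart S)
      (orderOf_dvd_natCard (⟨(y : G), y.2⟩ : fieldPart S))) ?_ (hfixS y _ hjQ) (hfixS y _ hmQ)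
    rw [← map_pow, ← map_pow, pow_orderOf_eq_one, map_one, map_one]
  choose σ hσ using hτ
  have hfinj : Function.Injective (fld : (F ≃+* F) →* MulAut PSL2[F]) :=
    Cfsg.Lib.Linear.AutPSL.fld_injective le_rfl
  let σh : fieldPart S →* (F ≃+* F) :=
    MonoidHom.mk' σ fun x y => hfinj (by rw [← hσ, map_mul, map_mul, hσ, hσ, map_mul])
  have hinjσ : Function.Injective σh := by
    rw [injective_iff_map_eq_one]
    intro y hy
    have h1 : GW.PGL.autHom e' (inclusion hFC y) = 1 := by
      rw [hσ, show σ y = 1 from hy, map_one]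
    have h2 : inclusion hFC y ∈ centralizer (L : Set C) := mem_centralizer_iff.2 fun l hl => by
      have h3 := DFunLike.congr_fun h1 (e' ⟨l, hl⟩)
      rw [GW.PGL.autHom_apply, e'.symm_apply_apply, MulAut.one_apply, e'.apply_eq_iff_eq] at h3
      have h4 := congrArg Subtype.val h3
      rw [MulAut.conjNormal_apply] at h4
      exact (mul_inv_eq_iff_eq_mul.1 h4).symm
    rw [hM.cent] at h2
    have h5 : inclusion hFC y ∈ (zpowers tC ⊔ L) ⊓ (fieldPart S).subgroupOf C :=
      ⟨mem_sup_left h2, y.2⟩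
    rw [hinf, mem_bot] at h5
    exact Subtype.ext (congrArg (fun z : C => (z : G)) h5)
  have hconj : ∀ (y : fieldPart S) (l : PSL2[F]),
      (y : G) * ((e'.symm l : C) : G) * (y : G)⁻¹ = ((e'.symm (fld (σh y) l) : C) : G) := by
    intro y l
    have h1 := DFunLike.congr_fun (hσ y) l
    rw [GW.PGL.autHom_apply, ← e'.eq_symm_apply] at h1
    have h2 := congrArg (fun z : L => ((z : C) : G)) h1
    simp only [MulAut.conjNormal_apply, Subgroup.coe_mul, Subgroup.coe_inv] at h2
    exact h2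
  have hdec : ∀ g : G, g * t = t * g → ∃ (l : PSL2[F]) (y : fieldPart S),
      g = ((e'.symm l : C) : G) * y ∨ g = t * ((e'.symm l : C) : G) * y := by
    intro g hg
    haveI := hM.normalP
    obtain ⟨p, hp, y, hy, hpy⟩ :=
      mem_sup_of_normal_left.1 (hsup.ge (mem_top (⟨g, mem_centralizer_singleton_iff.2 hg⟩ : C)))
    obtain ⟨z, hz, l, hl, hzl⟩ := mem_sup_of_normal_right.1 hp
    refine ⟨e' ⟨l, hl⟩, ⟨(y : G), hy⟩, ?_⟩
    have hg' : g = (z : G) * (l : G) * (y : G) := by
      rw [← Subgroup.coe_mul, hzl, ← Subgroup.coe_mul, hpy]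
    obtain ⟨k, rfl⟩ := mem_zpowers_iff.1 hz
    have hl' : ((e'.symm (e' ⟨l, hl⟩) : C) : G) = (l : G) := by simp
    rw [hl', hg']
    rcases Int.even_or_odd k with ⟨m, rfl⟩ | ⟨m, rfl⟩
    · exact Or.inl (by rw [← two_mul, _root_.zpow_mul, _root_.zpow_two, htC2, _root_.one_zpow, Subgroup.coe_one, one_mul])
    · exact Or.inr (by
        rw [_root_.zpow_add, _root_.zpow_mul, _root_.zpow_two, htC2, _root_.one_zpow, one_mul, _root_.zpow_one, htC])
  refine ⟨
    { S := S
      hyp := hS
      below := below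
      t := t
      pt := ht
      sign := h38
      five_le := h5
      φ := C.subtype.comp (L.subtype.comp e'.symm.toMonoidHom)
      φ_inj := C.subtype_injective.comp (L.subtype_injective.comp e'.symm.injective)
      φ_comm := fun l => mem_centralizer_singleton_iff.1 (e'.symm l : C).2
      φ_ne := fun l hl => hM.notMem (by
        rw [show tC = (e'.symm l : C) from Subtype.ext (by rw [htC]; exact hl.symm)]
        exact (e'.symm l).2)
      σ := σh
      σ_inj := hinjσ
      conj := hconj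
      decomp := hdec
      j_mem := hback _ hjQ
      m_mem := ⟨a, b, hab, hfix, hback _ hmQ⟩
      cyclic := hL.cyclic
      normalizer_centralizes := hL.normalizer_centralizes
      dvd := hL.dvd }, rfl, rfl⟩

end Cfsg.Lib.Walter3.Field
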