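import Cfsg.Agent.Lib.Walter3.Field.Borel
import Cfsg.Agent.Lib.Dickson.Overgroups
import Mathlib.GroupTheory.GroupAction.Quotient

/-!
# The fixed points of the elements of the field part on `G / B`

An element of prime order of `F₀` fixes exactly `B` and the points `r i B` with `r` in its
centralizer in `R`.  Hence the index `n` of `B` is divisible by every prime divisor of `|F₀|`.
-/

set_option autoImplicit false
set_option linter.unusedSectionVars false
set_option linter.style.haveILetI false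

namespace Cfsg.Lib.Walter3.Field

open Subgroup Cfsg
open Cfsg.Lib.TwoDim (splitSL)
open scoped MatrixGroups

universe u

variable {G : Type u} [Group G] [Finite G] {F : Type} [Field F] [Fintype F]

namespace Cfg

variable (c : Cfg G F)
include c

theorem units_fixed {y : fieldPart c.S} {a : Fˣ} :
    c.d (Units.map (c.σ y : F →* F) a) = c.d a ↔ c.σ y (a : F) = a := by
  constructor
  · intro h
    have h2 : c.d (Units.map (c.σ y : F →* F) a * a⁻¹) = 1 := by
      rw [d_mul, h, ← d_mul, mul_inv_cancel, d_one]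
    rcases c.d_eq_one.1 h2 with e | e
    · simpa using congrArg Units.val (mul_inv_eq_one.1 e)
    · exfalso
      rw [mul_inv_eq_iff_eq_mul] at e
      have hneg : c.σ y (a : F) = -(a : F) := by simpa using congrArg Units.val e
      have hit : ∀ k : ℕ, (c.σ y ^ (2 * k + 1)) (a : F) = -(a : F) := by
        intro k
        induction k with
        | zero => simpa using hneg
        | succ k ih =>
          rw [show 2 * (k + 1) + 1 = (2 * k + 1) + 1 + 1 by ring, pow_succ', pow_succ',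
            RingAut.mul_apply, RingAut.mul_apply, ih, map_neg, hneg, neg_neg, hneg]
      obtain ⟨k, hk⟩ := c.odd_orderOf y
      have h6 := hit k
      rw [← map_pow c.σ, ← hk, pow_orderOf_eq_one, map_one, RingAut.one_apply] at h6
      exact a.ne_zero ((mul_eq_zero.1 (show (2 : F) * a = 0 by linear_combination h6)).resolve_left
        c.two_ne)
  · intro h
    rw [show Units.map (c.σ y : F →* F) a = a from Units.ext h]

theorem card_H_cent (y : fieldPart c.S) :
    Nat.card ↥(c.H ⊓ centralizer ({(y : G)} : Set G)) * 2 = c.fixCard y - 1 := by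
  classical
  haveI : Fintype (c.fixField y) := Fintype.ofFinite _
  set ψ : (c.fixField y)ˣ →* G :=
    ((c.φ.comp (QuotientGroup.mk' _)).comp (splitSL F)).comp (Units.map (c.fixField y).subtype.toMonoidHom)
  have hψ : ∀ a : (c.fixField y)ˣ, ψ a = c.d (Units.map (c.fixField y).subtype.toMonoidHom a) :=
    fun _ => rfl
  have hrange : ψ.range = c.H ⊓ centralizer ({(y : G)} : Set G) := by
    ext g
    constructor
    · rintro ⟨a, rfl⟩
      refine ⟨c.mem_H.2 ⟨_, (hψ a).symm⟩, mem_centralizer_singleton_iff.2 ?_⟩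
      have h := c.y_d y (Units.map (c.fixField y).subtype.toMonoidHom a)
      rw [(c.units_fixed (y := y) (a := Units.map (c.fixField y).subtype.toMonoidHom a)).2 (a : c.fixField y).2,
        mul_inv_eq_iff_eq_mul] at h
      rw [hψ, h]
    · rintro ⟨hgH, hgy⟩
      obtain ⟨a, rfl⟩ := c.mem_H.1 hgH
      have h : c.σ y (a : F) = a := by
        refine c.units_fixed.1 ?_
        rw [← c.y_d, mul_inv_eq_iff_eq_mul]
        exact (mem_centralizer_singleton_iff.1 hgy).symm
      refine ⟨Units.mk0 ⟨(a : F), h⟩ fun e => a.ne_zero (congrArg Subtype.val e), ?_⟩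
      rw [hψ]
      exact congrArg c.d (Units.ext rfl)
  have hk : (ψ.ker : Set (c.fixField y)ˣ) = ({1, -1} : Finset (c.fixField y)ˣ) := by
    ext a
    simp only [SetLike.mem_coe, MonoidHom.mem_ker, Finset.coe_insert, Finset.coe_singleton,
      Set.mem_insert_iff, Set.mem_singleton_iff]
    rw [hψ, c.d_eq_one]
    constructor
    · rintro (e | e)
      · exact Or.inl (Units.ext (Subtype.ext (congrArg Units.val e)))
      · exact Or.inr (Units.ext (Subtype.ext (congrArg Units.val e)))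
    · rintro (rfl | rfl)
      · exact Or.inl (map_one _)
      · exact Or.inr (Units.ext rfl)
  have h2 : Nat.card ψ.ker = 2 := by
    show Nat.card (ψ.ker : Set (c.fixField y)ˣ) = 2
    rw [hk, Nat.card_coe_set_eq, Set.ncard_coe_finset, Finset.card_pair]
    intro h
    have := congrArg (fun x : (c.fixField y)ˣ => ((x : c.fixField y) : F)) h
    simp at this
    exact c.two_ne (by linear_combination this)
  have h := ψ.ker.card_mul_index
  rw [h2, Subgroup.index_ker, Nat.card_units, hrange, c.card_fixField] at h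
  rw [mul_comm]
  exact h

end Cfg

namespace Full

variable {c : Cfg G F} (D : Full c)
include D

/-- The order of `C_B(y)`. -/
theorem card_B_cent (y : fieldPart c.S) (hy : (orderOf y).Prime) :
    Nat.card ↥(D.B ⊓ centralizer ({(y : G)} : Set G)) =
      c.fixCard y ^ 3 * ((c.fixCard y - 1) * c.f) := by
  set C := centralizer ({(y : G)} : Set G)
  have hyM : (y : G) ∈ c.M := c.F_le_M y.2
  have hzC : ∀ z : fieldPart c.S, (z : G) ∈ C := fun z =>
    mem_centralizer_singleton_iff.2 (c.y_comm_y z y).eq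
  have htC : c.t ∈ C := mem_centralizer_singleton_iff.2 (c.y_comm_t y).eq.symm
  have hM : Nat.card ↥(c.M ⊓ C) = 2 * (Nat.card ↥(c.H ⊓ C) * c.f) := by
    let m : (↥(c.H ⊓ C) × fieldPart c.S) ⊕ (↥(c.H ⊓ C) × fieldPart c.S) → ↥(c.M ⊓ C) :=
      Sum.elim
        (fun p => ⟨(p.1 : G) * p.2, mul_mem (c.H_le_M p.1.2.1) (c.F_le_M p.2.2), mul_mem p.1.2.2 (hzC p.2)⟩)
        (fun p => ⟨c.t * ((p.1 : G) * p.2),
          mul_mem c.t_mem_M (mul_mem (c.H_le_M p.1.2.1) (c.F_le_M p.2.2)),
          mul_mem htC (mul_mem p.1.2.2 (hzC p.2))⟩)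
    have hm : Function.Bijective m := by
      refine ⟨?_, fun g => ?_⟩
      · rintro (⟨⟨a, ha, _⟩, z⟩ | ⟨⟨a, ha, _⟩, z⟩) (⟨⟨b, hb, _⟩, z'⟩ | ⟨⟨b, hb, _⟩, z'⟩) h <;>
          have h' := congrArg Subtype.val h <;> simp only [m, Sum.elim_inl, Sum.elim_inr] at h' <;>
          obtain ⟨e, rfl⟩ := c.mem_H.1 ha <;> obtain ⟨e', rfl⟩ := c.mem_H.1 hb
        · obtain ⟨h1, rfl⟩ := c.de_unique.1 h'
          simp only [h1]
        · exact absurd h' c.de_unique.2
        · exact absurd h'.symm c.de_unique.2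
        · obtain ⟨h1, rfl⟩ := c.de_unique.1 (mul_left_cancel h')
          simp only [h1]
      · obtain ⟨hgM, hgC⟩ := g.2
        obtain ⟨e, z, h | h⟩ := c.mem_M.1 hgM
        · refine ⟨Sum.inl (⟨c.d e, c.mem_H.2 ⟨e, rfl⟩, ?_⟩, z), Subtype.ext h.symm⟩
          rw [show c.d e = (g : G) * (z : G)⁻¹ by rw [h, mul_inv_cancel_right]]
          exact C.mul_mem hgC (C.inv_mem (hzC z))
        · refine ⟨Sum.inr (⟨c.d e, c.mem_H.2 ⟨e, rfl⟩, ?_⟩, z), Subtype.ext h.symm⟩
          rw [show c.d e = c.t⁻¹ * (g : G) * (z : G)⁻¹ by rw [h]; group]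
          exact C.mul_mem (C.mul_mem (C.inv_mem htC) hgC) (C.inv_mem (hzC z))
    rw [← Nat.card_congr (Equiv.ofBijective m hm), Nat.card_sum, Nat.card_prod, two_mul]
    rfl
  have hB : Nat.card ↥(D.B ⊓ C) = Nat.card ↥(D.bd.R ⊓ C) * Nat.card ↥(c.M ⊓ C) := by
    rw [← Nat.card_prod]
    refine (Nat.card_congr (Equiv.ofBijective (fun p : ↥(D.bd.R ⊓ C) × ↥(c.M ⊓ C) =>
      (⟨(p.1 : G) * p.2, mul_mem (D.R_le_B p.1.2.1) (D.M_le_B p.2.2.1), mul_mem p.1.2.2 p.2.2.2⟩ :
        ↥(D.B ⊓ C))) ⟨?_, ?_⟩)).symm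
    · rintro ⟨⟨r, hr, _⟩, ⟨m, hm, _⟩⟩ ⟨⟨r', hr', _⟩, ⟨m', hm', _⟩⟩ h
      obtain ⟨rfl, rfl⟩ := D.rm_unique hr hr' hm hm' (congrArg Subtype.val h)
      rfl
    · rintro ⟨g, hgB, hgC⟩
      obtain ⟨r, hr, m, hm, rfl⟩ := D.mem_B.1 hgB
      have hc : r * m * (y : G) = (y : G) * (r * m) := mem_centralizer_singleton_iff.1 hgC
      have e : r * (m * (y : G)) = ((y : G) * r * (y : G)⁻¹) * ((y : G) * m) := by
        rw [← mul_assoc, hc]
        group
      obtain ⟨h1, h2⟩ := D.rm_unique hr (D.conj_mem_R hyM hr) (mul_mem hm hyM) (mul_mem hyM hm) e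
      refine ⟨(⟨r, hr, ?_⟩, ⟨m, hm, mem_centralizer_singleton_iff.2 h2⟩), rfl⟩
      rw [eq_mul_inv_iff_mul_eq] at h1
      exact mem_centralizer_singleton_iff.2 h1
  rw [hB, hM, D.bd.card_cent y hy, ← c.card_H_cent y]
  ring

/-- The fixed points of an element of prime order of the field part. -/
theorem fix_y {y : fieldPart c.S} (hy : (orderOf y).Prime) {x : G}
    (h : x⁻¹ * y * x ∈ D.B) :
    x ∈ D.B ∨ ∃ r ∈ D.bd.R, Commute r (y : G) ∧ (r * c.i)⁻¹ * x ∈ D.B := by
  classical
  haveI := Fintype.ofFinite (G ⧸ D.B)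
  set C := centralizer ({(y : G)} : Set G)
  set X : Set (G ⧸ D.B) := MulAction.orbit C ((1 : G) : G ⧸ D.B) with hX
  set f : Option ↥(D.bd.R ⊓ C) → G ⧸ D.B :=
    fun o => o.elim ((1 : G) : G ⧸ D.B) fun r => (((r : G) * c.i : G) : G ⧸ D.B) with hf
  obtain ⟨-, ⟨m, hm, hQ⟩, -, hcard⟩ := D.gen y hy
  set Q := c.fixCard y
  have hQ2 : 2 ≤ Q := hQ ▸ (Nat.le_self_pow (by omega) 3).trans' (by norm_num)
  have hcardX : Nat.card X = Q ^ 3 + 1 := by
    rw [hX, Nat.card_coe_set_eq, ← MulAction.index_stabilizer]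
    have hstab : MulAction.stabilizer C ((1 : G) : G ⧸ D.B) = D.B.subgroupOf C := by
      ext g
      rw [MulAction.mem_stabilizer_iff, mem_subgroupOf]
      show (((g : G) * 1 : G) : G ⧸ D.B) = ((1 : G) : G ⧸ D.B) ↔ _
      rw [mul_one, QuotientGroup.eq, mul_one, inv_mem_iff]
    rw [hstab]
    have h1 := (D.B.subgroupOf C).card_mul_index
    rw [← Subgroup.inf_subgroupOf_right, Nat.card_congr (Subgroup.subgroupOfEquivOfLe inf_le_right).toEquiv,
      D.card_B_cent y hy, hcard] at h1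
    rw [← Subgroup.inf_subgroupOf_right]
    refine Nat.eq_of_mul_eq_mul_left ?_ (h1.trans (by ring))
    have := D.f_pos
    have : 0 < Q - 1 := by omega
    positivity
  have hcardf : Nat.card (Option ↥(D.bd.R ⊓ C)) = Q ^ 3 + 1 := by
    haveI := Fintype.ofFinite ↥(D.bd.R ⊓ C)
    rw [Nat.card_eq_fintype_card, Fintype.card_option, ← Nat.card_eq_fintype_card, D.bd.card_cent y hy]
  have hinj : Function.Injective f := by
    rintro (_ | r) (_ | r') e
    · rfl
    · exfalso
      simp only [hf, Option.elim_none, Option.elim_some, QuotientGroup.eq, inv_one, one_mul] at e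
      exact D.i_notMem ((Subgroup.mul_mem_cancel_left _ (D.R_le_B r'.2.1)).1 e)
    · exfalso
      simp only [hf, Option.elim_none, Option.elim_some, QuotientGroup.eq, mul_one, inv_mem_iff] at e
      exact D.i_notMem ((Subgroup.mul_mem_cancel_left _ (D.R_le_B r.2.1)).1 e)
    · simp only [hf, Option.elim_some, QuotientGroup.eq] at e
      exact congrArg _ (Subtype.ext (D.ri_unique r.2.1 r'.2.1 e))
  have hsub : Set.range f ⊆ X := by
    rintro _ ⟨(_ | r), rfl⟩
    · exact MulAction.mem_orbit_self _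
    · refine ⟨⟨(r : G) * c.i, mul_mem r.2.2 (mem_centralizer_singleton_iff.2 (c.y_comm_i y).eq.symm)⟩, ?_⟩
      show (((r : G) * c.i * 1 : G) : G ⧸ D.B) = _
      rw [mul_one]
      rfl
  have heq : Set.range f = X := Set.eq_of_subset_of_ncard_le hsub (by
    rw [← Nat.card_coe_set_eq X, hcardX, Set.ncard_range_of_injective hinj, hcardf])
  obtain ⟨b, hb, z, hz, e⟩ := D.exists_conj_F h hy (orderOf_dvd_natCard y)
    (by rw [show x⁻¹ * (y : G) * x = MulAut.conj x⁻¹ (y : G) by rw [MulAut.conj_apply, inv_inv],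
          MulEquiv.orderOf_eq, Subgroup.orderOf_coe])
  obtain rfl : z = y := c.eq_of_conj (g := b * x⁻¹) (by rw [← e]; group)
  have hC : x * b⁻¹ ∈ C := by
    refine mem_centralizer_singleton_iff.2 ?_
    calc x * b⁻¹ * (z : G) = x * b⁻¹ * (b * (x⁻¹ * z * x) * b⁻¹) := by rw [e]
      _ = (z : G) * (x * b⁻¹) := by group
  have hx : (x : G ⧸ D.B) ∈ X := by
    refine ⟨⟨x * b⁻¹, hC⟩, ?_⟩
    show ((x * b⁻¹ * 1 : G) : G ⧸ D.B) = _
    rw [mul_one, QuotientGroup.eq]
    group
    exact hb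
  rw [← heq] at hx
  obtain ⟨(_ | r), e'⟩ := hx
  · left
    simpa [hf, QuotientGroup.eq] using e'
  · right
    refine ⟨r, r.2.1, mem_centralizer_singleton_iff.1 r.2.2, ?_⟩
    simpa [hf, QuotientGroup.eq] using e'

/-- The double cosets meeting the field part. -/
theorem fix_of_ρ {g : D.B} (hg : D.ρ g ≠ 1) {x : G} (h : x⁻¹ * (g : G) * x ∈ D.B) :
    x ∈ D.B ∨ ∃ r ∈ D.bd.R, (r * c.i)⁻¹ * x ∈ D.B := by
  obtain ⟨k, r, hr, hd, ho⟩ := D.exists_pow_prime hg
  obtain ⟨b, hb, y, hy, e⟩ := D.exists_conj_F (pow_mem g.2 k) hr hd ho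
  have h2 : (b * x)⁻¹ * (y : G) * (b * x) ∈ D.B := by
    rw [← e, show (b * x)⁻¹ * (b * (g : G) ^ k * b⁻¹) * (b * x) = x⁻¹ * (g : G) ^ k * x⁻¹⁻¹ by group,
      ← conj_pow, inv_inv]
    exact pow_mem h k
  rcases D.fix_y (hy ▸ hr) h2 with h3 | ⟨r', hr', -, h3⟩
  · exact Or.inl ((Subgroup.mul_mem_cancel_left _ hb).1 h3)
  · right
    obtain ⟨r₀, hr₀, m, hm, e'⟩ := D.mem_B.1 (mul_mem (inv_mem hb) (D.R_le_B hr'))
    refine ⟨r₀, hr₀, ?_⟩
    have e2 : (r₀ * c.i)⁻¹ * x = c.i * m * c.i⁻¹ * ((r' * c.i)⁻¹ * (b * x)) := by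
      rw [show (r' * c.i)⁻¹ * (b * x) = c.i⁻¹ * (b⁻¹ * r')⁻¹ * x by group, e', _root_.mul_inv_rev r₀,
        _root_.mul_inv_rev r₀]
      simp only [mul_assoc, c.i_inv]
      rw [← mul_assoc c.i c.i (m⁻¹ * _), c.i_sq, one_mul, mul_inv_cancel_left]
    rw [e2]
    exact mul_mem (D.M_le_B (c.i_conj_M hm)) h3

/-- A nontrivial element of the field part has as many fixed points on `G / B` as its index mod `r`. -/
theorem prime_dvd_index {r : ℕ} (hr : r.Prime) (hd : r ∣ c.f) : r ∣ D.B.index := by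
  classical
  haveI := Fact.mk hr
  haveI := Fintype.ofFinite (G ⧸ D.B)
  obtain ⟨y, hy⟩ := D.exists_order hr hd
  obtain ⟨-, ⟨m, hm, hQ⟩, hdiv, -⟩ := D.gen y (hy ▸ hr)
  rw [hy] at hdiv
  have hdiv' := hdiv.resolve_left fun e => D.three (e ▸ hd)
  set Q := c.fixCard y
  have hP : IsPGroup r (zpowers (y : G)) :=
    IsPGroup.of_card (n := 1) (by rw [Nat.card_zpowers, pow_one, Subgroup.orderOf_coe, hy])
  have hmod := hP.card_modEq_card_fixedPoints (G ⧸ D.B)
  set f : Option ↥(D.bd.R ⊓ centralizer ({(y : G)} : Set G)) → G ⧸ D.B :=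
    fun o => o.elim ((1 : G) : G ⧸ D.B) fun r => (((r : G) * c.i : G) : G ⧸ D.B) with hf
  have hfix : MulAction.fixedPoints (zpowers (y : G)) (G ⧸ D.B) = Set.range f := by
    ext a
    obtain ⟨x, rfl⟩ := QuotientGroup.mk_surjective a
    rw [MulAction.mem_fixedPoints]
    constructor
    · intro hx
      have h := hx ⟨(y : G), mem_zpowers _⟩
      change (((y : G) * x : G) : G ⧸ D.B) = x at h
      rw [eq_comm, QuotientGroup.eq, ← mul_assoc] at h
      rcases D.fix_y (hy ▸ hr) h with h' | ⟨r', hr', hc, h'⟩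
      · exact ⟨none, by simp [hf, QuotientGroup.eq, h']⟩
      · exact ⟨some ⟨r', hr', mem_centralizer_singleton_iff.2 hc.eq⟩, by
          simp only [hf, Option.elim_some, QuotientGroup.eq]; exact h'⟩
    · intro hx g
      obtain ⟨k, hk⟩ := Subgroup.mem_zpowers_iff.1 g.2
      show ((((g : G) * x : G)) : G ⧸ D.B) = x
      have hyB : (y : G) ∈ D.B := D.M_le_B (c.F_le_M y.2)
      have hgB : (g : G) ∈ D.B := hk ▸ zpow_mem hyB k
      have key : ∀ z : G, Commute (g : G) z → (z : G ⧸ D.B) = x →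
          ((((g : G) * x : G)) : G ⧸ D.B) = x := by
        intro z hz e
        have e1 : ((((g : G) * x : G)) : G ⧸ D.B) = ((((g : G) * z : G)) : G ⧸ D.B) := by
          rw [QuotientGroup.eq] at e ⊢
          rw [show ((g : G) * x)⁻¹ * ((g : G) * z) = (z⁻¹ * x)⁻¹ by group]
          exact inv_mem e
        rw [e1, hz.eq, ← e, QuotientGroup.eq, show (z * (g : G))⁻¹ * z = (g : G)⁻¹ by group]
        exact inv_mem hgB
      obtain ⟨(_ | r'), e⟩ := hx
      · exact key 1 (Commute.one_right _) e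
      · refine key _ ?_ e
        have h1 : Commute (y : G) (r' : G) := (mem_centralizer_singleton_iff.1 r'.2.2).symm
        rw [← hk]
        exact (h1.mul_right (c.y_comm_i y)).zpow_left k
  have hinj : Function.Injective f := by
    rintro (_ | a) (_ | b) e
    · rfl
    · exfalso
      simp only [hf, Option.elim_none, Option.elim_some, QuotientGroup.eq, inv_one, one_mul] at e
      exact D.i_notMem ((Subgroup.mul_mem_cancel_left _ (D.R_le_B b.2.1)).1 e)
    · exfalso
      simp only [hf, Option.elim_none, Option.elim_some, QuotientGroup.eq, mul_one, inv_mem_iff] at e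
      exact D.i_notMem ((Subgroup.mul_mem_cancel_left _ (D.R_le_B a.2.1)).1 e)
    · simp only [hf, Option.elim_some, QuotientGroup.eq] at e
      exact congrArg _ (Subtype.ext (D.ri_unique a.2.1 b.2.1 e))
  rw [hfix, Nat.card_coe_set_eq, Set.ncard_range_of_injective hinj, ← Subgroup.index] at hmod
  haveI := Fintype.ofFinite ↥(D.bd.R ⊓ centralizer ({(y : G)} : Set G))
  rw [Nat.card_eq_fintype_card, Fintype.card_option, ← Nat.card_eq_fintype_card,
    D.bd.card_cent y (hy ▸ hr)] at hmod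
  refine Nat.modEq_zero_iff_dvd.1 (hmod.trans (Nat.modEq_zero_iff_dvd.2 ?_))
  have h2 : Q ≤ Q ^ 2 := Nat.le_self_pow two_ne_zero Q
  refine hdiv'.trans ⟨Q + 1, ?_⟩
  zify [h2]
  ring

/-- The number of involutions. -/
theorem index_centralizer_t :
    (centralizer ({c.t} : Set G)).index * (Fintype.card F + 1) = D.B.index * Fintype.card F ^ 2 := by
  have h1 := (centralizer ({c.t} : Set G)).card_mul_index
  have h2 := D.B.card_mul_index
  rw [c.card_cent, ← mul_assoc 2, Cfsg.Lib.Dickson.card_psl_mul c.q_odd] at h1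
  rw [D.card_B, ← h1] at h2
  have hq : 2 ≤ Fintype.card F := Fintype.one_lt_card
  have hpos : 0 < Fintype.card F * (Fintype.card F - 1) * c.f :=
    Nat.mul_pos (Nat.mul_pos (by omega) (by omega)) (Nat.zero_lt_of_lt D.f_pos)
  refine Nat.eq_of_mul_eq_mul_left hpos ?_
  have hsq : Fintype.card F ^ 2 - 1 = (Fintype.card F + 1) * (Fintype.card F - 1) := by
    rw [← one_pow 2, Nat.sq_sub_sq, one_pow]
  rw [hsq] at h2
  linarith

end Full

end Cfsg.Lib.Walter3.Field
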