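import Cfsg.Agent.Lib.ModFree.Frobenius
import Cfsg.Agent.Lib.Local.TopModule

/-!
# Fixed points of the complement of a Frobenius group acting without kernel fixed points
-/

set_option autoImplicit false
set_option linter.style.haveILetI false

namespace Cfsg.Lib.Walter3.Field

open Subgroup Cfsg.Lib

universe u

/-- The order is a power of the order of the fixed points of the complement. -/
theorem card_eq_fixed_pow {W : Type u} [CommGroup W] [Finite W] {p l r : ℕ} [Fact p.Prime]
    (hl : l.Prime) (hr : r.Prime) (hW : ∀ w : W, w ^ p = 1) {h x : MulAut W} (hh : h ^ l = 1)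
    (hh1 : h ≠ 1) (hx : x ^ r = 1) {k : ℕ} (hconj : x * h * x⁻¹ = h ^ k) (hk : ¬ k ≡ 1 [MOD l])
    (hfpf : ∀ w : W, h w = w → w = 1) : Nat.card W = Nat.card {w : W // x w = w} ^ r := by
  classical
  haveI : Fact l.Prime := ⟨hl⟩
  haveI : Finite (MulAut W) :=
    Finite.of_injective (fun f : MulAut W => (f : W → W)) DFunLike.coe_injective
  have hho : orderOf h = l := orderOf_eq_prime hh hh1
  have hx1 : x ≠ 1 := by
    rintro rfl
    rw [one_mul, inv_one, mul_one] at hconj
    refine hk ?_
    have : h ^ 1 = h ^ k := (pow_one h).trans hconj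
    rw [pow_eq_pow_iff_modEq, hho] at this
    exact this.symm
  haveI : Fact r.Prime := ⟨hr⟩
  have hxo : orderOf x = r := orderOf_eq_prime hx hx1
  set F := zpowers h with hF
  set H := zpowers x with hH
  have hxN : H ≤ normalizer (F : Set (MulAut W)) := by
    refine zpowers_le.2 ?_
    refine mem_normalizer_iff_map_conj_eq.2 (eq_of_le_of_card_ge ?_
      (card_map_of_injective (MulAut.conj x).injective).ge)
    rintro _ ⟨a, ha, rfl⟩
    obtain ⟨i, rfl⟩ := mem_zpowers_iff.1 ha
    show x * h ^ i * x⁻¹ ∈ F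
    rw [← conj_zpow, hconj]
    exact zpow_mem (pow_mem (mem_zpowers h) k) i
  let φ : H →* MulAut F := (F.normalizerMonoidHom).comp (inclusion hxN)
  have hφ : ∀ (g : H) (f : F), ((φ g f : F) : MulAut W) = g * f * (g : MulAut W)⁻¹ := fun g f => rfl
  have hfp : ∀ g : H, g ≠ 1 → ∀ f, φ g f = f → f = 1 := by
    intro g hg f hf
    have hgen : zpowers (g : MulAut W) = H := by
      refine eq_of_le_of_card_ge (zpowers_le.2 g.2) ?_
      have hcH : Nat.card H = r := (Nat.card_zpowers x).trans hxo
      rw [hcH, Nat.card_zpowers]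
      have h1 : orderOf (g : MulAut W) ∣ r := hcH ▸ Subgroup.orderOf_dvd_natCard _ g.2
      rcases (Nat.dvd_prime hr).1 h1 with e | e
      · exact absurd (Subtype.ext (orderOf_eq_one_iff.1 e)) hg
      · exact e.ge
    have hc : Commute (g : MulAut W) (f : MulAut W) := by
      have := congrArg Subtype.val hf
      rw [hφ] at this
      exact mul_inv_eq_iff_eq_mul.1 this
    obtain ⟨i, hi⟩ := mem_zpowers_iff.1 (show x ∈ zpowers (g : MulAut W) from hgen.symm.le (mem_zpowers x))
    have hxf : x * (f : MulAut W) * x⁻¹ = f := by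
      rw [← hi, (hc.zpow_left i).eq, mul_inv_cancel_right]
    obtain ⟨j, hj⟩ := (isOfFinOrder_of_finite h).mem_powers_iff_mem_zpowers.2 f.2
    have hj' : h ^ j = f := hj
    rw [← hj', ← conj_pow, hconj, ← pow_mul, pow_eq_pow_iff_modEq, hho] at hxf
    refine Subtype.ext ?_
    rw [← hj', Subgroup.coe_one, ← orderOf_dvd_iff_pow_eq_one, hho]
    by_contra hlj
    have hg1 : Nat.gcd l j = 1 := (Nat.Prime.coprime_iff_not_dvd hl).2 hlj
    exact hk (Nat.ModEq.cancel_right_of_coprime hg1 (by rwa [one_mul]))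
  obtain ⟨V, _, _, _, R, e, he⟩ := Local.exists_zmod_rep hW (MonoidHom.id (MulAut W))
  letI : CommGroup F := IsCyclic.commGroup
  letI : Fintype H := Fintype.ofFinite _
  obtain ⟨W0, hsup, hind⟩ := ModFree.free_of_nilpotent F φ hfp (R.comp F.subtype) (R.comp H.subtype)
    (fun g f v => by
      show R g (R f v) = R (φ g f : F) (R g v)
      rw [hφ, ← Module.End.mul_apply, ← map_mul, ← Module.End.mul_apply, ← map_mul, inv_mul_cancel_right])
    (fun v hv => by
      obtain ⟨w, hw⟩ := e.surjective (Multiplicative.ofAdd v)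
      have hv' : v = (e w).toAdd := by rw [hw]; rfl
      have h1 : R h v = v := hv ⟨h, mem_zpowers h⟩
      rw [hv', he] at h1
      rw [hv', hfpf w (e.injective (Multiplicative.toAdd.injective h1)), map_one]
      rfl)
  set σ : Representation (ZMod p) H V := R.comp H.subtype
  let Φ : (H → W0) → V := fun c => ∑ g, σ g (c g)
  have hΦi : Function.Injective Φ := by
    intro c d hcd
    funext g
    have h1 : ∑ g, σ g ((fun g => (c g : V) - d g) g) = 0 := by
      simp only [map_sub, Finset.sum_sub_distrib, sub_eq_zero]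
      exact hcd
    exact Subtype.ext (sub_eq_zero.1 (hind _ (fun g => W0.sub_mem (c g).2 (d g).2) h1 g))
  have hΦs : Function.Surjective Φ := by
    intro v
    have hv : v ∈ ⨆ g, W0.map (σ g) := hsup ▸ Submodule.mem_top
    rw [Submodule.mem_iSup_iff_exists_finsupp] at hv
    obtain ⟨f, hf, rfl⟩ := hv
    choose d hd hde using fun g => Submodule.mem_map.mp (hf g)
    refine ⟨fun g => ⟨d g, hd g⟩, ?_⟩
    rw [Finsupp.sum_fintype _ _ (fun _ => rfl)]
    exact Finset.sum_congr rfl fun g _ => hde g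
  have hshift : ∀ (c : H → W0) (a : H), σ a (Φ c) = Φ fun g => c (a⁻¹ * g) := by
    intro c a
    show σ a (∑ g, σ g (c g)) = ∑ g, σ g (c (a⁻¹ * g))
    rw [map_sum, ← Equiv.sum_comp (Equiv.mulLeft a) fun g => σ g (c (a⁻¹ * g) : V)]
    refine Finset.sum_congr rfl fun g _ => ?_
    rw [Equiv.coe_mulLeft, inv_mul_cancel_left, map_mul, Module.End.mul_apply]
  have hVW : Nat.card W = Nat.card W0 ^ r := by
    rw [Nat.card_congr (e.toEquiv.trans Multiplicative.toAdd),
      ← Nat.card_congr (Equiv.ofBijective Φ ⟨hΦi, hΦs⟩), Nat.card_fun, Nat.card_zpowers, hxo]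
  rw [hVW]
  congr 1
  have hfix : ∀ w : W0, σ ⟨x, mem_zpowers x⟩ (Φ fun _ => w) = Φ fun _ => w := fun w => hshift _ _
  refine Nat.card_congr (Equiv.ofBijective
    (fun w => ⟨e.symm (Multiplicative.ofAdd (Φ fun _ => w)), ?_⟩) ⟨?_, ?_⟩)
  · refine e.injective (Multiplicative.toAdd.injective ?_)
    have h1 := he x (e.symm (Multiplicative.ofAdd (Φ fun _ => w)))
    rw [MonoidHom.id_apply] at h1
    rw [← h1, MulEquiv.apply_symm_apply, toAdd_ofAdd]
    exact hfix w
  · intro w w' hw
    exact congrFun (hΦi (Multiplicative.ofAdd.injective (e.symm.injective (congrArg Subtype.val hw))))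
      ⟨1, one_mem _⟩
  · rintro ⟨w, hw⟩
    obtain ⟨c, hc⟩ := hΦs (e w).toAdd
    have hxc : ∀ g : H, c ((⟨x, mem_zpowers x⟩ : H)⁻¹ * g) = c g := by
      refine congrFun (hΦi ?_)
      rw [← hshift, hc]
      show R x (e w).toAdd = _
      rw [he, MonoidHom.id_apply, hw]
    have hall : ∀ (i : ℕ) (g : H), c (((⟨x, mem_zpowers x⟩ : H)⁻¹) ^ i * g) = c g := by
      intro i
      induction i with
      | zero => intro g; rw [pow_zero, one_mul]
      | succ i ih => intro g; rw [pow_succ, mul_assoc, ih, hxc]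
    refine ⟨c 1, Subtype.ext ?_⟩
    show e.symm (Multiplicative.ofAdd (Φ fun _ => c 1)) = w
    have hcc : (fun _ => c 1) = c := by
      funext g
      obtain ⟨i, hi⟩ := (isOfFinOrder_of_finite x⁻¹).mem_powers_iff_mem_zpowers.2
        (show (g : MulAut W) ∈ zpowers x⁻¹ by rw [zpowers_inv]; exact g.2)
      have h1 := hall i 1
      rw [mul_one] at h1
      rw [← h1]
      congr 1
      exact Subtype.ext hi
    rw [hcc, hc, ofAdd_toAdd, MulEquiv.symm_apply_apply]

end Cfsg.Lib.Walter3.Field
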