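import Cfsg.Agent.Lib.Walter3.Field.Sums

/-!
# Fusion: the field part of an element of `B`, involutions, and `B ∩ C(t)`
-/

set_option autoImplicit false
set_option linter.unusedSectionVars false
set_option linter.style.haveILetI false

namespace Cfsg.Lib.Walter3.Field

open Subgroup Cfsg Cfsg.Lib.Char
open scoped ComplexConjugate MatrixGroups

universe u

local notation "PSL2[" K "]" => Matrix.ProjectiveSpecialLinearGroup (Fin 2) K

variable {G : Type u} [Group G] [Fintype G] {F : Type} [Field F] [Fintype F]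

namespace Cfg

variable (c : Cfg G F)
include c

/-- All involutions are conjugate to `t`. -/
theorem invol_conj {x : G} (h1 : x ≠ 1) (h2 : x * x = 1) : ∃ g : G, g * c.t * g⁻¹ = x := by
  haveI : Fact (Nat.Prime 2) := ⟨Nat.prime_two⟩
  have hp : IsPGroup 2 (zpowers x) := by
    refine IsPGroup.of_card (n := 1) ?_
    rw [Nat.card_zpowers, pow_one]
    exact orderOf_eq_prime (by rw [sq, h2]) h1
  obtain ⟨T, hT⟩ := hp.exists_le_sylow
  obtain ⟨k, hk⟩ := MulAction.exists_smul_eq G T c.S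
  have hmem : k * x * k⁻¹ ∈ (c.S : Subgroup G) := by
    rw [← hk, Sylow.coe_subgroup_smul]
    exact ⟨x, hT (mem_zpowers x), rfl⟩
  obtain ⟨m, -, hm⟩ := c.hyp.trans c.pt ⟨hmem, fun e => h1 (conj_eq_one_iff.1 e)⟩
  exact ⟨k⁻¹ * m, by
    rw [show k⁻¹ * m * c.t * (k⁻¹ * m)⁻¹ = k⁻¹ * (m * c.t * m⁻¹) * k by group, hm]
    group⟩

open Classical in
theorem sum_invol {χ : G → ℂ} (hχ : IsClassFunction G χ) :
    ∑ x ∈ Finset.univ.filter (fun x : G => x ≠ 1 ∧ x * x = 1), χ x =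
      ((centralizer ({c.t} : Set G)).index : ℂ) * χ c.t := by
  have e : Finset.univ.filter (fun x : G => x ≠ 1 ∧ x * x = 1) = classFinset c.t := by
    ext x
    rw [Finset.mem_filter, mem_classFinset, isConj_iff]
    simp only [Finset.mem_univ, true_and]
    constructor
    · rintro ⟨h1, h2⟩
      exact c.invol_conj h1 h2
    · rintro ⟨g, rfl⟩
      refine ⟨fun e => c.t_ne (conj_eq_one_iff.1 e), ?_⟩
      rw [show g * c.t * g⁻¹ * (g * c.t * g⁻¹) = g * (c.t * c.t) * g⁻¹ by group, c.t_sq, mul_one,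
        mul_inv_cancel]
  rw [e, Finset.sum_congr rfl (fun x hx => ?_), Finset.sum_const, card_classFinset, nsmul_eq_mul]
  obtain ⟨g, rfl⟩ := isConj_iff.1 (mem_classFinset.1 hx)
  exact hχ _ _

/-- `C(y)` is transitive on the involutions commuting with `y`. -/
theorem conj_in_cent {y : fieldPart c.S} {g : G} (h : g * y * g⁻¹ ∈ centralizer ({c.t} : Set G)) :
    ∃ k ∈ centralizer ({c.t} : Set G), k * y * k⁻¹ = g * y * g⁻¹ := by
  haveI := c.hyp.isMulCommutative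
  have h' := mem_centralizer_singleton_iff.1 h
  obtain ⟨d, hd, e⟩ := transitive_of_centralizes_normalizer c.S c.hyp.card
    ⟨c.hyp.isMulCommutative, fun a ha => by rw [pow_two]; exact c.hyp.sq a ha⟩
    ⟨3, by rw [c.hyp.aut]⟩ c.t_mem c.t_ne (y := (y : G))
    (fun n hn => (mem_centralizer_iff.1 (c.normalizer_centralizes hn) _ y.2).symm)
    (s := g⁻¹ * c.t * g) (by
      show (y : G) * (g⁻¹ * c.t * g) = g⁻¹ * c.t * g * y
      calc (y : G) * (g⁻¹ * c.t * g) = g⁻¹ * (g * y * g⁻¹ * c.t) * g := by group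
        _ = g⁻¹ * c.t * g * y := by rw [h']; group)
    (by rw [pow_two, show g⁻¹ * c.t * g * (g⁻¹ * c.t * g) = g⁻¹ * (c.t * c.t) * g by group, c.t_sq]; group)
    (fun e => c.t_ne (by
      calc c.t = g * (g⁻¹ * c.t * g) * g⁻¹ := by group
        _ = 1 := by rw [e]; group))
  refine ⟨g * d, mem_centralizer_singleton_iff.2 ?_, ?_⟩
  · calc g * d * c.t = g * (d * c.t * d⁻¹) * d := by group
      _ = c.t * (g * d) := by rw [e]; group
  · rw [show g * d * (y : G) * (g * d)⁻¹ = g * (d * y) * d⁻¹ * g⁻¹ by group, hd.eq]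
    group

/-- `χ(1) + 7 χ(t) ≡ 0 (mod 8)`. -/
theorem char_mod_eight {χ : G → ℂ} (hχ : IsCharacter G χ) :
    ∃ k : ℤ, χ 1 + 7 * χ c.t = 8 * k := by
  classical
  haveI := Fintype.ofFinite (c.S : Subgroup G)
  obtain ⟨k, hk⟩ := (hχ.comp (c.S : Subgroup G).subtype).exists_nat_classInner
    (isCharacter_one (G := (c.S : Subgroup G)))
  have hv : ∀ x : (c.S : Subgroup G), x ≠ 1 → χ (x : G) = χ c.t := by
    intro x hx
    obtain ⟨g, hg⟩ := c.invol_conj (fun e => hx (Subtype.ext e)) (c.hyp.sq x x.2)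
    rw [← hg]
    exact hχ.isClassFunction _ _
  have h8 : Fintype.card (c.S : Subgroup G) = 8 := by rw [← Nat.card_eq_fintype_card]; exact c.hyp.card
  simp only [classInner, map_one, mul_one, Nat.card_eq_fintype_card, h8, Subgroup.coe_subtype] at hk
  rw [← Finset.add_sum_erase _ _ (Finset.mem_univ 1), Finset.sum_congr rfl fun x hx =>
    hv x (Finset.mem_erase.1 hx).1, Finset.sum_const, Finset.card_erase_of_mem (Finset.mem_univ _),
    Finset.card_univ, h8, OneMemClass.coe_one] at hk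
  refine ⟨k, ?_⟩
  push_cast at hk ⊢
  rw [← hk]
  simp only [nsmul_eq_mul]
  push_cast
  ring

end Cfg

namespace Full

variable {c : Cfg G F} (D : Full c)
include D

theorem ρ_conj_B {g z : D.B} : D.ρ (z⁻¹ * g * z) = D.ρ g := by
  rw [map_mul, map_mul, map_inv]
  refine Subtype.ext ?_
  rw [Subgroup.coe_mul, Subgroup.coe_mul, Subgroup.coe_inv, mul_assoc, (c.y_comm_y _ _).eq,
    inv_mul_cancel_left]

theorem ρ_congr {g h : D.B} (e : (g : G) = h) : D.ρ g = D.ρ h := congrArg D.ρ (Subtype.ext e)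

theorem ρ_iMi {g : D.B} (hg : (g : G) ∈ c.M) (h : c.i * (g : G) * c.i⁻¹ ∈ D.B) :
    D.ρ ⟨_, h⟩ = D.ρ g := by
  obtain ⟨e, y, he⟩ := c.mem_M.1 hg
  rw [D.ρ_eq (g := g) (r := 1) (e := e) (y := y) (one_mem _) (by simpa using he),
    D.ρ_eq (g := ⟨_, h⟩) (r := 1) (e := e⁻¹) (y := y) (one_mem _) ?_]
  simp only [one_mul]
  rcases he with he | he
  · exact Or.inl (by rw [he, c.i_conj_de])
  · refine Or.inr ?_
    rw [he, ← c.i_conj_de, ← mul_assoc c.i, c.i_comm_t]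
    group

/-- The projection on the field part is invariant under fusion in `G`. -/
theorem ρ_conj {g : D.B} {x : G} (h : x⁻¹ * (g : G) * x ∈ D.B) : D.ρ ⟨_, h⟩ = D.ρ g := by
  by_cases hg : D.ρ g = 1
  · rw [hg, D.ρ_eq_one_iff]
    show orderOf (x⁻¹ * (g : G) * x) ∣ _
    rw [show x⁻¹ * (g : G) * x = MulAut.conj x⁻¹ (g : G) by rw [MulAut.conj_apply, inv_inv],
      MulEquiv.orderOf_eq]
    exact D.orderOf_dvd_of_ρ hg
  · rcases D.fix_of_ρ hg h with hx | ⟨r, hr, hx⟩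
    · rw [D.ρ_congr (g := ⟨_, h⟩) (h := (⟨x, hx⟩ : D.B)⁻¹ * g * ⟨x, hx⟩)
        (by simp only [Subgroup.coe_mul, Subgroup.coe_inv]), D.ρ_conj_B]
    · set z : D.B := ⟨(r * c.i)⁻¹ * x, hx⟩ with hz
      set rr : D.B := ⟨r, D.R_le_B hr⟩
      have e : x⁻¹ * (g : G) * x =
          (z : G)⁻¹ * (c.i * ((rr⁻¹ * g * rr : D.B) : G) * c.i⁻¹) * z := by
        have ex : x = r * c.i * (z : G) := by simp only [hz]; group
        conv_lhs => rw [ex]
        simp only [rr, Subgroup.coe_mul, Subgroup.coe_inv]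
        rw [_root_.mul_inv_rev, _root_.mul_inv_rev r c.i, c.i_inv]
        group
      have hi : c.i * ((rr⁻¹ * g * rr : D.B) : G) * c.i⁻¹ ∈ D.B := by
        have := mul_mem (mul_mem z.2 (e ▸ h : _ ∈ D.B)) (inv_mem z.2)
        rwa [show (z : G) * ((z : G)⁻¹ * (c.i * ((rr⁻¹ * g * rr : D.B) : G) * c.i⁻¹) * z) * (z : G)⁻¹ =
          c.i * ((rr⁻¹ * g * rr : D.B) : G) * c.i⁻¹ by group] at this
      have hM := D.mem_M_of_conj_i (rr⁻¹ * g * rr).2 hi
      rw [D.ρ_congr (g := ⟨_, h⟩) (h := z⁻¹ * ⟨_, hi⟩ * z) e, D.ρ_conj_B, D.ρ_iMi hM, D.ρ_conj_B]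

/-! ### `B ∩ C(t)` -/

/-- `B ∩ C(t)`. -/
def BC : Subgroup G := D.B ⊓ centralizer ({c.t} : Set G)

theorem BC_le_B : D.BC ≤ D.B := inf_le_left
theorem BC_le_Ct : D.BC ≤ centralizer ({c.t} : Set G) := inf_le_right
theorem M_le_BC : c.M ≤ D.BC := le_inf D.M_le_B c.M_le_Ct
theorem U_le_BC : c.U ≤ D.BC := le_inf (D.bd.U_le.trans D.R_le_B) fun g hg => by
  obtain ⟨a, rfl⟩ := c.mem_U.1 hg
  exact mem_centralizer_singleton_iff.2 (c.u_comm_t a)

theorem t_mem_BC : c.t ∈ D.BC := D.M_le_BC c.t_mem_M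

theorem mem_BC {g : G} : g ∈ D.BC ↔ ∃ u ∈ c.U, ∃ m ∈ c.M, g = u * m := by
  refine ⟨fun h => D.mem_B_comm_t h.1 (mem_centralizer_singleton_iff.1 h.2), ?_⟩
  rintro ⟨u, hu, m, hm, rfl⟩
  exact mul_mem (D.U_le_BC hu) (D.M_le_BC hm)

theorem card_BC : Nat.card D.BC = Fintype.card F * ((Fintype.card F - 1) * c.f) := by
  rw [← c.card_M, ← c.card_U, ← Nat.card_prod]
  refine (Nat.card_congr (Equiv.ofBijective (fun p : c.U × c.M =>
    (⟨(p.1 : G) * p.2, mul_mem (D.U_le_BC p.1.2) (D.M_le_BC p.2.2)⟩ : D.BC)) ⟨?_, ?_⟩)).symm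
  · rintro ⟨⟨r, hr⟩, ⟨m, hm⟩⟩ ⟨⟨r', hr'⟩, ⟨m', hm'⟩⟩ h
    obtain ⟨rfl, rfl⟩ := D.rm_unique (D.bd.U_le hr) (D.bd.U_le hr') hm hm' (congrArg Subtype.val h)
    rfl
  · rintro ⟨g, hg⟩
    obtain ⟨r, hr, m, hm, rfl⟩ := D.mem_BC.1 hg
    exact ⟨(⟨r, hr⟩, ⟨m, hm⟩), rfl⟩

theorem odd_q : Odd (Fintype.card F) := Nat.odd_iff.2 c.q_odd

theorem invol_BC {g : G} (hg : g ∈ D.BC) (h1 : g ≠ 1) (h2 : g * g = 1) : g = c.t := by
  obtain ⟨u, hu, m, hm, rfl⟩ := D.mem_BC.1 hg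
  have hmm : m * m = 1 := by
    have e : (u * (m * u * m⁻¹)) * (m * m) = 1 * 1 := by rw [one_mul, ← h2]; group
    exact (D.rm_unique (mul_mem (D.bd.U_le hu) (D.conj_mem_R hm (D.bd.U_le hu))) (one_mem _)
      (mul_mem hm hm) (one_mem _) e).2
  obtain ⟨a, rfl⟩ := c.mem_U.1 hu
  have hcomm : Commute m (c.u a) → c.u a = 1 := by
    intro hmu
    have e : c.u a * c.u a = 1 := by
      calc c.u a * c.u a = c.u a * c.u a * (m * m) := by rw [hmm, mul_one]
        _ = c.u a * (m * c.u a) * m := by rw [hmu.eq]; group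
        _ = 1 := by rw [← h2]; group
    rw [← c.u_add, ← c.u_zero] at e
    have : (2 : F) * a = 0 := by rw [two_mul]; exact c.u_injective e
    rw [(mul_eq_zero.1 this).resolve_left c.two_ne, c.u_zero]
  rcases c.invol_M hm hmm D.odd_card_H with rfl | rfl
  · exact absurd (by rw [hcomm (Commute.one_left _), one_mul]) h1
  · rw [hcomm (c.u_comm_t a).symm, one_mul]

/-- The field part of an element of `B ∩ C(t)`. -/
theorem ρ_eq_π {g : G} (hB : g ∈ D.B) (hC : g ∈ centralizer ({c.t} : Set G)) :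
    D.ρ ⟨g, hB⟩ = c.π ⟨g, hC⟩ := by
  obtain ⟨u, hu, m, hm, rfl⟩ := D.mem_BC.1 (show g ∈ D.BC from ⟨hB, hC⟩)
  obtain ⟨a, rfl⟩ := c.mem_U.1 hu
  obtain ⟨e, y, he⟩ := c.mem_M.1 hm
  have hr := D.bd.U_le (c.mem_U.2 ⟨a, rfl⟩)
  rw [D.ρ_eq (g := ⟨_, hB⟩) (e := e) (y := y) hr (he.imp (congrArg (c.u a * ·)) (congrArg (c.u a * ·)))]
  refine (c.π_eq (l := pr (uSL (Multiplicative.ofAdd a)) * pr (Cfsg.Lib.TwoDim.splitSL F e)) ?_).symm
  rw [map_mul]
  rcases he with rfl | rfl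
  · exact Or.inl (by show c.u a * (c.d e * (y : G)) = c.u a * c.d e * (y : G); group)
  · refine Or.inr ?_
    show c.u a * (c.t * (c.d e * (y : G))) = c.t * (c.u a * c.d e * (y : G))
    rw [← mul_assoc, c.u_comm_t]
    simp only [mul_assoc]

theorem card_U_mul : Nat.card D.BC * (Fintype.card F + 1) =
    Nat.card (centralizer ({c.t} : Set G)) := by
  have hq : 1 ≤ Fintype.card F := Fintype.card_pos
  have h := Cfsg.Lib.Dickson.card_psl_mul (K := F) c.q_odd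
  rw [c.card_cent, ← mul_assoc 2, h, D.card_BC,
    show Fintype.card F ^ 2 - 1 = (Fintype.card F + 1) * (Fintype.card F - 1) by
      rw [← one_pow 2, Nat.sq_sub_sq, one_pow]]
  ring

open Classical in
/-- `C(t) = BC ∪ U i BC`. -/
theorem cent_cases {x : G} (hx : x ∈ centralizer ({c.t} : Set G)) :
    x ∈ D.BC ∨ ∃ v ∈ c.U, (v * c.i)⁻¹ * x ∈ D.BC := by
  by_contra hne
  push Not at hne
  set C := centralizer ({c.t} : Set G)
  have hiC : c.i ∈ C := mem_centralizer_singleton_iff.2 c.i_comm_t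
  set f : G → ℂ := fun g => if g ∈ D.BC ∨ ∃ v ∈ c.U, (v * c.i)⁻¹ * g ∈ D.BC then 1 else 0 with hf
  have h := D.sum_cosets D.BC c.U D.bd.U_le D.BC_le_B (f := f) fun g hg =>
    by_contra fun h' => hg (if_neg h')
  have h1 : ∀ z : D.BC, f z = 1 := fun z => if_pos (Or.inl z.2)
  have h2 : ∀ (v : c.U) (z : D.BC), f ((v : G) * c.i * z) = 1 := fun v z =>
    if_pos (Or.inr ⟨v, v.2, by rw [inv_mul_cancel_left]; exact z.2⟩)
  simp only [h1, h2, Finset.sum_const, Finset.card_univ, nsmul_eq_mul, mul_one] at h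
  simp only [hf, Finset.sum_boole, ← Nat.card_eq_fintype_card, c.card_U] at h
  rw [Nat.card_eq_fintype_card (α := F)] at h
  have h3 : (Finset.univ.filter fun g => g ∈ D.BC ∨ ∃ v ∈ c.U, (v * c.i)⁻¹ * g ∈ D.BC) ⊆
      (C : Set G).toFinset.erase x := fun g hg => by
    rw [Finset.mem_filter] at hg
    rw [Finset.mem_erase, Set.mem_toFinset]
    refine ⟨fun e => ?_, ?_⟩
    · subst e
      exact hg.2.elim (fun h => hne.1 h) fun ⟨v, hv, h⟩ => hne.2 v hv h
    · rcases hg.2 with h | ⟨v, hv, h⟩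
      · exact D.BC_le_Ct h
      · have := C.mul_mem (C.mul_mem (D.BC_le_Ct (D.U_le_BC hv)) hiC) (D.BC_le_Ct h)
        rwa [mul_inv_cancel_left] at this
  have h4 := Finset.card_le_card h3
  rw [Finset.card_erase_of_mem (Set.mem_toFinset.2 hx), Set.toFinset_card,
    ← Nat.card_eq_fintype_card] at h4
  have h5 : (Finset.univ.filter fun g => g ∈ D.BC ∨ ∃ v ∈ c.U, (v * c.i)⁻¹ * g ∈ D.BC).card =
      Nat.card D.BC + Fintype.card F * Nat.card D.BC := by exact_mod_cast h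
  have h6 : Fintype.card F * Nat.card D.BC + Nat.card D.BC = Nat.card C := by
    rw [← D.card_U_mul]; ring
  have : 0 < Nat.card C := Nat.card_pos
  have h7 : Nat.card (↥(C : Set G)) = Nat.card C := rfl
  omega

end Full

end Cfsg.Lib.Walter3.Field
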