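import Cfsg.Agent.Lib.Fusion.Abelian
import Cfsg.Agent.Lib.FusionSys.QdFree
import Cfsg.Agent.Lib.Local.SL2Involved
import Cfsg.Agent.Lib.Local.PrimeOrderOperator

/-!
# Tools for the three-local analysis of a nontrivial field part

Transfer through `N(ZJ P)` in groups with abelian Sylow two-subgroups, and the fact that an operator
of odd prime order without fixed points centralizes coprime operator groups of odd prime power order.
-/

set_option autoImplicit false
set_option linter.style.haveILetI false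

namespace Cfsg.Lib.Walter3.Field

open Subgroup Cfsg Cfsg.Lib Cfsg.Lib.FusionSys

universe u

variable {G : Type u} [Group G] [Finite G]

/-- A subgroup controlling the fusion of single elements of a Sylow subgroup has no character that is
nontrivial on it, when the group is simple. -/
theorem eq_one_of_controls [IsSimpleGroup G] (hna : ¬ IsMulCommutative G) {p : ℕ} [Fact p.Prime]
    (P : Sylow p G) {M : Subgroup G} (hPM : (P : Subgroup G) ≤ M)
    (hc : ∀ x ∈ (P : Subgroup G), ∀ g : G, g * x * g⁻¹ ∈ (P : Subgroup G) →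
      ∃ h ∈ M, h * x * h⁻¹ = g * x * g⁻¹)
    {A : Type*} [CommGroup A] (ψ : M →* A) {x : G} (hx : x ∈ (P : Subgroup G)) :
    ψ ⟨x, hPM hx⟩ = 1 := by
  have htop : commutator G = ⊤ := by
    rcases IsSimpleGroup.eq_bot_or_eq_top_of_normal (commutator G) inferInstance with h | h
    · refine absurd ⟨⟨fun a b => commutatorElement_eq_one_iff_mul_comm.1 ?_⟩⟩ hna
      rw [← mem_bot, ← h, commutator_def]
      exact commutator_mem_commutator (mem_top a) (mem_top b)
    · exact h
  have h1 : x ∈ ⁅M, M⁆ := by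
    have h := Fusion.commutator_inf_eq_of_controls P M hPM hc
    rw [htop, top_inf_eq] at h
    exact (h.le hx).1
  rw [← Subgroup.map_subtype_commutator M] at h1
  obtain ⟨y, hy, hyx⟩ := h1
  rw [show (⟨x, hPM hx⟩ : M) = y from Subtype.ext hyx.symm]
  exact Abelianization.commutator_subset_ker ψ hy

/-- With abelian Sylow two-subgroups `N(ZJ P)` controls fusion for every odd prime. -/
theorem controls_zj {p : ℕ} [Fact p.Prime] (h2 : p ≠ 2)
    (hab : ∀ T : Sylow 2 G, IsMulCommutative ↥(T : Subgroup G)) (P : Sylow p G)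
    {x : G} (hx : x ∈ (P : Subgroup G)) (g : G) (hg : g * x * g⁻¹ ∈ (P : Subgroup G)) :
    ∃ h ∈ normalizer (centerThompsonAOf (P : Subgroup G) : Set G), h * x * h⁻¹ = g * x * g⁻¹ := by
  have hq : ¬ Involves (qd p) G := Local.SL2Involved.not_involves_qd_of_not_involves_SL2
    (Local.SL2Involved.not_involves_SL2_of_abelian_sylow_two h2 hab)
  obtain ⟨-, hfus⟩ := FusionSys.controls_zj_of_qdFree h2 P hq
    (FusionSys.isStronglyClosed_self _) {x} (Set.singleton_subset_iff.2 hx)
  obtain ⟨h, hh, he⟩ := hfus g (by rw [Set.image_singleton]; exact Set.singleton_subset_iff.2 hg)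
  exact ⟨h, hh, (he x rfl).symm⟩

/-- An operator of odd prime order without fixed points centralizes the groups of coprime odd prime
power order it normalizes. -/
theorem centralizes_of_fpf {W : Type u} [CommGroup W] [Finite W] {ℓ q r : ℕ} [Fact ℓ.Prime]
    [Fact q.Prime] [Fact r.Prime] (hW : ∀ w : W, w ^ ℓ = 1) (hq2 : q ≠ 2) (hlq : ℓ ≠ q)
    (hlr : ℓ ≠ r) (hqr : q ≠ r) {Q : Subgroup (MulAut W)} (hQ : IsPGroup q Q) {y : MulAut W}
    (hy : y ^ r = 1) (hyQ : ∀ a ∈ Q, y * a * y⁻¹ ∈ Q) (hfpf : ∀ w : W, y w = w → w = 1)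
    {a : MulAut W} (ha : a ∈ Q) : y * a = a * y := by
  by_contra hne
  haveI : Finite (MulAut W) :=
    Finite.of_injective (fun f : MulAut W => (f : W → W)) DFunLike.coe_injective
  have hy' : y ∈ normalizer (Q : Set (MulAut W)) := Fusion.le_normalizer_of_conj_mem hyQ
  have hcop : (orderOf y).Coprime q := Nat.Coprime.coprime_dvd_left (orderOf_dvd_of_pow_eq_one hy)
    ((Nat.coprime_primes Fact.out Fact.out).2 (Ne.symm hqr))
  obtain ⟨Q0, -, h, hmin⟩ := Local.exists_minimalMoved' hQ
    (fun g hg a ha => (mem_normalizer_iff.1 (zpowers_le.2 hy' hg) a).1 ha)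
    ⟨a, ha, fun e => hne (by rw [← mul_inv_eq_iff_eq_mul]; exact e)⟩ (mem_zpowers y)
    (fun g hg => by
      obtain ⟨k, rfl⟩ := mem_zpowers_iff.1 hg
      exact ((Commute.refl y).zpow_left k).eq) hcop
  exact hq2 (Local.prime_exception hW h hy hlq hlr hqr hfpf).2.1

end Cfsg.Lib.Walter3.Field
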