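import Cfsg.Agent.Lib.Walter3.Field.ThreeNormal
import Cfsg.Agent.Lib.Walter3.Field.LocalTools
import Cfsg.Agent.Lib.Local.GlaubermanComplement
import Cfsg.Agent.Lib.Sig.PConstrained
import Cfsg.Agent.Lib.Dickson.Orders
import Cfsg.Agent.S0205

/-!
# The three-local subgroup

An odd group `O` containing `U H F₀` and a Sylow three-subgroup `P` of `G`, with `O⟨t⟩` controlling
fusion, and the subgroup `R` of `P` covering `O₃` of `O` modulo its `3'`-core.
-/

set_option autoImplicit false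
set_option linter.unusedSectionVars false
set_option linter.style.haveILetI false

namespace Cfsg.Lib.Walter3.Field

open Subgroup Cfsg Cfsg.Lib Matrix
open Cfsg.Lib.TwoDim (splitSL)
open Cfsg.Lib.Local.GlaubermanZJ
open scoped MatrixGroups

universe u

local notation "PSL2[" K "]" => Matrix.ProjectiveSpecialLinearGroup (Fin 2) K

/-- An automorphism preserves `O_{p',p}`. -/
theorem pPrimeP_map_le {O : Type u} [Group O] [Finite O] {p : ℕ} [Fact p.Prime] (e : MulAut O) {g : O}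
    (hg : QuotientGroup.mk' (Cfsg.pPrimeCore p O) g ∈ Cfsg.pCore p (O ⧸ Cfsg.pPrimeCore p O)) :
    QuotientGroup.mk' (Cfsg.pPrimeCore p O) (e g) ∈ Cfsg.pCore p (O ⧸ Cfsg.pPrimeCore p O) := by
  set N := Cfsg.pPrimeCore p O
  set f := QuotientGroup.mk' N
  set J := (Cfsg.pCore p (O ⧸ N)).comap f
  have hn : (J.map e.toMonoidHom).Normal := Subgroup.Normal.map inferInstance _ e.surjective
  have hle : (J.map e.toMonoidHom).map f ≤ Cfsg.pCore p (O ⧸ N) := by
    refine Core.le_pCore' (hn.map f (QuotientGroup.mk'_surjective _)) ?_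
    rintro ⟨_, _, ⟨j, hj, rfl⟩, rfl⟩
    obtain ⟨k, hk⟩ := Core.pCore_isPGroup p (O ⧸ N) ⟨f j, hj⟩
    refine ⟨k, Subtype.ext ?_⟩
    show f (e j) ^ p ^ k = 1
    rw [← map_pow, ← map_pow]
    refine (QuotientGroup.eq_one_iff _).2 ?_
    have h1 : j ^ p ^ k ∈ N := (QuotientGroup.eq_one_iff _).1 (congrArg Subtype.val hk :)
    exact ((Core.pPrimeCore_characteristic (p := p) (G := O)).fixed e).symm.le h1
  exact hle ⟨_, ⟨g, hg, rfl⟩, rfl⟩

namespace Cfg

variable {G : Type u} [Group G] [Finite G] {F : Type} [Field F] [Fintype F] (c : Cfg G F)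
include c

theorem odd_card_H (h4 : Fintype.card F % 4 = 3) : Odd (Nat.card c.H) := by
  have := c.card_H
  rw [Nat.odd_iff]; omega

theorem coprime_three_H {n : ℕ} (hn : n ≠ 0) (hq : Fintype.card F = 3 ^ n) :
    (Nat.card c.H).Coprime 3 := by
  refine ((Nat.Prime.coprime_iff_not_dvd Nat.prime_three).2 fun h => ?_).symm
  exact (c.three_not_dvd hn hq).1 (c.card_H ▸ dvd_mul_of_dvd_left h 2)

theorem odd_subgroup_psl {n : ℕ} (hn : n ≠ 0) (hq : Fintype.card F = 3 ^ n) {M : Subgroup PSL2[F]}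
    (hM : Odd (Nat.card M)) (hU : c.unipR ≤ M) {l : PSL2[F]} (hl : l ∈ M) :
    ∀ u ∈ c.unipR, l * u * l⁻¹ ∈ c.unipR := by
  haveI : Fact (Nat.Prime 3) := ⟨Nat.prime_three⟩
  haveI := c.charP_three hn hq
  have h2 : ¬ 2 ∣ Nat.card M := AbTwo.not_dvd_of_odd hM
  have hqM : Fintype.card F ∣ Nat.card M := c.card_unipR ▸ card_dvd_of_le hU
  rcases Dickson.psl_subgroup_cases 3 M with
    ⟨k, hk, ⟨-, hc⟩ | ⟨⟨e⟩⟩⟩ | ⟨-, P, hP⟩ | ⟨-, hc⟩
  · exfalso
    rw [hc] at hqM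
    have h3 : 3 ∣ k := (hq ▸ dvd_pow_self 3 hn : 3 ∣ Fintype.card F).trans hqM
    have h5 := c.five_le
    have hg : Nat.gcd 2 (Fintype.card F - 1) = 2 :=
      Nat.gcd_eq_left (by have := c.q_odd; omega)
    rw [hg] at hk
    have hk' : k ∣ Fintype.card F + 1 ∨ k ∣ Fintype.card F - 1 := by
      have := c.q_odd
      exact hk.imp (fun h => h.trans ⟨2, by omega⟩) fun h => h.trans ⟨2, by omega⟩
    exact hk'.elim (fun h => (c.three_not_dvd hn hq).2 (h3.trans h))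
      fun h => (c.three_not_dvd hn hq).1 (h3.trans h)
  · exact absurd (by rw [Nat.card_congr e.toEquiv, DihedralGroup.nat_card]; exact dvd_mul_right 2 k) h2
  · intro u hu
    have hUP : c.unipR = (P : Subgroup PSL2[F]) := by
      have hUp : IsPGroup 3 c.unipR := IsPGroup.of_card (c.card_unipR.trans hq)
      refine eq_of_le_of_card_ge (fun v hv => ?_) ?_
      · obtain ⟨k, hk⟩ := hUp ⟨v, hv⟩
        exact Dickson.mem_of_pow_eq_one_normalizer P (hP (hU hv)) (k := k) (congrArg Subtype.val hk)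
      · rw [Dickson.card_sylow_psl 3 P, c.card_unipR]
    rw [hUP] at hu ⊢
    exact (mem_normalizer_iff.1 (hP hl) u).1 hu
  · exfalso
    refine h2 ?_
    rcases hc with ⟨⟨e⟩⟩ | ⟨⟨e⟩⟩ | ⟨⟨e⟩⟩ | ⟨K, _, _, m, _, h3K, -, ⟨⟨e⟩, hodd⟩ | ⟨⟨e⟩⟩⟩
    · rw [Nat.card_congr e.toEquiv, Nat.card_eq_fintype_card]; decide +kernel
    · rw [Nat.card_congr e.toEquiv, Nat.card_perm, Nat.card_fin]; norm_num [Nat.factorial]
    · rw [Nat.card_congr e.toEquiv, Nat.card_eq_fintype_card]; decide +kernel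
    · rw [Nat.card_congr e.toEquiv]
      obtain ⟨r, hr⟩ : ∃ r, Fintype.card K = 2 * r + 1 := ⟨Fintype.card K / 2, by omega⟩
      have h := Dickson.card_psl_mul hodd
      rw [hr, show (2 * r + 1) ^ 2 = 4 * (r * r + r) + 1 by ring, Nat.add_sub_cancel] at h
      exact ⟨(2 * r + 1) * (r * r + r), Nat.eq_of_mul_eq_mul_left two_pos (h.trans (by ring))⟩
    · rw [Nat.card_congr e.toEquiv, Dickson.card_PGL_two_eq]
      rcases Nat.even_or_odd (Fintype.card K) with h | ⟨r, hr⟩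
      · exact dvd_mul_of_dvd_left h.two_dvd _
      · refine dvd_mul_of_dvd_right ?_ _
        rw [hr, show (2 * r + 1) ^ 2 = 4 * (r * r + r) + 1 by ring, Nat.add_sub_cancel]
        exact dvd_mul_of_dvd_left (by norm_num) _

/-- `C_Y(t) ≤ U H F₀` for an odd group containing `U` and `F₀`. -/
theorem bor_of_mem {n : ℕ} (hn : n ≠ 0) (hq : Fintype.card F = 3 ^ n) {Y : Subgroup G}
    (hY : Odd (Nat.card Y)) (hU : c.U ≤ Y) (hF : fieldPart c.S ≤ Y) {g : G} (hg : g ∈ Y)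
    (hgt : g * c.t = c.t * g) : c.Bor g := by
  obtain ⟨y, l, hl⟩ := c.exists_decomp ⟨g, mem_centralizer_singleton_iff.2 hgt⟩
  change g = _ ∨ g = _ at hl
  have hgy : g * (y : G)⁻¹ ∈ Y := mul_mem hg (inv_mem (hF y.2))
  have hlY : c.φ l ∈ Y ∧ g = c.φ l * y := by
    rcases hl with h | h
    · exact ⟨by rwa [h, mul_inv_cancel_right] at hgy, h⟩
    · exfalso
      rw [h, ← mul_assoc, mul_inv_cancel_right] at hgy
      obtain ⟨k, hk⟩ := Walter3.odd_orderOf hY hgy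
      have h1 := pow_orderOf_eq_one (c.t * c.φ l)
      rw [hk, (show Commute c.t (c.φ l) from (c.φ_comm l).symm).mul_pow, pow_succ c.t, pow_mul c.t,
        pow_two, c.t_sq, one_pow, one_mul, ← map_pow] at h1
      exact c.φ_ne _ ((eq_inv_of_mul_eq_one_right h1).trans c.t_inv)
  have hM : Odd (Nat.card (Y.comap c.φ)) := by
    rw [← Subgroup.card_map_of_injective c.φ_inj]
    exact hY.of_dvd_nat (card_dvd_of_le (map_comap_le _ _))
  have hUM : c.unipR ≤ Y.comap c.φ := by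
    rintro _ ⟨a, rfl⟩
    exact hU ⟨a, rfl⟩
  obtain ⟨a, ha⟩ := c.odd_subgroup_psl hn hq hM hUM hlY.1 _ ⟨Multiplicative.ofAdd 1, rfl⟩
  have hc : c.φ l * c.u 1 * (c.φ l)⁻¹ = c.u a.toAdd := by
    show c.φ l * c.φ _ * (c.φ l)⁻¹ = c.φ _
    rw [← map_inv, ← map_mul, ← map_mul]
    exact congrArg c.φ ha.symm
  obtain ⟨s, e, z, hform, -⟩ := c.cent_t_u one_ne_zero (c.φ_comm l) hc
  rcases hform with h | h
  · exact ⟨s, e, z * y, by rw [hlY.2, h, Subgroup.coe_mul, mul_assoc]⟩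
  · exfalso
    have hπ : c.π ⟨c.φ l, mem_centralizer_singleton_iff.2 (c.φ_comm l)⟩ = 1 :=
      c.π_eq (l := l) (Or.inl (by simp))
    have h' : c.φ l = c.t * (c.φ (pr (uSL (Multiplicative.ofAdd s)) * pr (splitSL F e)) * (z : G)) := by
      rw [map_mul]; exact h
    rw [c.π_eq (Or.inr h')] at hπ
    rw [hπ] at h'
    simp only [Subgroup.coe_one, mul_one] at h'
    exact c.φ_ne (l * (pr (uSL (Multiplicative.ofAdd s)) * pr (splitSL F e))⁻¹) (by
      rw [map_mul, map_inv, h']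
      exact mul_inv_cancel_right _ _)

theorem exists_ud_pow (s : F) (e : Fˣ) (m : ℕ) :
    ∃ s', (c.u s * c.d e) ^ m = c.u s' * c.d (e ^ m) := by
  induction m with
  | zero => exact ⟨0, by rw [pow_zero, pow_zero, c.u_zero, c.d_one, one_mul]⟩
  | succ m ih =>
    obtain ⟨s', hs⟩ := ih
    refine ⟨s' + ((e ^ m : Fˣ) : F) ^ 2 * s, ?_⟩
    rw [pow_succ, hs, pow_succ e m, c.d_mul, c.u_add, ← c.d_u]
    group

theorem U_inf_H {n : ℕ} (hn : n ≠ 0) (hq : Fintype.card F = 3 ^ n) {g : G} (hU : g ∈ c.U)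
    (hH : g ∈ c.H) : g = 1 := by
  have h1 : orderOf g ∣ 3 ^ n := hq ▸ c.card_U ▸ Subgroup.orderOf_dvd_natCard _ hU
  exact orderOf_eq_one_iff.1 (Nat.eq_one_of_dvd_coprimes ((c.coprime_three_H hn hq).pow_right n)
    (Subgroup.orderOf_dvd_natCard _ hH) h1)

theorem d_eq_one_of_three {n : ℕ} (hn : n ≠ 0) (hq : Fintype.card F = 3 ^ n) {s : F} {e : Fˣ}
    (h : ∃ k, (c.u s * c.d e) ^ 3 ^ k = 1) : c.d e = 1 := by
  obtain ⟨k, hk⟩ := h
  obtain ⟨s', hs⟩ := c.exists_ud_pow s e (3 ^ k)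
  rw [hk] at hs
  have hd : c.d (e ^ 3 ^ k) = 1 := c.U_inf_H hn hq
    (c.mem_U.2 ⟨-s', by rw [c.u_neg]; exact inv_eq_of_mul_eq_one_right hs.symm⟩)
    (c.mem_H.2 ⟨_, rfl⟩)
  have hpow : ∀ j, c.d (e ^ j) = c.d e ^ j := fun j => by
    induction j with
    | zero => rw [pow_zero, pow_zero, c.d_one]
    | succ j ih => rw [pow_succ, c.d_mul, ih, ← pow_succ]
  rw [hpow] at hd
  exact orderOf_eq_one_iff.1 (Nat.eq_one_of_dvd_coprimes ((c.coprime_three_H hn hq).pow_right k)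
    (Subgroup.orderOf_dvd_natCard _ (c.mem_H.2 ⟨e, rfl⟩)) (orderOf_dvd_of_pow_eq_one hd))

/-- The three-elements of `C(t)` in a group normalized by `H` and meeting `U H` in three-elements. -/
theorem mem_U_of_normal {n : ℕ} (hn : n ≠ 0) (hq : Fintype.card F = 3 ^ n) {R : Subgroup G}
    (hR : IsPGroup 3 R) (hH : ∀ a, c.d a ∈ normalizer (R : Set G)) {g : G} (hg : g ∈ R) (hb : c.Bor g) :
    g ∈ c.U := by
  obtain ⟨s, e, y, rfl⟩ := hb
  have hfix : ∀ a : Fˣ, c.σ y (a : F) ^ 2 = (a : F) ^ 2 := by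
    intro a
    set b := Units.map (c.σ y : F →* F) a
    set w := c.u s * c.d e * (y : G) * (c.d a * (c.u s * c.d e * (y : G))⁻¹ * (c.d a)⁻¹) with hw
    have hwR : w ∈ R := mul_mem hg ((mem_normalizer_iff.1 (hH a) _).1 (inv_mem hg))
    have hcd : Commute (c.d b) (c.d e) := by
      show c.d b * c.d e = c.d e * c.d b
      rw [← c.d_mul, ← c.d_mul, mul_comm]
    have hai : (c.d a)⁻¹ = c.d a⁻¹ := inv_eq_of_mul_eq_one_right (by
      rw [← c.d_mul, mul_inv_cancel, c.d_one])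
    have hw' : w = c.u (s + (b : F) ^ 2 * (-s)) * c.d (b * a⁻¹) := by
      rw [hw, show c.u s * c.d e * (y : G) * (c.d a * (c.u s * c.d e * (y : G))⁻¹ * (c.d a)⁻¹) =
        c.u s * (c.d e * ((y : G) * c.d a * (y : G)⁻¹) * (c.d e)⁻¹) * (c.u s)⁻¹ * (c.d a)⁻¹ by group,
        c.y_d, commute_conj_iff.2 hcd.symm, hai, ← c.u_neg, c.u_add, ← c.d_u, c.d_mul]
      group
    have h1 := c.d_eq_one_of_three hn hq (hw' ▸ c.pgroup_pow hR hwR)
    have hsq : ((b * a⁻¹ : Fˣ) : F) ^ 2 = 1 := by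
      rcases c.d_eq_one.1 h1 with r | r <;> rw [r] <;> simp
    rw [Units.val_mul, mul_pow, Units.val_inv_eq_inv_val, inv_pow,
      mul_inv_eq_one₀ (pow_ne_zero _ a.ne_zero)] at hsq
    exact hsq
  obtain rfl : y = 1 := c.σ_inj ((RingEquiv.ext fun b => by
    rw [RingAut.one_apply]
    rcases eq_or_ne b 0 with rfl | hb
    · exact map_zero _
    · exact c.fix_of_sq y (by rw [map_pow]; exact hfix (Units.mk0 b hb))).trans (map_one c.σ).symm)
  simp only [Subgroup.coe_one, mul_one] at hg ⊢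
  rw [c.d_eq_one_of_three hn hq (c.pgroup_pow hR hg), mul_one]
  exact c.mem_U.2 ⟨s, rfl⟩

theorem conj_mem_of_fixed {X R : Subgroup G} (hR : IsPGroup 3 R) (hX : (Nat.card X).Coprime 3)
    (hRX : R ≤ normalizer (X : Set G)) {g : G}
    (hgR : ∀ r ∈ R, g * r * g⁻¹ ∈ X ⊔ R) : ∃ m ∈ X, m * g ∈ normalizer (R : Set G) := by
  haveI : Fact (Nat.Prime 3) := ⟨Nat.prime_three⟩
  haveI := hR.isNilpotent
  have hcop : (Nat.card R).Coprime (Nat.card X) := by
    obtain ⟨k, hk⟩ := IsPGroup.iff_card.1 hR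
    rw [hk]; exact hX.symm.pow_left k
  obtain ⟨m, hm, e⟩ := Coprime.exists_conj_of_coprime X R (R.map (MulAut.conj g).toMonoidHom) hRX hcop
    (Or.inl inferInstance) (by rintro _ ⟨r, hr, rfl⟩; exact hgR r hr)
    (card_map_of_injective (MulAut.conj g).injective)
  refine ⟨m⁻¹, inv_mem hm, Fusion.le_normalizer_of_conj_mem fun r hr => ?_⟩
  have h1 : g * r * g⁻¹ ∈ R.map (MulAut.conj m).toMonoidHom := e ▸ ⟨r, hr, rfl⟩
  obtain ⟨r', hr', h2⟩ := h1
  change m * r' * m⁻¹ = g * r * g⁻¹ at h2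
  rw [show m⁻¹ * g * r * (m⁻¹ * g)⁻¹ = m⁻¹ * (g * r * g⁻¹) * m by group, ← h2,
    show m⁻¹ * (m * r' * m⁻¹) * m = r' by group]
  exact hr'

/-- A centralized element normalizing `X R` normalizes the invariant complement `R`. -/
theorem mem_normalizer_of_fixed {X R : Subgroup G} (hR : IsPGroup 3 R) (hX : (Nat.card X).Coprime 3)
    (hXodd : Odd (Nat.card X)) (htX : c.t ∈ normalizer (X : Set G))
    (htR : c.t ∈ normalizer (R : Set G)) (hRX : R ≤ normalizer (X : Set G))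
    (hXt : ∀ g ∈ X, g * c.t = c.t * g → g = 1) {g : G} (hgt : g * c.t = c.t * g)
    (hgR : ∀ r ∈ R, g * r * g⁻¹ ∈ X ⊔ R) :
    g ∈ normalizer (R : Set G) := by
  obtain ⟨m, hm, hmg⟩ := c.conj_mem_of_fixed hR hX hRX hgR
  set X1 := X ⊓ normalizer (R : Set G)
  have htX1 : c.t ∈ normalizer (X1 : Set G) :=
    inf_normalizer_le_normalizer_inf (Subgroup.mem_inf.2 ⟨htX, le_normalizer htR⟩)
  obtain ⟨n, hn, e⟩ := exists_lift_commute (K := X1) (a := c.t) (g := m * g) (by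
      rw [c.orderOf_t]
      exact Nat.coprime_two_left.2 (hXodd.of_dvd_nat (card_dvd_of_le inf_le_left))) htX1 (by
    refine Subgroup.mem_inf.2 ⟨?_, mul_mem (mul_mem (mul_mem hmg htR) (inv_mem hmg)) (inv_mem htR)⟩
    rw [show m * g * c.t * (m * g)⁻¹ * c.t⁻¹ = m * (g * c.t * g⁻¹) * m⁻¹ * c.t⁻¹ by group,
      show g * c.t * g⁻¹ = c.t by rw [hgt, mul_inv_cancel_right],
      show m * c.t * m⁻¹ * c.t⁻¹ = m * (c.t * m⁻¹ * c.t⁻¹) by group]
    exact mul_mem hm ((mem_normalizer_iff.1 htX _).1 (inv_mem hm)))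
  have hnm : n * m = 1 := hXt _ (mul_mem (Subgroup.mem_inf.1 hn).1 hm) (by
    have e' : Commute c.t (n * m * g) := by rwa [mul_assoc]
    have := e'.mul_right (show Commute c.t g from hgt.symm).inv_right
    rw [mul_inv_cancel_right] at this
    exact this.eq.symm)
  have := mul_mem (Subgroup.mem_inf.1 hn).2 hmg
  rwa [← mul_assoc, hnm, one_mul] at this

/-- The three-local data. -/
structure Loc (n : ℕ) where
  /-- The odd part of the controlling normalizer. -/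
  O : Subgroup G
  /-- A Sylow subgroup. -/
  P : Sylow 3 G
  /-- The part of `P` over `O₃` of the section. -/
  R : Subgroup G
  /-- The `3'`-core. -/
  X : Subgroup G
  odd_O : Odd (Nat.card O)
  t_O : c.t ∈ normalizer (O : Set G)
  P_O : (P : Subgroup G) ≤ O
  t_P : c.t ∈ normalizer ((P : Subgroup G) : Set G)
  U_P : c.U ≤ (P : Subgroup G)
  field_P : ∀ y : fieldPart c.S, (∃ k, y ^ 3 ^ k = 1) → (y : G) ∈ (P : Subgroup G)
  inter : ∀ g ∈ O, g * c.t = c.t * g → c.Bor g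
  bor_O : ∀ g, c.Bor g → g ∈ O ⊓ normalizer (R : Set G)
  R_P : R ≤ P
  R_ne : R ≠ ⊥
  P_R : (P : Subgroup G) ≤ normalizer (R : Set G)
  t_R : c.t ∈ normalizer (R : Set G)
  inter_R : ∀ g ∈ R, g * c.t = c.t * g → g ∈ c.U
  X_O : X ≤ O
  X_cop : (Nat.card X).Coprime 3
  O_X : O ≤ normalizer (X : Set G)
  t_X : c.t ∈ normalizer (X : Set G)
  X_t : ∀ g ∈ X, g * c.t = c.t * g → g = 1
  X_cent : ∀ g ∈ X ⊓ normalizer (R : Set G), ∀ r ∈ R, Commute g r
  controls : ∀ x ∈ (P : Subgroup G), ∀ g : G, g * x * g⁻¹ ∈ (P : Subgroup G) →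
    ∃ h ∈ (O ⊓ normalizer (R : Set G)) ⊔ zpowers c.t, h * x * h⁻¹ = g * x * g⁻¹
  core : ∀ J ≤ O ⊓ normalizer (R : Set G), O ⊓ normalizer (R : Set G) ≤ normalizer (J : Set G) →
    (∀ g ∈ J, ∃ k, ∀ r ∈ R, Commute (g ^ 3 ^ k) r) → J ≤ R ⊔ (X ⊓ normalizer (R : Set G))

/-- The three-local data exist. -/
theorem exists_loc {n : ℕ} (hn : n ≠ 0) (hq : Fintype.card F = 3 ^ n)
    (h4 : Fintype.card F % 4 = 3) : Nonempty (c.Loc n) := by
  classical
  haveI : Fact (Nat.Prime 3) := ⟨Nat.prime_three⟩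
  -- the part of three power order of the field part
  obtain ⟨T⟩ : Nonempty (Sylow 3 (fieldPart c.S)) := inferInstance
  haveI hTn : (T : Subgroup (fieldPart c.S)).Normal := ⟨fun v hv g => by
    have : g * v = v * g := Subtype.ext (c.y_comm_y g v).eq
    rwa [this, mul_inv_cancel_right]⟩
  haveI := Sylow.unique_of_normal T hTn
  set F3 := (T : Subgroup (fieldPart c.S)).map (fieldPart c.S).subtype with hF3
  have hF3mem : ∀ y : fieldPart c.S, (∃ k, y ^ 3 ^ k = 1) → (y : G) ∈ F3 := by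
    rintro y ⟨k, hk⟩
    obtain ⟨i, -, hi⟩ := (Nat.dvd_prime_pow Nat.prime_three).1 (orderOf_dvd_of_pow_eq_one hk)
    obtain ⟨Q, hQ⟩ := (IsPGroup.of_card (n := i) (by rw [Nat.card_zpowers, hi]) :
      IsPGroup 3 (zpowers y)).exists_le_sylow
    rw [Subsingleton.elim Q T] at hQ
    exact ⟨y, hQ (mem_zpowers y), rfl⟩
  have hFbor : ∀ g ∈ fieldPart c.S, c.Bor g := fun g hg => c.bor_y ⟨g, hg⟩
  have hUp : IsPGroup 3 c.U := IsPGroup.of_card (c.card_U.trans hq)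
  have hUt : ∀ g ∈ c.U, g * c.t = c.t * g := fun g hg => by
    obtain ⟨a, rfl⟩ := c.mem_U.1 hg; exact c.u_comm_t a
  have hnorm_t : ∀ {Q : Subgroup G}, (∀ g ∈ Q, g * c.t = c.t * g) → c.t ∈ normalizer (Q : Set G) :=
    fun hQ => Fusion.le_normalizer_of_conj_mem fun g hg => by rwa [← hQ g hg, mul_inv_cancel_right]
  set V := F3 ⊔ c.U with hV
  have hVp : IsPGroup 3 V := IsPGroup.to_sup_of_normal_right' (T.2.map _) hUp
    (fun g hg => c.bor_normalizes_U (hFbor g (map_subtype_le _ hg)))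
  have hVt : ∀ g ∈ V, g * c.t = c.t * g := fun g hg =>
    mem_centralizer_singleton_iff.1 ((sup_le
      (fun v hv => mem_centralizer_singleton_iff.2 (c.bor_comm_t (hFbor v (map_subtype_le _ hv))))
      fun v hv => mem_centralizer_singleton_iff.2 (hUt v hv) : V ≤ centralizer ({c.t} : Set G)) hg)
  have hoddB : ∀ g, (g ∈ c.U ∨ g ∈ c.H ∨ g ∈ fieldPart c.S) → c.Bor g ∧ Odd (orderOf g) := by
    rintro g (h | h | h)
    · obtain ⟨a, rfl⟩ := c.mem_U.1 h
      exact ⟨c.bor_u a, c.odd_orderOf_three (c.pgroup_pow hUp h)⟩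
    · obtain ⟨a, rfl⟩ := c.mem_H.1 h
      exact ⟨c.bor_d a, (c.odd_card_H h4).of_dvd_nat (Subgroup.orderOf_dvd_natCard _ h)⟩
    · exact ⟨hFbor g h, c.odd_f.of_dvd_nat (Subgroup.orderOf_dvd_natCard _ h)⟩
  -- the family
  let 𝒴 : Set (Subgroup G) := {Y | Odd (Nat.card Y) ∧ c.t ∈ normalizer (Y : Set G) ∧
    c.U ≤ Y ∧ c.H ≤ Y ∧ fieldPart c.S ≤ Y}
  have hne : 𝒴.Nonempty := by
    have huU : c.U ≤ centralizer ({c.t} : Set G) → ∃ a, a ≠ 0 ∧ c.u a ∈ c.U :=
      fun _ => ⟨1, one_ne_zero, c.mem_U.2 ⟨1, rfl⟩⟩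
    have htU := hnorm_t hUt
    have hin : ∀ g, (g ∈ c.U ∨ g ∈ c.H ∨ g ∈ fieldPart c.S) → g ∈ cor (normalizer (c.U : Set G)) :=
      fun g hg => (c.normalizer_cor_facts hn hq h4 hUp htU huU
        (c.bor_normalizes_U (hoddB g hg).1)).1 (hoddB g hg).2
    exact ⟨_, odd_cor _, le_normalizer_cor _ htU, fun g hg => hin g (Or.inl hg),
      fun g hg => hin g (Or.inr (Or.inl hg)), fun g hg => hin g (Or.inr (Or.inr hg))⟩
  obtain ⟨Y, ⟨hYodd, htY, hUY, hHY, hFY⟩, hmax⟩ := Set.exists_max_image 𝒴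
    (fun Y => (Nat.card Y).factorization 3) (Set.toFinite 𝒴) hne
  have hctY : (Nat.card (zpowers c.t)).Coprime (Nat.card Y) := by
    rw [Nat.card_zpowers, c.orderOf_t]; exact Nat.coprime_two_left.2 hYodd
  haveI : IsMulCommutative (zpowers c.t) := IsCyclic.isMulCommutative
  obtain ⟨P₁, hVP, htP₁⟩ := Coprime.exists_invariant_sylow_ge (zpowers_le.2 htY) hctY
    (Or.inl (Group.isSolvable_of_comm fun a b => mul_comm' a b))
    (sup_le ((map_subtype_le _).trans hFY) hUY : V ≤ Y) hVp (zpowers_le.2 (hnorm_t hVt))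
  set PG := (P₁ : Subgroup Y).map Y.subtype with hPG
  have htPG : c.t ∈ normalizer (PG : Set G) := htP₁ (mem_zpowers _)
  -- `ZJ` modulo the `3'`-core of `Y`
  haveI := Cfsg.Agent.S0205.result hYodd
  set N' := Cfsg.pPrimeCore 3 Y with hN'
  set f := QuotientGroup.mk' N' with hf
  have hfs : Function.Surjective f := QuotientGroup.mk'_surjective _
  have hNcop : (Nat.card N').Coprime 3 := Core.pPrimeCore_coprime 3 Y
  have hconstr := Sig.isPConstrained_iff.1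
    (Sig.isPConstrained_of_isPSolvable (Core.isPSolvable_of_isSolvable (G := Y) (p := 3)))
  have hab2 : ∀ S2 : Sylow 2 (Y ⧸ N'), IsMulCommutative S2 := by
    intro S2
    have h1 : Odd (Nat.card (Y ⧸ N')) := hYodd.of_dvd_nat (Subgroup.card_quotient_dvd_card N')
    obtain ⟨k, hk⟩ := IsPGroup.iff_card.1 S2.2
    have hk0 : k = 0 := by
      by_contra hk0
      exact AbTwo.not_dvd_of_odd h1 ((dvd_pow_self 2 hk0).trans (hk ▸ Subgroup.card_subgroup_dvd_card _))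
    rw [hk0, pow_zero] at hk
    haveI := (Nat.card_eq_one_iff_unique.1 hk).1
    exact ⟨⟨fun a b => Subsingleton.elim _ _⟩⟩
  have hnormal : (centerThompsonAOf ((P₁.mapSurjective hfs : Sylow 3 (Y ⧸ N')) : Subgroup (Y ⧸ N'))).Normal :=
    centerThompsonA_normal (by norm_num) hconstr
      (fun W _ hW => Local.QdInvolved.isPStableOn_of_not_involves_qd (by norm_num)
        (Local.SL2Involved.not_involves_qd_of_not_involves_SL2
          (Local.SL2Involved.not_involves_SL2_of_abelian_sylow_two (by norm_num) hab2)) W hW) _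
  have hinj : Set.InjOn f ((P₁ : Subgroup Y) : Set Y) := by
    intro a ha b hb e
    have hd := disjoint_iff.1 (Coprime.disjoint_of_coprime_card (H := (P₁ : Subgroup Y)) (K := N') (by
      obtain ⟨k, hk⟩ := IsPGroup.iff_card.1 P₁.2
      rw [hk]; exact hNcop.symm.pow_left k))
    exact inv_mul_eq_one.1 (mem_bot.1 (hd ▸ Subgroup.mem_inf.2
      ⟨mul_mem (inv_mem ha) hb, QuotientGroup.eq.1 e⟩))
  set Z' := centerThompsonAOf (P₁ : Subgroup Y) with hZ'
  have hZn : (Z'.map f).Normal := by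
    rw [hZ', Local.GlaubermanZJ.map_centerThompsonAOf' f _ hinj]
    exact hnormal
  set K := centerThompsonAOf PG with hK
  have hKmap : Z'.map Y.subtype = K := by
    rw [hZ', Local.GlaubermanZJ.map_centerThompsonAOf' Y.subtype _ Y.subtype_injective.injOn]
  set XY := N'.map Y.subtype with hXY
  have hXYodd : Odd (Nat.card XY) := hYodd.of_dvd_nat (card_dvd_of_le (map_subtype_le _))
  have hXYcop : (Nat.card XY).Coprime 3 := by rw [hXY, Core.card_map_subtype]; exact hNcop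
  have htXY : c.t ∈ normalizer (XY : Set G) := Core.normalizer_le_normalizer_map_char N' htY
  have hYXY : Y ≤ normalizer (XY : Set G) := fun g hg =>
    Core.normalizer_le_normalizer_map_char N' (le_normalizer hg)
  have hKP : K ≤ PG := centerThompsonAOf_le _
  have hPGp : IsPGroup 3 PG := P₁.2.map _
  have hKp : IsPGroup 3 K := hPGp.to_le hKP
  have htK : c.t ∈ normalizer (K : Set G) := normalizer_le_normalizer_centerThompsonAOf PG htPG
  have hKX : ∀ g ∈ Y, ∀ r ∈ K, g * r * g⁻¹ ∈ XY ⊔ K := by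
    intro g hg r hr
    rw [← hKmap] at hr ⊢
    obtain ⟨r, hr, rfl⟩ := hr
    have h1 : f (⟨g, hg⟩ * r * (⟨g, hg⟩ : Y)⁻¹) ∈ Z'.map f := by
      rw [map_mul, map_mul, map_inv]
      exact hZn.conj_mem _ ⟨r, hr, rfl⟩ _
    obtain ⟨r', hr', e⟩ := h1
    rw [← Subgroup.map_sup]
    refine ⟨⟨g, hg⟩ * r * (⟨g, hg⟩ : Y)⁻¹, ?_, rfl⟩
    rw [show ⟨g, hg⟩ * r * (⟨g, hg⟩ : Y)⁻¹ = (⟨g, hg⟩ * r * (⟨g, hg⟩ : Y)⁻¹) * r'⁻¹ * r' by group]
    refine mul_mem_sup ((QuotientGroup.eq_one_iff _).1 ?_) hr'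
    show f _ = 1
    rw [map_mul, map_inv f r', ← e, mul_inv_cancel]
  have hUPG : c.U ≤ PG := le_sup_right.trans hVP
  have hXt : ∀ g ∈ XY, g * c.t = c.t * g → g = 1 := by
    intro g hg hgt
    have hgY : g ∈ Y := map_subtype_le _ hg
    have hgU := c.bor_normalizes_U (c.bor_of_mem hn hq hYodd hUY hFY hgY hgt)
    have hd := disjoint_iff.1 (Coprime.disjoint_of_coprime_card (H := c.U) (K := XY) (by
      rw [c.card_U, hq]; exact hXYcop.symm.pow_left n))
    have hcent : ∀ u ∈ c.U, g * u = u * g := fun u hu => by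
      have h1 : g * u * g⁻¹ * u⁻¹ ∈ c.U ⊓ XY := by
        refine Subgroup.mem_inf.2 ⟨mul_mem ((mem_normalizer_iff.1 hgU u).1 hu) (inv_mem hu), ?_⟩
        rw [show g * u * g⁻¹ * u⁻¹ = g * (u * g⁻¹ * u⁻¹) by group]
        exact mul_mem hg ((mem_normalizer_iff.1 (hYXY (hUY hu)) _).1 (inv_mem hg))
      rw [hd, mem_bot, mul_inv_eq_one, mul_inv_eq_iff_eq_mul] at h1
      exact h1
    obtain ⟨s, h | h⟩ := c.cent_t_U hgt hcent
    · rw [← mem_bot, ← hd]
      exact Subgroup.mem_inf.2 ⟨c.mem_U.2 ⟨s, h.symm⟩, hg⟩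
    · exfalso
      have ht : c.t ∈ Y := by
        have hm := mul_mem hgY (inv_mem (hUY (c.mem_U.2 ⟨s, rfl⟩)))
        rwa [h, mul_inv_cancel_right] at hm
      exact c.t_ne (Walter3.eq_one_of_sq_odd (Walter3.odd_orderOf hYodd ht) c.t_sq)
  have hborK : ∀ g ∈ Y, g * c.t = c.t * g → g ∈ normalizer (K : Set G) := fun g hg hgt =>
    c.mem_normalizer_of_fixed hKp hXYcop hXYodd htXY htK
      ((hKP.trans (map_subtype_le _)).trans hYXY) hXt hgt (hKX g hg)
  -- `U` meets `K`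
  have huK : K ≤ centralizer ({c.t} : Set G) → ∃ a, a ≠ 0 ∧ c.u a ∈ K := by
    intro hKt
    by_contra hno
    push Not at hno
    have hKne : K ≠ ⊥ := centerThompsonAOf_ne_bot hPGp fun h => by
      have h1 := hUPG (c.mem_U.2 ⟨1, rfl⟩)
      rw [h, mem_bot] at h1
      exact one_ne_zero (c.u_injective (h1.trans c.u_zero.symm))
    refine hKne (eq_bot_iff.2 fun z hz => mem_bot.2 ?_)
    have hzY : z ∈ Y := map_subtype_le _ (hKP hz)
    have hzt : z * c.t = c.t * z := mem_centralizer_singleton_iff.1 (hKt hz)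
    have hzU := c.bor_normalizes_U (c.bor_of_mem hn hq hYodd hUY hFY hzY hzt)
    have hcent : ∀ u ∈ c.U, z * u = u * z := fun u hu => by
      have h1 : z * u * z⁻¹ * u⁻¹ ∈ c.U := mul_mem ((mem_normalizer_iff.1 hzU u).1 hu) (inv_mem hu)
      have h2 : z * u * z⁻¹ * u⁻¹ ∈ K := by
        rw [show z * u * z⁻¹ * u⁻¹ = z * (u * z⁻¹ * u⁻¹) by group]
        exact mul_mem hz ((mem_normalizer_iff.1 (hborK u (hUY hu) (hUt u hu)) _).1 (inv_mem hz))
      obtain ⟨a, ha⟩ := c.mem_U.1 h1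
      rw [← ha] at h2
      rw [← mul_inv_eq_iff_eq_mul, ← mul_inv_eq_one, ← ha]
      by_cases ha0 : a = 0
      · rw [ha0, c.u_zero]
      · exact absurd h2 (hno a ha0)
    obtain ⟨s, h | h⟩ := c.cent_t_U hzt hcent
    · by_cases hs : s = 0
      · rw [h, hs, c.u_zero]
      · exact absurd (h ▸ hz) (hno s hs)
    · exfalso
      have ht : c.t ∈ Y := by
        have hm := mul_mem hzY (inv_mem (hUY (c.mem_U.2 ⟨s, rfl⟩)))
        rwa [h, mul_inv_cancel_right] at hm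
      exact c.t_ne (Walter3.eq_one_of_sq_odd (Walter3.odd_orderOf hYodd ht) c.t_sq)
  set O := cor (normalizer (K : Set G)) with hO
  have hfacts := fun {g : G} (hg : g ∈ normalizer (K : Set G)) =>
    c.normalizer_cor_facts hn hq h4 hKp htK huK hg
  have hBO : ∀ g, (g ∈ c.U ∨ g ∈ c.H ∨ g ∈ fieldPart c.S) → g ∈ O := fun g hg => by
    have hgY : g ∈ Y := by
      rcases hg with h | h | h
      · exact hUY h
      · exact hHY h
      · exact hFY h
    exact (hfacts (hborK g hgY (c.bor_comm_t (hoddB g hg).1))).1 (hoddB g hg).2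
  have hOodd : Odd (Nat.card O) := odd_cor _
  have htO : c.t ∈ normalizer (O : Set G) := le_normalizer_cor _ htK
  have hPGO : PG ≤ O := c.three_mem_cor hn hq h4 hKp htK huK hPGp
    (le_normalizer.trans (normalizer_le_normalizer_centerThompsonAOf PG))
  have hUO : c.U ≤ O := fun g hg => hBO g (Or.inl hg)
  have hFO : fieldPart c.S ≤ O := fun g hg => hBO g (Or.inr (Or.inr hg))
  have hOmem : O ∈ 𝒴 := ⟨hOodd, htO, hUO, fun g hg => hBO g (Or.inr (Or.inl hg)), hFO⟩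
  have hPcard : Nat.card PG = 3 ^ (Nat.card Y).factorization 3 := by
    rw [hPG, Core.card_map_subtype, P₁.card_eq_multiplicity]
  obtain ⟨P, hPGP⟩ := hPGp.exists_le_sylow
  have hPeq : (P : Subgroup G) = PG := by
    by_contra hne'
    have hlt : PG.subgroupOf (P : Subgroup G) < ⊤ := lt_top_iff_ne_top.2 fun h =>
      hne' (le_antisymm (subgroupOf_eq_top.1 h) hPGP)
    haveI : Group.IsNilpotent (P : Subgroup G) := P.2.isNilpotent
    obtain ⟨w, hwn, hw⟩ := Set.exists_of_ssubset (Group.normalizerCondition_of_isNilpotent _ hlt)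
    have hwP : (w : G) ∈ normalizer (PG : Set G) := Fusion.le_normalizer_of_conj_mem fun x hx =>
      mem_subgroupOf.1 ((mem_normalizer_iff.1 hwn ⟨x, hPGP hx⟩).1 (mem_subgroupOf.2 hx))
    have hS : IsPGroup 3 ↥(PG ⊔ zpowers (w : G)) := P.2.to_le (sup_le hPGP (zpowers_le.2 w.2))
    have hSO : PG ⊔ zpowers (w : G) ≤ O := c.three_mem_cor hn hq h4 hKp htK huK hS
      (sup_le (le_normalizer.trans (normalizer_le_normalizer_centerThompsonAOf PG))
        (zpowers_le.2 (normalizer_le_normalizer_centerThompsonAOf PG hwP)))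
    obtain ⟨j, hj⟩ := IsPGroup.iff_card.1 hS
    have hle : PG ≤ PG ⊔ zpowers (w : G) := le_sup_left
    have h1 : Nat.card PG < Nat.card ↥(PG ⊔ zpowers (w : G)) :=
      lt_of_le_of_ne (Nat.le_of_dvd Nat.card_pos (card_dvd_of_le hle)) fun h =>
        hw (mem_subgroupOf.2 ((eq_of_le_of_card_ge hle h.ge).ge (mem_sup_right (mem_zpowers _))))
    rw [hPcard, hj, Nat.pow_lt_pow_iff_right (by norm_num)] at h1
    have h2 : j ≤ (Nat.card O).factorization 3 :=
      (Nat.prime_three.pow_dvd_iff_le_factorization Nat.card_pos.ne').1 (hj ▸ card_dvd_of_le hSO)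
    have h3 := hmax O hOmem
    omega
  -- the section of `O`
  have hPO : (P : Subgroup G) ≤ O := hPeq ▸ hPGO
  let P' : Sylow 3 O := P.subtype hPO
  haveI := Cfsg.Agent.S0205.result hOodd
  set N0 := Cfsg.pPrimeCore 3 O with hN0
  set g0 := QuotientGroup.mk' N0 with hg0
  have hN0cop : (Nat.card N0).Coprime 3 := Core.pPrimeCore_coprime 3 O
  have hconO := Sig.isPConstrained_iff.1
    (Sig.isPConstrained_of_isPSolvable (Core.isPSolvable_of_isSolvable (G := O) (p := 3)))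
  set Rb := Cfsg.pCore 3 (O ⧸ N0) with hRb
  have hRbP : Rb ≤ (P' : Subgroup O).map g0 := by
    rw [hg0, ← P'.coe_mapSurjective (QuotientGroup.mk'_surjective N0)]
    exact IsPGroup.le_sylow_of_normal (Core.pCore_isPGroup 3 (O ⧸ N0)) _
  set R' := (P' : Subgroup O) ⊓ Rb.comap g0 with hR'
  have hR'map : R'.map g0 = Rb := le_antisymm ((map_mono inf_le_right).trans (map_comap_le _ _))
    fun r hr => by
      obtain ⟨p, hp, rfl⟩ := hRbP hr
      exact ⟨p, Subgroup.mem_inf.2 ⟨hp, hr⟩, rfl⟩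
  set R := R'.map O.subtype with hR
  set X := N0.map O.subtype with hX
  have hmemR : ∀ r, r ∈ R ↔ r ∈ (P : Subgroup G) ∧ ∃ h : r ∈ O, g0 ⟨r, h⟩ ∈ Rb := by
    intro r
    constructor
    · rintro ⟨r, hr, rfl⟩
      exact ⟨mem_subgroupOf.1 hr.1, r.2, hr.2⟩
    · rintro ⟨h1, h2, h3⟩
      exact ⟨⟨r, h2⟩, Subgroup.mem_inf.2 ⟨mem_subgroupOf.2 h1, h3⟩, rfl⟩
  have hRP : R ≤ P := fun r hr => ((hmemR r).1 hr).1
  have hXodd : Odd (Nat.card X) := hOodd.of_dvd_nat (card_dvd_of_le (map_subtype_le _))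
  have hXcop : (Nat.card X).Coprime 3 := by rw [hX, Core.card_map_subtype]; exact hN0cop
  have hOX : O ≤ normalizer (X : Set G) := fun g hg =>
    Core.normalizer_le_normalizer_map_char N0 (le_normalizer hg)
  have htX : c.t ∈ normalizer (X : Set G) := Core.normalizer_le_normalizer_map_char N0 htO
  have hXt' : ∀ g ∈ X, g * c.t = c.t * g → g = 1 := by
    intro g hg hgt
    have hgO : g ∈ O := map_subtype_le _ hg
    have hgU := c.bor_normalizes_U (c.bor_of_mem hn hq hOodd hUO hFO hgO hgt)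
    have hd := disjoint_iff.1 (Coprime.disjoint_of_coprime_card (H := c.U) (K := X) (by
      rw [c.card_U, hq]; exact hXcop.symm.pow_left n))
    have hcent : ∀ u ∈ c.U, g * u = u * g := fun u hu => by
      have h1 : g * u * g⁻¹ * u⁻¹ ∈ c.U ⊓ X := by
        refine Subgroup.mem_inf.2 ⟨mul_mem ((mem_normalizer_iff.1 hgU u).1 hu) (inv_mem hu), ?_⟩
        rw [show g * u * g⁻¹ * u⁻¹ = g * (u * g⁻¹ * u⁻¹) by group]
        exact mul_mem hg ((mem_normalizer_iff.1 (hOX (hUO hu)) _).1 (inv_mem hg))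
      rw [hd, mem_bot, mul_inv_eq_one, mul_inv_eq_iff_eq_mul] at h1
      exact h1
    obtain ⟨s, h | h⟩ := c.cent_t_U hgt hcent
    · rw [← mem_bot, ← hd]
      exact Subgroup.mem_inf.2 ⟨c.mem_U.2 ⟨s, h.symm⟩, hg⟩
    · exfalso
      have ht : c.t ∈ O := by
        have hm := mul_mem hgO (inv_mem (hUO (c.mem_U.2 ⟨s, rfl⟩)))
        rwa [h, mul_inv_cancel_right] at hm
      exact c.t_ne (Walter3.eq_one_of_sq_odd (Walter3.odd_orderOf hOodd ht) c.t_sq)
  have htPs : c.t ∈ normalizer ((P : Subgroup G) : Set G) := by rw [hPeq]; exact htPG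
  have htR : c.t ∈ normalizer (R : Set G) := by
    refine Fusion.le_normalizer_of_conj_mem fun r hr => ?_
    obtain ⟨hrP, hrO, hrb⟩ := (hmemR r).1 hr
    refine (hmemR _).2 ⟨(mem_normalizer_iff.1 htPs r).1 hrP, (mem_normalizer_iff.1 htO r).1 hrO, ?_⟩
    exact pPrimeP_map_le (Local.autOf O ⟨c.t, htO⟩) hrb
  have hRXconj : ∀ g ∈ O, ∀ r ∈ R, g * r * g⁻¹ ∈ X ⊔ R := by
    intro g hg r hr
    obtain ⟨r, hr', rfl⟩ := hr
    have h1 : g0 (⟨g, hg⟩ * r * (⟨g, hg⟩ : O)⁻¹) ∈ R'.map g0 := by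
      rw [hR'map, map_mul, map_mul, map_inv]
      exact (inferInstance : Rb.Normal).conj_mem _ (hR'map ▸ ⟨r, hr', rfl⟩) _
    obtain ⟨r', hr'', e⟩ := h1
    rw [hX, hR, ← Subgroup.map_sup]
    refine ⟨⟨g, hg⟩ * r * (⟨g, hg⟩ : O)⁻¹, ?_, rfl⟩
    rw [show ⟨g, hg⟩ * r * (⟨g, hg⟩ : O)⁻¹ = (⟨g, hg⟩ * r * (⟨g, hg⟩ : O)⁻¹) * r'⁻¹ * r' by group]
    refine mul_mem_sup ((QuotientGroup.eq_one_iff _).1 ?_) hr''
    show g0 _ = 1
    rw [map_mul, map_inv g0 r', ← e, mul_inv_cancel]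
  have hRp : IsPGroup 3 R := P.2.to_le hRP
  have hRX : R ≤ normalizer (X : Set G) := (hRP.trans hPO).trans hOX
  have hPR : (P : Subgroup G) ≤ normalizer (R : Set G) := by
    intro g hg
    refine Fusion.le_normalizer_of_conj_mem fun r hr => ?_
    obtain ⟨hrP, hrO, hrb⟩ := (hmemR r).1 hr
    refine (hmemR _).2 ⟨mul_mem (mul_mem hg hrP) (inv_mem hg),
      mul_mem (mul_mem (hPO hg) hrO) (inv_mem (hPO hg)), ?_⟩
    show g0 (⟨g, hPO hg⟩ * ⟨r, hrO⟩ * (⟨g, hPO hg⟩ : O)⁻¹) ∈ Rb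
    rw [map_mul, map_mul, map_inv]
    exact (inferInstance : Rb.Normal).conj_mem _ hrb _
  have hinter : ∀ g ∈ O, g * c.t = c.t * g → c.Bor g := fun g hg hgt =>
    c.bor_of_mem hn hq hOodd hUO hFO hg hgt
  have hborO : ∀ g, c.Bor g → g ∈ O ⊓ normalizer (R : Set G) := by
    intro g hg
    have hgO : g ∈ O := by
      obtain ⟨s, e, y, rfl⟩ := hg
      exact mul_mem (mul_mem (hUO (c.mem_U.2 ⟨s, rfl⟩)) (hBO _ (Or.inr (Or.inl (c.mem_H.2 ⟨e, rfl⟩)))))
        (hFO y.2)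
    exact Subgroup.mem_inf.2 ⟨hgO, c.mem_normalizer_of_fixed hRp hXcop hXodd htX htR hRX hXt'
      (c.bor_comm_t hg) (hRXconj g hgO)⟩
  have hXcent : ∀ g ∈ X ⊓ normalizer (R : Set G), ∀ r ∈ R, Commute g r := by
    intro g hg r hr
    have hd := disjoint_iff.1 (Coprime.disjoint_of_coprime_card (H := R) (K := X) (by
      obtain ⟨k, hk⟩ := IsPGroup.iff_card.1 hRp
      rw [hk]; exact hXcop.symm.pow_left k))
    have h1 : g * r * g⁻¹ * r⁻¹ ∈ R ⊓ X := by
      refine Subgroup.mem_inf.2 ⟨mul_mem ((mem_normalizer_iff.1 hg.2 r).1 hr) (inv_mem hr), ?_⟩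
      rw [show g * r * g⁻¹ * r⁻¹ = g * (r * g⁻¹ * r⁻¹) by group]
      exact mul_mem hg.1 ((mem_normalizer_iff.1 (hRX hr) _).1 (inv_mem hg.1))
    rw [hd, mem_bot, mul_inv_eq_one] at h1
    exact commute_conj_iff.1 h1
  have hfrat : ∀ g ∈ O, ∃ m ∈ X, m * g ∈ normalizer (R : Set G) := fun g hg =>
    c.conj_mem_of_fixed hRp hXcop hRX (hRXconj g hg)
  have hab : ∀ S2 : Sylow 2 G, IsMulCommutative ↥(S2 : Subgroup G) := c.comm_sylow_two
  -- fusion
  have hcontrols : ∀ x ∈ (P : Subgroup G), ∀ g : G, g * x * g⁻¹ ∈ (P : Subgroup G) →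
      ∃ h ∈ (O ⊓ normalizer (R : Set G)) ⊔ zpowers c.t, h * x * h⁻¹ = g * x * g⁻¹ := by
    have hmain : ∀ o ∈ O, ∀ x ∈ (P : Subgroup G), o * x * o⁻¹ ∈ (P : Subgroup G) →
        ∃ z ∈ O ⊓ normalizer (R : Set G), z * x * z⁻¹ = o * x * o⁻¹ := by
      intro o ho x hx hox
      obtain ⟨m, hm, hmo⟩ := hfrat o ho
      set z := m * o with hz
      have hzO : z ∈ O := mul_mem (map_subtype_le _ hm) ho
      set w := z * x * z⁻¹ with hw
      set w' := o * x * o⁻¹ with hw'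
      have hwN : w ∈ normalizer (R : Set G) := mul_mem (mul_mem hmo (hPR hx)) (inv_mem hmo)
      have hwX : w ∈ normalizer (X : Set G) := hOX (mul_mem (mul_mem hzO (hPO hx)) (inv_mem hzO))
      have hX1 : w' * w⁻¹ ∈ X ⊓ normalizer (R : Set G) := by
        refine Subgroup.mem_inf.2 ⟨?_, mul_mem (hPR hox) (inv_mem hwN)⟩
        rw [show w' * w⁻¹ = m⁻¹ * (w * m * w⁻¹) by rw [hw, hw', hz]; group]
        exact mul_mem (inv_mem hm) ((mem_normalizer_iff.1 hwX m).1 hm)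
      have ho3 : orderOf w = orderOf x := MulEquiv.orderOf_eq (MulAut.conj z) x
      obtain ⟨j, hj⟩ := c.pgroup_pow P.2 hx
      obtain ⟨k, hk, e⟩ := exists_conj_eq (K := X ⊓ normalizer (R : Set G)) (a := w) (b := w') (by
          rw [ho3]
          exact Nat.Coprime.coprime_dvd_left (orderOf_dvd_of_pow_eq_one hj)
            (Nat.Coprime.coprime_dvd_right (card_dvd_of_le inf_le_left) (hXcop.symm.pow_left j)))
        (inf_normalizer_le_normalizer_inf (Subgroup.mem_inf.2 ⟨hwX, le_normalizer hwN⟩)) hX1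
        (by rw [ho3]; exact MulEquiv.orderOf_eq (MulAut.conj o) x)
      refine ⟨k * z, Subgroup.mem_inf.2 ⟨mul_mem (map_subtype_le _ hk.1) hzO, mul_mem hk.2 hmo⟩, ?_⟩
      rw [← e, hw]
      group
    intro x hx g hg
    obtain ⟨h, hh, he⟩ := controls_zj (p := 3) (by norm_num) hab P hx g hg
    rw [hPeq] at hh
    rcases (hfacts hh).2 with ho | ho
    · obtain ⟨z, hz, e⟩ := hmain h ho x hx (he ▸ hg)
      exact ⟨z, mem_sup_left hz, e.trans he⟩
    · have h1 : c.t * h * x * (c.t * h)⁻¹ = c.t * (g * x * g⁻¹) * c.t⁻¹ := by rw [← he]; group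
      obtain ⟨z, hz, e⟩ := hmain _ ho x hx (h1 ▸ (mem_normalizer_iff.1 htPs _).1 hg)
      refine ⟨c.t * z, mul_mem (mem_sup_right (mem_zpowers _)) (mem_sup_left hz), ?_⟩
      calc c.t * z * x * (c.t * z)⁻¹ = c.t * (z * x * z⁻¹) * c.t⁻¹ := by group
        _ = c.t * c.t * (g * x * g⁻¹) * (c.t * c.t)⁻¹ := by rw [e, h1]; group
        _ = g * x * g⁻¹ := by rw [c.t_sq]; group
  -- the elements centralizing `R`
  have hcentR : ∀ (v : O), (∀ r ∈ R, Commute (v : G) r) →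
      g0 v ∈ centralizer (Rb : Set (O ⧸ N0)) := by
    intro v hv
    refine mem_centralizer_iff.2 fun r hr => ?_
    rw [SetLike.mem_coe, ← hR'map] at hr
    obtain ⟨r', hr', rfl⟩ := hr
    rw [← map_mul, ← map_mul]
    exact congrArg g0 (Subtype.ext (hv r' ⟨r', hr', rfl⟩).eq.symm)
  have hcore : ∀ J ≤ O ⊓ normalizer (R : Set G),
      O ⊓ normalizer (R : Set G) ≤ normalizer (J : Set G) →
      (∀ g ∈ J, ∃ k, ∀ r ∈ R, Commute (g ^ 3 ^ k) r) → J ≤ R ⊔ (X ⊓ normalizer (R : Set G)) := by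
    intro J hJ hJn hJc
    set Jb := (J.subgroupOf O).map g0
    have hJbn : Jb.Normal := ⟨fun v hv w => by
      obtain ⟨j, hj, rfl⟩ := hv
      obtain ⟨o, rfl⟩ := QuotientGroup.mk'_surjective N0 w
      obtain ⟨m, ⟨m, hm, rfl⟩, hmo⟩ := hfrat o o.2
      have h1 : g0 o = g0 (m * o) := by
        rw [map_mul, show g0 m = 1 from (QuotientGroup.eq_one_iff m).2 hm, one_mul]
      rw [h1, ← map_inv, ← map_mul, ← map_mul]
      refine ⟨m * o * j * (m * o)⁻¹, mem_subgroupOf.2 ?_, rfl⟩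
      exact (mem_normalizer_iff.1 (hJn (Subgroup.mem_inf.2 ⟨(m * o).2, hmo⟩)) _).1 (mem_subgroupOf.1 hj)⟩
    have hJbp : IsPGroup 3 Jb := by
      rintro ⟨_, j, hj, rfl⟩
      obtain ⟨k, hk⟩ := hJc _ (mem_subgroupOf.1 hj)
      have h1 : g0 (j ^ 3 ^ k) ∈ Rb := hconO (hcentR _ (by simpa using hk))
      obtain ⟨i, hi⟩ := Core.pCore_isPGroup 3 (O ⧸ N0) ⟨_, h1⟩
      refine ⟨k + i, Subtype.ext ?_⟩
      show g0 j ^ 3 ^ (k + i) = 1
      rw [pow_add, pow_mul, ← map_pow g0 j]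
      exact congrArg Subtype.val hi
    have hle : Jb ≤ Rb := Core.le_pCore' hJbn hJbp
    intro v hv
    have hvO : v ∈ O := (hJ hv).1
    have h1 : g0 ⟨v, hvO⟩ ∈ R'.map g0 := hR'map ▸ hle ⟨⟨v, hvO⟩, mem_subgroupOf.2 hv, rfl⟩
    obtain ⟨r, hr, e⟩ := h1
    have hrR : (r : G) ∈ R := ⟨r, hr, rfl⟩
    have e' : r⁻¹ * (⟨v, hvO⟩ : O) ∈ N0 := QuotientGroup.eq.1 e
    have h2 : (r : G)⁻¹ * v ∈ X := ⟨r⁻¹ * ⟨v, hvO⟩, e', rfl⟩
    rw [show v = (r : G) * ((r : G)⁻¹ * v) by group]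
    exact mul_mem_sup hrR (Subgroup.mem_inf.2 ⟨h2, mul_mem (inv_mem (le_normalizer hrR)) (hJ hv).2⟩)
  have hRne : R ≠ ⊥ := by
    intro h0
    have hRb0 : Rb = ⊥ := by
      have h1 : R' = ⊥ := (Subgroup.map_eq_bot_iff_of_injective _ O.subtype_injective).1 h0
      rw [← hR'map, h1, Subgroup.map_bot]
    have htop : (⊤ : Subgroup (O ⧸ N0)) ≤ ⊥ := by
      refine le_trans (fun v _ => mem_centralizer_iff.2 fun r hr => ?_) (hRb0 ▸ hconO)
      rw [mem_bot.1 (hr : r ∈ (⊥ : Subgroup _)), one_mul, mul_one]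
    have hu : c.u 1 ∈ X := by
      refine ⟨⟨c.u 1, hUO (c.mem_U.2 ⟨1, rfl⟩)⟩, (QuotientGroup.eq_one_iff _).1 (mem_bot.1 (htop (mem_top _))), rfl⟩
    exact one_ne_zero (c.u_injective ((hXt' _ hu (c.u_comm_t 1)).trans c.u_zero.symm))
  exact ⟨{
    O := O, P := P, R := R, X := X
    odd_O := hOodd
    t_O := htO
    P_O := hPO
    t_P := htPs
    U_P := hPeq ▸ hUPG
    field_P := fun y hy => hPeq ▸ hVP (mem_sup_left (hF3mem y hy))
    inter := hinter
    bor_O := hborO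
    R_P := hRP
    R_ne := hRne
    P_R := hPR
    t_R := htR
    inter_R := fun g hg hgt => c.mem_U_of_normal hn hq hRp
      (fun a => (hborO _ (c.bor_d a)).2) hg (hinter g ((hRP.trans hPO) hg) hgt)
    X_O := map_subtype_le _
    X_cop := hXcop
    O_X := hOX
    t_X := htX
    X_t := hXt'
    X_cent := hXcent
    controls := hcontrols
    core := hcore }⟩

end Cfg

end Cfsg.Lib.Walter3.Field
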