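import Cfsg.Agent.Lib.Walter3.Field.Loc

/-!
# The action of the three-local subgroup on the Frattini quotient of `R`

The kernel on `O ⊓ N(R)` is `R (X ⊓ N(R))`, fixed points lift, split torus elements act without
fixed points, and no `t`-invariant character of `O ⊓ N(R)` is nontrivial on `P`.
-/

set_option autoImplicit false
set_option linter.unusedSectionVars false
set_option linter.style.haveILetI false

namespace Cfsg.Lib.Walter3.Field

open Subgroup Cfsg Cfsg.Lib Matrix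
open Cfsg.Lib.TwoDim (splitSL)
open scoped MatrixGroups

universe u

namespace Cfg

variable {G : Type u} [Group G] [Finite G] {F : Type} [Field F] [Fintype F] {c : Cfg G F} {n : ℕ}

namespace Loc

variable (L : c.Loc n)
include L

/-- The part of `O` normalizing `R`. -/
abbrev N0 : Subgroup G := L.O ⊓ normalizer (L.R : Set G)

/-- The part of the `3'`-core normalizing `R`. -/
abbrev X1 : Subgroup G := L.X ⊓ normalizer (L.R : Set G)

theorem pgroup_R : IsPGroup 3 L.R := L.P.2.to_le L.R_P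

theorem R_le_N0 : L.R ≤ L.N0 := le_inf (L.R_P.trans L.P_O) le_normalizer

theorem P_le_N0 : (L.P : Subgroup G) ≤ L.N0 := le_inf L.P_O L.P_R

theorem RX_le_N0 : L.R ⊔ L.X1 ≤ L.N0 :=
  sup_le L.R_le_N0 (inf_le_inf_right _ L.X_O)

theorem odd_N0 : Odd (Nat.card L.N0) := L.odd_O.of_dvd_nat (card_dvd_of_le inf_le_left)

theorem t_N0 : c.t ∈ normalizer (L.N0 : Set G) :=
  inf_normalizer_le_normalizer_inf (Subgroup.mem_inf.2 ⟨L.t_O, le_normalizer L.t_R⟩)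

theorem t_notMem : c.t ∉ L.N0 := fun h =>
  c.t_ne (Walter3.eq_one_of_sq_odd (Walter3.odd_orderOf L.odd_N0 h) c.t_sq)

theorem U_le_N0 : c.U ≤ L.N0 := fun g hg => by
  obtain ⟨a, rfl⟩ := c.mem_U.1 hg; exact L.bor_O _ (c.bor_u a)

theorem H_le_N0 : c.H ≤ L.N0 := fun g hg => by
  obtain ⟨a, rfl⟩ := c.mem_H.1 hg; exact L.bor_O _ (c.bor_d a)

theorem F_le_N0 : fieldPart c.S ≤ L.N0 := fun g hg => L.bor_O _ (c.bor_y ⟨g, hg⟩)

theorem decomp_RX {g : G} (hg : g ∈ L.R ⊔ L.X1) : ∃ r ∈ L.R, ∃ z ∈ L.X1, g = r * z :=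
  Coprime.exists_mul_of_mem_sup (inf_le_right : L.X1 ≤ normalizer (L.R : Set G)) hg

theorem frAut_RX {g : G} (hN : g ∈ normalizer (L.R : Set G)) (hg : g ∈ L.R ⊔ L.X1) :
    frAut L.R ⟨g, hN⟩ = 1 := by
  haveI : Fact (Nat.Prime 3) := ⟨Nat.prime_three⟩
  obtain ⟨r, hr, z, hz, rfl⟩ := L.decomp_RX hg
  rw [show (⟨r * z, hN⟩ : normalizer (L.R : Set G)) = ⟨r, le_normalizer hr⟩ * ⟨z, hz.2⟩ from rfl,
    map_mul, frAut_of_mem L.pgroup_R (g := ⟨r, le_normalizer hr⟩) hr,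
    frAut_of_centralizes (g := ⟨z, hz.2⟩) (fun v hv => L.X_cent z hz v hv), one_mul]

theorem commute_pow_of_frAut {g : G} (hN : g ∈ normalizer (L.R : Set G))
    (h : frAut L.R ⟨g, hN⟩ = 1) : ∃ k, ∀ r ∈ L.R, Commute (g ^ 3 ^ k) r := by
  haveI : Fact (Nat.Prime 3) := ⟨Nat.prime_three⟩
  have hm : Local.autOf L.R ⟨g, hN⟩ ∈ PGroup.frattiniStab L.R := PGroup.mem_frattiniStab.2 fun r => by
    have h1 := DFunLike.congr_fun h (r : FQ L.R)
    rw [frAut_mk, MulAut.one_apply, eq_comm, QuotientGroup.eq] at h1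
    exact h1
  obtain ⟨k, hk⟩ := PGroup.isPGroup_frattiniStab L.pgroup_R ⟨_, hm⟩
  refine ⟨k, fun r hr => ?_⟩
  have h2 : Local.autOf L.R (⟨g, hN⟩ ^ 3 ^ k) = 1 := by rw [map_pow]; exact congrArg Subtype.val hk
  exact (mem_centralizer_iff.1 ((Local.autOf_eq_one_iff _ _).1 h2) r hr).symm

/-- A normal subgroup acting as a three-group acts trivially. -/
theorem core' {J : Subgroup G} (hJ : J ≤ L.N0) (hn : L.N0 ≤ normalizer (J : Set G))
    (hJ3 : ∀ g (hg : g ∈ J), ∃ k, frAut L.R ⟨g, (hJ hg).2⟩ ^ 3 ^ k = 1) : J ≤ L.R ⊔ L.X1 := by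
  refine L.core J hJ hn fun g hg => ?_
  obtain ⟨k, hk⟩ := hJ3 g hg
  rw [← map_pow] at hk
  obtain ⟨i, hi⟩ := L.commute_pow_of_frAut (g := g ^ 3 ^ k) (pow_mem (hJ hg).2 _) hk
  exact ⟨k + i, fun r hr => by rw [pow_add, pow_mul]; exact hi r hr⟩

/-- The action of `N0`. -/
noncomputable def act : L.N0 →* MulAut (FQ L.R) :=
  (frAut L.R).comp (Subgroup.inclusion (inf_le_right : L.N0 ≤ normalizer (L.R : Set G)))

theorem act_apply {g : G} (hg : g ∈ L.N0) :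
    L.act ⟨g, hg⟩ = frAut L.R ⟨g, (Subgroup.mem_inf.1 hg).2⟩ := rfl

/-- The kernel of the action on `N0`. -/
theorem mem_RX_of_frAut {g : G} (hg : g ∈ L.N0)
    (h : frAut L.R ⟨g, (Subgroup.mem_inf.1 hg).2⟩ = 1) : g ∈ L.R ⊔ L.X1 := by
  set J := L.act.ker.map L.N0.subtype with hJ
  have hle : J ≤ L.N0 := map_subtype_le _
  have hn : L.N0 ≤ normalizer (J : Set G) := fun v hv => by
    refine Fusion.le_normalizer_of_conj_mem fun w hw => ?_
    obtain ⟨w, hw', rfl⟩ := Subgroup.mem_map.1 hw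
    refine Subgroup.mem_map.2 ⟨⟨v, hv⟩ * w * (⟨v, hv⟩ : L.N0)⁻¹, ?_, by simp⟩
    rw [MonoidHom.mem_ker] at hw' ⊢
    rw [map_mul, map_mul, map_inv, hw', mul_one, mul_inv_cancel]
  have hJ3 : ∀ v ∈ J, ∃ k, ∀ r ∈ L.R, Commute (v ^ 3 ^ k) r := fun v hv => by
    obtain ⟨⟨w, hw⟩, hw', hwv⟩ := Subgroup.mem_map.1 hv
    rw [MonoidHom.mem_ker, L.act_apply hw] at hw'
    rw [← hwv]
    exact L.commute_pow_of_frAut (Subgroup.mem_inf.1 hw).2 hw'
  have hgJ : g ∈ J := Subgroup.mem_map.2 ⟨⟨g, hg⟩, MonoidHom.mem_ker.2 ((L.act_apply hg).trans h), rfl⟩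
  exact L.core J hle hn hJ3 hgJ

theorem inter_RX {g : G} (hg : g ∈ L.R ⊔ L.X1) (hgt : g * c.t = c.t * g) : g ∈ c.U := by
  obtain ⟨r, hr, z, hz, rfl⟩ := L.decomp_RX hg
  have hd := disjoint_iff.1 (Coprime.disjoint_of_coprime_card (H := L.R) (K := L.X) (by
    haveI : Fact (Nat.Prime 3) := ⟨Nat.prime_three⟩
    obtain ⟨k, hk⟩ := IsPGroup.iff_card.1 L.pgroup_R
    rw [hk]; exact L.X_cop.symm.pow_left k))
  set r' := c.t * r * c.t⁻¹ with hr'
  set z' := c.t * z * c.t⁻¹ with hz'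
  have hr'R : r' ∈ L.R := (mem_normalizer_iff.1 L.t_R r).1 hr
  have hz'1 : z' = r'⁻¹ * r * z := by
    have h : r' * z' = r * z := by
      rw [hr', hz', show c.t * r * c.t⁻¹ * (c.t * z * c.t⁻¹) = c.t * (r * z) * c.t⁻¹ by group,
        ← hgt, mul_inv_cancel_right]
    rw [mul_assoc, ← h, inv_mul_cancel_left]
  have h1 : r'⁻¹ * r ∈ L.R ⊓ L.X := by
    refine Subgroup.mem_inf.2 ⟨mul_mem (inv_mem hr'R) hr, ?_⟩
    rw [show r'⁻¹ * r = z' * z⁻¹ by rw [hz'1, mul_inv_cancel_right]]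
    exact mul_mem ((mem_normalizer_iff.1 L.t_X z).1 hz.1) (inv_mem hz.1)
  rw [hd, mem_bot] at h1
  rw [h1, one_mul] at hz'1
  have hzt : z * c.t = c.t * z := (show Commute c.t z from commute_conj_iff.1 hz'1).eq.symm
  rw [L.X_t z hz.1 hzt, mul_one] at hgt ⊢
  exact L.inter_R r hr hgt

/-- Fixed points of a coprime element lift. -/
theorem lift_commute {a g : G} (ha : a ∈ normalizer (L.O : Set G))
    (haR : a ∈ normalizer (L.R : Set G)) (haX : a ∈ normalizer (L.X : Set G)) (hg : g ∈ L.N0)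
    (hcop : (orderOf a).Coprime (Nat.card ↥(L.R ⊔ L.X1)))
    (hc : Commute (frAut L.R ⟨g, hg.2⟩) (frAut L.R ⟨a, haR⟩)) :
    ∃ m ∈ L.R ⊔ L.X1, Commute a (m * g) := by
  have hmem : g * a * g⁻¹ * a⁻¹ ∈ L.N0 := by
    rw [show g * a * g⁻¹ * a⁻¹ = g * (a * g⁻¹ * a⁻¹) by group]
    refine mul_mem hg ((mem_normalizer_iff.1 ?_ _).1 (inv_mem hg))
    exact inf_normalizer_le_normalizer_inf (Subgroup.mem_inf.2 ⟨ha, le_normalizer haR⟩)
  have hK : a ∈ normalizer (L.R ⊔ L.X1 : Subgroup G) := by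
    refine Fusion.le_normalizer_of_conj_mem fun v hv => ?_
    obtain ⟨r, hr, z, hz, rfl⟩ := L.decomp_RX hv
    rw [show a * (r * z) * a⁻¹ = a * r * a⁻¹ * (a * z * a⁻¹) by group]
    exact mul_mem_sup ((mem_normalizer_iff.1 haR r).1 hr)
      (Subgroup.mem_inf.2 ⟨(mem_normalizer_iff.1 haX z).1 hz.1, mul_mem (mul_mem haR hz.2) (inv_mem haR)⟩)
  refine exists_lift_commute hcop hK (L.mem_RX_of_frAut hmem ?_)
  rw [show (⟨g * a * g⁻¹ * a⁻¹, hmem.2⟩ : normalizer (L.R : Set G)) =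
    ⟨g, hg.2⟩ * ⟨a, haR⟩ * (⟨g, hg.2⟩ : normalizer (L.R : Set G))⁻¹ *
      (⟨a, haR⟩ : normalizer (L.R : Set G))⁻¹ from rfl, map_mul, map_mul, map_mul, map_inv, map_inv,
    hc.eq, mul_inv_cancel_right, mul_inv_cancel]

/-- Split torus elements have no fixed points on `R`. -/
theorem fpf (hn : n ≠ 0) (hq : Fintype.card F = 3 ^ n) (h4 : Fintype.card F % 4 = 3) {h : G}
    (hH : h ∈ c.H) (h1 : h ≠ 1) {r : G} (hr : r ∈ L.R) (hc : Commute h r) : r = 1 := by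
  set Q := L.R ⊓ centralizer ({h} : Set G)
  have hQt : c.t ∈ normalizer (Q : Set G) := by
    refine Fusion.le_normalizer_of_conj_mem fun v hv => Subgroup.mem_inf.2
      ⟨(mem_normalizer_iff.1 L.t_R v).1 hv.1, mem_centralizer_singleton_iff.2 ?_⟩
    have hv' : Commute v h := mem_centralizer_singleton_iff.1 hv.2
    obtain ⟨a, rfl⟩ := c.mem_H.1 hH
    have ht : Commute c.t (c.d a) := (c.d_comm_t a).symm
    exact ((ht.mul_left hv').mul_left ht.inv_left).eq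
  have hrt := c.cent_H_three hn hq h4 hH h1 (L.pgroup_R.to_le inf_le_left)
    (fun v hv => (mem_centralizer_singleton_iff.1 hv.2 : Commute v h).symm) hQt
    (Subgroup.mem_inf.2 ⟨hr, mem_centralizer_singleton_iff.2 hc.eq.symm⟩)
  obtain ⟨b, rfl⟩ := c.mem_U.1 (L.inter_R r hr (mem_centralizer_singleton_iff.1 hrt))
  obtain ⟨a, rfl⟩ := c.mem_H.1 hH
  have e := commute_conj_iff.2 hc
  rw [c.d_u] at e
  have h2 := c.u_injective e
  by_contra hb
  have hb0 : b ≠ 0 := fun h0 => hb (by rw [h0, c.u_zero])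
  rw [mul_eq_right₀ hb0, sq_eq_one_iff] at h2
  exact h1 (c.d_eq_one.2 (h2.imp (fun e => Units.ext e) fun e => Units.ext (by simpa using e)))

theorem orderOf_H_coprime (hn : n ≠ 0) (hq : Fintype.card F = 3 ^ n) {h : G} (hH : h ∈ c.H) :
    (orderOf h).Coprime 3 :=
  (c.coprime_three_H hn hq).coprime_dvd_left (Subgroup.orderOf_dvd_natCard _ hH)

/-- Split torus elements have no fixed points on the Frattini quotient. -/
theorem fpf_fq (hn : n ≠ 0) (hq : Fintype.card F = 3 ^ n) (h4 : Fintype.card F % 4 = 3) {h : G}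
    (hH : h ∈ c.H) (h1 : h ≠ 1) :
    ∀ w : FQ L.R, frAut L.R ⟨h, (L.H_le_N0 hH).2⟩ w = w → w = 1 :=
  haveI : Fact (Nat.Prime 3) := ⟨Nat.prime_three⟩
  fpf_frAut L.pgroup_R _ (L.orderOf_H_coprime hn hq hH) fun _ hr hc => L.fpf hn hq h4 hH h1 hr hc

theorem frAut_ne_one (hn : n ≠ 0) (hq : Fintype.card F = 3 ^ n) (h4 : Fintype.card F % 4 = 3) {h : G}
    (hH : h ∈ c.H) (h1 : h ≠ 1) : frAut L.R ⟨h, (L.H_le_N0 hH).2⟩ ≠ 1 := by
  haveI : Fact (Nat.Prime 3) := ⟨Nat.prime_three⟩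
  obtain ⟨w, hw⟩ := exists_ne_one_fq (p := 3) L.R_ne
  exact fun e => hw (L.fpf_fq hn hq h4 hH h1 w (by rw [e]; rfl))

/-- The primes of fixed-point-free elements do not divide the order of the `3'`-core. -/
theorem not_dvd_X {h : G} {s : ℕ} (hs : s.Prime) (ho : orderOf h = s) (hO : h ∈ L.O)
    (hfix : ∀ z ∈ L.X, Commute h z → z = 1) : ¬ s ∣ Nat.card L.X := by
  intro hd
  haveI := Fact.mk hs
  set Z := zpowers h
  have hZ : IsPGroup s Z := IsPGroup.of_card (n := 1) (by rw [Nat.card_zpowers, ho, pow_one])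
  have hn : Z ≤ normalizer (L.X : Set G) := zpowers_le.2 (L.O_X hO)
  let φ : Z →* MulAut L.X := (Local.autOf L.X).comp (Subgroup.inclusion hn)
  letI : MulAction Z L.X := MulAction.compHom L.X φ
  obtain ⟨v, hv, hne⟩ := hZ.exists_fixed_point_of_prime_dvd_card_of_fixed_point (α := L.X) hd
    (a := 1) (fun g => map_one (φ g))
  refine hne (Subtype.ext (hfix v v.2 ?_)).symm
  exact commute_conj_iff.1 (congrArg Subtype.val (hv ⟨h, mem_zpowers h⟩))

/-- No invariant character of `N0` is nontrivial on `P`. -/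
theorem char_eq_one {B : Type u} [CommGroup B] (ψ : L.N0 →* B)
    (hinv : ∀ g : L.N0, ψ ⟨c.t * g * c.t⁻¹, (mem_normalizer_iff.1 L.t_N0 _).1 g.2⟩ = ψ g) {x : G}
    (hx : x ∈ (L.P : Subgroup G)) : ψ ⟨x, L.P_le_N0 hx⟩ = 1 := by
  haveI : Fact (Nat.Prime 3) := ⟨Nat.prime_three⟩
  haveI := c.hyp.simple
  obtain ⟨Ψ, hΨ⟩ := exists_extend c.t_sq L.t_N0 L.t_notMem ψ hinv
  rw [← hΨ]
  exact eq_one_of_controls c.hyp.nonab L.P (M := L.N0 ⊔ zpowers c.t)
    (L.P_le_N0.trans le_sup_left) L.controls Ψ hx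

end Loc

end Cfg

end Cfsg.Lib.Walter3.Field
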