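import Cfsg.Agent.Lib.Walter3.Field.FreeFixed
import Cfsg.Agent.Lib.Coprime.Action
import Cfsg.Agent.Lib.Local.PrimeOrderOperator
import Cfsg.Agent.Lib.PGroup.FrattiniStab

/-!
# Group-theoretic tools for the three-local analysis

Lifting of fixed points, the action on the Frattini quotient, and the order of a `p`-group under a
Frobenius group of operators whose kernel has no fixed points.
-/

set_option autoImplicit false
set_option linter.style.haveILetI false
set_option linter.unusedSectionVars false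

namespace Cfsg.Lib.Walter3.Field

open Subgroup Cfsg Cfsg.Lib

universe u

variable {G : Type u} [Group G] [Finite G]

theorem exists_conj_eq {K : Subgroup G} {a b : G} (hcop : (orderOf a).Coprime (Nat.card K))
    (haK : a ∈ normalizer (K : Set G)) (hb : b * a⁻¹ ∈ K) (ho : orderOf b = orderOf a) :
    ∃ n ∈ K, n * a * n⁻¹ = b := by
  haveI : IsMulCommutative (zpowers a) := IsCyclic.isMulCommutative
  have hab : zpowers b ≤ K ⊔ zpowers a := zpowers_le.2 (by
    rw [show b = b * a⁻¹ * a by group]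
    exact mul_mem_sup hb (mem_zpowers a))
  obtain ⟨n, hn, e⟩ := Coprime.exists_conj_of_coprime K (zpowers a) (zpowers b) (zpowers_le.2 haK)
    (by rwa [Nat.card_zpowers]) (Or.inl (Group.isSolvable_of_comm fun x y => mul_comm' x y)) hab
    (by rw [Nat.card_zpowers, Nat.card_zpowers, ho])
  refine ⟨n, hn, ?_⟩
  have hbm : b ∈ (zpowers a).map (MulAut.conj n).toMonoidHom := e ▸ mem_zpowers b
  obtain ⟨v, hv, hv'⟩ := hbm
  change n * v * n⁻¹ = b at hv'
  have hd : v * a⁻¹ ∈ K ⊓ zpowers a := by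
    refine Subgroup.mem_inf.2 ⟨?_, mul_mem hv (inv_mem (mem_zpowers a))⟩
    rw [show v * a⁻¹ = n⁻¹ * (b * a⁻¹) * (a * n * a⁻¹) by rw [← hv']; group]
    exact mul_mem (mul_mem (inv_mem hn) hb) ((mem_normalizer_iff.1 haK n).1 hn)
  have h1 : v * a⁻¹ = 1 := by
    rw [← mem_bot, ← disjoint_iff.1 (Coprime.disjoint_of_coprime_card (H := K) (K := zpowers a)
      (by rw [Nat.card_zpowers]; exact hcop.symm))]
    exact hd
  rw [mul_inv_eq_one.1 h1] at hv'
  exact hv'

/-- Fixed points modulo a subgroup of coprime order lift. -/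
theorem exists_lift_commute {K : Subgroup G} {a g : G} (hcop : (orderOf a).Coprime (Nat.card K))
    (haK : a ∈ normalizer (K : Set G)) (hg : g * a * g⁻¹ * a⁻¹ ∈ K) :
    ∃ n ∈ K, Commute a (n * g) := by
  obtain ⟨n, hn, e⟩ := exists_conj_eq hcop haK (b := g * a * g⁻¹) hg
    (show orderOf (MulAut.conj g a) = _ from MulEquiv.orderOf_eq _ a)
  refine ⟨n⁻¹, inv_mem hn, ?_⟩
  show a * (n⁻¹ * g) = n⁻¹ * g * a
  calc a * (n⁻¹ * g) = n⁻¹ * (n * a * n⁻¹) * g := by group
    _ = n⁻¹ * g * a := by rw [e]; group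

omit [Finite G] in
theorem commute_conj_iff {a g : G} : a * g * a⁻¹ = g ↔ Commute a g := mul_inv_eq_iff_eq_mul

/-! ### The action on the Frattini quotient -/

/-- The Frattini quotient of a subgroup. -/
abbrev FQ (R : Subgroup G) : Type u := R ⧸ frattini R

theorem fq_comm {p : ℕ} [Fact p.Prime] {R : Subgroup G} (hR : IsPGroup p R) :
    ∀ a b : FQ R, a * b = b * a := by
  haveI : IsMulCommutative (FQ R) :=
    Subgroup.Normal.quotient_commutative_iff_commutator_le.mpr (PGroup.commutator_le_frattini hR)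
  exact fun a b => mul_comm' a b

/-- The action of the normalizer on the Frattini quotient. -/
noncomputable def frAut (R : Subgroup G) : normalizer (R : Set G) →* MulAut (FQ R) where
  toFun g := QuotientGroup.congr (frattini R) (frattini R) (Local.autOf R g)
    (characteristic_iff_map_eq.1 frattini_characteristic _)
  map_one' := MulEquiv.ext fun z => by
    obtain ⟨a, rfl⟩ := QuotientGroup.mk'_surjective _ z
    show QuotientGroup.mk' _ (Local.autOf R 1 a) = _
    rw [map_one]; rfl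
  map_mul' g h := MulEquiv.ext fun z => by
    obtain ⟨a, rfl⟩ := QuotientGroup.mk'_surjective _ z
    show QuotientGroup.mk' _ (Local.autOf R (g * h) a) =
      QuotientGroup.mk' _ (Local.autOf R g (Local.autOf R h a))
    rw [map_mul]; rfl

theorem frAut_mk {R : Subgroup G} (g : normalizer (R : Set G)) (r : R) :
    frAut R g (r : FQ R) = ((⟨(g : G) * r * (g : G)⁻¹, (mem_normalizer_iff.1 g.2 _).1 r.2⟩ : R) : FQ R) :=
  rfl

theorem frAut_of_centralizes {R : Subgroup G} {g : normalizer (R : Set G)}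
    (h : ∀ r ∈ R, Commute (g : G) r) : frAut R g = 1 := by
  refine MulEquiv.ext fun z => ?_
  obtain ⟨r, rfl⟩ := QuotientGroup.mk_surjective z
  rw [frAut_mk]
  exact congrArg QuotientGroup.mk (Subtype.ext (commute_conj_iff.2 (h r r.2)))

theorem frAut_of_mem {p : ℕ} [Fact p.Prime] {R : Subgroup G} (hR : IsPGroup p R)
    {g : normalizer (R : Set G)} (h : (g : G) ∈ R) : frAut R g = 1 := by
  refine MulEquiv.ext fun z => ?_
  obtain ⟨r, rfl⟩ := QuotientGroup.mk_surjective z
  rw [frAut_mk]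
  show ((⟨(g : G), h⟩ * r * ⟨(g : G), h⟩⁻¹ : R) : FQ R) = (r : FQ R)
  rw [QuotientGroup.mk_mul, QuotientGroup.mk_mul, fq_comm hR, ← mul_assoc, ← QuotientGroup.mk_mul,
    inv_mul_cancel, QuotientGroup.mk_one, one_mul]

theorem fq_pow {p : ℕ} [Fact p.Prime] {R : Subgroup G} (hR : IsPGroup p R) (w : FQ R) : w ^ p = 1 :=
  (PGroup.isElementaryAbelian_quotient_frattini hR).2 w (mem_top w)

theorem exists_ne_one_fq {p : ℕ} [Fact p.Prime] {R : Subgroup G} (hne : R ≠ ⊥) : ∃ w : FQ R, w ≠ 1 := by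
  haveI : Nontrivial R := R.nontrivial_iff_ne_bot.2 hne
  by_contra hall
  push Not at hall
  have h1 : frattini R = ⊤ := eq_top_iff.2 fun x _ => (QuotientGroup.eq_one_iff x).1 (hall _)
  exact bot_ne_top (frattini_nongenerating (K := (⊥ : Subgroup R)) (by rw [h1, bot_sup_eq]))

/-- Fixed-point-free on `R` gives fixed-point-free on the Frattini quotient, coprimely. -/
theorem fpf_frAut {p : ℕ} [Fact p.Prime] {R : Subgroup G} (hR : IsPGroup p R) {h : G}
    (hh : h ∈ normalizer (R : Set G)) (hcop : (orderOf h).Coprime p)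
    (hfpf : ∀ r ∈ R, Commute h r → r = 1) : ∀ w : FQ R, frAut R ⟨h, hh⟩ w = w → w = 1 := by
  intro w hw
  obtain ⟨r, rfl⟩ := QuotientGroup.mk_surjective w
  rw [frAut_mk, QuotientGroup.eq] at hw
  set N := (frattini R).map R.subtype
  have hN : h ∈ normalizer (N : Set G) := Core.normalizer_le_normalizer_map_char (frattini R) hh
  have hNp : IsPGroup p N := (hR.to_subgroup (frattini R)).map R.subtype
  have hc : (orderOf h).Coprime (Nat.card N) := by
    obtain ⟨k, hk⟩ := IsPGroup.iff_card.1 hNp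
    rw [hk]
    exact hcop.pow_right k
  -- `h r⁻¹ h⁻¹ r ∈ Φ(R)`
  have hmem : (h * (r : G) * h⁻¹)⁻¹ * r ∈ N := ⟨_, hw, rfl⟩
  obtain ⟨n, hn, e⟩ := exists_lift_commute hc hN (g := (r : G)⁻¹) (by
    have h1 := (mem_normalizer_iff.1 hN _).1 ((mem_normalizer_iff.1 (inv_mem hN) _).1 hmem)
    have h2 : (r : G)⁻¹ * h * ((r : G)⁻¹)⁻¹ * h⁻¹ =
        ((h * (r : G) * h⁻¹)⁻¹ * r)⁻¹ := by group
    rw [h2]
    exact inv_mem hmem)
  have h1 := hfpf _ (mul_mem (map_subtype_le _ hn) (inv_mem r.2)) e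
  rw [QuotientGroup.eq_one_iff]
  obtain ⟨m, hm, rfl⟩ := hn
  have h2 : m = r := Subtype.ext (mul_inv_eq_one.1 h1)
  exact h2 ▸ hm

/-! ### The order under a Frobenius group of operators -/

section Frobenius

variable {p l r : ℕ} [hp : Fact p.Prime]

/-- The transvection trick for an operator of order three on a group of exponent three. -/
theorem exists_eq_commutator {W : Type u} [CommGroup W] [Finite W] (h3 : ∀ w : W, w ^ 3 = 1)
    (x : MulAut W) (hx : x ^ 3 = 1) (hcard : Nat.card W = Nat.card {w : W // x w = w} ^ 3) {v : W}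
    (hv : v * x v * x (x v) = 1) : ∃ u, v = x u * u⁻¹ := by
  classical
  let f : W →* W := x.toMonoidHom / MonoidHom.id W
  have hf : ∀ w, f w = x w / w := fun w => rfl
  have hx3 : ∀ w, x (x (x w)) = w := fun w => by
    have := DFunLike.congr_fun hx w
    simpa [pow_succ, MulAut.mul_apply] using this
  have hsq : ∀ w, f (f w) = w * x w * x (x w) := by
    intro w
    rw [hf, hf, map_div]
    have h1 : (x w)⁻¹ * (x w)⁻¹ = x w := by
      rw [← mul_inv, inv_eq_iff_mul_eq_one, ← h3 (x w), pow_succ, pow_two, mul_comm]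
    calc x (x w) / x w / (x w / w) = x (x w) * ((x w)⁻¹ * (x w)⁻¹) * w := by
          simp [div_eq_mul_inv, mul_comm, mul_left_comm]
      _ = _ := by rw [h1]; simp [mul_comm, mul_left_comm]
  have hle : f.range ≤ (f.comp f).ker := by
    rintro _ ⟨u, rfl⟩
    show f (f (f u)) = 1
    rw [hsq, hf, map_div, map_div, hx3]
    simp [div_eq_mul_inv, mul_comm, mul_left_comm]
  have hk : Nat.card f.ker = Nat.card {w : W // x w = w} := Nat.card_congr <|
    Equiv.subtypeEquivRight fun w => by rw [MonoidHom.mem_ker, hf, div_eq_one]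
  have h1 : Nat.card f.ker * Nat.card f.range = Nat.card W := by
    rw [← Subgroup.index_ker, Subgroup.card_mul_index]
  -- the kernel of `f ∘ f` is at most the square of the kernel of `f`
  have h2 : Nat.card (f.comp f).ker ≤ Nat.card f.ker * Nat.card f.ker := by
    let g : (f.comp f).ker →* f.ker := (f.comp (f.comp f).ker.subtype).codRestrict _ fun w => w.2
    have hg : Nat.card g.ker ≤ Nat.card f.ker :=
      Nat.card_le_card_of_injective (fun w : g.ker => (⟨(w : (f.comp f).ker),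
        congrArg Subtype.val w.2⟩ : f.ker)) fun a b e => by
        exact Subtype.ext (Subtype.ext (congrArg (fun z : f.ker => (z : W)) e))
    have := g.ker.card_mul_index
    rw [Subgroup.index_ker] at this
    rw [← this]
    exact Nat.mul_le_mul hg (Subgroup.card_le_card_group _)
  have hpos : 0 < Nat.card f.ker := Nat.card_pos
  have heq : f.range = (f.comp f).ker := eq_of_le_of_card_ge hle (h2.trans (le_of_eq (by
    refine Nat.eq_of_mul_eq_mul_left hpos ?_
    rw [h1, hcard, ← hk]; ring)))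
  obtain ⟨u, hu⟩ := heq.ge (show f (f v) = 1 by rw [hsq, hv])
  exact ⟨u, by rw [← hu, hf, div_eq_mul_inv]⟩

/-- Lifting of fixed points and the order of the group. -/
theorem frobenius_fixed (hlp : l ≠ p) (hl : l.Prime) (hr : r.Prime) (hrp : r ≠ p ∨ (r = 3 ∧ p = 3))
    {h x : G} (hh : h ^ l = 1) (hx : x ^ r = 1) {k : ℕ} (hconj : x * h * x⁻¹ = h ^ k)
    (hk : ¬ k ≡ 1 [MOD l]) :
    ∀ (n : ℕ) (R : Subgroup G), Nat.card R = n → IsPGroup p R → h ∈ normalizer (R : Set G) →
      x ∈ normalizer (R : Set G) → (∀ v ∈ R, Commute h v → v = 1) →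
      Nat.card R = Nat.card ↥(R ⊓ centralizer ({x} : Set G)) ^ r ∧
      ∀ g : G, g⁻¹ * (x * g * x⁻¹) ∈ R → ∃ v ∈ R, Commute x (g * v) := by
  intro n
  induction n using Nat.strong_induction_on with
  | _ n ih =>
  intro R hn hR hhR hxR hfpf
  classical
  subst hn
  rcases eq_or_ne R ⊥ with rfl | hne
  · refine ⟨by rw [bot_inf_eq, Subgroup.card_bot, one_pow], fun g hg => ⟨1, one_mem _, ?_⟩⟩
    rw [mem_bot, inv_mul_eq_one] at hg
    rw [mul_one, ← commute_conj_iff, ← hg]
  haveI : Nontrivial R := R.nontrivial_iff_ne_bot.2 hne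
  set N := (frattini R).map R.subtype with hN
  have hNR : N ≤ R := map_subtype_le _
  have hNlt : Nat.card N < Nat.card R := by
    refine Core.card_map_subtype (frattini R) ▸ Core.lt_card_of_ne_top fun h => ?_
    exact bot_ne_top (frattini_nongenerating (K := (⊥ : Subgroup R)) (by rw [h, bot_sup_eq]))
  have hnorm : ∀ g ∈ normalizer (R : Set G), g ∈ normalizer (N : Set G) :=
    fun g hg => Core.normalizer_le_normalizer_map_char (frattini R) hg
  obtain ⟨hNc, hNlift⟩ := ih _ hNlt N rfl (hR.to_le hNR) (hnorm _ hhR) (hnorm _ hxR)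
    fun v hv => hfpf v (hNR hv)
  letI : CommGroup (FQ R) := { (inferInstance : Group (FQ R)) with mul_comm := fq_comm hR }
  set X := frAut R ⟨x, hxR⟩ with hX
  have hHf := fpf_frAut hR hhR ((Nat.Coprime.coprime_dvd_left (orderOf_dvd_of_pow_eq_one hh)
    ((Nat.coprime_primes hl hp.out).2 hlp))) hfpf
  have hXr : X ^ r = 1 := by
    rw [hX, ← map_pow]
    exact (congrArg _ (Subtype.ext hx)).trans (map_one _)
  have hW : Nat.card (FQ R) = Nat.card {w : FQ R // X w = w} ^ r := by
    refine card_eq_fixed_pow (p := p) hl hr (fq_pow hR) (h := frAut R ⟨h, hhR⟩)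
      ?_ ?_ hXr (k := k) ?_ hk hHf
    · rw [← map_pow]; exact (congrArg _ (Subtype.ext hh)).trans (map_one _)
    · obtain ⟨w, hw⟩ := exists_ne_one_fq (p := p) hne
      exact fun e => hw (hHf w (by rw [e]; rfl))
    · rw [hX, ← map_inv, ← map_mul, ← map_mul, ← map_pow]
      exact congrArg _ (Subtype.ext hconj)
  -- lifting through one layer
  have hstep : ∀ g : G, g⁻¹ * (x * g * x⁻¹) ∈ R → ∃ v ∈ R, (g * v)⁻¹ * (x * (g * v) * x⁻¹) ∈ N := by
    intro g hg
    rcases hrp with hrp | ⟨rfl, rfl⟩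
    · obtain ⟨v, hv, e⟩ := exists_lift_commute (a := x) (g := g⁻¹) (K := R) (by
        obtain ⟨j, hj⟩ := IsPGroup.iff_card.1 hR
        rw [hj]
        exact (Nat.Coprime.coprime_dvd_left (orderOf_dvd_of_pow_eq_one hx)
          ((Nat.coprime_primes hr hp.out).2 hrp)).pow_right j) hxR
        (by rw [show g⁻¹ * x * g⁻¹⁻¹ * x⁻¹ = g⁻¹ * (x * g * x⁻¹) by group]; exact hg)
      refine ⟨v⁻¹, inv_mem hv, ?_⟩
      have e' : Commute x (g * v⁻¹) := by simpa using e.inv_right
      rw [commute_conj_iff.2 e', inv_mul_cancel]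
      exact one_mem _
    · set c : R := ⟨g⁻¹ * (x * g * x⁻¹), hg⟩
      have hx3 : x * (x * x) = 1 := by rw [← hx, pow_succ, pow_two, mul_assoc]
      have hX3 : X ^ 3 = 1 := hXr
      obtain ⟨u, hu⟩ := exists_eq_commutator (fq_pow hR) X hX3 hW (v := (c : FQ R)) (by
        rw [hX, frAut_mk, frAut_mk, ← QuotientGroup.mk_mul, ← QuotientGroup.mk_mul, ← QuotientGroup.mk_one]
        refine congrArg _ (Subtype.ext ?_)
        show g⁻¹ * (x * g * x⁻¹) * (x * (g⁻¹ * (x * g * x⁻¹)) * x⁻¹) *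
          (x * (x * (g⁻¹ * (x * g * x⁻¹)) * x⁻¹) * x⁻¹) = 1
        calc _ = g⁻¹ * (x * (x * x)) * g * (x * (x * x))⁻¹ := by group
          _ = 1 := by rw [hx3]; group)
      obtain ⟨u, rfl⟩ := QuotientGroup.mk_surjective u
      refine ⟨(u : G)⁻¹, inv_mem u.2, ?_⟩
      rw [hX, frAut_mk] at hu
      set xu : R := ⟨x * (u : G) * x⁻¹, (mem_normalizer_iff.1 hxR _).1 u.2⟩ with hxu
      change (c : FQ R) = (xu : FQ R) * (u : FQ R)⁻¹ at hu
      refine ⟨u * c * xu⁻¹, ?_, ?_⟩
      · rw [SetLike.mem_coe, ← QuotientGroup.eq_one_iff, QuotientGroup.mk_mul, QuotientGroup.mk_mul, QuotientGroup.mk_inv, hu]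
        simp [mul_comm]
      · show (u : G) * (g⁻¹ * (x * g * x⁻¹)) * (x * (u : G) * x⁻¹)⁻¹ = _
        group
  have hlift : ∀ g : G, g⁻¹ * (x * g * x⁻¹) ∈ R → ∃ v ∈ R, Commute x (g * v) := by
    intro g hg
    obtain ⟨v, hv, hgv⟩ := hstep g hg
    obtain ⟨w, hw, hgw⟩ := hNlift _ hgv
    exact ⟨v * w, mul_mem hv (hNR hw), by rwa [← mul_assoc]⟩
  refine ⟨?_, hlift⟩
  -- the fixed points of the layer
  set C := R ⊓ centralizer ({x} : Set G) with hC
  let q : C →* FQ R := (QuotientGroup.mk' _).comp (Subgroup.inclusion inf_le_left)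
  have hq : ∀ w, w ∈ q.range ↔ X w = w := by
    refine fun w => ⟨?_, fun hw => ?_⟩
    · rintro ⟨v, rfl⟩
      show frAut R ⟨x, hxR⟩ _ = _
      exact congrArg QuotientGroup.mk (Subtype.ext (commute_conj_iff.2
        (show Commute x v from (mem_centralizer_singleton_iff.1 v.2.2).symm)))
    · obtain ⟨v, rfl⟩ := QuotientGroup.mk_surjective w
      rw [hX, frAut_mk, eq_comm, QuotientGroup.eq] at hw
      obtain ⟨m, hm, e⟩ := hNlift (v : G) ⟨_, hw, rfl⟩
      obtain ⟨m, hm', rfl⟩ := hm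
      refine ⟨⟨(v : G) * m, mul_mem v.2 m.2, mem_centralizer_singleton_iff.2 e.eq.symm⟩, ?_⟩
      show (((v * m : R)) : FQ R) = (v : FQ R)
      rw [QuotientGroup.mk_mul, (QuotientGroup.eq_one_iff m).2 hm', mul_one]
  have hqr : Nat.card q.range = Nat.card {w : FQ R // X w = w} :=
    Nat.card_congr (Equiv.subtypeEquivRight hq)
  have hqk : Nat.card q.ker = Nat.card ↥(N ⊓ centralizer ({x} : Set G)) := by
    refine Nat.card_congr
      { toFun := fun v => ⟨(v : G), ⟨_, (QuotientGroup.eq_one_iff _).1 v.2, rfl⟩, v.1.2.2⟩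
        invFun := fun v => ⟨⟨(v : G), hNR v.2.1, v.2.2⟩, (QuotientGroup.eq_one_iff _).2 ?_⟩
        left_inv := fun v => rfl
        right_inv := fun v => rfl }
    obtain ⟨m, hm, e⟩ := v.2.1
    rwa [show (Subgroup.inclusion inf_le_left
      (⟨(v : G), hNR v.2.1, v.2.2⟩ : C) : R) = m from Subtype.ext e.symm]
  have hCcard := q.ker.card_mul_index
  rw [Subgroup.index_ker, hqk, hqr] at hCcard
  rw [← hCcard, mul_pow, ← hNc, ← hW, hN, Core.card_map_subtype]
  exact (frattini R).card_mul_index.symm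

end Frobenius

/-! ### Extending a character across an involution -/

/-- An invariant homomorphism on a subgroup of index at most two extends. -/
theorem exists_extend {N : Subgroup G} {t : G} (ht : t * t = 1) (htN : t ∈ normalizer (N : Set G))
    (htn : t ∉ N) {B : Type*} [CommGroup B] (ψ : N →* B)
    (hinv : ∀ g : N, ψ ⟨t * g * t⁻¹, (mem_normalizer_iff.1 htN _).1 g.2⟩ = ψ g) :
    ∃ Ψ : (N ⊔ zpowers t : Subgroup G) →* B, ∀ g : N, Ψ ⟨g, mem_sup_left g.2⟩ = ψ g := by
  classical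
  have hti : t⁻¹ = t := inv_eq_of_mul_eq_one_right ht
  have hdec : ∀ g ∈ N ⊔ zpowers t, g ∈ N ∨ g * t ∈ N := by
    intro g hg
    obtain ⟨m, hm, a, ha, rfl⟩ := Coprime.exists_mul_of_mem_sup (zpowers_le.2 htN) hg
    obtain ⟨i, rfl⟩ := mem_zpowers_iff.1 ha
    rcases Int.even_or_odd i with ⟨j, rfl⟩ | ⟨j, rfl⟩
    · left
      rw [zpow_add, ← (Commute.refl t).mul_zpow, ht, one_zpow, mul_one]
      exact hm
    · right
      rw [zpow_add, two_mul, zpow_add, ← (Commute.refl t).mul_zpow, ht, one_zpow, one_mul, zpow_one,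
        mul_assoc, ht, mul_one]
      exact hm
  let f : (N ⊔ zpowers t : Subgroup G) → B := fun g =>
    if h : (g : G) ∈ N then ψ ⟨g, h⟩ else ψ ⟨(g : G) * t, (hdec g g.2).resolve_left h⟩
  have hnt : ∀ {g : G}, g ∈ N → g * t ∉ N := fun hg h => htn (by simpa using mul_mem (inv_mem hg) h)
  have hcm : ∀ g : G, (hg : g ∈ N) → t * g * t⁻¹ ∈ N := fun g hg => (mem_normalizer_iff.1 htN _).1 hg
  have hf1 : ∀ (g : (N ⊔ zpowers t : Subgroup G)) (h : (g : G) ∈ N), f g = ψ ⟨g, h⟩ :=
    fun g h => dif_pos h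
  have hf2 : ∀ (g : (N ⊔ zpowers t : Subgroup G)) (h : (g : G) * t ∈ N), f g = ψ ⟨(g : G) * t, h⟩ :=
    fun g h => dif_neg fun h' => hnt h' h
  refine ⟨MonoidHom.mk' f fun a b => ?_, fun g => hf1 _ g.2⟩
  rcases hdec a a.2 with ha | ha <;> rcases hdec b b.2 with hb | hb
  · rw [hf1 a ha, hf1 b hb, hf1 (a * b) (mul_mem ha hb), ← map_mul]
    rfl
  · have h : ((a * b : (N ⊔ zpowers t : Subgroup G)) : G) * t ∈ N := by
      rw [Subgroup.coe_mul, mul_assoc]; exact mul_mem ha hb
    rw [hf1 a ha, hf2 b hb, hf2 (a * b) h, ← map_mul]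
    exact congrArg ψ (Subtype.ext (mul_assoc _ _ _))
  · have h : ((a * b : (N ⊔ zpowers t : Subgroup G)) : G) * t ∈ N := by
      rw [Subgroup.coe_mul, show (a : G) * b * t = (a : G) * t * (t * b * t⁻¹) by
        rw [hti]; simp only [mul_assoc]; rw [← mul_assoc t t, ht, one_mul]]
      exact mul_mem ha (hcm _ hb)
    rw [hf2 a ha, hf1 b hb, hf2 (a * b) h, ← hinv ⟨b, hb⟩, ← map_mul]
    refine congrArg ψ (Subtype.ext ?_)
    show (a : G) * b * t = (a : G) * t * (t * b * t⁻¹)
    rw [hti]; simp only [mul_assoc]; rw [← mul_assoc t t, ht, one_mul]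
  · have h : ((a * b : (N ⊔ zpowers t : Subgroup G)) : G) ∈ N := by
      rw [Subgroup.coe_mul, show (a : G) * b = (a : G) * t * (t * ((b : G) * t) * t⁻¹) by
        rw [hti]; simp only [mul_assoc]; rw [← mul_assoc t t, ht, one_mul, mul_one]]
      exact mul_mem ha (hcm _ hb)
    rw [hf2 a ha, hf2 b hb, hf1 (a * b) h, ← hinv ⟨(b : G) * t, hb⟩, ← map_mul]
    refine congrArg ψ (Subtype.ext ?_)
    show (a : G) * b = (a : G) * t * (t * ((b : G) * t) * t⁻¹)
    rw [hti]; simp only [mul_assoc]; rw [← mul_assoc t t, ht, one_mul, mul_one]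

end Cfsg.Lib.Walter3.Field
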