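import Cfsg.Agent.Lib.Walter3.Field.Basic
import Cfsg.Agent.Lib.Dickson.KleinClasses
import Cfsg.Agent.Lib.GW.PGL

/-!
# Elementary facts about `PSL₂(q)` and its field automorphisms in the standard coordinates
-/

set_option autoImplicit false
set_option linter.unusedSectionVars false
set_option linter.style.haveILetI false

namespace Cfsg.Lib.Walter3.Field

open Subgroup Cfsg Matrix
open Cfsg.Lib.Linear.AutPSL (fld innd fld_mk innd_mk)
open Cfsg.Lib.TwoDim (splitSL splitSL_coe)
open Cfsg.Lib.Dickson.KleinClasses (mk_eq_iff)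
open scoped MatrixGroups

local notation "PSL2[" K "]" => Matrix.ProjectiveSpecialLinearGroup (Fin 2) K

variable {F : Type} [Field F] [Fintype F]

/-- The image in `PSL₂`. -/
abbrev pr (A : SL(2, F)) : PSL2[F] := QuotientGroup.mk A

theorem uSL_coe (c : Multiplicative F) : (uSL c : Matrix (Fin 2) (Fin 2) F) = !![1, c.toAdd; 0, 1] := rfl

theorem jSL_coe : ((jSL : SL(2, F)) : Matrix (Fin 2) (Fin 2) F) = !![0, -1; 1, 0] := rfl

theorem two_ne_zero_of (hodd : Fintype.card F % 2 = 1) : (2 : F) ≠ 0 := by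
  intro h
  have h2 : ringChar F = 2 := by
    rcases (Nat.dvd_prime Nat.prime_two).1 ((ringChar.spec F 2).1 h) with h1 | h1
    · exact absurd h1 (CharP.ringChar_ne_one)
    · exact h1
  have := FiniteField.even_card_of_char_two h2
  omega

/-- Entries of equal images. -/
theorem entries_of_eq {A B : SL(2, F)} (h : pr A = pr B) (i j : Fin 2) :
    B i j = A i j ∨ B i j = -A i j := by
  rcases mk_eq_iff.1 h with e | e
  · exact Or.inl (congrFun (congrFun e i) j)
  · exact Or.inr (congrFun (congrFun e i) j)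

/-- The two products differ by a sign. -/
theorem entries_mul_of_eq {A B C D : SL(2, F)} (h : pr (A * B) = pr (C * D)) (i j : Fin 2) :
    ((C : Matrix (Fin 2) (Fin 2) F) * (D : Matrix (Fin 2) (Fin 2) F)) i j =
      ((A : Matrix (Fin 2) (Fin 2) F) * (B : Matrix (Fin 2) (Fin 2) F)) i j ∨
    ((C : Matrix (Fin 2) (Fin 2) F) * (D : Matrix (Fin 2) (Fin 2) F)) i j =
      -((A : Matrix (Fin 2) (Fin 2) F) * (B : Matrix (Fin 2) (Fin 2) F)) i j :=
  entries_of_eq h i j

theorem pr_uSL_injective (hodd : Fintype.card F % 2 = 1) :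
    Function.Injective fun c : Multiplicative F => pr (uSL c) := by
  intro a b h
  rcases mk_eq_iff.1 h with e | e
  · have := congrFun (congrFun e 0) 1
    simpa [uSL_coe] using this.symm
  · have := congrFun (congrFun e 0) 0
    simp [uSL_coe] at this
    exact absurd (show (2 : F) = 0 by linear_combination this) (two_ne_zero_of hodd)

theorem pr_splitSL_eq_one {a : Fˣ} : pr (splitSL F a) = 1 ↔ a = 1 ∨ a = -1 := by
  rw [show (1 : PSL2[F]) = pr 1 from rfl, eq_comm, mk_eq_iff]
  simp only [splitSL_coe]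
  constructor
  · rintro (e | e) <;> have h := congrFun (congrFun e 0) 0 <;> simp at h
    · exact Or.inl h
    · exact Or.inr (Units.ext (by simpa using h))
  · rintro (rfl | rfl)
    · left; ext i j; fin_cases i <;> fin_cases j <;> simp
    · right; ext i j; fin_cases i <;> fin_cases j <;> simp

theorem jSL_conj_splitSL (a : Fˣ) : jSL * splitSL F a * jSL⁻¹ = splitSL F a⁻¹ := by
  rw [mul_inv_eq_iff_eq_mul]
  refine Subtype.ext ?_
  show !![(0 : F), -1; 1, 0] * !![(a : F), 0; 0, (↑a⁻¹ : F)] =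
    !![((a⁻¹ : Fˣ) : F), 0; 0, (↑a⁻¹⁻¹ : F)] * !![(0 : F), -1; 1, 0]
  rw [Matrix.mul_fin_two, Matrix.mul_fin_two]
  ext i j; fin_cases i <;> fin_cases j <;> simp

theorem splitSL_conj_uSL (a : Fˣ) (c : F) :
    splitSL F a * uSL (Multiplicative.ofAdd c) * (splitSL F a)⁻¹ =
      uSL (Multiplicative.ofAdd ((a : F) ^ 2 * c)) := by
  rw [mul_inv_eq_iff_eq_mul]
  refine Matrix.SpecialLinearGroup.ext _ _ fun i j => ?_
  show ((splitSL F a : Matrix (Fin 2) (Fin 2) F) * (uSL (Multiplicative.ofAdd c) : Matrix (Fin 2) (Fin 2) F)) i j =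
    ((uSL (Multiplicative.ofAdd ((a : F) ^ 2 * c)) : Matrix (Fin 2) (Fin 2) F) *
      (splitSL F a : Matrix (Fin 2) (Fin 2) F)) i j
  rw [uSL_coe, uSL_coe, splitSL_coe, toAdd_ofAdd, toAdd_ofAdd, Matrix.mul_fin_two, Matrix.mul_fin_two]
  fin_cases i <;> fin_cases j <;> simp
  field_simp

theorem pr_jSL_sq : pr (jSL : SL(2, F)) * pr jSL = 1 := by
  rw [show pr (jSL : SL(2, F)) * pr jSL = pr (jSL * jSL) from rfl,
    show (1 : PSL2[F]) = pr 1 from rfl, mk_eq_iff]
  right
  show (1 : Matrix (Fin 2) (Fin 2) F) = -(!![0, -1; 1, 0] * !![0, -1; 1, 0])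
  rw [Matrix.mul_fin_two]
  ext i j; fin_cases i <;> fin_cases j <;> simp

theorem pr_jSL_ne : pr (jSL : SL(2, F)) ≠ 1 :=
  GW.PGL.mk_ne_one_of_offDiag (Or.inr (by simp [jSL_coe]))

theorem pr_mSL_sq {a b : F} (h : a * a + b * b = -1) : pr (mSL a b h) * pr (mSL a b h) = 1 := by
  rw [show pr (mSL a b h) * pr (mSL a b h) = pr (mSL a b h * mSL a b h) from rfl,
    show (1 : PSL2[F]) = pr 1 from rfl, mk_eq_iff]
  right
  show (1 : Matrix (Fin 2) (Fin 2) F) = -(!![a, b; b, -a] * !![a, b; b, -a])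
  rw [Matrix.mul_fin_two]
  ext i j; fin_cases i <;> fin_cases j <;> simp <;>
    first | linear_combination h | linear_combination -h | linear_combination (0 : F) * h

theorem pr_jm_comm {a b : F} (h : a * a + b * b = -1) :
    pr jSL * pr (mSL a b h) = pr (mSL a b h) * pr jSL := by
  show pr (jSL * mSL a b h) = pr (mSL a b h * jSL)
  rw [mk_eq_iff]
  right
  show !![a, b; b, -a] * !![(0 : F), -1; 1, 0] = -(!![(0 : F), -1; 1, 0] * !![a, b; b, -a])
  rw [Matrix.mul_fin_two, Matrix.mul_fin_two]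
  ext i j; fin_cases i <;> fin_cases j <;> simp

theorem pr_jm_ne (hodd : Fintype.card F % 2 = 1) {a b : F} (h : a * a + b * b = -1) :
    pr (mSL a b h) ≠ 1 ∧ pr (jSL : SL(2, F)) ≠ pr (mSL a b h) := by
  have h2 := two_ne_zero_of (F := F) hodd
  constructor
  · intro e
    rcases entries_of_eq e.symm 0 0 with e0 | e0 <;> rcases entries_of_eq e.symm 1 1 with e1 | e1 <;>
      rcases entries_of_eq e.symm 0 1 with e2 | e2 <;>
      simp [show ((mSL a b h : SL(2, F)) : Matrix (Fin 2) (Fin 2) F) = !![a, b; b, -a] from rfl] at e0 e1 e2 <;>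
      subst e2 <;> grind
  · intro e
    rcases entries_of_eq e 0 0 with e0 | e0 <;> rcases entries_of_eq e 0 1 with e2 | e2 <;>
      rcases entries_of_eq e 1 0 with e1 | e1 <;>
      simp [jSL_coe, show ((mSL a b h : SL(2, F)) : Matrix (Fin 2) (Fin 2) F) = !![a, b; b, -a] from rfl] at e0 e1 e2 <;>
      grind

theorem fld_uSL (τ : F ≃+* F) (c : F) :
    fld τ (pr (uSL (Multiplicative.ofAdd c))) = pr (uSL (Multiplicative.ofAdd (τ c))) := by
  rw [pr, fld_mk]
  refine congrArg _ (Subtype.ext ?_)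
  rw [Cfsg.Lib.Linear.AutPSL.frobHom_coe]
  show Matrix.map !![(1 : F), c; 0, 1] τ = !![(1 : F), τ c; 0, 1]
  ext i j; fin_cases i <;> fin_cases j <;> simp

theorem fld_splitSL (τ : F ≃+* F) (a : Fˣ) :
    fld τ (pr (splitSL F a)) = pr (splitSL F (Units.map (τ : F →* F) a)) := by
  rw [pr, fld_mk]
  refine congrArg _ (Subtype.ext ?_)
  rw [Cfsg.Lib.Linear.AutPSL.frobHom_coe]
  show Matrix.map !![(a : F), 0; 0, (↑a⁻¹ : F)] τ =
    !![τ (a : F), 0; 0, ((Units.map (τ : F →* F) a)⁻¹ : Fˣ)]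
  ext i j; fin_cases i <;> fin_cases j <;> simp

theorem fld_jSL (τ : F ≃+* F) : fld τ (pr (jSL : SL(2, F))) = pr jSL := by
  rw [pr, fld_mk]
  refine congrArg _ (Subtype.ext ?_)
  rw [Cfsg.Lib.Linear.AutPSL.frobHom_coe]
  show Matrix.map !![(0 : F), -1; 1, 0] τ = !![(0 : F), -1; 1, 0]
  ext i j; fin_cases i <;> fin_cases j <;> simp

theorem fld_mSL (τ : F ≃+* F) {a b : F} (h : a * a + b * b = -1) (ha : τ a = a) (hb : τ b = b) :
    fld τ (pr (mSL a b h)) = pr (mSL a b h) := by
  rw [pr, fld_mk]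
  refine congrArg _ (Subtype.ext ?_)
  rw [Cfsg.Lib.Linear.AutPSL.frobHom_coe]
  show Matrix.map !![a, b; b, -a] τ = !![a, b; b, -a]
  ext i j; fin_cases i <;> fin_cases j <;> simp [ha, hb]

/-- An element commuting with the split torus element lies in the split torus. -/
theorem comm_splitSL {a : Fˣ} (h1 : (a : F) ^ 2 ≠ 1) (h2 : (a : F) ^ 2 ≠ -1) {x : PSL2[F]}
    (h : x * pr (splitSL F a) = pr (splitSL F a) * x) : ∃ e : Fˣ, x = pr (splitSL F e) := by
  obtain ⟨A, rfl⟩ := QuotientGroup.mk_surjective x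
  have hA := A.2
  rw [Matrix.det_fin_two] at hA
  have hh := entries_mul_of_eq (A := A) (B := splitSL F a) (C := splitSL F a) (D := A) h
  rw [splitSL_coe] at hh
  have hs : (a : F) ^ 2 - 1 ≠ 0 := sub_ne_zero.2 h1
  have hp : (a : F) ^ 2 + 1 ≠ 0 := fun e => h2 (eq_neg_of_add_eq_zero_left e)
  have ha : (a : F) ≠ 0 := a.ne_zero
  have h01 : A 0 1 = 0 := by
    have e := hh 0 1
    simp [Matrix.mul_apply, Fin.sum_univ_two] at e
    rcases e with e | e <;> field_simp at e
    · exact (mul_eq_zero.1 (show A 0 1 * ((a : F) ^ 2 - 1) = 0 by linear_combination e)).resolve_right hs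
    · exact (mul_eq_zero.1 (show A 0 1 * ((a : F) ^ 2 + 1) = 0 by linear_combination e)).resolve_right hp
  have h10 : A 1 0 = 0 := by
    have e := hh 1 0
    simp [Matrix.mul_apply, Fin.sum_univ_two] at e
    rcases e with e | e <;> field_simp at e
    · exact (mul_eq_zero.1 (show A 1 0 * ((a : F) ^ 2 - 1) = 0 by linear_combination -e)).resolve_right hs
    · exact (mul_eq_zero.1 (show A 1 0 * ((a : F) ^ 2 + 1) = 0 by linear_combination e)).resolve_right hp
  rw [h01, zero_mul, sub_zero] at hA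
  have h00 : A 0 0 ≠ 0 := fun e => by rw [e, zero_mul] at hA; exact zero_ne_one hA
  refine ⟨Units.mk0 _ h00, congrArg _ (Subtype.ext ?_)⟩
  rw [splitSL_coe]
  ext i j; fin_cases i <;> fin_cases j <;> simp [h01, h10, Units.val_inv_eq_inv_val]
  field_simp
  linear_combination hA

/-- An element inverting a nontrivial unipotent element is impossible for `q ≡ 3 (mod 4)`. -/
theorem not_inv_uSL (hq : Fintype.card F % 4 = 3) {c : F} (hc : c ≠ 0) (x : PSL2[F]) :
    x * pr (uSL (Multiplicative.ofAdd c)) * x⁻¹ ≠ pr (uSL (Multiplicative.ofAdd (-c))) := by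
  intro h
  obtain ⟨A, rfl⟩ := QuotientGroup.mk_surjective x
  rw [mul_inv_eq_iff_eq_mul] at h
  have hns : ¬ IsSquare (-1 : F) := by rw [FiniteField.isSquare_neg_one_iff]; omega
  have h2 : (2 : F) ≠ 0 := two_ne_zero_of (by omega)
  have hA := A.2
  rw [Matrix.det_fin_two] at hA
  have hh : !![(1 : F), -c; 0, 1] * (A : Matrix (Fin 2) (Fin 2) F) =
      (A : Matrix (Fin 2) (Fin 2) F) * !![(1 : F), c; 0, 1] ∨
      !![(1 : F), -c; 0, 1] * (A : Matrix (Fin 2) (Fin 2) F) =
      -((A : Matrix (Fin 2) (Fin 2) F) * !![(1 : F), c; 0, 1]) :=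
    mk_eq_iff.1 (show pr (A * uSL (Multiplicative.ofAdd c)) =
      pr (uSL (Multiplicative.ofAdd (-c)) * A) from h)
  rcases hh with hh | hh
  · have e00 := congrFun (congrFun hh 0) 0
    have e01 := congrFun (congrFun hh 0) 1
    simp [Matrix.mul_apply, Fin.sum_univ_two] at e00 e01
    have h10 : A 1 0 = 0 := e00.resolve_left hc
    have h3 : A 1 1 = -A 0 0 := by
      have : c * (A 0 0 + A 1 1) = 0 := by linear_combination -e01
      exact eq_neg_of_add_eq_zero_right ((mul_eq_zero.1 this).resolve_left hc)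
    rw [h10, h3] at hA
    exact hns ⟨A 0 0, by linear_combination hA⟩
  · have e10 := congrFun (congrFun hh 1) 0
    have e11 := congrFun (congrFun hh 1) 1
    have e00 := congrFun (congrFun hh 0) 0
    simp [Matrix.mul_apply, Fin.sum_univ_two] at e10 e11 e00
    have h10 : A 1 0 = 0 := by
      have : (2 : F) * A 1 0 = 0 := by linear_combination e10
      exact (mul_eq_zero.1 this).resolve_left h2
    rw [h10] at e11 e00
    have h11 : A 1 1 = 0 := by
      have : (2 : F) * A 1 1 = 0 := by linear_combination e11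
      exact (mul_eq_zero.1 this).resolve_left h2
    rw [h10, h11] at hA
    simp at hA

end Cfsg.Lib.Walter3.Field
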