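import Cfsg.Agent.Lib.Local.TopModule
import Mathlib.LinearAlgebra.Matrix.GeneralLinearGroup.Card
import Mathlib.LinearAlgebra.Matrix.ToLin
import Mathlib.GroupTheory.Sylow
import Mathlib.GroupTheory.SpecificGroups.Cyclic
import Mathlib.GroupTheory.Abelianization.Defs

/-!
# Odd automorphism groups of groups of order `13` and `13²`

Their orders divide `63`, so an involution acting on one and fixing an element of order three gives
an invariant character that is nontrivial on that element.
-/

set_option autoImplicit false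
set_option linter.style.haveILetI false

namespace Cfsg.Lib.Walter3.Field

open Subgroup Cfsg.Lib Matrix

universe u

variable {A : Type u} [Group A] [Finite A]

/-- A group of order dividing `63` has a normal seven-subgroup with abelian quotient. -/
theorem exists_normal_seven (hA : Nat.card A ∣ 63) :
    ∃ N : Subgroup A, N.Normal ∧ IsPGroup 7 N ∧ ∀ a b : A, a * b * a⁻¹ * b⁻¹ ∈ N := by
  haveI : Fact (Nat.Prime 7) := ⟨by norm_num⟩
  let P : Sylow 7 A := default
  obtain ⟨j, hj⟩ := IsPGroup.iff_card.1 P.2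
  have hidx : (P : Subgroup A).index ∣ 63 := (dvd_mul_left _ _).trans
    ((P : Subgroup A).card_mul_index.symm ▸ hA)
  have h9 : (P : Subgroup A).index ∣ 9 :=
    (Nat.Coprime.dvd_of_dvd_mul_left (((Nat.Prime.coprime_iff_not_dvd (by norm_num)).2
      P.not_dvd_index).symm) (show (P : Subgroup A).index ∣ 7 * 9 from hidx))
  have hn : Nat.card (Sylow 7 A) = 1 := by
    have h1 : Nat.card (Sylow 7 A) ≡ 1 [MOD 7] := card_sylow_modEq_one 7 A
    have h2 : Nat.card (Sylow 7 A) ∣ 9 := (Sylow.card_dvd_index P).trans h9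
    have h3 := Nat.le_of_dvd (by norm_num) h2
    have h4 : Nat.card (Sylow 7 A) % 7 = 1 := h1
    interval_cases h : Nat.card (Sylow 7 A) <;> omega
  haveI := (Nat.card_eq_one_iff_unique.1 hn).1
  haveI hN : (P : Subgroup A).Normal := P.normal_of_subsingleton
  refine ⟨P, hN, P.2, fun a b => ?_⟩
  haveI : Fact (Nat.Prime 3) := ⟨Nat.prime_three⟩
  obtain ⟨i, hi, hi'⟩ := (Nat.dvd_prime_pow Nat.prime_three).1 (show _ ∣ 3 ^ 2 from h9)
  have hcomm : ∀ u v : A ⧸ (P : Subgroup A), u * v = v * u := by
    interval_cases i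
    · intro u v
      haveI := (Nat.card_eq_one_iff_unique.1
        (show Nat.card (A ⧸ (P : Subgroup A)) = 1 by rw [← Subgroup.index_eq_card, hi', pow_zero])).1
      exact Subsingleton.elim _ _
    · haveI : IsCyclic (A ⧸ (P : Subgroup A)) :=
        isCyclic_of_prime_card (p := 3) (by rw [← Subgroup.index_eq_card, hi', pow_one])
      letI := IsCyclic.commGroup (α := A ⧸ (P : Subgroup A))
      exact mul_comm
    · exact (IsPGroup.isMulCommutative_of_card_eq_prime_sq (p := 3)
        (by rw [← Subgroup.index_eq_card, hi'])).is_comm.comm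
  rw [← QuotientGroup.eq_one_iff]
  simp only [QuotientGroup.mk_mul, QuotientGroup.mk_inv]
  rw [hcomm (a : A ⧸ (P : Subgroup A)) b, mul_inv_cancel_right, mul_inv_cancel]

/-- An element fixed by an automorphism with square one survives in a character invariant under it. -/
theorem exists_invariant_char (hA : Nat.card A ∣ 63) (τ : MulAut A) (hτ : ∀ a, τ (τ a) = a) {x : A}
    (hx : τ x = x) (hx3 : x ^ 3 = 1) (hx1 : x ≠ 1) :
    ∃ (B : Type u) (_ : CommGroup B) (ψ : A →* B), (∀ a, ψ (τ a) = ψ a) ∧ ψ x ≠ 1 := by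
  obtain ⟨N, hN, h7, hc⟩ := exists_normal_seven hA
  letI : CommGroup (A ⧸ N) :=
    { (inferInstance : Group (A ⧸ N)) with
      mul_comm := fun u v => by
        obtain ⟨a, rfl⟩ := QuotientGroup.mk_surjective u
        obtain ⟨b, rfl⟩ := QuotientGroup.mk_surjective v
        have h := (QuotientGroup.eq_one_iff _).2 (hc a b)
        simp only [QuotientGroup.mk_mul, QuotientGroup.mk_inv] at h
        rwa [mul_inv_eq_one, mul_inv_eq_iff_eq_mul] at h }
  refine ⟨A ⧸ N, inferInstance, QuotientGroup.mk' N * (QuotientGroup.mk' N).comp τ.toMonoidHom,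
    fun a => ?_, fun h => hx1 ?_⟩
  · show (τ a : A ⧸ N) * (τ (τ a) : A) = (a : A ⧸ N) * (τ a : A)
    rw [hτ, mul_comm]
  · have h1 : ((x ^ 2 : A) : A ⧸ N) = 1 := by
      rw [QuotientGroup.mk_pow, pow_two]
      have : (x : A ⧸ N) * (τ x : A) = 1 := h
      rwa [hx] at this
    have h2 : x ^ 2 ∈ N := (QuotientGroup.eq_one_iff _).1 h1
    obtain ⟨k, hk⟩ := h7 ⟨_, h2⟩
    have h3 : (x ^ 2) ^ 7 ^ k = 1 := congrArg Subtype.val hk
    rw [← pow_mul] at h3
    have h4 : orderOf x ∣ Nat.gcd (2 * 7 ^ k) 3 :=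
      Nat.dvd_gcd (orderOf_dvd_of_pow_eq_one h3) (orderOf_dvd_of_pow_eq_one hx3)
    have h5 : Nat.gcd (2 * 7 ^ k) 3 = 1 := Nat.Coprime.mul_left (by norm_num)
      (Nat.Coprime.pow_left k (by norm_num))
    rw [h5, Nat.dvd_one] at h4
    exact orderOf_eq_one_iff.1 h4

omit [Finite A] in
/-- An odd group of automorphisms of order prime to `13` of a group of order `13` or `13²` and exponent
`13` has order dividing `63`. -/
theorem card_dvd_sixtyThree {V : Type u} [CommGroup V] [Finite V] (hV : ∀ v : V, v ^ 13 = 1) {k : ℕ}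
    (hk : Nat.card V = 13 ^ k) (hk2 : k ≤ 2) (φ : A →* MulAut V) (hφ : Function.Injective φ)
    (hodd : Odd (Nat.card A)) (h13 : ¬ 13 ∣ Nat.card A) : Nat.card A ∣ 63 := by
  classical
  haveI : Fact (Nat.Prime 13) := ⟨by norm_num⟩
  obtain ⟨W, _, _, _, R, e, he⟩ := Local.exists_zmod_rep hV φ
  have hR : Function.Injective R := fun a b hab => hφ (MulEquiv.ext fun w =>
    e.injective (Multiplicative.toAdd.injective ((he a w).symm.trans
      ((LinearMap.congr_fun hab _).trans (he b w)))))
  haveI : Finite W := Finite.of_equiv V (e.toEquiv.trans Multiplicative.toAdd)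
  have hcard : Nat.card W = 13 ^ k := by rw [← hk, Nat.card_congr (e.toEquiv.trans Multiplicative.toAdd)]
  have hd : Module.finrank (ZMod 13) W = k := by
    have h := Module.natCard_eq_pow_finrank (K := ZMod 13) (V := W)
    rw [hcard, Nat.card_zmod] at h
    exact (Nat.pow_right_injective (by norm_num) h).symm
  let b := Module.finBasisOfFinrankEq (ZMod 13) W hd
  let g : A →* GL (Fin k) (ZMod 13) :=
    (Units.map (LinearMap.toMatrixAlgEquiv b).toMonoidHom).comp R.toHomUnits
  have hg : Function.Injective g := fun a b' hab => hR <| by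
    have h := congrArg Units.val hab
    exact (LinearMap.toMatrixAlgEquiv b).injective h
  have h1 := Subgroup.card_dvd_of_injective g hg
  have h2 : Nat.card A ∣ 26208 := by
    refine h1.trans ?_
    rw [Matrix.card_GL_field]
    simp only [ZMod.card]
    interval_cases k <;> simp [Fin.prod_univ_two]
  have h3 : (Nat.card A).Coprime 416 := by
    rw [show (416 : ℕ) = 2 ^ 5 * 13 by norm_num]
    exact Nat.Coprime.mul_right (Nat.Coprime.pow_right 5 (Nat.coprime_two_right.2 hodd))
      ((Nat.Prime.coprime_iff_not_dvd (by norm_num)).2 h13).symm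
  exact h3.dvd_of_dvd_mul_left (show Nat.card A ∣ 416 * 63 from h2)

end Cfsg.Lib.Walter3.Field
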