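import Cfsg.Agent.Lib.Walter3.Field.Twist
import Cfsg.Agent.Lib.Walter3.Field.Exists

/-!
# The odd torus of order `(q + 1) / 4` and the contradiction

The sum over `t τ`, `τ` in the odd torus, of a constituent with value `2 q - 1` at `t` is at least
`3 (m - 1)` in absolute value, `m = (q + 1) / 4`; column orthogonality allows at most
`8 m f (m - 1)` for the sum of the squares.
-/

set_option autoImplicit false
set_option linter.unusedSectionVars false
set_option linter.style.haveILetI false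

namespace Cfsg.Lib.Walter3.Field

open Subgroup Cfsg Cfsg.Lib.Char Cfsg.Lib.TwoDim
open Cfsg.Lib.Dickson.KleinClasses (mk_eq_iff)
open scoped ComplexConjugate MatrixGroups

universe u

local notation "PSL2[" K "]" => Matrix.ProjectiveSpecialLinearGroup (Fin 2) K

/-- The odd torus in `PSL₂(q)`, `q ≡ 3 (mod 8)`, and a subgroup holding what moves it to itself. -/
theorem exists_odd_torus {F : Type} [Field F] [Fintype F] (h8 : Fintype.card F % 8 = 3) :
    ∃ T N : Subgroup PSL2[F], Nat.card T * 4 = Fintype.card F + 1 ∧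
      Nat.card N ≤ Fintype.card F + 1 ∧ ∀ τ ∈ T, τ ≠ 1 → ∀ l, l⁻¹ * τ * l ∈ T → l ∈ N := by
  classical
  have hodd : Odd (Fintype.card F) := Nat.odd_iff.2 (by omega)
  obtain ⟨w, hw⟩ := exists_isTorus_nonsplit hodd
  set A := ↥(normOne F)
  set m := (Fintype.card F + 1) / 4 with hm
  have hA : Nat.card A = 4 * m := by rw [card_normOne]; omega
  have hm1 : Odd m := Nat.odd_iff.2 (by omega)
  haveI : Finite A := Nat.finite_of_card_ne_zero (by rw [hA]; omega)
  let g : A →* PSL2[F] := ((QuotientGroup.mk' _).comp torusSL).comp (powMonoidHom 4)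
  have hgapp : ∀ a, g a = pr (torusSL (a ^ 4)) := fun _ => rfl
  have hodd4 : ∀ a : A, (a ^ 4) ^ 2 = 1 → a ^ 4 = 1 := by
    intro a ha
    obtain ⟨j, hj⟩ := hm1
    have h1 : (a ^ 4) ^ m = 1 := by rw [← pow_mul, ← hA, pow_card_eq_one']
    rwa [hj, pow_succ, pow_mul, ha, one_pow, one_mul] at h1
  have hone : ∀ a : A, pr (torusSL a) = 1 → a ^ 2 = 1 := by
    intro a ha
    refine hw.inj ?_
    rw [map_pow, map_one]
    rcases mk_eq_iff.1 (show pr (torusSL a) = pr (1 : SL(2, F)) from ha) with e | e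
    · rw [show torusSL a = (1 : SL(2, F)) from Subtype.ext e.symm, one_pow]
    · refine Subtype.ext ?_
      rw [Matrix.SpecialLinearGroup.coe_pow, pow_two,
        show ((torusSL a : SL(2, F)) : Matrix (Fin 2) (Fin 2) F) = -((1 : SL(2, F)) :
          Matrix (Fin 2) (Fin 2) F) by rw [e, neg_neg], neg_mul_neg, Matrix.SpecialLinearGroup.coe_one,
        one_mul]
  have hker : g.ker = (powMonoidHom 4 : A →* A).ker := by
    ext a
    rw [MonoidHom.mem_ker, MonoidHom.mem_ker, hgapp, powMonoidHom_apply]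
    exact ⟨fun h => hodd4 a (hone _ h), fun h => by rw [h, map_one]; rfl⟩
  have hcard : Nat.card g.range = m := by
    have h := (Subgroup.index_ker g).symm
    rw [h, hker, Subgroup.index_ker, IsCyclic.card_powMonoidHom_range, hA,
      Nat.gcd_eq_right (dvd_mul_right 4 m), Nat.mul_div_cancel_left _ (by norm_num)]
  set R0 := (torusSL (F := F)).range
  let f' : ↥(normalizer (R0 : Set SL(2, F))) →* PSL2[F] :=
    (QuotientGroup.mk' _).comp (normalizer (R0 : Set SL(2, F))).subtype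
  refine ⟨g.range, f'.range, by rw [hcard]; omega, ?_, ?_⟩
  · have h1 := f'.ker.card_mul_index
    rw [Subgroup.index_ker, hw.card_normalizer, card_normOne] at h1
    have hneg : (-1 : SL(2, F)) ∈ normalizer (R0 : Set SL(2, F)) :=
      Subgroup.le_normalizer hw.neg_one_mem
    have hk : (⟨-1, hneg⟩ : ↥(normalizer (R0 : Set SL(2, F)))) ∈ f'.ker := by
      rw [MonoidHom.mem_ker]
      show pr (-1 : SL(2, F)) = pr 1
      exact mk_eq_iff.2 (Or.inr (by rw [Matrix.SpecialLinearGroup.coe_neg, neg_neg]))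
    have hne : (⟨-1, hneg⟩ : ↥(normalizer (R0 : Set SL(2, F)))) ≠ 1 := fun e => by
      have e1 := congrFun (congrFun (congrArg (fun x : SL(2, F) => (x : Matrix (Fin 2) (Fin 2) F))
        (congrArg Subtype.val e)) 0) 0
      simp at e1
      exact two_ne_zero_of (by omega : Fintype.card F % 2 = 1) (by linear_combination -e1)
    have : 2 ≤ Nat.card f'.ker :=
      Nat.succ_le_of_lt (f'.ker.one_lt_card_iff_ne_bot.2 fun e => hne (Subgroup.mem_bot.1 (e ▸ hk)))
    nlinarith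
  · rintro τ ⟨a, rfl⟩ hτ l hl
    obtain ⟨L, rfl⟩ := QuotientGroup.mk_surjective l
    obtain ⟨b, hb⟩ := hl
    rw [hgapp, hgapp] at hb
    have hb' : pr (torusSL (b ^ 4)) = pr (L⁻¹ * torusSL (a ^ 4) * L) := hb
    obtain ⟨b', hb''⟩ : ∃ b', L⁻¹ * torusSL (a ^ 4) * L = torusSL b' := by
      rcases mk_eq_iff.1 hb' with e | e
      · exact ⟨b ^ 4, Subtype.ext e⟩
      · obtain ⟨z, hz⟩ := hw.neg_one_mem
        refine ⟨z * b ^ 4, ?_⟩
        rw [map_mul, hz, neg_mul, one_mul]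
        exact Subtype.ext (by rw [Matrix.SpecialLinearGroup.coe_neg, ← e])
    have ha2 : (a ^ 4) ^ 2 ≠ 1 := fun h => hτ (by rw [hgapp, hodd4 a h, map_one]; rfl)
    have hb2 : b' ^ 2 ≠ 1 := fun h => ha2 (hw.inj (by
      rw [map_pow, map_one]
      have e : L⁻¹ * torusSL (a ^ 4) ^ 2 * L = 1 := by
        rw [show L⁻¹ * torusSL (a ^ 4) ^ 2 * L = (L⁻¹ * torusSL (a ^ 4) * L) ^ 2 by
          rw [pow_two, pow_two]; group, hb'', ← map_pow, h, map_one]
      calc torusSL (a ^ 4) ^ 2 = L * (L⁻¹ * torusSL (a ^ 4) ^ 2 * L) * L⁻¹ := by group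
        _ = 1 := by rw [e]; group))
    have hLN : L ∈ normalizer (R0 : Set SL(2, F)) := by
      rw [Subgroup.mem_normalizer_iff]
      intro x
      rw [show R0 = (torusSL (F := F)).range from rfl]
      conv_lhs => rw [← hw.centralizer_singleton hb2, mem_centralizer_singleton_iff]
      conv_rhs => rw [← hw.centralizer_singleton ha2, mem_centralizer_singleton_iff]
      rw [← hb'']
      constructor
      · intro h
        calc L * x * L⁻¹ * torusSL (a ^ 4) = L * (x * (L⁻¹ * torusSL (a ^ 4) * L)) * L⁻¹ := by group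
          _ = torusSL (a ^ 4) * (L * x * L⁻¹) := by rw [h]; group
      · intro h
        calc x * (L⁻¹ * torusSL (a ^ 4) * L) = L⁻¹ * (L * x * L⁻¹ * torusSL (a ^ 4)) * L := by group
          _ = L⁻¹ * torusSL (a ^ 4) * L * x := by rw [h]; group
    exact ⟨⟨L, hLN⟩, rfl⟩

variable {G : Type u} [Group G] [Fintype G] {F : Type} [Field F] [Fintype F] {c : Cfg G F}

/-- The sum of a character over the coset by a central involution. -/
theorem exists_int_sum_invol_coset {χ : G → ℂ} (hχ : IsCharacter G χ) {t : G} (ht : t * t = 1)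
    (ht1 : t ≠ 1) (R : Subgroup G) [Fintype R] (hc : ∀ x ∈ R, Commute t x) :
    ∃ k : ℤ, ∑ x : R, χ (t * x) = (Nat.card R : ℂ) * k := by
  classical
  set Z := zpowers t
  haveI := Fintype.ofFinite Z
  have hcomm : ∀ (z : Z) (x : R), Commute (Z.subtype z) (R.subtype x) := by
    rintro ⟨z, hz⟩ x
    obtain ⟨k, rfl⟩ := Subgroup.mem_zpowers_iff.1 hz
    exact (hc x x.2).zpow_left k
  obtain ⟨n1, h1⟩ := (hχ.comp (MonoidHom.noncommCoprod Z.subtype R.subtype hcomm)).exists_nat_classInner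
    (isCharacter_one (G := Z × R))
  obtain ⟨n0, h0⟩ := (hχ.comp R.subtype).exists_nat_classInner (isCharacter_one (G := R))
  have hR : (Nat.card R : ℂ) ≠ 0 := Nat.cast_ne_zero.2 Nat.card_pos.ne'
  have hZ : Nat.card Z = 2 := by
    rw [Nat.card_zpowers]
    exact orderOf_eq_prime (by rw [pow_two, ht]) ht1
  simp only [classInner, map_one, mul_one] at h1 h0
  rw [Fintype.sum_prod_type, Nat.card_prod, hZ,
    Fintype.sum_eq_add (1 : Z) ⟨t, mem_zpowers t⟩ (fun e => ht1 (congrArg Subtype.val e).symm)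
      (fun z hz => ?_)] at h1
  · refine ⟨2 * n1 - n0, ?_⟩
    simp only [MonoidHom.noncommCoprod_apply, Subgroup.coe_subtype, OneMemClass.coe_one, one_mul] at h1
    simp only [Subgroup.coe_subtype] at h0
    rw [inv_mul_eq_iff_eq_mul₀ hR] at h0
    push_cast at h1 ⊢
    rw [inv_mul_eq_iff_eq_mul₀ (mul_ne_zero two_ne_zero hR), h0] at h1
    linear_combination h1
  · exfalso
    obtain ⟨k, hk⟩ := Subgroup.mem_zpowers_iff.1 z.2
    rcases Int.even_or_odd k with ⟨j, rfl⟩ | ⟨j, rfl⟩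
    · refine hz.1 (Subtype.ext ?_)
      rw [← hk, zpow_add, ← (Commute.refl t).mul_zpow, ht, _root_.one_zpow, OneMemClass.coe_one]
    · refine hz.2 (Subtype.ext ?_)
      rw [← hk, zpow_add, zpow_mul, zpow_two, ht, _root_.one_zpow, one_mul, zpow_one]

open Classical in
/-- Column orthogonality against a set. -/
theorem sum_normSq_le {A : Finset G} {B : ℕ}
    (hA : ∀ a ∈ A, (Finset.univ.filter fun x : G => x⁻¹ * a * x ∈ A).card ≤ B) :
    ∑ χ : IrrCharacter G, Complex.normSq (∑ a ∈ A, (χ : G → ℂ) a) ≤ (A.card : ℝ) * B := by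
  set f : G → ℂ := fun g => ((Finset.univ.filter fun x : G => x⁻¹ * g * x ∈ A).card : ℂ)
  have hf : IsClassFunction G f := by
    intro g k
    show ((_ : ℕ) : ℂ) = _
    congr 1
    refine Finset.card_nbij' (fun x => k⁻¹ * x) (fun x => k * x) ?_ ?_ ?_ ?_
    · intro x hx
      simp only [Finset.coe_filter, Finset.mem_univ, true_and, Set.mem_ofPred_eq] at hx ⊢
      rwa [show (k⁻¹ * x)⁻¹ * g * (k⁻¹ * x) = x⁻¹ * (k * g * k⁻¹) * x by group]
    · intro x hx
      simp only [Finset.coe_filter, Finset.mem_univ, true_and, Set.mem_ofPred_eq] at hx ⊢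
      rwa [show (k * x)⁻¹ * (k * g * k⁻¹) * (k * x) = x⁻¹ * g * x by group]
    · intro x _; group
    · intro x _; group
  have hin : ∀ {θ : G → ℂ}, IsClassFunction G θ → classInner f θ = ∑ a ∈ A, conj (θ a) := by
    intro θ hθ
    simp only [classInner, f, ← Finset.sum_boole, Finset.sum_mul]
    rw [Finset.sum_comm]
    have e : ∀ x : G, ∑ g : G, (if x⁻¹ * g * x ∈ A then (1 : ℂ) else 0) * conj (θ g) =
        ∑ a ∈ A, conj (θ a) := by
      intro x
      simp only [ite_mul, one_mul, zero_mul]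
      rw [← Finset.sum_filter]
      refine Finset.sum_nbij' (fun g => x⁻¹ * g * x) (fun a => x * a * x⁻¹) (fun g hg => ?_)
        (fun a ha => ?_) (fun g _ => by group) (fun a _ => by group) (fun g _ => ?_)
      · simpa using hg
      · have e : x⁻¹ * (x * a * x⁻¹) * x = a := by group
        simpa [e] using ha
      · rw [← hθ g x⁻¹, inv_inv]
    simp only [e, Finset.sum_const, Finset.card_univ, nsmul_eq_mul, ← Nat.card_eq_fintype_card]
    rw [← mul_assoc, inv_mul_cancel₀ card_cast_ne_zero, one_mul]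
  have h1 := classInner_eq_sum (f' := f) hf
  rw [hin hf] at h1
  have h2 : ∀ χ : IrrCharacter G, classInner f (χ : G → ℂ) * conj (classInner f (χ : G → ℂ)) =
      ((Complex.normSq (∑ a ∈ A, (χ : G → ℂ) a) : ℝ) : ℂ) := fun χ => by
    rw [Complex.mul_conj, hin χ.2.isClassFunction, ← map_sum, Complex.normSq_conj]
  simp only [h2, f, map_natCast] at h1
  have h3 : ∑ χ : IrrCharacter G, Complex.normSq (∑ a ∈ A, (χ : G → ℂ) a) =
      ((∑ a ∈ A, (Finset.univ.filter fun x : G => x⁻¹ * a * x ∈ A).card : ℕ) : ℝ) := by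
    refine Complex.ofReal_injective ?_
    push_cast
    exact h1.symm
  rw [h3]
  have h4 := Finset.sum_le_card_nsmul A _ B hA
  rw [smul_eq_mul] at h4
  exact_mod_cast h4

theorem Cfg.card_dual (c : Cfg G F) : Nat.card c.Dual = c.f := by
  haveI := c.cyclic
  letI : CommGroup (fieldPart c.S) := IsCyclic.commGroup
  exact card_monoidHom_units (fieldPart c.S)

/-- The exponent has order six on a nontrivial element of the torus. -/
theorem pow_free_six {τ : G} {cc m : ℕ} (hdm : orderOf τ ∣ m) (hmodd : Odd m) (h3m : ¬ 3 ∣ m)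
    (hcq : cc * cc + 1 = cc + 3 * m) (hτ1 : τ ≠ 1) {j : ℕ} (hj : 0 < j) (hj6 : j < 6) :
    τ ^ cc ^ j ≠ τ := by
  intro e
  set d := orderOf τ with hd
  have hd1 : d ≠ 1 := fun e => hτ1 (orderOf_eq_one_iff.1 e)
  have hdodd : Odd d := hmodd.of_dvd_nat hdm
  haveI : Fact (1 < d) := ⟨by
    have : 0 < d := orderOf_pos τ
    omega⟩
  have hpow : ((cc : ZMod d)) ^ j = 1 := by
    rw [← Nat.cast_pow, ← Nat.cast_one, ZMod.natCast_eq_natCast_iff, hd, ← pow_eq_pow_iff_modEq,
      pow_one]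
    exact e
  have hquad : (cc : ZMod d) * cc + 1 = cc := by
    have h := congrArg (Nat.cast : ℕ → ZMod d) hcq
    push_cast at h
    rwa [(ZMod.natCast_eq_zero_iff m d).2 hdm, mul_zero, add_zero] at h
  have hne : ∀ k : ℕ, 0 < k → k < 4 → (k : ZMod d) ≠ 0 := by
    intro k hk hk4 h0
    have hdk := (ZMod.natCast_eq_zero_iff k d).1 h0
    have := Nat.le_of_dvd hk hdk
    have h3 : d ≠ 3 := fun e => h3m (e ▸ hdm)
    rw [Nat.odd_iff] at hdodd
    omega
  have e3 : (cc : ZMod d) ^ 3 = -1 := by linear_combination ((cc : ZMod d) + 1) * hquad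
  interval_cases j
  · rw [pow_one] at hpow
    rw [hpow] at hquad
    exact hne 1 one_pos (by norm_num) (by push_cast; linear_combination hquad)
  · refine hne 3 (by norm_num) (by norm_num) ?_
    have h2 : (cc : ZMod d) = 2 := by linear_combination hpow - hquad
    rw [h2] at hquad
    push_cast
    linear_combination hquad
  · rw [e3] at hpow
    exact hne 2 two_pos (by norm_num) (by push_cast; linear_combination -hpow)
  · rw [pow_succ, e3, neg_one_mul, neg_eq_iff_eq_neg] at hpow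
    rw [hpow] at hquad
    exact hne 3 (by norm_num) (by norm_num) (by push_cast; linear_combination hquad)
  · rw [show (5 : ℕ) = 3 + 2 from rfl, pow_add, e3, neg_one_mul] at hpow
    have h0 : (cc : ZMod d) = 0 := by linear_combination -hpow - hquad
    rw [h0] at hquad
    exact hne 1 one_pos (by norm_num) (by push_cast; linear_combination hquad)

theorem pow_period_six {τ : G} {cc m : ℕ} (hdm : orderOf τ ∣ m)
    (hcq : cc * cc + 1 = cc + 3 * m) : τ ^ cc ^ 6 = τ := by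
  nth_rewrite 2 [← pow_one τ]
  rw [pow_eq_pow_iff_modEq, ← ZMod.natCast_eq_natCast_iff]
  have hquad : (cc : ZMod (orderOf τ)) * cc + 1 = cc := by
    have h := congrArg (Nat.cast : ℕ → ZMod (orderOf τ)) hcq
    push_cast at h
    rwa [(ZMod.natCast_eq_zero_iff m _).2 hdm, mul_zero,
      add_zero] at h
  push_cast
  linear_combination ((cc : ZMod (orderOf τ)) ^ 4 + (cc : ZMod (orderOf τ)) ^ 3 -
    (cc : ZMod (orderOf τ)) - 1) * hquad

theorem abs_lower {m : ℕ} {K z : ℤ} (hm7 : 7 ≤ m) (h3m : ¬ 3 ∣ m)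
    (hz' : (m : ℤ) * (K - 8) + 3 = z * 6) :
    (9 : ℝ) * ((m : ℝ) - 1) ^ 2 ≤ Complex.normSq (((m : ℤ) * (K - 8) + 3 : ℤ) : ℂ) := by
  obtain ⟨J, hJ⟩ : ∃ J, K - 8 = 3 * J := by
    have h3 : (3 : ℤ) ∣ (m : ℤ) * (K - 8) := ⟨2 * z - 1, by linarith⟩
    rcases Int.prime_three.dvd_or_dvd h3 with h | h
    · exact absurd (by exact_mod_cast h) h3m
    · exact h
  have hJ0 : J ≠ 0 := by
    rintro rfl
    rw [hJ] at hz'
    omega
  have hsq : ((3 * ((m : ℤ) - 1)) ^ 2 : ℤ) ≤ ((m : ℤ) * (K - 8) + 3) ^ 2 := by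
    rw [hJ]
    rcases lt_or_gt_of_ne hJ0 with h | h
    · have : (m : ℤ) * (3 * J) + 3 ≤ -(3 * ((m : ℤ) - 1)) := by nlinarith
      nlinarith
    · have : 3 * ((m : ℤ) - 1) ≤ (m : ℤ) * (3 * J) + 3 := by nlinarith
      nlinarith
  rw [← Complex.ofReal_intCast, Complex.normSq_ofReal]
  have hR : ((((3 * ((m : ℤ) - 1)) ^ 2 : ℤ)) : ℝ) ≤ (((((m : ℤ) * (K - 8) + 3) ^ 2) : ℤ) : ℝ) := by
    exact_mod_cast hsq
  push_cast at hR ⊢
  linarith

open Classical in
/-- How often an element of `t T#` is moved into it. -/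
theorem Cfg.count_le (c : Cfg G F) {T N : Subgroup PSL2[F]} (hN : Nat.card N ≤ Fintype.card F + 1)
    (hTN : ∀ τ ∈ T, τ ≠ 1 → ∀ l, l⁻¹ * τ * l ∈ T → l ∈ N) (hmodd : Odd (Nat.card (T.map c.φ)))
    {a : G} (ha : a ∈ ((Finset.univ : Finset G).filter fun τ => τ ∈ T.map c.φ ∧ τ ≠ 1).image (c.t * ·)) :
    (Finset.univ.filter fun x : G => x⁻¹ * a * x ∈
      ((Finset.univ : Finset G).filter fun τ => τ ∈ T.map c.φ ∧ τ ≠ 1).image (c.t * ·)).card ≤
      c.f * (2 * (Fintype.card F + 1)) := by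
  set TG := T.map c.φ with hTG
  set m := Nat.card TG
  have hcomm : ∀ τ ∈ TG, Commute c.t τ := by
    rintro _ ⟨l, -, rfl⟩
    exact (c.φ_comm l).symm
  have hord : ∀ τ ∈ TG, τ ^ m = 1 := fun τ hτ =>
    congrArg Subtype.val (pow_card_eq_one' (x := (⟨τ, hτ⟩ : TG)))
  have htodd : ∀ {k : ℕ}, Odd k → c.t ^ k = c.t := fun {k} hk => by
    obtain ⟨j, rfl⟩ := hk
    rw [pow_succ, pow_mul, pow_two, c.t_sq, one_pow, one_mul]
  set A : Finset G :=
    ((Finset.univ : Finset G).filter fun τ => τ ∈ TG ∧ τ ≠ 1).image (c.t * ·) with hA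
  obtain ⟨τ, hτ, rfl⟩ := Finset.mem_image.1 ha
  obtain ⟨-, hτT, hτ1⟩ := Finset.mem_filter.1 hτ
  have hxt : ∀ x : G, x⁻¹ * (c.t * τ) * x ∈ A → x * c.t = c.t * x ∧ x⁻¹ * τ * x ∈ TG := by
    intro x hx
    obtain ⟨τ', hτ', e⟩ := Finset.mem_image.1 hx
    obtain ⟨-, hτ'T, -⟩ := Finset.mem_filter.1 hτ'
    have ep := congrArg (· ^ m) e
    simp only [(hcomm τ' hτ'T).mul_pow, hord τ' hτ'T, mul_one, htodd hmodd] at ep
    rw [show x⁻¹ * (c.t * τ) * x = x⁻¹ * (c.t * τ) * x⁻¹⁻¹ by group, conj_pow, inv_inv,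
      (hcomm τ hτT).mul_pow, hord τ hτT, mul_one, htodd hmodd] at ep
    have hxt : x * c.t = c.t * x := by
      calc x * c.t = x * (x⁻¹ * c.t * x) := by rw [← ep]
        _ = c.t * x := by group
    refine ⟨hxt, ?_⟩
    have e' : x⁻¹ * (c.t * τ) * x = c.t * (x⁻¹ * τ * x) := by
      calc x⁻¹ * (c.t * τ) * x = x⁻¹ * (c.t * x) * (x⁻¹ * τ * x) := by group
        _ = c.t * (x⁻¹ * τ * x) := by rw [← hxt]; group
    rw [e'] at e
    exact mul_left_cancel e ▸ hτ'T
  set X := Finset.univ.filter fun x : G => x⁻¹ * (c.t * τ) * x ∈ A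
  let pf : G → fieldPart c.S := fun x =>
    if h : x ∈ c.Ct then c.π ⟨x, h⟩ else 1
  have hpf : ∀ y ∈ X.image pf, (X.filter fun x => pf x = y).card ≤ 2 * (Fintype.card F + 1) := by
    intro y hy
    obtain ⟨x₀, hx₀, rfl⟩ := Finset.mem_image.1 hy
    obtain ⟨hx₀t, hx₀T⟩ := hxt x₀ (Finset.mem_filter.1 hx₀).2
    have hsub : (X.filter fun x => pf x = pf x₀) ⊆
        (Finset.univ : Finset (Bool × N)).image fun p =>
          x₀ * ((if p.1 then c.t else 1) * c.φ p.2) := by
      intro x hx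
      obtain ⟨hxX, hxp⟩ := Finset.mem_filter.1 hx
      obtain ⟨hxt', hxT⟩ := hxt x (Finset.mem_filter.1 hxX).2
      have h0 : x₀ ∈ c.Ct := mem_centralizer_singleton_iff.2 hx₀t
      have h1 : x ∈ c.Ct := mem_centralizer_singleton_iff.2 hxt'
      have hg : x₀⁻¹ * x ∈ c.Ct := mul_mem (inv_mem h0) h1
      simp only [pf, dif_pos h0, dif_pos h1] at hxp
      have hπ : c.π ⟨x₀⁻¹ * x, hg⟩ = 1 := by
        rw [show (⟨x₀⁻¹ * x, hg⟩ : c.Ct) = ⟨x₀, h0⟩⁻¹ * ⟨x, h1⟩ from rfl, map_mul, map_inv, hxp,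
          inv_mul_cancel]
      obtain ⟨l, hl⟩ := c.exists_of_π_eq_one (mem_centralizer_singleton_iff.1 hg) hπ
      obtain ⟨l₁, hl₁, e₁⟩ := hx₀T
      have hl₁1 : l₁ ≠ 1 := fun e => hτ1 (by
        rw [e, map_one] at e₁
        calc τ = x₀ * (x₀⁻¹ * τ * x₀) * x₀⁻¹ := by group
          _ = 1 := by rw [← e₁]; group)
      have key : x⁻¹ * τ * x = c.φ (l⁻¹ * l₁ * l) := by
        have e : x⁻¹ * τ * x = (x₀⁻¹ * x)⁻¹ * (x₀⁻¹ * τ * x₀) * (x₀⁻¹ * x) := by group
        rw [e, ← e₁, map_mul, map_mul, map_inv]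
        rcases hl with hl | hl <;> rw [hl]
        rw [_root_.mul_inv_rev, c.t_inv,
          show (c.φ l)⁻¹ * c.t * c.φ l₁ * (c.t * c.φ l) = (c.φ l)⁻¹ * (c.t * c.φ l₁ * c.t) * c.φ l by
            group, ← c.φ_comm, mul_assoc (c.φ l₁), c.t_sq, mul_one]
      have hlN : l ∈ N := by
        rw [key] at hxT
        obtain ⟨l', hl', e'⟩ := hxT
        exact hTN l₁ hl₁ hl₁1 l (c.φ_inj e' ▸ hl')
      rcases hl with hl | hl
      · refine Finset.mem_image.2 ⟨(false, ⟨l, hlN⟩), Finset.mem_univ _, ?_⟩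
        show x₀ * ((1 : G) * c.φ l) = x
        rw [one_mul, ← hl, mul_inv_cancel_left]
      · refine Finset.mem_image.2 ⟨(true, ⟨l, hlN⟩), Finset.mem_univ _, ?_⟩
        show x₀ * (c.t * c.φ l) = x
        rw [← hl, mul_inv_cancel_left]
    refine ((Finset.card_le_card hsub).trans Finset.card_image_le).trans ?_
    rw [Finset.card_univ, Fintype.card_prod, Fintype.card_bool, ← Nat.card_eq_fintype_card]
    exact Nat.mul_le_mul_left 2 hN
  refine (Finset.card_le_mul_card_image X (2 * (Fintype.card F + 1)) hpf).trans ?_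
  rw [mul_comm]
  exact Nat.mul_le_mul_right _ ((Finset.card_le_univ _).trans_eq Nat.card_eq_fintype_card.symm)

namespace Full

variable (D : Full c)
include D

/-- There is no nontrivial field part. -/
theorem absurd_field [IsSimpleGroup G] : False := by
  classical
  obtain ⟨n, ⟨i, rfl⟩, hn3, hq⟩ := D.q_pow
  have h8 := D.q_mod_eight
  obtain ⟨T, N, hT4, hN, hTN⟩ := exists_odd_torus (F := F) h8
  have hf7 := D.seven_le_f
  set TG := T.map c.φ with hTG
  set m := Nat.card TG with hmdef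
  have hm : m * 4 = Fintype.card F + 1 := by
    rw [hmdef, hTG, Subgroup.card_map_of_injective c.φ_inj, hT4]
  have hq27 : 27 ≤ Fintype.card F := by
    rw [hq]
    exact le_trans (by norm_num) (Nat.pow_le_pow_right (by norm_num : 1 ≤ 3) hn3)
  have hm7 : 7 ≤ m := by omega
  have hmodd : Odd m := Nat.odd_iff.2 (by omega)
  have h3m : ¬ 3 ∣ m := fun h => by
    have := D.three_dvd_q
    omega
  have hmf : m.Coprime c.f := Nat.coprime_of_dvd fun r hr h1 h2 =>
    (D.prime_dvd_f hr h2).2.2.2.2 (hm ▸ h1.mul_right 4)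
  have hmB : m.Coprime (Nat.card D.B) := by
    rw [D.card_B]
    refine ((Nat.Coprime.pow_right 3 ?_).mul_right ((Nat.Coprime.mul_right ?_ hmf)))
    · refine Nat.coprime_of_dvd fun r hr h1 h2 => ?_
      have := Nat.dvd_sub (hm ▸ h1.mul_right 4) h2
      rw [Nat.add_sub_cancel_left, Nat.dvd_one] at this
      exact hr.ne_one this
    · refine Nat.coprime_of_dvd fun r hr h1 h2 => ?_
      have := Nat.dvd_sub (hm ▸ h1.mul_right 4) h2
      rw [show Fintype.card F + 1 - (Fintype.card F - 1) = 2 by omega] at this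
      obtain rfl := (Nat.prime_dvd_prime_iff_eq hr Nat.prime_two).1 this
      rw [Nat.odd_iff] at hmodd
      omega
  have hcomm : ∀ τ ∈ TG, Commute c.t τ := by
    rintro _ ⟨l, -, rfl⟩
    exact (c.φ_comm l).symm
  have hord : ∀ τ ∈ TG, τ ^ m = 1 := fun τ hτ =>
    congrArg Subtype.val (pow_card_eq_one' (x := (⟨τ, hτ⟩ : TG)))
  have htodd : ∀ {k : ℕ}, Odd k → c.t ^ k = c.t := fun {k} hk => by
    obtain ⟨j, rfl⟩ := hk
    rw [pow_succ, pow_mul, pow_two, c.t_sq, one_pow, one_mul]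
  set A : Finset G :=
    ((Finset.univ : Finset G).filter fun τ => τ ∈ TG ∧ τ ≠ 1).image (c.t * ·) with hA
  have hAcard : (A.card : ℕ) = m - 1 := by
    rw [hA, Finset.card_image_of_injective _ (mul_right_injective c.t)]
    rw [show ((Finset.univ : Finset G).filter fun τ => τ ∈ TG ∧ τ ≠ 1) =
      ((Finset.univ : Finset G).filter fun τ => τ ∈ TG).erase 1 by ext; simp [and_comm]]
    rw [Finset.card_erase_of_mem (by simp), hmdef, Nat.card_eq_fintype_card, Fintype.card_subtype]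
  -- how often an element of `t T#` is moved into it
  have hcount : ∀ a ∈ A, (Finset.univ.filter fun x : G => x⁻¹ * a * x ∈ A).card ≤
      c.f * (2 * (Fintype.card F + 1)) := fun a ha => c.count_le hN hTN hmodd ha
  -- the exponent `c` of order six
  set cc := (1 + 3 ^ (i + 1)) / 2 with hcc
  have hcc2 : 2 * cc = 1 + 3 ^ (i + 1) := by
    have : Odd (3 ^ (i + 1)) := Odd.pow ⟨1, rfl⟩
    rw [Nat.odd_iff] at this
    omega
  have hcq : cc * cc + 1 = cc + 3 * m := by
    have h1 : (2 * cc) * (2 * cc) + 4 = 2 * (2 * cc) + 3 * (m * 4) := by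
      rw [hcc2, hm, hq]
      ring
    linarith
  have hfree : ∀ {τ : G}, τ ∈ TG → τ ≠ 1 → ∀ j, 0 < j → j < 6 → τ ^ cc ^ j ≠ τ :=
    fun hτ hτ1 j hj hj6 => pow_free_six (Subgroup.orderOf_dvd_natCard TG hτ) hmodd h3m hcq hτ1 hj hj6
  have hper : ∀ {τ : G}, τ ∈ TG → τ ^ cc ^ 6 = τ :=
    fun hτ => pow_period_six (Subgroup.orderOf_dvd_natCard TG hτ) hcq
  have hcm : cc.Coprime m := by
    refine Nat.coprime_of_dvd fun r hr h1 h2 => ?_
    have hd : r ∣ cc * cc + 1 := hcq ▸ dvd_add h1 (h2.mul_left 3)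
    have := (Nat.dvd_add_right (h1.mul_left cc)).1 hd
    exact hr.ne_one (Nat.dvd_one.1 this)
  obtain ⟨k₀, hk₀m, hk₀f⟩ := Nat.chineseRemainder hmf cc 1
  have hk₀ : k₀.Coprime (m * c.f) := by
    refine Nat.Coprime.mul_right ?_ ?_
    · rw [Nat.coprime_iff_gcd_eq_one, hk₀m.gcd_eq]; exact hcm
    · rw [Nat.coprime_iff_gcd_eq_one, hk₀f.gcd_eq, Nat.gcd_one_left]
  obtain ⟨k, hkG, hk⟩ := exists_exponent (Nat.card_pos (α := G)).ne'
    (hmf.mul_dvd_of_dvd_of_dvd (Subgroup.card_subgroup_dvd_card TG) D.f_dvd_card) hk₀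
  have hkm : k ≡ cc [MOD m] := (hk.of_dvd (dvd_mul_right m c.f)).trans hk₀m
  have hkf : k ≡ 1 [MOD c.f] := (hk.of_dvd (dvd_mul_left c.f m)).trans hk₀f
  have hkodd : Odd k :=
    Nat.coprime_two_right.1 (hkG.coprime_dvd_right (c.orderOf_t ▸ orderOf_dvd_natCard c.t))
  -- the constituents with value `2 q - 1`
  have hex : ∀ μ : {μ : c.Dual // μ ≠ 1}, ∃ P : Pair D μ.1,
      (P.χ : G → ℂ) c.t = 2 * (Fintype.card F : ℂ) - 1 := fun μ => by
    obtain ⟨P⟩ := D.exists_pair μ.1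
    rcases P.t_cases μ.2 with h | h
    exacts [⟨P, h⟩, ⟨P.swap, h⟩]
  choose P hP using hex
  set S : IrrCharacter G → ℂ := fun χ => ∑ a ∈ A, (χ : G → ℂ) a with hS
  have hSsum : ∀ χ : IrrCharacter G,
      S χ = ∑ x : TG, (χ : G → ℂ) (c.t * x) - (χ : G → ℂ) c.t := by
    intro χ
    show ∑ a ∈ A, (χ : G → ℂ) a = _
    rw [hA, Finset.sum_image (mul_right_injective c.t).injOn,
      show ((Finset.univ : Finset G).filter fun τ => τ ∈ TG ∧ τ ≠ 1) =
        ((Finset.univ : Finset G).filter fun τ => τ ∈ TG).erase 1 by ext; simp [and_comm],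
      Finset.sum_erase_eq_sub (by simp), mul_one,
      Finset.sum_subtype _ (p := fun τ => τ ∈ TG) (by simp) fun τ => (χ : G → ℂ) (c.t * τ)]
  have hbig : ∀ μ, (9 : ℝ) * ((m : ℝ) - 1) ^ 2 ≤ Complex.normSq (S (P μ).χ) := by
    intro μ
    obtain ⟨K, hK⟩ := exists_int_sum_invol_coset (P μ).χ.2.isCharacter c.t_sq c.t_ne TG hcomm
    have hSv : S (P μ).χ = (((m : ℤ) * (K - 8) + 3 : ℤ) : ℂ) := by
      rw [hSsum, hK, hP, ← hmdef]
      push_cast
      have : (m : ℂ) * 4 = Fintype.card F + 1 := by exact_mod_cast hm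
      linear_combination 2 * this
    have hint : IsIntegral ℤ (S (P μ).χ / ((6 : ℕ) : ℂ)) := by
      rw [hS]
      simp only [hA]
      rw [Finset.sum_image (mul_right_injective c.t).injOn]
      have hit : ∀ (j : ℕ) (x : G), (fun τ : G => τ ^ cc)^[j] x = x ^ cc ^ j := by
        intro j
        induction j with
        | zero => intro x; rw [Function.iterate_zero_apply, pow_zero, pow_one]
        | succ j ih => intro x; rw [Function.iterate_succ_apply, ih, ← pow_mul, pow_succ']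
      refine isIntegral_sum_div _ (fun τ => τ ^ cc) (by norm_num) (fun τ hτ => ?_) (fun τ hτ => ?_)
        (fun τ hτ j h0 h6 => ?_) _ (fun τ hτ => ?_) fun τ _ => (P μ).χ.2.isCharacter.isIntegral _
      · obtain ⟨-, hT', h1⟩ := Finset.mem_filter.1 hτ
        refine Finset.mem_filter.2 ⟨Finset.mem_univ _, pow_mem hT' _, fun e => h1 ?_⟩
        have hd : orderOf τ ∣ Nat.gcd cc m :=
          Nat.dvd_gcd (orderOf_dvd_of_pow_eq_one e) (Subgroup.orderOf_dvd_natCard TG hT')
        rw [hcm, Nat.dvd_one, orderOf_eq_one_iff] at hd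
        exact hd
      · rw [hit]; exact hper (Finset.mem_filter.1 hτ).2.1
      · rw [hit]; exact hfree (Finset.mem_filter.1 hτ).2.1 (Finset.mem_filter.1 hτ).2.2 j h0 h6
      · obtain ⟨-, hT', -⟩ := Finset.mem_filter.1 hτ
        show (P μ).χ.1 (c.t * τ ^ cc) = (P μ).χ.1 (c.t * τ)
        rw [← (P μ).twist hkG hkf (c.t * τ), (hcomm τ hT').mul_pow, htodd hkodd,
          pow_eq_pow_mod k (hord τ hT'), hkm, ← pow_eq_pow_mod cc (hord τ hT')]
    rw [hSv] at hint
    obtain ⟨z, hz⟩ := exists_int_of_isIntegral_rat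
      (q := (((m : ℤ) * (K - 8) + 3 : ℤ) : ℚ) / 6) (by push_cast; push_cast at hint; exact hint)
    rw [div_eq_iff (by norm_num : (6 : ℚ) ≠ 0)] at hz
    have hz' : (m : ℤ) * (K - 8) + 3 = z * 6 := by exact_mod_cast hz
    rw [hSv]
    exact abs_lower hm7 h3m hz'
  have hneg : ∀ μ, S (P μ).χ' = -S (P μ).χ := by
    intro μ
    rw [eq_neg_iff_add_eq_zero, hS]
    simp only
    rw [← Finset.sum_add_distrib]
    refine Finset.sum_eq_zero fun a ha => ?_
    obtain ⟨τ, hτ, rfl⟩ := Finset.mem_image.1 ha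
    obtain ⟨-, hτT, hτ1⟩ := Finset.mem_filter.1 hτ
    rw [add_comm, ← Pi.add_apply, ← (P μ).eq, Th, indFun, Finset.sum_eq_zero, mul_zero]
    intro x _
    refine extendByZero_of_notMem _ _ fun hx => hτ1 ?_
    have hsq : (x⁻¹ * (c.t * τ) * x) ^ 2 = x⁻¹ * τ ^ 2 * x := by
      rw [show x⁻¹ * (c.t * τ) * x = x⁻¹ * (c.t * τ) * x⁻¹⁻¹ by group, conj_pow,
        (hcomm τ hτT).mul_pow, pow_two c.t, c.t_sq, one_mul, inv_inv]
    have hd1 : orderOf (x⁻¹ * τ ^ 2 * x) ∣ m := by
      refine orderOf_dvd_of_pow_eq_one ?_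
      rw [show x⁻¹ * τ ^ 2 * x = x⁻¹ * τ ^ 2 * x⁻¹⁻¹ by group, conj_pow, ← pow_mul, mul_comm 2 m,
        pow_mul, hord τ hτT, one_pow]
      group
    have hd2 := Subgroup.orderOf_dvd_natCard _ (pow_mem hx 2)
    rw [hsq] at hd2
    have h1 := Nat.eq_one_of_dvd_coprimes hmB hd1 hd2
    rw [orderOf_eq_one_iff] at h1
    have h2 : τ ^ 2 = 1 := by
      calc τ ^ 2 = x * (x⁻¹ * τ ^ 2 * x) * x⁻¹ := by group
        _ = 1 := by rw [h1]; group
    obtain ⟨j, hj⟩ := hmodd
    have h3 := hord τ hτT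
    rwa [hj, pow_succ, pow_mul, h2, one_pow, one_mul] at h3
  -- the rows
  haveI : Finite c.Dual := Nat.finite_of_card_ne_zero (by rw [c.card_dual]; omega)
  haveI := Fintype.ofFinite {μ : c.Dual // μ ≠ 1}
  let ι : {μ : c.Dual // μ ≠ 1} × Bool → IrrCharacter G := fun p =>
    if p.2 then (P p.1).χ else (P p.1).χ'
  have hι : Function.Injective ι := by
    rintro ⟨μ, b⟩ ⟨ν, b'⟩ e
    by_cases h : μ = ν
    · subst h
      cases b <;> cases b' <;> simp only [ι, if_true, if_false, Bool.false_eq_true] at e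
      · rfl
      · exact absurd e.symm (P μ).ne
      · exact absurd e (P μ).ne
      · rfl
    · have h' : μ.1 ≠ ν.1 := fun e => h (Subtype.ext e)
      cases b <;> cases b' <;> simp only [ι, if_true, if_false, Bool.false_eq_true] at e
      · exact absurd e ((P μ).swap.ne_of_ne (P ν).swap h')
      · exact absurd e ((P μ).swap.ne_of_ne (P ν) h')
      · exact absurd e ((P μ).ne_of_ne (P ν).swap h')
      · exact absurd e ((P μ).ne_of_ne (P ν) h')
  have hlow : ∀ p, (9 : ℝ) * ((m : ℝ) - 1) ^ 2 ≤ Complex.normSq (S (ι p)) := by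
    rintro ⟨μ, _ | _⟩ <;> simp only [ι, if_true, if_false, Bool.false_eq_true]
    · rw [hneg, Complex.normSq_neg]; exact hbig μ
    · exact hbig μ
  have hmain : ∑ _p : {μ : c.Dual // μ ≠ 1} × Bool, (9 : ℝ) * ((m : ℝ) - 1) ^ 2 ≤
      (A.card : ℝ) * ((c.f * (2 * (Fintype.card F + 1)) : ℕ) : ℝ) := by
    refine le_trans ?_ (sum_normSq_le hcount)
    refine (Finset.sum_le_sum fun p _ => hlow p).trans ?_
    rw [← Finset.sum_image (f := fun χ => Complex.normSq (S χ)) hι.injOn]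
    exact Finset.sum_le_sum_of_subset_of_nonneg (Finset.subset_univ _)
      fun χ _ _ => Complex.normSq_nonneg _
  have hcard : Fintype.card {μ : c.Dual // μ ≠ 1} = c.f - 1 := by
    haveI := Fintype.ofFinite c.Dual
    rw [← c.card_dual, Nat.card_eq_fintype_card, ← Set.card_ne_eq (1 : c.Dual)]
    exact Fintype.card_congr (Equiv.refl _)
  rw [Finset.sum_const, Finset.card_univ, Fintype.card_prod, Fintype.card_bool, hcard, nsmul_eq_mul,
    hAcard] at hmain
  push_cast [Nat.cast_sub (show 1 ≤ c.f by omega), Nat.cast_sub (show 1 ≤ m by omega)] at hmain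
  have hm' : (m : ℝ) * 4 = Fintype.card F + 1 := by exact_mod_cast hm
  have hf7' : (7 : ℝ) ≤ c.f := by exact_mod_cast hf7
  have hm7' : (7 : ℝ) ≤ m := by exact_mod_cast hm7
  rw [← hm'] at hmain
  have h1 : 18 * ((c.f : ℝ) - 1) * ((m : ℝ) - 1) ≤ 8 * ((c.f : ℝ) * m) :=
    le_of_mul_le_mul_left (by linarith) (show (0 : ℝ) < (m : ℝ) - 1 by linarith)
  have h2 : 15 * (c.f : ℝ) * ((m : ℝ) - 1) ≤ 18 * ((c.f : ℝ) - 1) * ((m : ℝ) - 1) :=
    mul_le_mul_of_nonneg_right (by linarith) (by linarith)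
  have h3 : 0 < (c.f : ℝ) * (7 * m - 15) := mul_pos (by linarith) (by linarith)
  linarith

end Full

/-- The field part is trivial, given the local data. -/
theorem fieldClause_of (H : Type u) [Group H] [Finite H] [IsSimpleGroup H]
    (hna : ¬ IsMulCommutative H)
    (hfull : ∀ (F : Type) [Field F] [Fintype F] (c : Cfg H F),
      fieldPart c.S ≠ ⊥ → Nonempty (Full c))
    (below : FieldBelow H) : FieldClause H := by
  intro S h8 hel h21 t ht2 htS L hL
  by_contra hne
  haveI := Fintype.ofFinite H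
  obtain ⟨F, iF, iT, c, hcS, -⟩ :=
    exists_cfg S ⟨inferInstance, hna, h8, fun x hx => by rw [← pow_two]; exact hel.2 x hx, h21⟩ below ⟨htS, fun e => by rw [e, orderOf_one] at ht2; omega⟩ hL
  obtain ⟨D⟩ := hfull F c (hcS ▸ hne)
  exact D.absurd_field

end Cfsg.Lib.Walter3.Field
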