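import Cfsg.Agent.Lib.Walter3.Field.Sections
import Cfsg.Agent.Lib.Block.Basic
import Cfsg.Agent.Lib.Char.Linear

/-!
# The permutation character of `C(t)` on `q + 1` points and the blocks of `C(t)`

`1 + St` is the permutation character on the cosets of `B ∩ C(t)`; the twists of `1` and `St` by a
character of the field part lie in one two-block, and different twists in different blocks.
-/

set_option autoImplicit false
set_option linter.unusedSectionVars false
set_option linter.style.haveILetI false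

namespace Cfsg.Lib.Walter3.Field

open Subgroup Cfsg Cfsg.Lib.Char Cfsg.Lib.Block
open scoped ComplexConjugate

universe u

variable {G : Type u} [Group G] [Fintype G] {F : Type} [Field F] [Fintype F] {c : Cfg G F}

/-- Two roots of unity of odd order congruent modulo a prime above two. -/
theorem root_congr {M : Ideal AlgInt} (hM : IsPModular 2 M) {A : Type u} [Group A] [Finite A]
    (hA : Odd (Nat.card A)) {K : ℕ} (hK : Odd K) (μ ν : A →* ℂˣ) {y : A}
    (h : MemLocalIdeal M ((K : ℂ) * μ y - (K : ℂ) * ν y)) : μ y = ν y := by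
  haveI : Fact (Nat.Prime 2) := ⟨Nat.prime_two⟩
  have hpow : ((μ y : ℂ) * ((ν⁻¹ : A →* ℂˣ) y : ℂ)) ^ Nat.card A = 1 := by
    rw [← Units.val_mul, ← Units.val_pow_eq_pow_val, ← MonoidHom.mul_apply, ← map_pow,
      pow_card_eq_one', map_one, Units.val_one]
  set ζ : ℂ := (μ y : ℂ) * ((ν⁻¹ : A →* ℂˣ) y : ℂ) with hζ
  have hint : ∀ φ : A →* ℂˣ, (φ y : ℂ) ∈ locRing hM := fun φ =>
    isIntegral_mem_locRing hM ((isIrrCharacter_linear φ).isCharacter.isIntegral y)
  have hζmem : ζ ∈ locRing hM := mul_mem (hint μ) (hint ν⁻¹)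
  have hK1 : res hM (K : ℂ) = 1 := by
    haveI : CharP (resField hM) 2 := inferInstance
    obtain ⟨j, rfl⟩ := hK
    rw [res_natCast]
    push_cast
    rw [show (2 : resField hM) = 0 from CharTwo.two_eq_zero, zero_mul, zero_add]
  have h1 : res hM (μ y : ℂ) = res hM (ν y : ℂ) := by
    have h' := (res_eq_iff hM (mul_mem (natCast_mem _ K) (hint μ))
      (mul_mem (natCast_mem _ K) (hint ν))).2 h
    rwa [res_mul hM (natCast_mem _ K) (hint μ), res_mul hM (natCast_mem _ K) (hint ν), hK1, one_mul,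
      one_mul] at h'
  have h2 : res hM ζ = 1 := by
    rw [hζ, res_mul hM (hint μ) (hint ν⁻¹), h1, ← res_mul hM (hint ν) (hint ν⁻¹), ← Units.val_mul,
      ← MonoidHom.mul_apply, mul_inv_cancel, MonoidHom.one_apply, Units.val_one, res_one]
  by_contra hne
  have hζ1 : ζ ≠ 1 := fun e => hne (by
    rw [hζ, ← Units.val_mul, Units.val_eq_one, MonoidHom.inv_apply, mul_inv_eq_one] at e
    exact e)
  have hg : ∑ j ∈ Finset.range (Nat.card A), ζ ^ j = 0 := by
    rw [geom_sum_eq hζ1, hpow, sub_self, zero_div]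
  have h3 := congrArg (res hM) hg
  rw [res_sum hM _ _ fun j _ => pow_mem hζmem j, res_zero] at h3
  simp only [res_pow hM hζmem, h2, one_pow, Finset.sum_const, Finset.card_range, nsmul_eq_mul,
    mul_one] at h3
  haveI : CharP (resField hM) 2 := inferInstance
  exact (Nat.not_even_iff_odd.2 hA) (even_iff_two_dvd.2 ((CharP.cast_eq_zero_iff _ 2 _).1 h3))

namespace Cfg

variable (c)
include c

/-- A subgroup with order divisible by eight has odd index. -/
theorem odd_index_of_eight {H K : Subgroup G} (h8 : 8 ∣ Nat.card (H.subgroupOf K)) :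
    Odd (H.subgroupOf K).index := by
  rw [← Nat.not_even_iff_odd, even_iff_two_dvd]
  intro h2
  haveI : Fact (Nat.Prime 2) := ⟨Nat.prime_two⟩
  have h16 : 2 ^ 4 ∣ Nat.card G := by
    refine Dvd.dvd.trans ?_ (Subgroup.card_subgroup_dvd_card K)
    rw [← (H.subgroupOf K).card_mul_index]
    exact mul_dvd_mul h8 h2
  have hS : 2 ^ (Nat.card G).factorization 2 = 2 ^ 3 := by
    rw [← Sylow.card_eq_multiplicity c.S]; exact c.hyp.card
  have := (Nat.Prime.pow_dvd_iff_le_factorization Nat.prime_two Nat.card_pos.ne').1 h16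
  have := Nat.pow_right_injective le_rfl hS
  omega

theorem S_le_Ct : (c.S : Subgroup G) ≤ c.Ct := fun s hs =>
  mem_centralizer_singleton_iff.2 (c.hyp.comm hs c.t_mem)

/-- `μ` on `C(t)`. -/
noncomputable def lamC (μ : c.Dual) : IrrCharacter c.Ct := ⟨_, isIrrCharacter_linear (c.lam μ)⟩

theorem lamC_apply (μ : c.Dual) (g : c.Ct) : (c.lamC μ : c.Ct → ℂ) g = (c.lam μ g : ℂ) := rfl

theorem eight_dvd_card_Ct : 8 ∣ Nat.card c.Ct := c.hyp.card ▸ Subgroup.card_dvd_of_le c.S_le_Ct

end Cfg

namespace Full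

variable (D : Full c)
include D

/-- `B ∩ C(t)` inside `C(t)`. -/
abbrev BCs : Subgroup c.Ct := D.BC.subgroupOf c.Ct

open Classical in
/-- The indicator of `B ∩ C(t)`. -/
noncomputable def one_BC (g : G) : ℂ := if g ∈ D.BC then 1 else 0

theorem card_BCs : Nat.card D.BCs = Nat.card D.BC :=
  Nat.card_congr (Subgroup.subgroupOfEquivOfLe D.BC_le_Ct).toEquiv

/-- The permutation character on the cosets of `B ∩ C(t)`. -/
noncomputable def perm (g : c.Ct) : ℂ := (Nat.card {a : c.Ct ⧸ D.BCs // g • a = a} : ℂ)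

theorem perm_eq_card (g : c.Ct) :
    D.perm g = (Nat.card {a : c.Ct ⧸ D.BCs // g • a = a} : ℂ) := rfl

theorem perm_apply [Fintype c.Ct] (g : c.Ct) :
    D.perm g = (Nat.card D.BC : ℂ)⁻¹ * ∑ x : c.Ct, D.one_BC ((x : G)⁻¹ * g * x) := by
  classical
  simp only [one_BC, Finset.sum_boole]
  have e : (Finset.univ.filter fun x : c.Ct => (x : G)⁻¹ * g * x ∈ D.BC).card =
      Nat.card D.BC * Nat.card {a : c.Ct ⧸ D.BCs // g • a = a} := by
    rw [← D.card_BCs, ← Nat.card_prod, ← Fintype.card_subtype, ← Nat.card_eq_fintype_card]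
    refine Nat.card_congr ((Equiv.subtypeEquivRight fun x => ?_).trans
      (QuotientGroup.preimageMkEquivSubgroupProdSet D.BCs {a | g • a = a}))
    show (x : G)⁻¹ * g * x ∈ D.BC ↔ g • (x : c.Ct ⧸ D.BCs) = x
    rw [show g • (x : c.Ct ⧸ D.BCs) = ((g * x : c.Ct) : c.Ct ⧸ D.BCs) from rfl, eq_comm,
      QuotientGroup.eq, ← mul_assoc, Subgroup.mem_subgroupOf]
    rfl
  rw [e, Nat.cast_mul, ← mul_assoc, inv_mul_cancel₀ (Nat.cast_ne_zero.2 Nat.card_pos.ne'), one_mul,
    perm]

theorem perm_eq_ind [Fintype c.Ct] : D.perm = indFun D.BCs (fun _ => (1 : ℂ)) := by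
  classical
  funext g
  rw [D.perm_apply]
  simp only [indFun, D.card_BCs]
  congr 1
  refine Finset.sum_congr rfl fun x _ => ?_
  by_cases h : x⁻¹ * g * x ∈ D.BCs
  · rw [extendByZero_of_mem _ _ h, one_BC,
      if_pos (by simpa [Subgroup.mem_subgroupOf] using h)]
  · rw [extendByZero_of_notMem _ _ h, one_BC,
      if_neg (by simpa [Subgroup.mem_subgroupOf] using h)]

/-- An involution commuting with `g`, other than `t`, has no fixed point, so the count is even. -/
theorem even_fixed {g v : c.Ct} (hv1 : v ≠ 1) (hvt : (v : G) ≠ c.t) (hv2 : v * v = 1)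
    (hvg : Commute v g) : Even (Nat.card {a : c.Ct ⧸ D.BCs // g • a = a}) := by
  classical
  haveI := Fintype.ofFinite {a : c.Ct ⧸ D.BCs // g • a = a}
  have hfree : ∀ a : c.Ct ⧸ D.BCs, v • a ≠ a := by
    intro a ha
    obtain ⟨x, rfl⟩ := QuotientGroup.mk_surjective a
    rw [show v • (x : c.Ct ⧸ D.BCs) = ((v * x : c.Ct) : c.Ct ⧸ D.BCs) from rfl, eq_comm,
      QuotientGroup.eq, ← mul_assoc, Subgroup.mem_subgroupOf] at ha
    push_cast at ha
    have h1 := D.invol_BC ha (fun e => hv1 (Subtype.ext (by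
      rw [OneMemClass.coe_one]
      calc (v : G) = x * ((x : G)⁻¹ * v * x) * (x : G)⁻¹ := by group
        _ = 1 := by rw [e]; group))) (by
      rw [show (x : G)⁻¹ * v * x * ((x : G)⁻¹ * v * x) = (x : G)⁻¹ * ((v * v : c.Ct) : G) * x by
        push_cast; group, hv2]
      simp)
    refine hvt ?_
    calc (v : G) = x * ((x : G)⁻¹ * v * x) * (x : G)⁻¹ := by group
      _ = x * c.t * (x : G)⁻¹ := by rw [h1]
      _ = c.t := by rw [mem_centralizer_singleton_iff.1 x.2, mul_inv_cancel_right]
  rw [even_iff_two_dvd, Nat.card_eq_fintype_card, ← ZMod.natCast_eq_zero_iff, ← Finset.card_univ,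
    Finset.card_eq_sum_ones, Nat.cast_sum]
  refine Finset.sum_involution (fun a _ => ⟨v • (a : c.Ct ⧸ D.BCs), ?_⟩) ?_ ?_ ?_ ?_
  · rw [← mul_smul, ← hvg.eq, mul_smul, a.2]
  · intro a _; decide
  · intro a _ _ e
    exact hfree _ (congrArg Subtype.val e)
  · intro a _; exact Finset.mem_univ _
  · intro a _
    exact Subtype.ext (show v • v • (a : c.Ct ⧸ D.BCs) = a by rw [← mul_smul, hv2, one_smul])

theorem index_BCs : D.BCs.index = Fintype.card F + 1 := by
  have h := D.BCs.card_mul_index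
  rw [D.card_BCs, ← D.card_U_mul] at h
  exact Nat.eq_of_mul_eq_mul_left Nat.card_pos h

theorem perm_one : D.perm 1 = (Fintype.card F : ℂ) + 1 := by
  classical
  haveI := Fintype.ofFinite c.Ct
  rw [D.perm_eq_ind, indFun_apply_one, D.index_BCs, mul_one]
  push_cast
  rfl

theorem isCharacter_perm : IsCharacter c.Ct D.perm := by
  haveI := Fintype.ofFinite c.Ct
  rw [D.perm_eq_ind]
  exact isCharacter_indFun D.BCs isCharacter_one

theorem inner_perm [inst : Fintype c.Ct] : classInner D.perm D.perm = 2 := by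
  classical
  obtain rfl : inst = Subtype.fintype _ := Subsingleton.elim _ _
  haveI := Fintype.ofFinite D.BCs
  have hperm := D.perm_eq_ind
  conv_lhs => arg 1; rw [hperm]
  rw [classInner_indFun _ _ D.isCharacter_perm.isClassFunction, classInner]
  simp only [one_mul, D.perm_apply, map_mul, map_inv₀, Complex.conj_natCast, map_sum, D.card_BCs]
  rw [← Finset.mul_sum, Finset.sum_comm]
  have hreal : ∀ g, conj (D.one_BC g) = D.one_BC g := fun g => by
    rw [one_BC]; split_ifs <;> simp
  have e : ∀ x : c.Ct, ∑ b : D.BCs, conj (D.one_BC ((x : G)⁻¹ * ((b : c.Ct) : G) * x)) =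
      ∑ g : G, D.one_BC g * D.one_BC ((x : G)⁻¹ * g * x) := fun x => by
    simp only [hreal]
    conv_rhs => arg 2; ext g; rw [one_BC, ite_mul, one_mul, zero_mul]
    rw [← Finset.sum_filter]
    refine Finset.sum_bij (fun b _ => ((b : c.Ct) : G))
      (fun b _ => Finset.mem_filter.2 ⟨Finset.mem_univ _, Subgroup.mem_subgroupOf.1 b.2⟩)
      (fun b _ b' _ h => Subtype.ext (Subtype.ext h)) (fun g hg => ?_) fun _ _ => rfl
    exact ⟨⟨⟨g, D.BC_le_Ct (Finset.mem_filter.1 hg).2⟩,
      Subgroup.mem_subgroupOf.2 (Finset.mem_filter.1 hg).2⟩, Finset.mem_univ _, rfl⟩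
  simp only [e]
  have h0 : ∀ g, g ∉ D.BC → D.one_BC g = 0 := fun g hg => by rw [one_BC, if_neg hg]
  have h1 : ∀ g, g ∈ D.BC → D.one_BC g = 1 := fun g hg => by rw [one_BC, if_pos hg]
  rw [D.sum_double_in D.BC c.U c.Ct D.BC_le_Ct (fun v hv => mul_mem (D.BC_le_Ct (D.U_le_BC hv))
    (mem_centralizer_singleton_iff.2 c.i_comm_t)) D.bd.U_le D.BC_le_B h0 (fun v hv g => by
      by_cases hg : g ∈ D.BC
      · rw [h1 g hg, h1 _ (mul_mem (mul_mem (D.U_le_BC hv) hg) (inv_mem (D.U_le_BC hv)))]
      · rw [h0 g hg, h0 _ fun h => hg ?_]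
        have := mul_mem (mul_mem (inv_mem (D.U_le_BC hv)) h) (D.U_le_BC hv)
        rwa [show v⁻¹ * (v * g * v⁻¹) * v = g by group] at this) h0
    (fun x hx g _ _ => D.cent_cases hx)]
  have e1 : ∀ (z : D.BC) (g : D.BC), D.one_BC g * D.one_BC ((z : G)⁻¹ * g * z) = 1 := fun z g => by
    rw [h1 _ g.2, h1 _ (mul_mem (mul_mem (inv_mem z.2) g.2) z.2), one_mul]
  have e2 : ∀ (z : D.BC) (m : c.M),
      D.one_BC m * D.one_BC ((z : G)⁻¹ * (c.i * m * c.i⁻¹) * z) = 1 := fun z m => by
    rw [h1 _ (D.M_le_BC m.2), h1 _ (mul_mem (mul_mem (inv_mem z.2) (D.M_le_BC (c.i_conj_M m.2))) z.2),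
      one_mul]
  simp only [e1, e2, Finset.sum_const, Finset.card_univ, nsmul_eq_mul, mul_one,
    ← Nat.card_eq_fintype_card]
  have hb : (Nat.card D.BC : ℂ) ≠ 0 := Nat.cast_ne_zero.2 Nat.card_pos.ne'
  have hq : (Nat.card c.U : ℂ) * Nat.card c.M = Nat.card D.BC := by
    rw [D.card_BC, c.card_U, c.card_M]; push_cast; ring
  rw [mul_left_comm (Nat.card c.U : ℂ), hq]
  field_simp
  ring

/-- The Steinberg character. -/
noncomputable def St : c.Ct → ℂ := fun g => D.perm g - 1

theorem St_one : D.St 1 = Fintype.card F := by rw [St, D.perm_one]; ring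

theorem isIrr_St : IsIrrCharacter c.Ct D.St := by
  classical
  haveI := Fintype.ofFinite c.Ct
  have hperm := D.perm_eq_ind
  have h1 : classInner D.perm (fun _ : c.Ct => 1) = 1 := by
    haveI := Fintype.ofFinite D.BCs
    rw [hperm, classInner_indFun _ _ (fun _ _ => rfl)]
    exact classInner_irr_self isIrrCharacter_one
  have hgen : IsGeneralizedCharacter c.Ct D.St :=
    D.isCharacter_perm.isGeneralized.sub isCharacter_one.isGeneralized
  have hn : classInner D.St D.St = 1 := by
    have h2 : classInner (fun _ : c.Ct => (1 : ℂ)) D.perm = 1 := by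
      rw [← classInner_conj_symm, h1, map_one]
    rw [show D.St = D.perm - (fun _ : c.Ct => (1 : ℂ)) from rfl, classInner_sub_left, classInner_sub_right, classInner_sub_right, D.inner_perm, h1, h2,
      classInner_irr_self isIrrCharacter_one]
    norm_num
  obtain ⟨ε, χ, hε, e⟩ := exists_signed_irr_of_norm_one hgen hn
  obtain ⟨d, hd, hdeg⟩ := χ.2.exists_degree
  have h3 := congrFun e 1
  rw [D.St_one, Pi.smul_apply, hdeg, smul_eq_mul] at h3
  rcases hε with rfl | rfl
  · rw [e, Int.cast_one, one_smul]; exact χ.2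
  · exfalso
    have : ((Fintype.card F + d : ℕ) : ℂ) = 0 := by push_cast at h3 ⊢; rw [h3]; ring
    have := Nat.cast_eq_zero.1 this
    have := Fintype.card_pos (α := F)
    omega

/-- `μ St` on `C(t)`. -/
noncomputable def stC (μ : c.Dual) : IrrCharacter c.Ct :=
  ⟨_, isIrrCharacter_mul_linear D.isIrr_St (c.lam μ)⟩

theorem stC_apply (μ : c.Dual) (g : c.Ct) :
    (D.stC μ : c.Ct → ℂ) g = D.St g * (c.lam μ g : ℂ) := rfl

variable {M : Ideal AlgInt} (hM : IsPModular 2 M)
include hM

/-- `μ` and `μ St` lie in the same block. -/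
theorem sameBlock_stC (μ : c.Dual) :
    SameBlock M (c.lamC μ : c.Ct → ℂ) (D.stC μ : c.Ct → ℂ) := by
  classical
  haveI : Fact (Nat.Prime 2) := ⟨Nat.prime_two⟩
  haveI : CharP (resField hM) 2 := inferInstance
  intro g
  set Z := centralizer ({g} : Set c.Ct) with hZ
  set P := Nat.card {a : c.Ct ⧸ D.BCs // g • a = a} with hP
  have hq : ¬ 2 ∣ Fintype.card F := by have := c.q_odd; omega
  have hqC : (Fintype.card F : ℂ) ≠ 0 := Nat.cast_ne_zero.2 Fintype.card_ne_zero
  have hev : Even (Z.index * (Fintype.card F + 1 + P)) := by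
    rcases Nat.even_or_odd Z.index with h | h
    · exact h.mul_right _
    · refine Even.mul_left ?_ _
      refine ((Nat.odd_iff.2 c.q_odd).add_one).add ?_
      have h8 : 2 ^ 3 ∣ Nat.card Z := by
        have h' : (8 : ℕ).Coprime Z.index := (Nat.coprime_two_left.2 h).pow_left 3
        refine h'.dvd_of_dvd_mul_right ?_
        rw [Z.card_mul_index]
        exact c.eight_dvd_card_Ct
      obtain ⟨Q, hQ⟩ := Sylow.exists_subgroup_card_pow_prime 2 h8
      obtain ⟨v, hv1, hvt⟩ : ∃ v : Q, v ≠ 1 ∧ ((v : Z) : c.Ct).1 ≠ c.t := by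
        by_contra hne
        push Not at hne
        haveI := Fintype.ofFinite Q
        have hle : Fintype.card Q ≤ 2 := by
          have hinj : Function.Injective fun v : Q => decide (v = 1) := by
            intro a b hab
            simp only [decide_eq_decide] at hab
            by_cases ha : a = 1
            · rw [ha, hab.1 ha]
            · exact Subtype.ext (Subtype.ext (Subtype.ext ((hne a ha).trans
                (hne b fun e => ha (hab.2 e)).symm)))
          simpa using Fintype.card_le_of_injective _ hinj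
        rw [Nat.card_eq_fintype_card] at hQ
        omega
      have hsq : ((v : Z) : c.Ct) * ((v : Z) : c.Ct) = 1 := by
        set w : G := (((v : Z) : c.Ct) : G) with hw
        have ho : orderOf w ∣ 2 ^ 3 := by
          rw [hw, Subgroup.orderOf_coe, Subgroup.orderOf_coe, Subgroup.orderOf_coe, ← hQ]
          exact orderOf_dvd_natCard v
        obtain ⟨k, -, hk⟩ := (Nat.dvd_prime_pow Nat.prime_two).1 ho
        have hp : IsPGroup 2 (zpowers w) := IsPGroup.of_card (n := k) (by rw [Nat.card_zpowers, hk])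
        obtain ⟨T, hT⟩ := hp.exists_le_sylow
        obtain ⟨j, hj⟩ := MulAction.exists_smul_eq G T c.S
        have hmem : j * w * j⁻¹ ∈ (c.S : Subgroup G) := by
          rw [← hj, Sylow.coe_subgroup_smul]
          exact ⟨w, hT (mem_zpowers w), rfl⟩
        refine Subtype.ext ?_
        show w * w = 1
        calc w * w = j⁻¹ * (j * w * j⁻¹ * (j * w * j⁻¹)) * j := by group
          _ = 1 := by rw [c.hyp.sq _ hmem]; group
      exact D.even_fixed (v := ((v : Z) : c.Ct)) (fun e => hv1 (Subtype.ext (Subtype.ext e))) hvt hsq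
        (mem_centralizer_singleton_iff.1 (v : Z).2)
  obtain ⟨z, hz⟩ := hev
  have hval : centralChar (c.lamC μ : c.Ct → ℂ) g - centralChar (D.stC μ : c.Ct → ℂ) g =
      (2 : ℂ) * (((z : ℂ) - (Z.index * P : ℕ)) * (c.lam μ g : ℂ) * (Fintype.card F : ℂ)⁻¹) := by
    simp only [centralChar, stC_apply, Cfg.lamC_apply, St, map_one, Units.val_one,
      mul_one, ← hZ]
    rw [show D.perm 1 - 1 = (Fintype.card F : ℂ) from D.St_one, show D.perm g = (P : ℂ) from rfl]
    have hz' : (Z.index : ℂ) * ((Fintype.card F : ℂ) + 1 + P) = z + z := by exact_mod_cast hz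
    field_simp
    push_cast
    linear_combination hz'
  rw [hval]
  have hmem : ((z : ℂ) - (Z.index * P : ℕ)) * (c.lam μ g : ℂ) * (Fintype.card F : ℂ)⁻¹ ∈ locRing hM :=
    mul_mem (mul_mem (sub_mem (natCast_mem _ z) (natCast_mem _ _))
      (isIntegral_mem_locRing hM ((isIrrCharacter_linear (c.lam μ)).isCharacter.isIntegral g)))
      (inv_natCast_mem_locRing hM hq)
  rw [show (2 : ℂ) = ((2 : ℕ) : ℂ) by norm_num,
    ← res_eq_zero_iff hM (mul_mem (natCast_mem _ 2) hmem), res_mul hM (natCast_mem _ 2) hmem, res_natCast,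
    Nat.cast_ofNat, show (2 : resField hM) = 0 from CharTwo.two_eq_zero, zero_mul]

/-- The class in `C(t)` of an element of the field part. -/
theorem centralChar_lamC (μ : c.Dual) (y : fieldPart c.S) (g : c.Ct) (hg : (g : G) = y) :
    centralChar (c.lamC μ : c.Ct → ℂ) g = ((centralizer ({g} : Set c.Ct)).index : ℂ) * μ y := by
  have : g = ⟨y, c.M_le_Ct (c.F_le_M y.2)⟩ := Subtype.ext hg
  rw [centralChar, Cfg.lamC_apply, Cfg.lamC_apply, map_one, Units.val_one, div_one, this]
  simp only [Cfg.lam, MonoidHom.comp_apply, c.π_y]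

theorem odd_class_y (y : fieldPart c.S) (g : c.Ct) (hg : (g : G) = y) :
    Odd (centralizer ({g} : Set c.Ct)).index := by
  have hle : centralizer ({g} : Set c.Ct) = (centralizer ({(y : G)} : Set G)).subgroupOf c.Ct := by
    ext x
    simp only [mem_centralizer_singleton_iff, Subgroup.mem_subgroupOf, Subtype.ext_iff,
      Subgroup.coe_mul, hg]
  rw [hle]
  refine c.odd_index_of_eight ?_
  rw [← c.hyp.card, Nat.card_congr (Subgroup.subgroupOfEquivOfLe c.S_le_Ct).toEquiv.symm]
  exact Subgroup.card_dvd_of_le fun x hx =>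
    mem_subgroupOf.2 (mem_centralizer_singleton_iff.2 (c.y_comm_S y (mem_subgroupOf.1 hx)).eq.symm)

/-- Different characters of the field part give different blocks of `C(t)`. -/
theorem lamC_block_inj {μ ν : c.Dual}
    (h : SameBlock M (c.lamC μ : c.Ct → ℂ) (c.lamC ν : c.Ct → ℂ)) : μ = ν := by
  refine MonoidHom.ext fun y => ?_
  have hy := h ⟨y, c.M_le_Ct (c.F_le_M y.2)⟩
  rw [D.centralChar_lamC hM μ y _ rfl, D.centralChar_lamC hM ν y _ rfl] at hy
  exact root_congr hM c.odd_f (D.odd_class_y hM y _ rfl) μ ν hy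

/-- The induced central character at an element of the field part. -/
theorem inducedCentralChar_lamC (y : fieldPart c.S) :
    ∃ K : ℕ, Odd K ∧ ∀ μ : c.Dual,
      inducedCentralChar c.Ct (c.lamC μ : c.Ct → ℂ) (y : G) = (K : ℂ) * μ y := by
  classical
  haveI := Fintype.ofFinite c.Ct
  set g : c.Ct := ⟨y, c.M_le_Ct (c.F_le_M y.2)⟩
  refine ⟨_, D.odd_class_y hM y g rfl, fun μ => ?_⟩
  rw [inducedCentralChar, finsum_mem_eq_toFinset_sum]
  have e : ({h : c.Ct | IsConj (y : G) (h : G)} : Set c.Ct).toFinset = classFinset g := by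
    ext h
    simp only [Set.mem_toFinset, Set.mem_ofPred_eq, mem_classFinset, isConj_iff]
    constructor
    · rintro ⟨x, hx⟩
      obtain ⟨k, hk, e⟩ := c.conj_in_cent (y := y) (g := x) (hx.symm ▸ h.2)
      exact ⟨⟨k, hk⟩, Subtype.ext (e.trans hx)⟩
    · rintro ⟨x, rfl⟩
      exact ⟨x, rfl⟩
  rw [e, Finset.sum_congr rfl fun h hh => ?_, Finset.sum_const, card_classFinset, nsmul_eq_mul]
  obtain ⟨x, rfl⟩ := isConj_iff.1 (mem_classFinset.1 hh)
  rw [Cfg.lamC_apply, Cfg.lamC_apply, map_one, Units.val_one, div_one, map_mul, map_mul, map_inv,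
    mul_right_comm, mul_inv_cancel, one_mul]
  show ((μ (c.π g)) : ℂ) = _
  rw [c.π_y]

end Full

end Cfsg.Lib.Walter3.Field
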