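import Cfsg.Agent.Lib.Walter3.Field.Sums
import Mathlib.RingTheory.RootsOfUnity.AlgebraicallyClosed
import Mathlib.GroupTheory.FiniteAbelian.Duality
import Mathlib.RingTheory.RootsOfUnity.PrimitiveRoots

/-!
# An element of prime order of the split torus and a character nontrivial on it

`h = d a` has prime order `s`, is fixed by an element of prime order of the field part, and `χ` is a
character of `s`-power order of `Fˣ`, nontrivial at `a` and invariant under the stabilizer `F₁` of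
`a`.  An element of `B` with nontrivial value of `χ` moves only `B` and `R i B` into `B`.
-/

set_option autoImplicit false
set_option linter.unusedSectionVars false
set_option linter.style.haveILetI false

namespace Cfsg.Lib.Walter3.Field

open Subgroup Cfsg

universe u

variable {G : Type u} [Group G] [Finite G] {F : Type} [Field F] [Fintype F] {c : Cfg G F}

/-- The stabilizer of a unit in the field part. -/
def Cfg.F1 (c : Cfg G F) (a : Fˣ) : Subgroup (fieldPart c.S) where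
  carrier := {y | c.σ y (a : F) = a}
  one_mem' := by simp
  mul_mem' {x y} hx hy := by
    show c.σ (x * y) (a : F) = a
    rw [map_mul, RingAut.mul_apply, (show c.σ y (a : F) = a from hy)]
    exact hx
  inv_mem' {x} hx := by
    show c.σ x⁻¹ (a : F) = a
    conv_lhs => rw [← (show c.σ x (a : F) = a from hx)]
    rw [← RingAut.mul_apply, ← map_mul, inv_mul_cancel, map_one, RingAut.one_apply]

/-- The element of the torus and its character. -/
structure Tor (D : Full c) where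
  a : Fˣ
  prime : (orderOf a).Prime
  five : 5 ≤ orderOf a
  x0 : fieldPart c.S
  x0_prime : (orderOf x0).Prime
  fix : c.σ x0 (a : F) = a
  χ : Fˣ →* ℂˣ
  χ_pow : ∃ k, ∀ e, χ e ^ (orderOf a ^ k) = 1
  χ_a : χ a ≠ 1
  χ_inv : ∀ y ∈ c.F1 a, ∀ e, χ (Units.map (c.σ y : F →* F) e) = χ e

theorem Full.exists_tor (D : Full c) : Nonempty (Tor D) := by
  classical
  obtain ⟨y, hy⟩ := D.exists_prime_order
  obtain ⟨-, ⟨m, hm, hQ⟩, -, -⟩ := D.gen y hy
  set Q := c.fixCard y with hQdef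
  have hQ27 : 27 ≤ Q := by
    rw [hQ]
    exact (show (27 : ℕ) = 3 ^ 3 by norm_num) ▸ Nat.pow_le_pow_right (by norm_num) (by omega)
  have hQ4 : Q % 4 = 3 := by rw [hQ, pow_succ, pow_mul, Nat.mul_mod, Nat.pow_mod]; norm_num
  have hQ3 : 3 ∣ Q := hQ ▸ dvd_pow_self 3 (by omega)
  obtain ⟨s, hs, hsd⟩ := Nat.exists_prime_and_dvd (n := (Q - 1) / 2) (by omega)
  haveI := Fact.mk hs
  have hsQ : s ∣ Q - 1 := by
    obtain ⟨j, hj⟩ := hsd
    exact ⟨2 * j, by rw [mul_left_comm, ← hj]; omega⟩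
  have hs2 : s ≠ 2 := by
    rintro rfl
    omega
  have hs3 : s ≠ 3 := by
    rintro rfl
    omega
  have hs5 : 5 ≤ s := by
    have := hs.two_le
    by_contra h
    have h4 : s = 4 := by omega
    rw [h4] at hs
    exact absurd hs (by decide)
  haveI : Fintype (c.fixField y) := Fintype.ofFinite _
  obtain ⟨a₀, ha₀⟩ := exists_prime_orderOf_dvd_card' (G := (c.fixField y)ˣ) s
    (by rw [Nat.card_units, c.card_fixField]; exact hsQ)
  set f₀ := Units.map (c.fixField y).subtype.toMonoidHom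
  have ha : orderOf (f₀ a₀) = s := by
    rw [orderOf_injective f₀ (Units.map_injective Subtype.val_injective), ha₀]
  set a := f₀ a₀
  have hfix : c.σ y (a : F) = a := (a₀ : c.fixField y).2
  -- `s` does not divide `f`
  have hsq : s ∣ Fintype.card F - 1 := by
    rw [← ha, ← Fintype.card_units]
    exact orderOf_dvd_card
  have hsf : ¬ s ∣ c.f := fun h => (D.prime_dvd_f hs h).2.2.2.1 hsq
  -- a character nontrivial at `a`
  haveI : NeZero (Monoid.exponent Fˣ) := ⟨Monoid.exponent_ne_zero_of_finite⟩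
  obtain ⟨ψ, hψ⟩ := CommGroup.exists_apply_ne_one_of_hasEnoughRootsOfUnity Fˣ ℂ
    (show a ≠ 1 from fun e => by rw [e, orderOf_one] at ha; exact hs.ne_one ha.symm)
  have hpow : ∀ n : ℕ, ¬ s ∣ n → ψ a ^ n ≠ 1 := by
    intro n hn he
    have h1 : orderOf (ψ a) ∣ s := ha ▸ orderOf_map_dvd ψ a
    have h2 : orderOf (ψ a) ∣ n := orderOf_dvd_of_pow_eq_one he
    rcases (Nat.dvd_prime hs).1 h1 with h | h
    · exact hψ (orderOf_eq_one_iff.1 h)
    · exact hn (h ▸ h2)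
  set N := Fintype.card F - 1 with hN
  have hN0 : N ≠ 0 := by have := Fintype.one_lt_card (α := F); omega
  haveI : Fintype (c.F1 a) := Fintype.ofFinite _
  let χ : Fˣ →* ℂˣ := (∏ z : c.F1 a, ψ.comp (Units.map (c.σ z : F →* F))) ^ (ordCompl[s] N)
  have happly : ∀ e, χ e = (∏ z : c.F1 a, ψ (Units.map (c.σ z : F →* F) e)) ^ (ordCompl[s] N) :=
    fun e => by
      show ((∏ z : c.F1 a, ψ.comp (Units.map (c.σ z : F →* F))) ^ (ordCompl[s] N)) e = _
      rw [MonoidHom.pow_apply, MonoidHom.finsetProd_apply]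
      rfl
  refine ⟨⟨a, ha ▸ hs, ha ▸ hs5, y, hy, hfix, χ, ⟨N.factorization s, fun e => ?_⟩, ?_, fun z hz e => ?_⟩⟩
  · rw [happly, ha, ← pow_mul, mul_comm, Nat.ordProj_mul_ordCompl_eq_self, ← Finset.prod_pow]
    refine Finset.prod_eq_one fun z _ => ?_
    rw [← map_pow, show N = Nat.card Fˣ by rw [Nat.card_units, Nat.card_eq_fintype_card],
      pow_card_eq_one', map_one]
  · rw [happly, Finset.prod_eq_pow_card (b := ψ a) fun z _ => by
      rw [show Units.map (c.σ z : F →* F) a = a from Units.ext z.2], ← pow_mul, Finset.card_univ,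
      ← Nat.card_eq_fintype_card]
    refine hpow _ ((Nat.Prime.dvd_mul hs).not.2 ?_)
    rintro (h | h)
    · exact hsf (h.trans (Subgroup.card_subgroup_dvd_card _))
    · exact Nat.not_dvd_ordCompl hs hN0 h
  · rw [happly, happly]
    congr 1
    refine Fintype.prod_equiv (Equiv.mulRight (⟨z, hz⟩ : c.F1 a)) _ _ fun w => ?_
    simp only [Equiv.coe_mulRight, Subgroup.coe_mul, map_mul]
    rfl

namespace Tor

variable {D : Full c} (T : Tor D)
include T

/-- The order of `a`. -/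
noncomputable def s : ℕ := orderOf T.a

theorem s_prime : T.s.Prime := T.prime

theorem s_odd : Odd T.s := T.s_prime.odd_of_ne_two fun e => by
  have h : 5 ≤ T.s := T.five
  omega

theorem s_dvd : T.s ∣ Fintype.card F - 1 := by
  rw [← Nat.card_eq_fintype_card (α := F), ← Nat.card_units]; exact orderOf_dvd_natCard _

theorem s_coprime_f : T.s.Coprime c.f :=
  (Nat.Prime.coprime_iff_not_dvd T.s_prime).2 fun h => (D.prime_dvd_f T.s_prime h).2.2.2.1 T.s_dvd

theorem s_not_dvd_q : ¬ T.s ∣ Fintype.card F ^ 3 := fun h => by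
  have h1 := T.s_prime.dvd_of_dvd_pow h
  have h2 := T.s_dvd
  have := Fintype.one_lt_card (α := F)
  exact T.s_prime.ne_one (Nat.dvd_one.1 ((Nat.dvd_sub h1 h2).trans (by
    rw [show Fintype.card F - (Fintype.card F - 1) = 1 by omega])))

theorem s_not_dvd_two_f : ¬ T.s ∣ 2 * c.f := fun h => by
  rcases (Nat.Prime.dvd_mul T.s_prime).1 h with h | h
  · have := Nat.le_of_dvd two_pos h
    have h5 : 5 ≤ T.s := T.five
    omega
  · exact T.s_prime.ne_one (Nat.eq_one_of_dvd_coprimes T.s_coprime_f dvd_rfl h)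

theorem orderOf_χ (e : Fˣ) : ∃ j, orderOf (T.χ e) = T.s ^ j := by
  obtain ⟨k, hk⟩ := T.χ_pow
  obtain ⟨j, -, hj⟩ := (Nat.dvd_prime_pow T.s_prime).1 (orderOf_dvd_of_pow_eq_one (hk e))
  exact ⟨j, hj⟩

theorem χ_neg : T.χ (-1) = 1 := by
  obtain ⟨j, hj⟩ := T.orderOf_χ (-1)
  have h2 : orderOf (T.χ (-1)) ∣ 2 :=
    orderOf_dvd_of_pow_eq_one (by rw [← map_pow, neg_one_sq, map_one])
  rw [← orderOf_eq_one_iff]
  exact Nat.eq_one_of_dvd_coprimes (Nat.coprime_two_left.2 T.s_odd.pow) h2 hj.dvd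

theorem χ_congr {e e' : Fˣ} (h : c.d e = c.d e') : T.χ e = T.χ e' := by
  have h2 : c.d (e * e'⁻¹) = 1 := by rw [c.d_mul, h, ← c.d_mul, mul_inv_cancel, c.d_one]
  rcases c.d_eq_one.1 h2 with r | r
  · rw [mul_inv_eq_one.1 r]
  · rw [mul_inv_eq_iff_eq_mul.1 r, map_mul, T.χ_neg, one_mul]

/-- The element of the torus. -/
noncomputable def h : G := c.d T.a

theorem sq_ne {e : Fˣ} (he : e ∈ zpowers T.a) (h1 : e ≠ 1) :
    (e : F) ^ 2 ≠ 1 ∧ (e : F) ^ 2 ≠ -1 := by
  have hord : orderOf e = T.s := by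
    have := orderOf_dvd_of_mem_zpowers he
    exact ((Nat.dvd_prime T.s_prime).1 this).resolve_left fun h => h1 (orderOf_eq_one_iff.1 h)
  have key : ∀ n, e ^ n = 1 → ¬ n ∣ 4 := fun n hn h4 => by
    have h5 : 5 ≤ T.s := T.five
    have := (hord ▸ orderOf_dvd_of_pow_eq_one hn).trans h4
    have := Nat.le_of_dvd (by norm_num) this
    omega
  refine ⟨fun h2 => key 2 (Units.ext (by simpa using h2)) ⟨2, rfl⟩, fun h2 => key 4 ?_ dvd_rfl⟩
  refine Units.ext ?_
  rw [Units.val_pow_eq_pow_val, Units.val_one, show (4 : ℕ) = 2 * 2 from rfl, pow_mul, h2, neg_one_sq]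

theorem a_ne_one : T.a ≠ 1 := fun e => T.s_prime.ne_one (by rw [s, e, orderOf_one])

theorem h_ne : T.h ≠ 1 := fun e => by
  obtain ⟨h1, -⟩ := T.sq_ne (mem_zpowers _) T.a_ne_one
  rcases c.d_eq_one.1 e with r | r <;> exact h1 (by rw [r]; simp)

theorem orderOf_h : orderOf T.h = T.s := by
  haveI := Fact.mk T.s_prime
  refine orderOf_eq_prime ?_ T.h_ne
  rw [h, ← c.d_pow, s, pow_orderOf_eq_one, c.d_one]

theorem h_mem_H : T.h ∈ c.H := c.mem_H.2 ⟨T.a, rfl⟩

theorem h_comm_x0 : T.h * (T.x0 : G) = (T.x0 : G) * T.h := by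
  have e := c.y_d T.x0 T.a
  rw [show Units.map (c.σ T.x0 : F →* F) T.a = T.a from Units.ext T.fix] at e
  rw [h]
  conv_lhs => rw [← e]
  rw [inv_mul_cancel_right]

theorem cent_h : centralizer ({T.h} : Set G) ≤ centralizer ({c.t} : Set G) :=
  D.torus T.x0 T.h T.x0_prime T.h_mem_H T.h_comm_x0 (T.orderOf_h ▸ T.s_prime)

theorem eq_pow {g : G} (hg : g ∈ zpowers T.h) : ∃ e ∈ zpowers T.a, g = c.d e := by
  obtain ⟨n, rfl⟩ := Subgroup.mem_zpowers_iff.1 hg
  refine ⟨T.a ^ n, zpow_mem (mem_zpowers _) n, ?_⟩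
  show (c.d T.a) ^ n = _
  exact (map_zpow ((c.φ.comp (QuotientGroup.mk' _)).comp (Cfsg.Lib.TwoDim.splitSL F)) T.a n).symm

/-- The elements of order `s` of `M` lie in `⟨h⟩`. -/
theorem mem_h {m : G} (hm : m ∈ c.M) (ho : orderOf m = T.s) : m ∈ zpowers T.h := by
  haveI := Fact.mk T.s_prime
  obtain ⟨e, y, he⟩ := c.mem_M.1 hm
  set m' : centralizer ({c.t} : Set G) := ⟨m, c.M_le_Ct hm⟩
  have ho' : orderOf m' = T.s := by rw [← Subgroup.orderOf_coe]; exact ho
  have hy : y = 1 := by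
    have h1 : c.π m' = y := c.π_de (g := m') he
    rw [← orderOf_eq_one_iff, ← h1]
    refine Nat.eq_one_of_dvd_coprimes T.s_coprime_f ?_ (orderOf_dvd_natCard _)
    rw [← ho']
    exact orderOf_map_dvd _ _
  subst hy
  simp only [Subgroup.coe_one, mul_one] at he
  obtain ⟨k, hk⟩ := T.s_odd
  rcases he with rfl | rfl
  · have h1 : c.d e ^ T.s = 1 := ho ▸ pow_orderOf_eq_one _
    rw [← c.d_pow] at h1
    have hprim : IsPrimitiveRoot T.a T.s := IsPrimitiveRoot.orderOf T.a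
    have hzp : ∀ e' : Fˣ, e' ^ T.s = 1 → c.d e' ∈ zpowers T.h := by
      intro e' he'
      obtain ⟨i, -, hi⟩ := (hprim.map_of_injective (f := Units.coeHom F) Units.val_injective).eq_pow_of_pow_eq_one
        (ξ := (e' : F)) (by rw [← Units.val_pow_eq_pow_val, he', Units.val_one])
      refine ⟨i, ?_⟩
      show T.h ^ (i : ℤ) = _
      rw [zpow_natCast, h, ← c.d_pow]
      exact congrArg c.d (Units.ext hi)
    rcases c.d_eq_one.1 h1 with r | r
    · exact hzp e r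
    · have : c.d e = c.d (-1 * e) := by rw [c.d_mul, c.d_eq_one.2 (Or.inr rfl), one_mul]
      rw [this]
      refine hzp _ ?_
      rw [mul_pow, r, hk, pow_succ, pow_mul, neg_one_sq, one_pow, one_mul, neg_mul_neg, one_mul]
  · exfalso
    have h1 : (c.t * c.d e) ^ T.s = 1 := ho ▸ pow_orderOf_eq_one _
    have ht : Commute c.t (c.d e) := (c.d_comm_t e).symm
    rw [ht.mul_pow, ← c.d_pow, hk, pow_succ, pow_mul, pow_two, c.t_sq, one_pow, one_mul] at h1
    refine (c.de_unique (e := 1) (y := 1) (e' := e ^ (2 * k + 1)) (y' := 1)).2 ?_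
    rw [Subgroup.coe_one, mul_one, mul_one, h1, c.d_one]

/-- An element normalizing `⟨h⟩` lies in `M ∪ M i`. -/
theorem normalizes_h {u w : G} (hu : u ∈ zpowers T.h) (hu1 : u ≠ 1)
    (hw : w⁻¹ * u * w ∈ zpowers T.h) : w ∈ c.M ∨ w * c.i ∈ c.M := by
  haveI := Fact.mk T.s_prime
  have hord : ∀ g ∈ zpowers T.h, g ≠ 1 → zpowers g = zpowers T.h := by
    intro g hg hg1
    refine Subgroup.eq_of_le_of_card_ge (zpowers_le.2 hg) ?_
    rw [Nat.card_zpowers, Nat.card_zpowers, T.orderOf_h]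
    exact (((Nat.dvd_prime T.s_prime).1 (T.orderOf_h ▸ orderOf_dvd_of_mem_zpowers hg)).resolve_left
      fun e => hg1 (orderOf_eq_one_iff.1 e)).ge
  have hw1 : w⁻¹ * u * w ≠ 1 := fun e => hu1 (by
    calc u = w * (w⁻¹ * u * w) * w⁻¹ := by group
      _ = 1 := by rw [e]; group)
  obtain ⟨e1, he1, rfl⟩ := T.eq_pow hu
  obtain ⟨e2, he2, he2'⟩ := T.eq_pow hw
  have he1' : e1 ≠ 1 := fun e => hu1 (by rw [e, c.d_one])
  have he2'' : e2 ≠ 1 := fun e => hw1 (by rw [he2', e, c.d_one])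
  -- `w⁻¹ t w` centralizes `h`
  have hcomm : Commute (w⁻¹ * c.t * w) (c.d e2) := by
    rw [← he2']
    show w⁻¹ * c.t * w * (w⁻¹ * c.d e1 * w) = w⁻¹ * c.d e1 * w * (w⁻¹ * c.t * w)
    calc w⁻¹ * c.t * w * (w⁻¹ * c.d e1 * w) = w⁻¹ * (c.t * c.d e1) * w := by group
      _ = w⁻¹ * c.d e1 * w * (w⁻¹ * c.t * w) := by rw [← c.d_comm_t]; group
  have hh : Commute (w⁻¹ * c.t * w) T.h := by
    obtain ⟨j, hj⟩ : T.h ∈ zpowers (c.d e2) := by
      rw [hord (c.d e2) (he2' ▸ hw) (he2' ▸ hw1)]; exact mem_zpowers _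
    rw [← hj]
    exact hcomm.zpow_right j
  have hvt := mem_centralizer_singleton_iff.1 (T.cent_h (mem_centralizer_singleton_iff.2 hh.eq))
  have hodd : Odd (orderOf (c.d T.a)) := by rw [← h, T.orderOf_h]; exact T.s_odd
  obtain ⟨e, y, hey, -⟩ := c.cent_t_d hodd (T.sq_ne (mem_zpowers _) T.a_ne_one).1 hvt hh.eq
  have hv2 : w⁻¹ * c.t * w * (w⁻¹ * c.t * w) = 1 := by
    rw [show w⁻¹ * c.t * w * (w⁻¹ * c.t * w) = w⁻¹ * (c.t * c.t) * w by group, c.t_sq]; group
  have hwt : w * c.t = c.t * w := by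
    rcases c.invol_M (c.mem_M.2 ⟨e, y, hey⟩) hv2 D.odd_card_H with r | r
    · exfalso
      refine c.t_ne ?_
      calc c.t = w * (w⁻¹ * c.t * w) * w⁻¹ := by group
        _ = 1 := by rw [r]; group
    · calc w * c.t = w * (w⁻¹ * c.t * w) := by rw [r]
        _ = c.t * w := by group
  obtain ⟨h1, h2⟩ := T.sq_ne he1 he1'
  exact c.cent_t_conj_d h1 h2 hwt (b := e2) (by rw [← he2']; group)

/-- An element of `M` a power of which lies in `⟨h⟩#` centralizes no nontrivial element of `R`. -/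
theorem cent_R {m : G} {k : ℕ} (hk : m ^ k ∈ zpowers T.h) (h1 : m ^ k ≠ 1) {r : G}
    (hr : r ∈ D.bd.R) (hc : r * m = m * r) : r = 1 :=
  D.bd.fpf _ ((zpowers_le.2 T.h_mem_H) hk) h1 r hr (Commute.pow_right hc k).eq

/-- The coset `R m` is a conjugacy class under `R`. -/
theorem class_Rm {m : G} (hm : m ∈ c.M) (hc : ∀ r ∈ D.bd.R, r * m = m * r → r = 1) {r₀ : G}
    (hr₀ : r₀ ∈ D.bd.R) : ∃ r ∈ D.bd.R, r * m * r⁻¹ = r₀ * m := by
  let f : D.bd.R → D.bd.R := fun r => ⟨(r : G) * (m * (r : G)⁻¹ * m⁻¹),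
    mul_mem r.2 (D.conj_mem_R hm (inv_mem r.2))⟩
  have hf : Function.Injective f := by
    intro r r' e
    have e' : (r : G) * (m * (r : G)⁻¹ * m⁻¹) = (r' : G) * (m * (r' : G)⁻¹ * m⁻¹) :=
      congrArg Subtype.val e
    refine Subtype.ext (inv_mul_eq_one.1 (hc _ (mul_mem (inv_mem r'.2) r.2) ?_)).symm
    calc (r' : G)⁻¹ * r * m = (r' : G)⁻¹ * ((r : G) * (m * (r : G)⁻¹ * m⁻¹)) * m * r := by group
      _ = m * ((r' : G)⁻¹ * r) := by rw [e']; group
  obtain ⟨r, hr⟩ := (Finite.injective_iff_surjective.1 hf) ⟨r₀, hr₀⟩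
  refine ⟨r, r.2, ?_⟩
  rw [← show (r : G) * (m * (r : G)⁻¹ * m⁻¹) = r₀ from congrArg Subtype.val hr]
  group

/-- An element of order `s` of `B` is conjugate into `⟨h⟩` under `R`. -/
theorem order_s {g : G} (hg : g ∈ D.B) (ho : orderOf g = T.s) :
    ∃ r ∈ D.bd.R, r⁻¹ * g * r ∈ zpowers T.h := by
  haveI := Fact.mk T.s_prime
  obtain ⟨r₀, hr₀, m, hm, rfl⟩ := D.mem_B.1 hg
  set g' : D.B := ⟨r₀ * m, hg⟩
  have hmm : (D.toM g' : G) = m := D.toM_eq hr₀ hm rfl
  have hd : orderOf m ∣ T.s := by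
    rw [← hmm, ← ho, Subgroup.orderOf_coe, show (r₀ * m : G) = (g' : G) from rfl, Subgroup.orderOf_coe]
    exact orderOf_map_dvd _ _
  have hm1 : m ≠ 1 := by
    rintro rfl
    rw [mul_one] at ho
    have := Subgroup.orderOf_dvd_natCard _ hr₀
    rw [D.bd.card, ho] at this
    exact T.s_not_dvd_q this
  have hmh := T.mem_h hm (((Nat.dvd_prime T.s_prime).1 hd).resolve_left fun e =>
    hm1 (orderOf_eq_one_iff.1 e))
  obtain ⟨r, hr, e⟩ := T.class_Rm hm
    (fun r hr hc => T.cent_R (k := 1) (by rwa [pow_one]) (by rwa [pow_one]) hr hc) hr₀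
  refine ⟨r, hr, ?_⟩
  rw [← e]
  group
  exact hmh

/-! ### The subgroup `B₁` and its character -/

theorem exists_toCt (g : D.B) : ∃ e : Fˣ,
    (D.toCt g : G) = c.d e * (D.ρ g : G) ∨ (D.toCt g : G) = c.t * (c.d e * (D.ρ g : G)) := by
  obtain ⟨r, hr, m, hm, e⟩ := D.mem_B.1 g.2
  obtain ⟨e', y, he⟩ := c.mem_M.1 hm
  have hy : D.ρ g = y := D.ρ_eq (e := e') hr
    (he.imp (fun h => e.trans (congrArg (r * ·) h)) fun h => e.trans (congrArg (r * ·) h))
  exact ⟨e', by rw [D.toCt_eq hr hm e, hy]; exact he⟩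

/-- The value of `χ` at the torus part. -/
noncomputable def chi (g : D.B) : ℂˣ := T.χ (T.exists_toCt g).choose

theorem chi_eq {g : D.B} {e : Fˣ} {y : fieldPart c.S}
    (h : (D.toCt g : G) = c.d e * y ∨ (D.toCt g : G) = c.t * (c.d e * y)) : T.chi g = T.χ e := by
  refine T.χ_congr ?_
  obtain h' := (T.exists_toCt g).choose_spec
  rcases h' with h' | h' <;> rcases h with h | h
  · exact (c.de_unique.1 (h'.symm.trans h)).1
  · exact absurd (h'.symm.trans h) c.de_unique.2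
  · exact absurd (h.symm.trans h') c.de_unique.2
  · exact (c.de_unique.1 (mul_left_cancel (h'.symm.trans h))).1

/-- The stabilizer of `a` in the field part. -/
def F1 : Subgroup (fieldPart c.S) := c.F1 T.a

theorem x0_mem : T.x0 ∈ T.F1 := T.fix

theorem chi_mul {g g' : D.B} (hg : D.ρ g ∈ T.F1) : T.chi (g * g') = T.chi g * T.chi g' := by
  obtain ⟨e, he⟩ := T.exists_toCt g
  obtain ⟨e', he'⟩ := T.exists_toCt g'
  rw [T.chi_eq he, T.chi_eq he', ← T.χ_inv _ hg e', ← map_mul]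
  refine T.chi_eq (y := D.ρ g * D.ρ g') ?_
  have hc : Commute c.t (c.d e * (D.ρ g : G)) := c.de_comm_t _ _
  rw [map_mul, Subgroup.coe_mul, ← c.de_mul]
  rcases he with h | h <;> rcases he' with h' | h' <;> rw [h, h']
  · exact Or.inl rfl
  · exact Or.inr (by rw [← mul_assoc, ← hc.eq, mul_assoc])
  · exact Or.inr (by rw [mul_assoc])
  · refine Or.inl ?_
    rw [mul_assoc c.t, ← mul_assoc (c.d e * (D.ρ g : G)) c.t, ← hc.eq, mul_assoc c.t,
      ← mul_assoc c.t c.t, c.t_sq, one_mul]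

theorem chi_one : T.chi 1 = 1 := by
  rw [T.chi_eq (e := 1) (y := 1) (Or.inl ?_), map_one]
  rw [map_one, c.d_one, one_mul]
  rfl

theorem chi_pow {g : D.B} (hg : D.ρ g ∈ T.F1) (n : ℕ) : T.chi (g ^ n) = T.chi g ^ n := by
  induction n with
  | zero => rw [pow_zero, pow_zero, T.chi_one]
  | succ n ih => rw [pow_succ', pow_succ', T.chi_mul hg, ih]

/-- A power of order `s` of an element with nontrivial value. -/
theorem exists_pow_s {g : D.B} (hg : D.ρ g ∈ T.F1) (h1 : T.chi g ≠ 1) :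
    ∃ k, orderOf ((g : G) ^ k) = T.s := by
  haveI := Fact.mk T.s_prime
  obtain ⟨e, he⟩ := T.exists_toCt g
  obtain ⟨j, hj⟩ := T.orderOf_χ e
  rw [← T.chi_eq he] at hj
  have hj0 : j ≠ 0 := by
    rintro rfl
    rw [pow_zero, orderOf_eq_one_iff] at hj
    exact h1 hj
  -- the power killing the sign and the field part
  set g2 := g ^ (2 * c.f) with hg2
  have hy1 : D.ρ g2 = 1 := by
    rw [hg2, map_pow, mul_comm, pow_mul, Cfg.f, pow_card_eq_one', one_pow]
  have hchi : T.chi g2 ≠ 1 := by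
    rw [hg2, T.chi_pow hg]
    intro e0
    refine T.s_not_dvd_two_f ?_
    exact ((dvd_pow_self _ hj0).trans (hj.symm.dvd)).trans (orderOf_dvd_of_pow_eq_one e0)
  obtain ⟨E, hE⟩ := T.exists_toCt g2
  rw [hy1, Subgroup.coe_one, mul_one] at hE
  rw [T.chi_eq (g := g2) (e := E) (y := 1) (by simpa using hE)] at hchi
  have hsE : T.s ∣ orderOf (D.toCt g2) := by
    obtain ⟨i, hi⟩ := T.orderOf_χ E
    have hi0 : i ≠ 0 := by
      rintro rfl
      rw [pow_zero, orderOf_eq_one_iff] at hi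
      exact hchi hi
    refine ((dvd_pow_self _ hi0).trans hi.symm.dvd).trans (orderOf_dvd_of_pow_eq_one ?_)
    have h2 : (D.toCt g2 : G) ^ orderOf (D.toCt g2) = 1 := by
      rw [← Subgroup.coe_pow, pow_orderOf_eq_one, OneMemClass.coe_one]
    rw [← map_pow]
    refine (T.χ_congr (e' := 1) ?_).trans (map_one _)
    rw [c.d_one, c.d_pow]
    rcases hE with hE | hE
    · rwa [← hE]
    · rw [hE, (show Commute c.t (c.d E) from (c.d_comm_t E).symm).mul_pow] at h2
      rcases Nat.even_or_odd (orderOf (D.toCt g2)) with ⟨i, hi⟩ | ⟨i, hi⟩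
      · rwa [hi, ← two_mul, pow_mul c.t, pow_two, c.t_sq, one_pow, one_mul, two_mul, ← hi] at h2
      · exfalso
        rw [hi, pow_succ, pow_mul, pow_two, c.t_sq, one_pow, one_mul, ← c.d_pow, ← hi] at h2
        refine (c.de_unique (e := 1) (y := 1) (e' := E ^ orderOf (D.toCt g2)) (y' := 1)).2 ?_
        rw [Subgroup.coe_one, mul_one, mul_one, h2, c.d_one]
  have hsg : T.s ∣ orderOf (g : G) := by
    refine hsE.trans ((orderOf_map_dvd D.toCt g2).trans ?_)
    rw [Subgroup.orderOf_coe, hg2]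
    exact orderOf_pow_dvd _
  exact ⟨_, orderOf_pow_orderOf_div (orderOf_pos _).ne' hsg⟩

/-- The double cosets moving such an element into `B`. -/
theorem fix_of_chi {g : D.B} (hg : D.ρ g ∈ T.F1) (h1 : T.chi g ≠ 1) {x : G}
    (h : x⁻¹ * (g : G) * x ∈ D.B) : x ∈ D.B ∨ ∃ r ∈ D.bd.R, (r * c.i)⁻¹ * x ∈ D.B := by
  obtain ⟨k, hk⟩ := T.exists_pow_s hg h1
  obtain ⟨r1, hr1, hu⟩ := T.order_s (pow_mem g.2 k) hk
  have hx : x⁻¹ * (g : G) ^ k * x ∈ D.B := by
    rw [show x⁻¹ * (g : G) ^ k * x = x⁻¹ * (g : G) ^ k * x⁻¹⁻¹ by group, ← conj_pow, inv_inv]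
    exact pow_mem h k
  obtain ⟨r2, hr2, hw⟩ := T.order_s hx (by
    rw [show x⁻¹ * (g : G) ^ k * x = MulAut.conj x⁻¹ ((g : G) ^ k) by rw [MulAut.conj_apply, inv_inv],
      MulEquiv.orderOf_eq, hk])
  have hu1 : r1⁻¹ * (g : G) ^ k * r1 ≠ 1 := fun e => by
    have : (g : G) ^ k = 1 := by
      calc (g : G) ^ k = r1 * (r1⁻¹ * (g : G) ^ k * r1) * r1⁻¹ := by group
        _ = 1 := by rw [e]; group
    rw [this, orderOf_one] at hk
    exact T.s_prime.ne_one hk.symm
  rcases T.normalizes_h (w := r1⁻¹ * x * r2) hu hu1 (by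
    rw [show (r1⁻¹ * x * r2)⁻¹ * (r1⁻¹ * (g : G) ^ k * r1) * (r1⁻¹ * x * r2) =
      r2⁻¹ * (x⁻¹ * (g : G) ^ k * x) * r2 by group]
    exact hw) with hM | hM
  · left
    rw [show x = r1 * (r1⁻¹ * x * r2) * r2⁻¹ by group]
    exact mul_mem (mul_mem (D.R_le_B hr1) (D.M_le_B hM)) (inv_mem (D.R_le_B hr2))
  · right
    refine ⟨r1, hr1, ?_⟩
    rw [show (r1 * c.i)⁻¹ * x = c.i * (r1⁻¹ * x * r2 * c.i) * c.i⁻¹ * r2⁻¹ by
      rw [_root_.mul_inv_rev r1 c.i, c.i_inv]
      simp only [mul_assoc]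
      rw [← mul_assoc c.i c.i r2⁻¹, c.i_sq, one_mul, mul_inv_cancel, mul_one]]
    exact mul_mem (D.M_le_B (c.i_conj_M hM)) (inv_mem (D.R_le_B hr2))

end Tor

end Cfsg.Lib.Walter3.Field
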