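import Cfsg.Agent.Lib.Walter3.Field.Theta
import Cfsg.Agent.Lib.Walter3.Field.Torus

/-!
# The function `ψ` induced from `1 - θ` on `B₁`

`θ` is trivial on `R`, `t` and `F₁` and equals `χ` on the torus.
-/

set_option autoImplicit false
set_option linter.unusedSectionVars false
set_option linter.style.haveILetI false

namespace Cfsg.Lib.Walter3.Field

open Subgroup Cfsg Cfsg.Lib.Char
open scoped ComplexConjugate

universe u

variable {G : Type u} [Group G] [Fintype G] {F : Type} [Field F] [Fintype F] {c : Cfg G F}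

namespace Tor

variable {D : Full c} (T : Tor D)
include T

/-- `B₁ = R M₁`, the elements of `B` with field part in `F₁`. -/
noncomputable def B1 : Subgroup G := (T.F1.comap D.ρ).map D.B.subtype

theorem B1_le : T.B1 ≤ D.B := Subgroup.map_subtype_le _

theorem mem_B1 {g : G} : g ∈ T.B1 ↔ ∃ h : g ∈ D.B, D.ρ ⟨g, h⟩ ∈ T.F1 := by
  constructor
  · rintro ⟨x, hx, rfl⟩
    exact ⟨x.2, hx⟩
  · rintro ⟨h, hx⟩
    exact ⟨⟨g, h⟩, hx, rfl⟩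

/-- The index of `F₁`. -/
noncomputable def e : ℕ := T.F1.index

theorem e_pos : 0 < T.e := Nat.pos_of_ne_zero Subgroup.index_ne_zero_of_finite

theorem card_B1_mul : Nat.card T.B1 * T.e = Nat.card D.B := by
  rw [B1, Subgroup.card_map_of_injective (Subgroup.subtype_injective _), e,
    ← Subgroup.index_comap_of_surjective T.F1 D.ρ_surjective]
  exact Subgroup.card_mul_index _

theorem index_B1 : T.B1.index = D.B.index * T.e := by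
  refine Nat.eq_of_mul_eq_mul_left (Nat.card_pos (α := T.B1)) ?_
  rw [T.B1.card_mul_index, mul_left_comm, T.card_B1_mul, mul_comm, D.B.card_mul_index]

/-- `M₁`. -/
noncomputable def M1 : Subgroup G := c.M ⊓ T.B1

theorem M1_le : T.M1 ≤ T.B1 := inf_le_right

theorem M1_le_M : T.M1 ≤ c.M := inf_le_left

theorem M1_le_BC : T.M1 ≤ D.BC := T.M1_le_M.trans D.M_le_BC

theorem R_le_B1 : D.bd.R ≤ T.B1 := fun r hr => T.mem_B1.2 ⟨D.R_le_B hr, by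
  rw [D.ρ_eq (g := ⟨r, D.R_le_B hr⟩) (e := 1) (y := 1) hr
    (Or.inl (by rw [c.d_one, Subgroup.coe_one, one_mul, mul_one]))]
  exact one_mem _⟩

theorem card_B1 : Nat.card T.B1 = Fintype.card F ^ 3 * Nat.card T.M1 := by
  rw [← D.bd.card, ← Nat.card_prod]
  refine (Nat.card_congr (Equiv.ofBijective (fun p : D.bd.R × T.M1 =>
    (⟨(p.1 : G) * p.2, mul_mem (T.R_le_B1 p.1.2) p.2.2.2⟩ : T.B1)) ⟨?_, ?_⟩)).symm
  · rintro ⟨⟨r, hr⟩, ⟨m, hm⟩⟩ ⟨⟨r', hr'⟩, ⟨m', hm'⟩⟩ h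
    obtain ⟨rfl, rfl⟩ := D.rm_unique hr hr' hm.1 hm'.1 (congrArg Subtype.val h)
    rfl
  · rintro ⟨g, hg⟩
    obtain ⟨r, hr, m, hm, rfl⟩ := D.mem_B.1 (T.B1_le hg)
    exact ⟨(⟨r, hr⟩, ⟨m, hm, (Subgroup.mul_mem_cancel_left _ (T.R_le_B1 hr)).1 hg⟩), rfl⟩

theorem card_M1_mul : Nat.card T.M1 * T.e = Nat.card c.M := by
  have h := T.card_B1_mul
  rw [T.card_B1, D.card_B, ← c.card_M, mul_assoc] at h
  exact Nat.eq_of_mul_eq_mul_left (pow_pos Fintype.card_pos 3) h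

theorem card_BC1 : Nat.card ↥(D.BC ⊓ T.B1) = Fintype.card F * Nat.card T.M1 := by
  rw [← c.card_U, ← Nat.card_prod]
  refine (Nat.card_congr (Equiv.ofBijective (fun p : c.U × T.M1 =>
    (⟨(p.1 : G) * p.2, mul_mem (D.U_le_BC p.1.2) (D.M_le_BC p.2.2.1),
      mul_mem (T.R_le_B1 (D.bd.U_le p.1.2)) p.2.2.2⟩ : ↥(D.BC ⊓ T.B1))) ⟨?_, ?_⟩)).symm
  · rintro ⟨⟨r, hr⟩, ⟨m, hm⟩⟩ ⟨⟨r', hr'⟩, ⟨m', hm'⟩⟩ h
    obtain ⟨rfl, rfl⟩ := D.rm_unique (D.bd.U_le hr) (D.bd.U_le hr') hm.1 hm'.1 (congrArg Subtype.val h)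
    rfl
  · rintro ⟨g, hgC, hg1⟩
    obtain ⟨u, hu, m, hm, rfl⟩ := D.mem_BC.1 hgC
    exact ⟨(⟨u, hu⟩, ⟨m, hm, (Subgroup.mul_mem_cancel_left _ (T.R_le_B1 (D.bd.U_le hu))).1 hg1⟩), rfl⟩

/-- The character `θ`. -/
noncomputable def th : T.B1 →* ℂˣ :=
  MonoidHom.mk' (fun g => T.chi (inclusion T.B1_le g)) fun g g' => by
    rw [map_mul]
    exact T.chi_mul (by
      obtain ⟨h, h'⟩ := T.mem_B1.1 g.2
      exact h')

theorem th_eq {g : T.B1} {r : G} {e : Fˣ} {y : fieldPart c.S} (hr : r ∈ D.bd.R)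
    (h : (g : G) = r * (c.d e * y) ∨ (g : G) = r * (c.t * (c.d e * y))) : T.th g = T.χ e := by
  refine T.chi_eq (g := inclusion T.B1_le g) (y := y) ?_
  rcases h with h | h
  · exact Or.inl (D.toCt_eq hr ⟨e, y, Or.inl rfl⟩ h)
  · exact Or.inr (D.toCt_eq hr ⟨e, y, Or.inr rfl⟩ h)

theorem t_mem_B1 : c.t ∈ T.B1 := T.mem_B1.2 ⟨D.M_le_B c.t_mem_M, by
  rw [D.ρ_eq (g := ⟨c.t, D.M_le_B c.t_mem_M⟩) (r := 1) (e := 1) (y := 1) (one_mem _)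
    (Or.inr (by simp [c.d_one]))]
  exact one_mem _⟩

theorem h_mem_B1 : T.h ∈ T.B1 := T.mem_B1.2 ⟨D.M_le_B (c.H_le_M T.h_mem_H), by
  rw [D.ρ_eq (g := ⟨T.h, D.M_le_B (c.H_le_M T.h_mem_H)⟩) (r := 1) (e := T.a) (y := 1) (one_mem _)
    (Or.inl (by rw [Subgroup.coe_one, one_mul, mul_one]; rfl))]
  exact one_mem _⟩

theorem h_mem_M1 : T.h ∈ T.M1 := ⟨c.H_le_M T.h_mem_H, T.h_mem_B1⟩

theorem t_mem_M1 : c.t ∈ T.M1 := ⟨c.t_mem_M, T.t_mem_B1⟩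

theorem y_mem_M1 {y : fieldPart c.S} (hy : y ∈ T.F1) : (y : G) ∈ T.M1 :=
  ⟨c.F_le_M y.2, T.mem_B1.2 ⟨D.M_le_B (c.F_le_M y.2), by rwa [D.ρ_y y]⟩⟩

theorem th_h : T.th ⟨T.h, T.h_mem_B1⟩ = T.χ T.a :=
  T.th_eq (r := 1) (y := 1) (one_mem _) (Or.inl (by rw [Subgroup.coe_one, one_mul, mul_one]; rfl))

theorem th_t : T.th ⟨c.t, T.t_mem_B1⟩ = 1 := by
  rw [T.th_eq (r := 1) (e := 1) (y := 1) (one_mem _)
    (Or.inr (by simp [c.d_one])), map_one]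

theorem th_R {r : G} (hr : r ∈ D.bd.R) : T.th ⟨r, T.R_le_B1 hr⟩ = 1 := by
  rw [T.th_eq (e := 1) (y := 1) hr
    (Or.inl (by rw [c.d_one, Subgroup.coe_one, one_mul, mul_one])), map_one]

theorem conj_B1 {z g : G} (hz : z ∈ D.B) (hg : g ∈ T.B1) : z⁻¹ * g * z ∈ T.B1 := by
  obtain ⟨hgB, h⟩ := T.mem_B1.1 hg
  have hB : z⁻¹ * g * z ∈ D.B := mul_mem (mul_mem (inv_mem hz) hgB) hz
  exact T.mem_B1.2 ⟨hB, by rwa [D.ρ_conj (g := ⟨g, hgB⟩) hB]⟩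

theorem iMi_mem {m : G} (hm : m ∈ T.M1) : c.i * m * c.i⁻¹ ∈ T.M1 := by
  obtain ⟨hgB, h⟩ := T.mem_B1.1 hm.2
  have hB := D.M_le_B (c.i_conj_M hm.1)
  exact ⟨c.i_conj_M hm.1, T.mem_B1.2 ⟨hB, by rwa [D.ρ_iMi (g := ⟨m, hgB⟩) hm.1 hB]⟩⟩

/-- Conjugation by an element of `B` on `B₁`. -/
noncomputable def cjB (z : D.B) : T.B1 →* T.B1 :=
  MonoidHom.mk' (fun g => ⟨(z : G)⁻¹ * g * z, T.conj_B1 z.2 g.2⟩) fun a b =>
    Subtype.ext (by simp only [Subgroup.coe_mul]; group)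

/-- `θ` moved by an element of `B`. -/
noncomputable def thz (z : D.B) : T.B1 →* ℂˣ := T.th.comp (T.cjB z)

theorem toCt_h : (D.toCt ⟨T.h, D.M_le_B (c.H_le_M T.h_mem_H)⟩ : G) = c.d T.a :=
  D.toCt_eq (r := 1) (one_mem _) (c.H_le_M T.h_mem_H) (one_mul _).symm

theorem thz_h (z : D.B) :
    T.thz z ⟨T.h, T.h_mem_B1⟩ = T.χ (Units.map (c.σ (D.ρ z)⁻¹ : F →* F) T.a) := by
  obtain ⟨e, he⟩ := T.exists_toCt z
  refine T.chi_eq (y := 1) (Or.inl ?_)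
  have key : (c.d e * (D.ρ z : G))⁻¹ * c.d T.a * (c.d e * (D.ρ z : G)) =
      ((D.ρ z : G))⁻¹ * c.d T.a * (D.ρ z : G) := by
    have h : Commute (c.d T.a) (c.d e) := by
      show c.d T.a * c.d e = c.d e * c.d T.a
      rw [← c.d_mul, ← c.d_mul, mul_comm]
    rw [_root_.mul_inv_rev]
    calc (D.ρ z : G)⁻¹ * (c.d e)⁻¹ * c.d T.a * (c.d e * (D.ρ z : G))
        = (D.ρ z : G)⁻¹ * ((c.d e)⁻¹ * (c.d T.a * c.d e)) * (D.ρ z : G) := by group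
      _ = _ := by rw [h.eq, inv_mul_cancel_left]
  have hz : inclusion T.B1_le (T.cjB z ⟨T.h, T.h_mem_B1⟩) =
      z⁻¹ * ⟨T.h, D.M_le_B (c.H_le_M T.h_mem_H)⟩ * z := Subtype.ext rfl
  rw [hz, map_mul, map_mul, map_inv, Subgroup.coe_mul, Subgroup.coe_mul, Subgroup.coe_inv, T.toCt_h,
    Subgroup.coe_one, mul_one, ← c.y_d, Subgroup.coe_inv, inv_inv]
  rcases he with h | h <;> rw [h]
  · exact key
  · rw [← key, _root_.mul_inv_rev c.t, c.t_inv]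
    have ht : Commute c.t (c.d T.a) := (c.d_comm_t T.a).symm
    calc (c.d e * (D.ρ z : G))⁻¹ * c.t * c.d T.a * (c.t * (c.d e * (D.ρ z : G)))
        = (c.d e * (D.ρ z : G))⁻¹ * (c.t * c.d T.a * c.t) * (c.d e * (D.ρ z : G)) := by group
      _ = _ := by rw [ht.eq, mul_assoc _ c.t c.t, c.t_sq, mul_one]

theorem mem_zpowers_a {e : Fˣ} (h : e ^ T.s = 1) : e ∈ zpowers T.a := by
  haveI := Fact.mk T.s_prime
  have hprim : IsPrimitiveRoot T.a T.s := IsPrimitiveRoot.orderOf T.a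
  obtain ⟨i, -, hi⟩ := (hprim.map_of_injective (f := Units.coeHom F) Units.val_injective).eq_pow_of_pow_eq_one
    (ξ := (e : F)) (by rw [← Units.val_pow_eq_pow_val, h, Units.val_one])
  exact ⟨i, by show T.a ^ (i : ℤ) = e; rw [zpow_natCast]; exact Units.ext hi⟩

theorem σ_a_mem (y : fieldPart c.S) : Units.map (c.σ y : F →* F) T.a ∈ zpowers T.a :=
  T.mem_zpowers_a (by rw [← map_pow, s, pow_orderOf_eq_one, map_one])

/-- `χ` is injective on `⟨a⟩`. -/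
theorem χ_eq_one {e : Fˣ} (he : e ∈ zpowers T.a) (h : T.χ e = 1) : e = 1 := by
  by_contra h1
  haveI := Fact.mk T.s_prime
  refine T.χ_a ?_
  have hord : orderOf e = T.s :=
    ((Nat.dvd_prime T.s_prime).1 (orderOf_dvd_of_mem_zpowers he)).resolve_left fun h =>
      h1 (orderOf_eq_one_iff.1 h)
  have hz : zpowers e = zpowers T.a := Subgroup.eq_of_le_of_card_ge (zpowers_le.2 he) (by
    rw [Nat.card_zpowers, Nat.card_zpowers, hord]; exact le_rfl)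
  obtain ⟨j, hj⟩ : T.a ∈ zpowers e := hz ▸ mem_zpowers _
  rw [← hj]
  show T.χ (e ^ j) = 1
  rw [map_zpow, h, _root_.one_zpow]

theorem thz_h_ne (z : D.B) : T.thz z ⟨T.h, T.h_mem_B1⟩ ≠ 1 := by
  rw [T.thz_h]
  intro h
  exact T.a_ne_one ((map_eq_one_iff _ (Units.map_injective (c.σ (D.ρ z)⁻¹).injective)).1
    (T.χ_eq_one (T.σ_a_mem _) h))

theorem th_eq_thz_iff (z : D.B) : T.th = T.thz z ↔ (z : G) ∈ T.B1 := by
  constructor
  · intro h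
    have h1 := DFunLike.congr_fun h ⟨T.h, T.h_mem_B1⟩
    rw [T.thz_h, T.th_h] at h1
    have h2 := T.χ_eq_one (e := Units.map (c.σ (D.ρ z)⁻¹ : F →* F) T.a * T.a⁻¹)
      (mul_mem (T.σ_a_mem _) (inv_mem (mem_zpowers _)))
      (by rw [map_mul, ← h1, map_inv, mul_inv_cancel])
    refine T.mem_B1.2 ⟨z.2, inv_mem_iff.1 ?_⟩
    show c.σ (D.ρ z)⁻¹ (T.a : F) = T.a
    exact congrArg Units.val (mul_inv_eq_one.1 h2)
  · intro hz
    refine MonoidHom.ext fun g => ?_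
    have e : T.cjB z g = (⟨z, hz⟩ : T.B1)⁻¹ * g * ⟨z, hz⟩ := Subtype.ext rfl
    rw [thz, MonoidHom.comp_apply, e, map_mul, map_mul, map_inv, mul_right_comm, inv_mul_cancel,
      one_mul]

/-- Conjugation by `i` on `M₁`. -/
noncomputable def cjI : T.M1 →* T.B1 :=
  MonoidHom.mk' (fun g => ⟨c.i * g * c.i⁻¹, (T.iMi_mem g.2).2⟩) fun a b =>
    Subtype.ext (by simp only [Subgroup.coe_mul]; group)

theorem thz_i_ne (z : D.B) : T.th.comp (inclusion T.M1_le) ≠ (T.thz z).comp T.cjI := by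
  intro heq
  have h1 : T.th (inclusion T.M1_le ⟨T.h, T.h_mem_M1⟩) = T.thz z (T.cjI ⟨T.h, T.h_mem_M1⟩) :=
    DFunLike.congr_fun heq _
  have e : T.cjI ⟨T.h, T.h_mem_M1⟩ = (⟨T.h, T.h_mem_B1⟩ : T.B1)⁻¹ := Subtype.ext (by
    show c.i * T.h * c.i⁻¹ = T.h⁻¹
    rw [Tor.h, c.i_d, c.d_inv])
  rw [e, map_inv, T.thz_h] at h1
  change T.th ⟨T.h, T.h_mem_B1⟩ = _ at h1
  rw [T.th_h] at h1
  have h2 := T.χ_eq_one (e := T.a * Units.map (c.σ (D.ρ z)⁻¹ : F →* F) T.a)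
    (mul_mem (mem_zpowers _) (T.σ_a_mem _)) (by rw [map_mul, h1, inv_mul_cancel])
  set τ := c.σ (D.ρ z)⁻¹ with hτ
  have hinv : τ (T.a : F) = ((T.a⁻¹ : Fˣ) : F) :=
    congrArg Units.val (eq_inv_of_mul_eq_one_right h2)
  have hsq : (D.ρ z)⁻¹ * (D.ρ z)⁻¹ ∈ T.F1 := by
    show c.σ ((D.ρ z)⁻¹ * (D.ρ z)⁻¹) (T.a : F) = T.a
    rw [map_mul, RingAut.mul_apply, ← hτ, hinv]
    have := map_units_inv τ T.a
    rw [hinv] at this
    simpa using this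
  have hF1 : (D.ρ z)⁻¹ ∈ T.F1 := by
    obtain ⟨k, hk⟩ := c.odd_orderOf ((D.ρ z)⁻¹)
    have e : (D.ρ z)⁻¹ = ((D.ρ z)⁻¹ * (D.ρ z)⁻¹) ^ (k + 1) := by
      rw [← pow_two, ← pow_mul, show 2 * (k + 1) = (2 * k + 1) + 1 by ring, pow_succ, ← hk,
        pow_orderOf_eq_one, one_mul]
    rw [e]
    exact pow_mem hsq _
  have hfix : τ (T.a : F) = T.a := hF1
  refine (T.sq_ne (mem_zpowers _) T.a_ne_one).1 ?_
  rw [pow_two]
  nth_rewrite 1 [← hfix]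
  rw [hinv, Units.inv_mul]

/-- `1 - θ`. -/
noncomputable def aP : G → ℂ := extendByZero T.B1 fun g => 1 - (T.th g : ℂ)

theorem aP_of_mem {g : G} (hg : g ∈ T.B1) : T.aP g = 1 - (T.th ⟨g, hg⟩ : ℂ) :=
  extendByZero_of_mem _ _ hg

theorem aP_zero {g : G} (hg : g ∉ T.B1) : T.aP g = 0 := extendByZero_of_notMem _ _ hg

theorem aP_supp {g : G} (h : T.aP g ≠ 0) :
    ∃ hg : g ∈ T.B1, D.ρ ⟨g, T.B1_le hg⟩ ∈ T.F1 ∧ T.chi ⟨g, T.B1_le hg⟩ ≠ 1 := by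
  have hg : g ∈ T.B1 := by_contra fun hg => h (T.aP_zero hg)
  refine ⟨hg, (T.mem_B1.1 hg).2, fun e => h ?_⟩
  have e' : T.th ⟨g, hg⟩ = 1 := e
  rw [T.aP_of_mem hg, e', Units.val_one, sub_self]

theorem aP_fix {g x : G} (h : T.aP g ≠ 0) (hx : x⁻¹ * g * x ∈ D.B) :
    x ∈ D.B ∨ ∃ r ∈ D.bd.R, (r * c.i)⁻¹ * x ∈ D.B := by
  obtain ⟨hg, hρ, hc⟩ := T.aP_supp h
  exact T.fix_of_chi (g := ⟨g, T.B1_le hg⟩) hρ hc hx

theorem aP_conj_R {r : G} (hr : r ∈ D.bd.R) (g : G) : T.aP (r * g * r⁻¹) = T.aP g := by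
  by_cases hg : g ∈ T.B1
  · have h := mul_mem (mul_mem (T.R_le_B1 hr) hg) (inv_mem (T.R_le_B1 hr))
    rw [T.aP_of_mem h, T.aP_of_mem hg, show (⟨r * g * r⁻¹, h⟩ : T.B1) =
      ⟨r, T.R_le_B1 hr⟩ * ⟨g, hg⟩ * ⟨r, T.R_le_B1 hr⟩⁻¹ from Subtype.ext rfl, map_mul, map_mul, map_inv,
      mul_right_comm, mul_inv_cancel, one_mul]
  · rw [T.aP_zero hg, T.aP_zero fun h => hg ?_]
    have := mul_mem (mul_mem (inv_mem (T.R_le_B1 hr)) h) (T.R_le_B1 hr)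
    rwa [show r⁻¹ * (r * g * r⁻¹) * r = g by group] at this

/-- The function `ψ`. -/
noncomputable def Psi : G → ℂ := indFun T.B1 fun g => 1 - (T.th g : ℂ)

theorem Psi_isGeneralized : IsGeneralizedCharacter G T.Psi :=
  isGeneralizedCharacter_indFun T.B1
    (isCharacter_one.isGeneralized.sub (isIrrCharacter_linear T.th).isGeneralized)

theorem Psi_one : T.Psi 1 = 0 := by
  rw [Psi, indFun_apply_one, map_one, Units.val_one, sub_self, mul_zero]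

theorem Psi_t : T.Psi c.t = 0 := by
  rw [Psi, indFun, Finset.sum_eq_zero, mul_zero]
  intro x _
  by_cases hx : x⁻¹ * c.t * x ∈ T.B1
  · rw [extendByZero_of_mem _ _ hx]
    obtain ⟨r, hr, e⟩ := D.invol_B (T.B1_le hx)
      (fun e => c.t_ne (by
        calc c.t = x * (x⁻¹ * c.t * x) * x⁻¹ := by group
          _ = 1 := by rw [e]; group))
      (by rw [show x⁻¹ * c.t * x * (x⁻¹ * c.t * x) = x⁻¹ * (c.t * c.t) * x by group, c.t_sq]; group)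
    rw [show (⟨x⁻¹ * c.t * x, hx⟩ : T.B1) =
      ⟨r, T.R_le_B1 hr⟩ * ⟨c.t, T.t_mem_B1⟩ * ⟨r, T.R_le_B1 hr⟩⁻¹ from Subtype.ext e, map_mul, map_mul,
      map_inv, T.th_t, mul_one, mul_inv_cancel, Units.val_one, sub_self]
  · rw [extendByZero_of_notMem _ _ hx]

open Classical in
theorem inner_Psi_one : classInner T.Psi (fun _ => 1) = 1 := by
  rw [Psi, classInner_indFun _ _ (fun _ _ => rfl), classInner]
  simp only [map_one, mul_one, Finset.sum_sub_distrib, Finset.sum_const, Finset.card_univ,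
    nsmul_eq_mul]
  rw [sum_hom, if_neg (fun e => T.χ_a ?_), sub_zero, Nat.card_eq_fintype_card,
    inv_mul_cancel₀ (Nat.cast_ne_zero.2 Fintype.card_ne_zero)]
  rw [← T.th_h, e, MonoidHom.one_apply]

end Tor

end Cfsg.Lib.Walter3.Field
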