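import Cfsg.Agent.Lib.Walter3.Field.Psi

/-!
# The inner products of `ψ` and its sum over products of two involutions
-/

set_option autoImplicit false
set_option linter.unusedSectionVars false
set_option linter.style.haveILetI false

namespace Cfsg.Lib.Walter3.Field

open Subgroup Cfsg Cfsg.Lib.Char
open scoped ComplexConjugate

universe u

variable {G : Type u} [Group G] [Fintype G] {F : Type} [Field F] [Fintype F] {c : Cfg G F}

/-- The number of involutions `x` with `x g` an involution. -/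
noncomputable def pairK (g : G) : ℕ :=
  Nat.card {x : G // (x ≠ 1 ∧ x * x = 1) ∧ x * g ≠ 1 ∧ x * g * (x * g) = 1}

namespace Tor

variable {D : Full c} (T : Tor D)
include T

theorem th_ne_one : T.th ≠ 1 := fun e => T.χ_a (by rw [← T.th_h, e, MonoidHom.one_apply])

theorem thz_ne_one (z : D.B) : T.thz z ≠ 1 := fun e =>
  T.thz_h_ne z (by rw [e, MonoidHom.one_apply])

open Classical in
theorem inner_Psi : classInner T.Psi T.Psi = 2 * (T.e : ℂ) + 1 := by
  rw [Psi, Full.classInner_ind_ind]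
  change _ * _ * ∑ x : G, ∑ g : G, T.aP g * (fun z => conj (T.aP z)) (x⁻¹ * g * x) = _
  rw [D.sum_double D.B D.bd.R le_rfl le_rfl (β := fun z => conj (T.aP z))
    (fun g hg => T.aP_zero fun h => hg (T.B1_le h))
    (fun v hv g => T.aP_conj_R hv g)
    (fun g hg => by rw [T.aP_zero fun h => hg (T.B1_le h), map_zero])
    (fun x g hg hx => T.aP_fix hg
      (T.B1_le (by_contra fun h => hx (by rw [T.aP_zero h, map_zero]))))]
  have e1 : ∀ z : D.B, ∑ g : D.B, T.aP g * conj (T.aP ((z : G)⁻¹ * g * z)) =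
      (Nat.card T.B1 : ℂ) * (1 + if (z : G) ∈ T.B1 then 1 else 0) := fun z => by
    rw [sum_restrict T.B1_le (f := fun g => T.aP g * conj (T.aP ((z : G)⁻¹ * g * z)))
      fun g _ hg => by rw [T.aP_zero hg, zero_mul]]
    have h := sum_diff (1 : T.B1 →* ℂˣ) T.th 1 (T.thz z)
    rw [if_pos rfl, if_neg (T.thz_ne_one z).symm, if_neg T.th_ne_one, sub_zero, sub_zero,
      if_congr (T.th_eq_thz_iff z) rfl rfl] at h
    rw [← h]
    refine Finset.sum_congr rfl fun g _ => ?_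
    rw [T.aP_of_mem g.2, T.aP_of_mem (T.conj_B1 z.2 g.2)]
    rfl
  have e2 : ∀ z : D.B, ∑ m : c.M, T.aP m * conj (T.aP ((z : G)⁻¹ * (c.i * m * c.i⁻¹) * z)) =
      (Nat.card T.M1 : ℂ) := fun z => by
    rw [sum_restrict T.M1_le_M
      (f := fun g => T.aP g * conj (T.aP ((z : G)⁻¹ * (c.i * g * c.i⁻¹) * z)))
      fun g hgM hg => by rw [T.aP_zero fun h => hg ⟨hgM, h⟩, zero_mul]]
    have h := sum_diff (1 : T.M1 →* ℂˣ) (T.th.comp (inclusion T.M1_le)) 1 ((T.thz z).comp T.cjI)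
    have n1 : T.th.comp (inclusion T.M1_le) ≠ (1 : T.M1 →* ℂˣ) := fun e => T.χ_a (by
      rw [← T.th_h]
      exact DFunLike.congr_fun e ⟨T.h, T.h_mem_M1⟩)
    have n2 : (T.thz z).comp T.cjI ≠ 1 := fun e => T.thz_h_ne z (by
      have h1 : T.thz z (T.cjI ⟨T.h, T.h_mem_M1⟩) = 1 := DFunLike.congr_fun e _
      rw [show T.cjI ⟨T.h, T.h_mem_M1⟩ = (⟨T.h, T.h_mem_B1⟩ : T.B1)⁻¹ from Subtype.ext (by
        show c.i * T.h * c.i⁻¹ = T.h⁻¹
        rw [Tor.h, c.i_d, c.d_inv]), map_inv, inv_eq_one] at h1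
      exact h1)
    rw [if_pos rfl, if_neg n2.symm, if_neg n1, if_neg (T.thz_i_ne z), sub_zero, sub_zero, add_zero,
      mul_one] at h
    rw [← h]
    refine Finset.sum_congr rfl fun g _ => ?_
    rw [T.aP_of_mem g.2.2, T.aP_of_mem (T.conj_B1 z.2 (T.iMi_mem g.2).2)]
    rfl
  simp only [e1, e2, mul_add, Finset.sum_add_distrib, mul_one, mul_ite, mul_zero]
  rw [sum_restrict T.B1_le (f := fun g => if g ∈ T.B1 then (Nat.card T.B1 : ℂ) else 0)
    (fun g _ hg => if_neg hg)]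
  simp only [SetLike.coe_mem, if_true, Finset.sum_const, Finset.card_univ, nsmul_eq_mul,
    ← Nat.card_eq_fintype_card]
  have h0 : (Nat.card T.B1 : ℂ) ≠ 0 := Nat.cast_ne_zero.2 Nat.card_pos.ne'
  have hB : (Nat.card D.B : ℂ) = Nat.card T.B1 * T.e := by rw [← T.card_B1_mul]; push_cast; ring
  have hR : (Nat.card D.bd.R : ℂ) * Nat.card T.M1 = Nat.card T.B1 := by
    rw [T.card_B1, D.bd.card]; push_cast; ring
  have e3 : ∀ a : ℂ, (Nat.card D.bd.R : ℂ) * (a * (Nat.card T.M1 : ℂ)) = a * Nat.card T.B1 :=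
    fun a => by rw [← hR]; ring
  rw [e3, hB]
  field_simp
  ring

open Classical in
theorem sum_aP_aG {P : Subgroup G} (hP : P ≤ T.B1) (hM : T.M1 ≤ P) (ν : c.Dual) :
    ∑ g : P, T.aP g * conj (D.aG ν g) =
      (Nat.card P : ℂ) * ((if ∀ y ∈ T.F1, ν y = 1 then 1 else 0) - 1) := by
  set hB : P ≤ D.B := hP.trans T.B1_le
  set φ : P →* ℂˣ := (ν.comp D.ρ).comp (inclusion hB) with hφ
  have hφa : ∀ g : P, φ g = ν (D.ρ ⟨g, hB g.2⟩) := fun _ => rfl
  have h1 : (1 : P →* ℂˣ) = φ ↔ ∀ y ∈ T.F1, ν y = 1 := by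
    refine ⟨fun e y hy => ?_, fun h => MonoidHom.ext fun g => ?_⟩
    · have := DFunLike.congr_fun e ⟨y, hM (T.y_mem_M1 hy)⟩
      rw [MonoidHom.one_apply, hφa, D.ρ_y y] at this
      exact this.symm
    · rw [MonoidHom.one_apply, hφa]
      exact (h _ (T.mem_B1.1 (hP g.2)).2).symm
  have hh : φ ⟨T.h, hM T.h_mem_M1⟩ = 1 := by
    rw [hφa, D.ρ_eq (r := 1) (e := T.a) (y := 1) (one_mem _)
      (Or.inl (by simp [Tor.h])), map_one]
  have hth : T.th.comp (inclusion hP) ⟨T.h, hM T.h_mem_M1⟩ = T.χ T.a := T.th_h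
  have h2 : T.th.comp (inclusion hP) ≠ φ := fun e => T.χ_a (by rw [← hth, e, hh])
  have h3 : T.th.comp (inclusion hP) ≠ 1 := fun e => T.χ_a (by rw [← hth, e, MonoidHom.one_apply])
  have h := sum_diff (1 : P →* ℂˣ) (T.th.comp (inclusion hP)) φ 1
  rw [if_pos rfl, if_neg h2, if_neg h3, sub_zero, add_zero, if_congr h1 rfl rfl] at h
  rw [← h]
  refine Finset.sum_congr rfl fun g _ => ?_
  rw [T.aP_of_mem (hP g.2), D.aG_of_mem ν (T.B1_le (hP g.2))]
  simp only [MonoidHom.one_apply, Units.val_one]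
  rfl

open Classical in
theorem inner_Psi_Dif (ν : c.Dual) :
    classInner T.Psi (D.Dif ν) = 2 * ((if ∀ y ∈ T.F1, ν y = 1 then 1 else 0) - 1) := by
  rw [Psi, Full.Dif, Full.classInner_ind_ind]
  change _ * _ * ∑ x : G, ∑ g : G, T.aP g * (fun z => conj (D.aG ν z)) (x⁻¹ * g * x) = _
  rw [D.sum_double D.B D.bd.R le_rfl le_rfl (β := fun z => conj (D.aG ν z))
    (fun g hg => T.aP_zero fun h => hg (T.B1_le h))
    (fun v hv g => T.aP_conj_R hv g)
    (fun g hg => by rw [D.aG_zero ν hg, map_zero])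
    (fun x g hg hx => T.aP_fix hg (by_contra fun h => hx (by rw [D.aG_zero ν h, map_zero])))]
  set X : ℂ := (if ∀ y ∈ T.F1, ν y = 1 then 1 else 0) - 1
  have e1 : ∀ z : D.B, ∑ g : D.B, T.aP g * conj (D.aG ν ((z : G)⁻¹ * g * z)) =
      (Nat.card T.B1 : ℂ) * X := fun z => by
    rw [← T.sum_aP_aG le_rfl T.M1_le ν,
      ← sum_restrict T.B1_le (f := fun g => T.aP g * conj (D.aG ν g))
        fun g _ hg => by rw [T.aP_zero hg, zero_mul]]
    refine Finset.sum_congr rfl fun g _ => ?_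
    rw [D.aG_fusion ν g.2 (mul_mem (mul_mem (inv_mem z.2) g.2) z.2)]
  have e2 : ∀ z : D.B, ∑ m : c.M, T.aP m * conj (D.aG ν ((z : G)⁻¹ * (c.i * m * c.i⁻¹) * z)) =
      (Nat.card T.M1 : ℂ) * X := fun z => by
    rw [← T.sum_aP_aG T.M1_le le_rfl ν,
      ← sum_restrict T.M1_le_M (f := fun g => T.aP g * conj (D.aG ν g))
        fun g hgM hg => by rw [T.aP_zero fun h => hg ⟨hgM, h⟩, zero_mul]]
    refine Finset.sum_congr rfl fun m _ => ?_
    have e : (z : G)⁻¹ * (c.i * m * c.i⁻¹) * z = (c.i⁻¹ * z)⁻¹ * m * (c.i⁻¹ * z) := by group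
    rw [e, D.aG_fusion ν (D.M_le_B m.2) (e ▸ mul_mem (mul_mem (inv_mem z.2)
      (D.M_le_B (c.i_conj_M m.2))) z.2)]
  simp only [e1, e2, Finset.sum_const, Finset.card_univ, nsmul_eq_mul, ← Nat.card_eq_fintype_card]
  have h0 : (Nat.card T.B1 : ℂ) ≠ 0 := Nat.cast_ne_zero.2 Nat.card_pos.ne'
  have hB : (Nat.card D.B : ℂ) ≠ 0 := Nat.cast_ne_zero.2 Nat.card_pos.ne'
  have hR : (Nat.card D.bd.R : ℂ) * Nat.card T.M1 = Nat.card T.B1 := by
    rw [T.card_B1, D.bd.card]; push_cast; ring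
  have e3 : ∀ a b : ℂ, (Nat.card D.bd.R : ℂ) * (a * ((Nat.card T.M1 : ℂ) * b)) =
      a * (Nat.card T.B1 * b) := fun a b => by rw [← hR]; ring
  rw [e3]
  field_simp
  ring

open Classical in
theorem sum_thz_w {P : Subgroup G} (hPC : P ≤ D.BC) (hP : P ≤ T.B1) (hM : T.M1 ≤ P) (z : D.B)
    (ν : c.Dual) :
    ∑ g : P, (1 - (T.thz z (inclusion hP g) : ℂ)) * conj (D.w ν g) =
      (Nat.card P : ℂ) * if ∀ y ∈ T.F1, ν y = 1 then 1 else 0 := by
  have hC : P ≤ c.Ct := hPC.trans D.BC_le_Ct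
  have ht : c.t ∈ P := hM T.t_mem_M1
  have hhP : T.h ∈ P := hM T.h_mem_M1
  have hπh : c.π ⟨T.h, hC hhP⟩ = 1 :=
    c.π_de (e := T.a) (Or.inl (by rw [Subgroup.coe_one, mul_one]; rfl))
  have hsh : (c.sgn ⟨T.h, hC hhP⟩ : ℂ) = 1 :=
    c.sgn_inl (l := pr (Cfsg.Lib.TwoDim.splitSL F T.a)) (y := 1)
      (by rw [Subgroup.coe_one, mul_one]; rfl)
  have h := sum_diff (1 : P →* ℂˣ) ((T.thz z).comp (inclusion hP))
    ((c.lam ν).comp (inclusion hC)) ((c.slam ν).comp (inclusion hC))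
  have n1 : (1 : P →* ℂˣ) ≠ (c.slam ν).comp (inclusion hC) := fun e =>
    Cfg.lam_ne_slam hC ht 1 ν ((MonoidHom.ext fun _ => rfl).trans e)
  have n2 : (T.thz z).comp (inclusion hP) ≠ (c.lam ν).comp (inclusion hC) := fun e =>
    T.thz_h_ne z (by
      have h1 := DFunLike.congr_fun e ⟨T.h, hhP⟩
      simp only [MonoidHom.comp_apply, Cfg.lam] at h1
      rw [show inclusion hP ⟨T.h, hhP⟩ = ⟨T.h, T.h_mem_B1⟩ from rfl,
        show inclusion hC ⟨T.h, hhP⟩ = ⟨T.h, hC hhP⟩ from rfl, hπh, map_one] at h1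
      exact h1)
  have n3 : (T.thz z).comp (inclusion hP) ≠ (c.slam ν).comp (inclusion hC) := fun e =>
    T.thz_h_ne z (by
      have h1 := DFunLike.congr_fun e ⟨T.h, hhP⟩
      simp only [MonoidHom.comp_apply, Cfg.slam, MonoidHom.mul_apply, Cfg.lam] at h1
      rw [show inclusion hP ⟨T.h, hhP⟩ = ⟨T.h, T.h_mem_B1⟩ from rfl,
        show inclusion hC ⟨T.h, hhP⟩ = ⟨T.h, hC hhP⟩ from rfl, hπh, map_one, mul_one] at h1
      exact h1.trans (Units.ext hsh))
  have h1 : (1 : P →* ℂˣ) = (c.lam ν).comp (inclusion hC) ↔ ∀ y ∈ T.F1, ν y = 1 := by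
    refine ⟨fun e y hy => ?_, fun h => MonoidHom.ext fun g => ?_⟩
    · have h1 : (1 : ℂˣ) = ν (c.π ⟨y, hC (hM (T.y_mem_M1 hy))⟩) :=
        DFunLike.congr_fun e ⟨y, hM (T.y_mem_M1 hy)⟩
      rw [c.π_y] at h1
      exact h1.symm
    · show (1 : ℂˣ) = ν (c.π ⟨g, hC g.2⟩)
      rw [← D.ρ_eq_π (D.BC_le_B (hPC g.2)) (hC g.2)]
      exact (h _ (T.mem_B1.1 (hP g.2)).2).symm
  rw [if_neg n1, if_neg n2, if_neg n3, if_congr h1 rfl rfl, sub_zero, sub_zero, add_zero] at h
  rw [← h]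
  refine Finset.sum_congr rfl fun g _ => ?_
  rw [Full.w, extendByZero_of_mem _ _ (hPC g.2), Full.w0]
  rfl

open Classical in
theorem inner_Psi_W (ν : c.Dual) :
    classInner T.Psi (D.W ν) = 2 * if ∀ y ∈ T.F1, ν y = 1 then 1 else 0 := by
  rw [Psi, Full.W, Full.classInner_ind_ind]
  change _ * _ * ∑ x : G, ∑ g : G, T.aP g * (fun z => conj (D.w ν z)) (x⁻¹ * g * x) = _
  rw [D.sum_double D.B D.bd.R le_rfl le_rfl (β := fun z => conj (D.w ν z))
    (fun g hg => T.aP_zero fun h => hg (T.B1_le h))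
    (fun v hv g => T.aP_conj_R hv g)
    (fun g hg => by rw [D.w_zero ν (fun h => hg (D.BC_le_B h)), map_zero])
    (fun x g hg hx => T.aP_fix hg
      (D.BC_le_B (by_contra fun h => hx (by rw [D.w_zero ν h, map_zero]))))]
  set X : ℂ := if ∀ y ∈ T.F1, ν y = 1 then 1 else 0 with hX
  have e1 : ∀ z : D.B, ∑ g : D.B, T.aP g * conj (D.w ν ((z : G)⁻¹ * g * z)) =
      (Nat.card ↥(D.BC ⊓ T.B1) : ℂ) * X := fun z => by
    rw [← T.sum_thz_w (P := D.BC ⊓ T.B1) inf_le_left inf_le_right (le_inf T.M1_le_BC T.M1_le) z⁻¹ ν]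
    rw [← Equiv.sum_comp (MulAut.conj z).toEquiv]
    simp only [MulEquiv.toEquiv_eq_coe, MulEquiv.coe_toEquiv, MulAut.conj_apply, Subgroup.coe_mul,
      Subgroup.coe_inv]
    simp only [show ∀ g : G, (z : G)⁻¹ * ((z : G) * g * (z : G)⁻¹) * z = g from fun g => by group]
    rw [sum_restrict (inf_le_left.trans D.BC_le_B : D.BC ⊓ T.B1 ≤ D.B)
      (f := fun g => T.aP ((z : G) * g * (z : G)⁻¹) * conj (D.w ν g)) fun g _ hg => by
        by_cases hC : g ∈ D.BC
        · rw [T.aP_zero fun h => hg ⟨hC, ?_⟩, zero_mul]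
          have := T.conj_B1 z.2 h
          rwa [show (z : G)⁻¹ * ((z : G) * g * (z : G)⁻¹) * z = g by group] at this
        · rw [D.w_zero ν hC, map_zero, mul_zero]]
    refine Finset.sum_congr rfl fun g _ => ?_
    have hm : (z : G) * g * (z : G)⁻¹ ∈ T.B1 := by
      have := T.conj_B1 (inv_mem z.2) g.2.2
      rwa [inv_inv] at this
    have e : T.th ⟨_, hm⟩ = T.thz z⁻¹ (inclusion inf_le_right g) := by
      refine congrArg T.th (Subtype.ext ?_)
      show (z : G) * g * (z : G)⁻¹ = ((z⁻¹ : D.B) : G)⁻¹ * g * ((z⁻¹ : D.B) : G)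
      rw [Subgroup.coe_inv, inv_inv]
    rw [T.aP_of_mem hm, e]
  have e2 : ∀ z : D.B, ∑ m : c.M, T.aP m * conj (D.w ν ((z : G)⁻¹ * (c.i * m * c.i⁻¹) * z)) =
      if (z : G) ∈ D.BC then (Nat.card T.M1 : ℂ) * X else 0 := fun z => by
    split_ifs with hz
    · rw [← T.sum_thz_w T.M1_le_BC T.M1_le le_rfl 1 ν]
      rw [sum_restrict T.M1_le_M
        (f := fun g => T.aP g * conj (D.w ν ((z : G)⁻¹ * (c.i * g * c.i⁻¹) * z)))
        fun g hgM hg => by rw [T.aP_zero fun h => hg ⟨hgM, h⟩, zero_mul]]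
      refine Finset.sum_congr rfl fun m _ => ?_
      have e : T.th ⟨m, m.2.2⟩ = T.thz 1 (inclusion T.M1_le m) := by
        refine congrArg T.th (Subtype.ext ?_)
        show (m : G) = ((1 : D.B) : G)⁻¹ * (m : G) * ((1 : D.B) : G)
        rw [OneMemClass.coe_one, inv_one, one_mul, mul_one]
      rw [D.w_conj' ν hz, D.w_iMi ν m.2.1, T.aP_of_mem m.2.2, e]
    · refine Finset.sum_eq_zero fun m _ => ?_
      by_contra hne
      exact hz (D.mem_BC_of_w z.2 (c.i_conj_M m.2) fun e => hne (by rw [e, map_zero, mul_zero]))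
  simp only [e1, e2]
  rw [sum_restrict D.BC_le_B (f := fun g => if g ∈ D.BC then (Nat.card T.M1 : ℂ) * X else 0)
    (fun g _ hg => if_neg hg)]
  simp only [SetLike.coe_mem, if_true, Finset.sum_const, Finset.card_univ, nsmul_eq_mul,
    ← Nat.card_eq_fintype_card]
  rw [T.card_BC1, T.card_B1, D.bd.card]
  have hq : (Fintype.card F : ℂ) ≠ 0 := Nat.cast_ne_zero.2 Fintype.card_ne_zero
  have hm : (Nat.card T.M1 : ℂ) ≠ 0 := Nat.cast_ne_zero.2 Nat.card_pos.ne'
  have he : (T.e : ℂ) ≠ 0 := Nat.cast_ne_zero.2 T.e_pos.ne'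
  have hBC : (Nat.card D.BC : ℂ) = Fintype.card F * (Nat.card T.M1 * T.e) := by
    rw [D.card_BC, ← c.card_M, ← T.card_M1_mul]; push_cast; ring
  have hB : (Nat.card D.B : ℂ) = (Fintype.card F : ℂ) ^ 3 * (Nat.card T.M1 * T.e) := by
    rw [D.card_B, ← c.card_M, ← T.card_M1_mul]; push_cast; ring
  rw [hBC, hB]
  push_cast
  field_simp
  ring

open Classical in
theorem K_eq {e : Fˣ} {y : fieldPart c.S} {m : G} (hm : m ∈ T.M1)
    (he : m = c.d e * y ∨ m = c.t * (c.d e * y)) (h1 : T.th ⟨m, hm.2⟩ ≠ 1) :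
    pairK (m : G) = if y = 1 then Fintype.card F - 1 else 0 := by
  obtain ⟨k, hk⟩ := T.exists_pow_s (g := ⟨m, T.B1_le hm.2⟩) (T.mem_B1.1 hm.2).2 h1
  have hk' : orderOf (m ^ k) = T.s := hk
  have hu := T.mem_h (pow_mem hm.1 k) hk'
  have hu1 : m ^ k ≠ 1 := fun e => T.s_prime.ne_one (by rw [← hk', e, orderOf_one])
  have hinvM : ∀ x : G, x * x = 1 → x * m * (x * m) = 1 → x * m * x⁻¹ = m⁻¹ := fun x hx2 h => by
    rw [inv_eq_of_mul_eq_one_right hx2]
    exact eq_inv_of_mul_eq_one_left (by rw [← h]; group)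
  -- an involution inverting `m` lies in `M i`
  have hxM : ∀ x : G, x ≠ 1 → x * x = 1 → x * m * (x * m) = 1 → x * c.i ∈ c.M := by
    intro x hx1 hx2 hxm
    have hi := hinvM x hx2 hxm
    have hxu : x⁻¹ * m ^ k * x = (m ^ k)⁻¹ := by
      rw [inv_eq_of_mul_eq_one_right hx2, ← inv_pow, ← hi, conj_pow, inv_eq_of_mul_eq_one_right hx2]
    refine (T.normalizes_h hu hu1 (hxu ▸ inv_mem hu)).resolve_left fun hM => ?_
    rcases c.invol_M hM hx2 D.odd_card_H with e | e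
    · exact hx1 e
    · have h2 : m ^ k * m ^ k = 1 := by
        rw [e, c.t_inv, (c.comm_t_of_mem_M (pow_mem hm.1 k)).eq, mul_assoc, c.t_sq, mul_one] at hxu
        nth_rewrite 2 [hxu]
        rw [mul_inv_cancel]
      have h3 : orderOf (m ^ k) ∣ 2 := orderOf_dvd_of_pow_eq_one (by rw [pow_two, h2])
      rw [hk'] at h3
      have := Nat.le_of_dvd two_pos h3
      have h5 : 5 ≤ T.s := T.five
      omega
  have hyπ : c.π ⟨m, c.M_le_Ct hm.1⟩ = y := c.π_de he
  split_ifs with hy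
  · subst hy
    simp only [Subgroup.coe_one, mul_one] at he
    have hd : ∀ a : Fˣ, c.d a * c.i * c.d e * (c.d a * c.i)⁻¹ = (c.d e)⁻¹ := fun a => by
      rw [_root_.mul_inv_rev, show c.d a * c.i * c.d e * (c.i⁻¹ * (c.d a)⁻¹) =
        c.d a * (c.i * c.d e * c.i⁻¹) * (c.d a)⁻¹ by group, c.i_d, c.d_inv]
      have h : Commute (c.d a) (c.d e)⁻¹ := by
        refine Commute.inv_right ?_
        show c.d a * c.d e = c.d e * c.d a
        rw [← c.d_mul, ← c.d_mul, mul_comm]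
      rw [h.eq, mul_inv_cancel_right]
    let f : c.H ⊕ c.H → {x : G // (x ≠ 1 ∧ x * x = 1) ∧ x * m ≠ 1 ∧ x * m * (x * m) = 1} :=
      fun p => ⟨Sum.elim (fun h : c.H => (h : G) * c.i) (fun h : c.H => c.t * ((h : G) * c.i)) p, by
        have key : ∀ h : c.H, ((h : G) * c.i) * ((h : G) * c.i) = 1 ∧
            (h : G) * c.i * m * ((h : G) * c.i)⁻¹ = m⁻¹ := by
          intro h
          obtain ⟨a, ha⟩ := c.mem_H.1 h.2
          refine ⟨?_, ?_⟩
          · rw [← ha, show c.d a * c.i * (c.d a * c.i) = c.d a * (c.i * c.d a * c.i⁻¹) * (c.i * c.i) by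
              group, c.i_d, c.i_sq, mul_one, ← c.d_mul, mul_inv_cancel, c.d_one]
          · rw [← ha]
            rcases he with r | r
            · rw [r]; exact hd a
            · have ht : Commute c.t (c.d a * c.i) :=
                (show Commute c.t (c.d a) from (c.d_comm_t a).symm).mul_right c.i_comm_t.symm
              rw [r, ← mul_assoc (c.d a * c.i) c.t, ← ht.eq, mul_assoc c.t, mul_assoc c.t, hd a,
                _root_.mul_inv_rev c.t, c.t_inv]
              have ht2 : Commute c.t (c.d e)⁻¹ :=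
                (show Commute c.t (c.d e) from (c.d_comm_t e).symm).inv_right
              exact ht2.eq
        have hne : ∀ v : G, v * c.i ∈ c.M → v ≠ 1 ∧ v * m ≠ 1 := by
          intro v hv
          refine ⟨fun e => D.i_notMem ?_, fun e => D.i_notMem ?_⟩
          · rw [e, one_mul] at hv
            exact D.M_le_B hv
          · rw [eq_inv_of_mul_eq_one_left e] at hv
            exact D.M_le_B ((Subgroup.mul_mem_cancel_left _ (inv_mem hm.1)).1 hv)
        have hmemM : ∀ h : c.H, (h : G) * c.i * c.i ∈ c.M := fun h => by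
          rw [mul_assoc, c.i_sq, mul_one]; exact c.H_le_M h.2
        rcases p with h | h <;> simp only [Sum.elim_inl, Sum.elim_inr]
        · obtain ⟨k1, k2⟩ := key h
          obtain ⟨n1, n2⟩ := hne _ (hmemM h)
          refine ⟨⟨n1, k1⟩, n2, ?_⟩
          rw [inv_eq_of_mul_eq_one_right k1] at k2
          rw [← mul_assoc, k2, inv_mul_cancel]
        · obtain ⟨k1, k2⟩ := key h
          have ht : Commute c.t ((h : G) * c.i) := (c.comm_t_of_mem_M (c.H_le_M h.2)).mul_right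
            c.i_comm_t.symm
          have k1' : c.t * ((h : G) * c.i) * (c.t * ((h : G) * c.i)) = 1 := by
            rw [mul_assoc c.t, ← mul_assoc ((h : G) * c.i) c.t, ← ht.eq, mul_assoc c.t, k1, mul_one,
              c.t_sq]
          obtain ⟨n1, n2⟩ := hne (c.t * ((h : G) * c.i))
            (by rw [mul_assoc]; exact mul_mem c.t_mem_M (hmemM h))
          refine ⟨⟨n1, k1'⟩, n2, ?_⟩
          have k3 : c.t * ((h : G) * c.i) * m * (c.t * ((h : G) * c.i))⁻¹ = m⁻¹ := by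
            rw [show c.t * ((h : G) * c.i) * m * (c.t * ((h : G) * c.i))⁻¹ =
              c.t * ((h : G) * c.i * m * ((h : G) * c.i)⁻¹) * c.t⁻¹ by group, k2,
              (c.comm_t_of_mem_M (inv_mem hm.1)).eq, mul_inv_cancel_right]
          rw [inv_eq_of_mul_eq_one_right k1'] at k3
          rw [← mul_assoc, k3, inv_mul_cancel]⟩
    have hf : Function.Bijective f := by
      have huniq : ∀ a b : c.H, (a : G) * c.i ≠ c.t * ((b : G) * c.i) := by
        intro a b e'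
        obtain ⟨α, hα⟩ := c.mem_H.1 a.2
        obtain ⟨β, hβ⟩ := c.mem_H.1 b.2
        rw [← mul_assoc] at e'
        refine (c.de_unique (e := α) (y := 1) (e' := β) (y' := 1)).2 ?_
        rw [Subgroup.coe_one, mul_one, mul_one, hα, hβ]
        exact mul_right_cancel e'
      refine ⟨?_, fun x => ?_⟩
      · rintro (a | a) (b | b) e' <;> have e'' := congrArg Subtype.val e' <;>
          simp only [f, Sum.elim_inl, Sum.elim_inr] at e''
        · exact congrArg _ (Subtype.ext (mul_right_cancel e''))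
        · exact absurd e'' (huniq a b)
        · exact absurd e''.symm (huniq b a)
        · exact congrArg _ (Subtype.ext (mul_right_cancel (mul_left_cancel e'')))
      · obtain ⟨⟨hx1, hx2⟩, -, hxm⟩ := x.2
        obtain ⟨a, z, ha⟩ := c.mem_M.1 (hxM _ hx1 hx2 hxm)
        have hxC : (x : G) * c.i ∈ c.Ct := c.M_le_Ct (hxM _ hx1 hx2 hxm)
        have hiC : c.i ∈ c.Ct := mem_centralizer_singleton_iff.2 c.i_comm_t
        have hz : z = 1 := by
          have h2 : (x : G) ∈ c.Ct := by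
            have := mul_mem hxC (inv_mem hiC)
            rwa [mul_inv_cancel_right] at this
          have e1 : c.π ⟨x, h2⟩ = 1 := c.eq_one_of_sq _ (by
            rw [← map_mul, show (⟨x, h2⟩ : c.Ct) * ⟨x, h2⟩ = 1 from Subtype.ext hx2, map_one])
          have e2 : c.π ⟨c.i, hiC⟩ = 1 := c.π_eq (l := pr jSL) (y := 1)
            (Or.inl (by rw [Subgroup.coe_one, mul_one]; rfl))
          rw [← c.π_de (g := ⟨(x : G) * c.i, hxC⟩) ha,
            show (⟨(x : G) * c.i, hxC⟩ : c.Ct) = ⟨x, h2⟩ * ⟨c.i, hiC⟩ from Subtype.ext rfl, map_mul, e1,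
            e2, one_mul]
        subst hz
        simp only [Subgroup.coe_one, mul_one] at ha
        rcases ha with ha | ha
        · exact ⟨Sum.inl ⟨c.d a, c.mem_H.2 ⟨a, rfl⟩⟩, Subtype.ext (by
            show c.d a * c.i = x
            rw [← ha, mul_assoc, c.i_sq, mul_one])⟩
        · exact ⟨Sum.inr ⟨c.d a, c.mem_H.2 ⟨a, rfl⟩⟩, Subtype.ext (by
            show c.t * (c.d a * c.i) = x
            rw [← mul_assoc, ← ha, mul_assoc, c.i_sq, mul_one])⟩
    rw [pairK, ← Nat.card_congr (Equiv.ofBijective f hf), Nat.card_sum, ← c.card_H]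
    ring
  · rw [pairK]
    haveI : IsEmpty {x : G // (x ≠ 1 ∧ x * x = 1) ∧ x * m ≠ 1 ∧ x * m * (x * m) = 1} :=
      ⟨fun x => hy ?_⟩
    · exact Nat.card_eq_zero.2 (Or.inl inferInstance)
    obtain ⟨⟨hx1, hx2⟩, -, hxm⟩ := x.2
    have h2 : (x : G) ∈ c.Ct := by
      have := mul_mem (c.M_le_Ct (hxM _ hx1 hx2 hxm))
        (inv_mem (mem_centralizer_singleton_iff.2 c.i_comm_t : c.i ∈ c.Ct))
      rwa [mul_inv_cancel_right] at this
    rw [← hyπ]
    exact c.π_eq_one_of_inverted (g := ⟨m, c.M_le_Ct hm.1⟩) (v := ⟨x, h2⟩) (Subtype.ext hx2)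
      (Subtype.ext (hinvM _ hx2 hxm))

theorem K_conj (r g : G) : pairK (r * g * r⁻¹) = pairK g := by
  refine Nat.card_congr ((MulAut.conj r).symm.toEquiv.subtypeEquiv fun x => ?_)
  simp only [MulEquiv.toEquiv_eq_coe, MulEquiv.coe_toEquiv, MulAut.conj_symm_apply]
  rw [show r⁻¹ * x * r * g = r⁻¹ * (x * (r * g * r⁻¹)) * r by group,
    show r⁻¹ * x * r * (r⁻¹ * x * r) = r⁻¹ * (x * x) * r by group,
    show r⁻¹ * (x * (r * g * r⁻¹)) * r * (r⁻¹ * (x * (r * g * r⁻¹)) * r) =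
      r⁻¹ * (x * (r * g * r⁻¹) * (x * (r * g * r⁻¹))) * r by group]
  have h : ∀ w : G, r⁻¹ * w * r = 1 ↔ w = 1 := fun w =>
    ⟨fun e => by
      calc w = r * (r⁻¹ * w * r) * r⁻¹ := by group
        _ = 1 := by rw [e]; group, fun e => by rw [e]; group⟩
  simp only [ne_eq, h]

open Classical in
/-- The sum over products of two involutions. -/
theorem sum_pairs_Psi :
    ∑ x ∈ involFinset G, ∑ y ∈ involFinset G, T.Psi (x * y) =
      (T.B1.index : ℂ) * ((Fintype.card F : ℂ) ^ 3 * ((Fintype.card F - 1 : ℕ) : ℂ) ^ 2) := by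
  have h1 : ∑ x ∈ involFinset G, ∑ y ∈ involFinset G, T.Psi (x * y) =
      (T.B1.index : ℂ) * ∑ x ∈ involFinset G, ∑ y ∈ involFinset G, T.aP (x * y) := by
    simp only [Psi, indFun, ← Finset.mul_sum]
    rw [Finset.sum_comm_cycle]
    have hz : ∀ z : G, ∑ x ∈ involFinset G, ∑ y ∈ involFinset G,
        extendByZero T.B1 (fun g => 1 - (T.th g : ℂ)) (z⁻¹ * (x * y) * z) =
        ∑ x ∈ involFinset G, ∑ y ∈ involFinset G, T.aP (x * y) := by
      intro z
      have hbij : ∀ f : G → ℂ,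
          ∑ x ∈ involFinset G, f (z⁻¹ * x * z) = ∑ x ∈ involFinset G, f x := fun f =>
        Finset.sum_nbij' (fun x => z⁻¹ * x * z) (fun x => z * x * z⁻¹)
          (fun x hx => by simpa using conj_mem_involFinset z⁻¹ hx)
          (fun x hx => conj_mem_involFinset z hx)
          (fun x _ => by group) (fun x _ => by group) (fun x _ => rfl)
      rw [← hbij fun x => ∑ y ∈ involFinset G, T.aP (x * y)]
      refine Finset.sum_congr rfl fun x _ => ?_
      rw [← hbij fun y => T.aP (z⁻¹ * x * z * y)]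
      refine Finset.sum_congr rfl fun y _ => ?_
      rw [show z⁻¹ * x * z * (z⁻¹ * y * z) = z⁻¹ * (x * y) * z by group]
      rfl
    simp only [hz, Finset.sum_const, Finset.card_univ, nsmul_eq_mul, ← Nat.card_eq_fintype_card]
    rw [← mul_assoc, card_inv_mul_card]
  rw [h1]
  congr 1
  -- collect by the product
  have h2 : ∑ x ∈ involFinset G, ∑ y ∈ involFinset G, T.aP (x * y) =
      ∑ g : G, T.aP g * (pairK g : ℂ) := by
    have e : ∀ x ∈ involFinset G, ∑ y ∈ involFinset G, T.aP (x * y) =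
        ∑ g : G, if x * g ∈ involFinset G then T.aP g else 0 := by
      intro x hx
      have hxx := (mem_involFinset.1 hx).2
      rw [← Finset.sum_filter]
      refine Finset.sum_nbij' (fun y => x * y) (fun g => x * g) (fun y hy => ?_) (fun g hg => ?_)
        (fun y _ => ?_) (fun g _ => ?_) (fun y _ => rfl)
      · exact Finset.mem_coe.2 (Finset.mem_filter.2 ⟨Finset.mem_univ _, by
          rw [← mul_assoc, hxx, one_mul]; exact Finset.mem_coe.1 hy⟩)
      · simpa using hg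
      · rw [← mul_assoc, hxx, one_mul]
      · rw [← mul_assoc, hxx, one_mul]
    rw [Finset.sum_congr rfl e, Finset.sum_comm]
    refine Finset.sum_congr rfl fun g _ => ?_
    rw [← Finset.sum_filter, Finset.sum_const, nsmul_eq_mul, mul_comm]
    congr 2
    rw [pairK, Nat.card_eq_fintype_card, Fintype.card_subtype]
    congr 1
    ext x
    simp only [Finset.mem_filter, mem_involFinset, Finset.mem_univ, true_and]
  rw [h2]
  have h3 : ∑ g : G, T.aP g * (pairK g : ℂ) =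
      ∑ p : D.bd.R × T.M1, T.aP ((p.1 : G) * p.2) * (pairK ((p.1 : G) * p.2) : ℂ) := by
    refine (Finset.sum_of_injOn (fun p : D.bd.R × T.M1 => (p.1 : G) * p.2) ?_ (by simp) ?_
      fun _ _ => rfl).symm
    · rintro ⟨⟨r, hr⟩, ⟨m, hm⟩⟩ _ ⟨⟨r', hr'⟩, ⟨m', hm'⟩⟩ _ e
      obtain ⟨rfl, rfl⟩ := D.rm_unique hr hr' hm.1 hm'.1 e
      rfl
    · intro g _ hg
      rw [T.aP_zero, zero_mul]
      intro h
      obtain ⟨r, hr, m, hm, rfl⟩ := D.mem_B.1 (T.B1_le h)
      exact hg ⟨(⟨r, hr⟩, ⟨m, hm, (Subgroup.mul_mem_cancel_left _ (T.R_le_B1 hr)).1 h⟩), by simp, rfl⟩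
  rw [h3, Fintype.sum_prod_type]
  have h4 : ∀ (r : D.bd.R) (m : T.M1), T.aP ((r : G) * m) * (pairK ((r : G) * m) : ℂ) =
      T.aP m * (pairK (m : G) : ℂ) := by
    intro r m
    have e1 : T.aP ((r : G) * m) = T.aP m := by
      rw [T.aP_of_mem (mul_mem (T.R_le_B1 r.2) m.2.2), T.aP_of_mem m.2.2,
        show (⟨(r : G) * m, mul_mem (T.R_le_B1 r.2) m.2.2⟩ : T.B1) =
          ⟨r, T.R_le_B1 r.2⟩ * ⟨m, m.2.2⟩ from rfl, map_mul, T.th_R r.2, one_mul]
    rw [e1]
    by_cases h0 : T.aP m = 0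
    · rw [h0, zero_mul, zero_mul]
    · obtain ⟨hg, hρ, hc⟩ := T.aP_supp h0
      obtain ⟨k, hk⟩ := T.exists_pow_s (g := ⟨m, T.B1_le hg⟩) hρ hc
      obtain ⟨r', hr', e⟩ := T.class_Rm m.2.1 (fun r'' hr'' hcm => T.cent_R (k := k)
        (T.mem_h (pow_mem m.2.1 k) hk)
        (fun e => T.s_prime.ne_one (by
          rw [← hk, show ((⟨(m : G), T.B1_le hg⟩ : D.B) : G) ^ k = 1 from e, orderOf_one]))
        hr'' hcm) r.2
      rw [← e, T.K_conj]
  simp only [h4, Finset.sum_const, Finset.card_univ, nsmul_eq_mul, ← Nat.card_eq_fintype_card,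
    D.bd.card]
  push_cast
  congr 1
  -- the terms without field part
  have hkey : ∀ a : Fˣ, c.d a ∈ T.M1 ∧ c.t * c.d a ∈ T.M1 := by
    intro a
    have h : c.d a ∈ T.M1 := by
      refine ⟨c.H_le_M (c.mem_H.2 ⟨a, rfl⟩), T.mem_B1.2 ⟨D.M_le_B (c.H_le_M (c.mem_H.2 ⟨a, rfl⟩)), ?_⟩⟩
      rw [D.ρ_eq (g := ⟨c.d a, _⟩) (r := 1) (e := a) (y := 1) (one_mem _) (Or.inl (by simp))]
      exact one_mem _
    exact ⟨h, mul_mem T.t_mem_M1 h⟩
  have hHM : ∀ h : c.H, (h : G) ∈ T.M1 := fun h => by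
    obtain ⟨a, ha⟩ := c.mem_H.1 h.2
    exact ha ▸ (hkey a).1
  let g : c.H ⊕ c.H → T.M1 := Sum.elim (fun h => ⟨h, hHM h⟩)
    (fun h => ⟨c.t * (h : G), mul_mem T.t_mem_M1 (hHM h)⟩)
  have hg : Function.Injective g := by
    have huniq : ∀ a b : c.H, (a : G) ≠ c.t * (b : G) := by
      intro a b e'
      obtain ⟨α, hα⟩ := c.mem_H.1 a.2
      obtain ⟨β, hβ⟩ := c.mem_H.1 b.2
      refine (c.de_unique (e := α) (y := 1) (e' := β) (y' := 1)).2 ?_
      rw [Subgroup.coe_one, mul_one, mul_one, hα, hβ]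
      exact e'
    rintro (a | a) (b | b) e' <;> have e'' := congrArg Subtype.val e'
    · exact congrArg _ (Subtype.ext e'')
    · exact absurd e'' (huniq a b)
    · exact absurd e''.symm (huniq b a)
    · exact congrArg _ (Subtype.ext (mul_left_cancel e''))
  have h5 : ∑ m : T.M1, T.aP m * (pairK (m : G) : ℂ) =
      ∑ p : c.H ⊕ c.H, T.aP (g p) * (pairK (g p : G) : ℂ) := by
    refine (Finset.sum_of_injOn g hg.injOn (by simp) ?_ fun _ _ => rfl).symm
    intro m _ hm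
    by_cases h0 : T.aP m = 0
    · rw [h0, zero_mul]
    · obtain ⟨e, y, he⟩ := c.mem_M.1 m.2.1
      have h1 : T.th ⟨m, m.2.2⟩ ≠ 1 := fun e1 => h0 (by
        rw [T.aP_of_mem m.2.2, e1, Units.val_one, sub_self])
      rw [T.K_eq m.2 he h1, if_neg, Nat.cast_zero, mul_zero]
      rintro rfl
      simp only [Subgroup.coe_one, mul_one] at he
      refine hm ?_
      rcases he with r | r
      · exact ⟨Sum.inl ⟨c.d e, c.mem_H.2 ⟨e, rfl⟩⟩, by simp, Subtype.ext r.symm⟩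
      · exact ⟨Sum.inr ⟨c.d e, c.mem_H.2 ⟨e, rfl⟩⟩, by simp, Subtype.ext r.symm⟩
  have h6 : ∀ p : c.H ⊕ c.H, T.aP (g p) * (pairK (g p : G) : ℂ) =
      T.aP (g p) * ((Fintype.card F - 1 : ℕ) : ℂ) := by
    intro p
    by_cases h0 : T.aP (g p) = 0
    · rw [h0, zero_mul, zero_mul]
    · have h1 : T.th ⟨g p, (g p).2.2⟩ ≠ 1 := fun e1 => h0 (by
        rw [T.aP_of_mem (g p).2.2, e1, Units.val_one, sub_self])
      rcases p with h | h <;> obtain ⟨a, ha⟩ := c.mem_H.1 h.2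
      · rw [T.K_eq (g (Sum.inl h)).2 (e := a) (y := 1)
          (Or.inl (by simp [g, ha])) h1, if_pos rfl]
      · rw [T.K_eq (g (Sum.inr h)).2 (e := a) (y := 1)
          (Or.inr (by simp [g, ha])) h1, if_pos rfl]
  rw [h5, Finset.sum_congr rfl fun p _ => h6 p, ← Finset.sum_mul, Fintype.sum_sum_type]
  set θH : c.H →* ℂˣ := T.th.comp (Subgroup.inclusion fun x hx => (hHM ⟨x, hx⟩).2) with hθH
  have hH : ∀ h : c.H, T.aP (g (Sum.inl h)) = 1 - (θH h : ℂ) ∧
      T.aP (g (Sum.inr h)) = 1 - (θH h : ℂ) := by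
    intro h
    refine ⟨T.aP_of_mem (g := (h : G)) (hHM h).2, ?_⟩
    show T.aP (c.t * (h : G)) = _
    rw [T.aP_of_mem (mul_mem T.t_mem_B1 (hHM h).2),
      show (⟨c.t * (h : G), mul_mem T.t_mem_B1 (hHM h).2⟩ : T.B1) =
        ⟨c.t, T.t_mem_B1⟩ * ⟨h, (hHM h).2⟩ from rfl, map_mul, T.th_t, one_mul]
    rfl
  have hθ : ∑ h : c.H, (θH h : ℂ) = 0 := by
    rw [sum_hom, if_neg]
    intro e
    refine T.χ_a ?_
    rw [← T.th_h]
    exact DFunLike.congr_fun e ⟨T.h, T.h_mem_H⟩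
  simp only [fun h => (hH h).1, fun h => (hH h).2, Finset.sum_sub_distrib, hθ, sub_zero,
    Finset.sum_const, Finset.card_univ, nsmul_eq_mul, mul_one, ← Nat.card_eq_fintype_card]
  rw [Nat.card_eq_fintype_card (α := F), ← c.card_H]
  push_cast
  ring

end Tor

end Cfsg.Lib.Walter3.Field
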