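import Cfsg.Agent.Lib.Walter3.Field.Rows

/-!
# The rows of `ψ` and the equation between `X` and the index of `B`

`ψ` is `e (1 + X)` plus differences plus one signed character; evaluating at `1`, at `t` and on
products of two involutions gives an equation for `X`.
-/

set_option autoImplicit false
set_option linter.unusedSectionVars false
set_option linter.style.haveILetI false

namespace Cfsg.Lib.Walter3.Field

open Subgroup Cfsg Cfsg.Lib.Char Cfsg.Lib.Block
open scoped ComplexConjugate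

universe u

variable {G : Type u} [Group G] [Fintype G] {F : Type} [Field F] [Fintype F] {c : Cfg G F}

/-- The elimination leading to the equation for `X`. -/
theorem eliminate {A B a b s q e n N v R : ℂ} (hA : A ≠ 0) (hB : B ≠ 0) (hs : s * s = 1)
    (he : e ≠ 0) (hn : n ≠ 0) (hq : q ≠ 0) (ha : s * a = q)
    (h1 : e * (1 + s * A) + v * B = 0) (h2 : e * (1 + q) + v * b = 0)
    (h3 : e * (N ^ 2 + s * ((N * a) ^ 2 / A)) + v * ((N * b) ^ 2 / B) = n * e * (q ^ 3 * R ^ 2))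
    (hN : N * (q + 1) = n * q ^ 2) (hR : R = q - 1) :
    n * q * (s * A - q) ^ 2 = (q ^ 2 - 1) ^ 2 * (s * A) * (s * A + 1) := by
  subst hR
  have h3' : e * (N ^ 2 * A * B + s * (N * a) ^ 2 * B) + v * (N * b) ^ 2 * A =
      n * e * (q ^ 3 * (q - 1) ^ 2) * (A * B) := by
    rw [← h3]; field_simp
  obtain rfl : a = s * q := by linear_combination s * ha - a * hs
  have k : N ^ 2 * (s * A - q) ^ 2 = n * q ^ 3 * (q - 1) ^ 2 * (s * A) * (s * A + 1) := by
    refine mul_left_cancel₀ (pow_ne_zero 2 he) ?_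
    linear_combination (-(s * v)) * h3' +
      (-(e ^ 2 * (1 + s * A) * N ^ 2 * q ^ 2 * (s * s + 1))) * hs +
      (s * (e * (N ^ 2 * A + s ^ 3 * N ^ 2 * q ^ 2) - n * e * q ^ 3 * (q - 1) ^ 2 * A)) * h1 +
      (s * (N ^ 2 * A * (v * b - e * (1 + q)))) * h2
  refine mul_left_cancel₀ (mul_ne_zero hn (pow_ne_zero 3 hq)) ?_
  linear_combination (q + 1) ^ 2 * k - (s * A - q) ^ 2 * (N * (q + 1) + n * q ^ 2) * hN

/-- Two rows with entries zero or those of `w`. -/
theorem row_identity {p d w : ℤ} (hp : p = 0 ∨ p = w) (hd : d = 0 ∨ d = w)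
    (hw : w = 0 ∨ w = 1 ∨ w = -1) : (p * w - d * w) ^ 2 = p * w + d * w - 2 * (p * d) := by
  rcases hw with rfl | rfl | rfl <;> rcases hp with rfl | rfl <;> rcases hd with rfl | rfl <;> norm_num

namespace Tor

variable {D : Full c} (T : Tor D)
include T

/-- The coefficients of `ψ`. -/
noncomputable def pc (χ : IrrCharacter G) : ℤ := cfc T.Psi χ

theorem pc_triv : T.pc (trivChar G) = 1 :=
  cfc_triv T.Psi_isGeneralized (by rw [T.inner_Psi_one, Int.cast_one])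

theorem sum_pc_sq : ∑ χ, T.pc χ * T.pc χ = 2 * (T.e : ℤ) + 1 :=
  cfc_inner T.Psi_isGeneralized T.Psi_isGeneralized (by rw [T.inner_Psi]; push_cast; rfl)

open Classical in
theorem sum_pc_wc (ν : c.Dual) :
    ∑ χ, T.pc χ * D.wc ν χ = 2 * if ∀ y ∈ T.F1, ν y = 1 then 1 else 0 :=
  cfc_inner T.Psi_isGeneralized (D.W_isGeneralized ν) (by
    rw [T.inner_Psi_W]; split_ifs <;> norm_num)

open Classical in
theorem sum_pc_dc (ν : c.Dual) :
    ∑ χ, T.pc χ * D.dc ν χ = 2 * ((if ∀ y ∈ T.F1, ν y = 1 then 1 else 0) - 1) :=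
  cfc_inner T.Psi_isGeneralized (D.Dif_isGeneralized ν) (by
    rw [T.inner_Psi_Dif]; split_ifs <;> norm_num)

theorem finite_dual : Finite c.Dual := by
  haveI := c.cyclic
  letI : CommGroup (fieldPart c.S) := IsCyclic.commGroup
  haveI : NeZero ((Monoid.exponent (fieldPart c.S) : ℕ) : ℂ) :=
    ⟨Nat.cast_ne_zero.2 Monoid.exponent_ne_zero_of_finite⟩
  exact Nat.finite_of_card_ne_zero
    (by rw [CommGroup.card_monoidHom_of_hasEnoughRootsOfUnity]; exact Nat.card_pos.ne')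

theorem card_trivial_on_F1 : Nat.card {ν : c.Dual // ∀ y ∈ T.F1, ν y = 1} = T.e := by
  haveI := c.cyclic
  letI : CommGroup (fieldPart c.S) := IsCyclic.commGroup
  haveI : NeZero ((Monoid.exponent (fieldPart c.S) : ℕ) : ℂ) :=
    ⟨Nat.cast_ne_zero.2 Monoid.exponent_ne_zero_of_finite⟩
  rw [e, Subgroup.index, ← CommGroup.card_domRestrictHom_ker ℂ T.F1]
  refine Nat.card_congr (Equiv.subtypeEquivRight fun ν => ?_)
  rw [MonoidHom.mem_ker, MonoidHom.ext_iff]
  exact ⟨fun h y => h y y.2, fun h y hy => h ⟨y, hy⟩⟩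

open Classical in
/-- On the constituents of `W_ν` the rows of `ψ` and of the difference agree. -/
theorem pc_eq_dc (E : Exc D) {ν : c.Dual} (hν1 : ν ≠ 1) (hνN : ∀ y ∈ T.F1, ν y = 1)
    (hpx : T.pc E.x = E.σ) (hp : ∀ j, D.wc ν j ≠ 0 → T.pc j = 0 ∨ T.pc j = D.wc ν j)
    {χ : IrrCharacter G} (hχ : D.wc ν χ ≠ 0) : T.pc χ = D.dc ν χ := by
  have key : ∀ j, (T.pc j * D.wc ν j - D.dc ν j * D.wc ν j) ^ 2 =
      T.pc j * D.wc ν j + D.dc ν j * D.wc ν j - 2 * (T.pc j * D.dc ν j +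
        ((if j = trivChar G then 1 else 0) + if j = E.x then 1 else 0)) := by
    intro j
    by_cases hjt : j = trivChar G
    · subst hjt
      have h0 : D.wc ν (trivChar G) = 0 := by_contra fun h => hν1 (D.wc_disjoint h (by
        rw [D.wc_triv]; norm_num))
      rw [if_pos rfl, if_neg E.ne.symm, h0, T.pc_triv, D.dc_triv hν1]
      norm_num
    by_cases hjx : j = E.x
    · subst hjx
      have h0 : D.wc ν E.x = 0 := by_contra fun h => hν1 (D.wc_disjoint h (by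
        rw [E.wx]; intro e; have := E.σ_sq; rw [e] at this; norm_num at this))
      rw [if_neg hjt, if_pos rfl, h0, hpx, E.dx ν hν1]
      linear_combination (-2 : ℤ) * E.σ_sq
    rw [if_neg hjt, if_neg hjx, add_zero, add_zero]
    by_cases hw : D.wc ν j = 0
    · have hd : D.dc ν j = 0 := by_contra fun h => (E.supp ν hν1 j hjt hjx h).2 hw
      rw [hw, hd]; ring
    · exact row_identity (hp j hw)
        ((eq_or_ne (D.dc ν j) 0).imp_right fun h => (E.supp ν hν1 j hjt hjx h).1) (D.wc_sign ν j)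
  have hsum : ∑ j, (T.pc j * D.wc ν j - D.dc ν j * D.wc ν j) ^ 2 = 0 := by
    rw [Finset.sum_congr rfl fun j _ => key j, Finset.sum_sub_distrib, Finset.sum_add_distrib,
      ← Finset.mul_sum, Finset.sum_add_distrib, Finset.sum_add_distrib, T.sum_pc_wc, T.sum_pc_dc,
      D.sum_dc_wc, if_pos hνN, if_pos rfl, if_neg hν1, Finset.sum_ite_eq', Finset.sum_ite_eq',
      if_pos (Finset.mem_univ _), if_pos (Finset.mem_univ _)]
    norm_num
  have := (Finset.sum_eq_zero_iff_of_nonneg fun j _ => sq_nonneg _).1 hsum χ (Finset.mem_univ _)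
  exact mul_right_cancel₀ hχ (sub_eq_zero.1 (pow_eq_zero_iff two_ne_zero |>.1 this))

open Classical in
/-- The rows of `ψ`. -/
theorem exists_psi_rows (E : Exc D) [Fintype c.Dual] : ∃ (ξ : IrrCharacter G) (ε : ℤ), ε * ε = 1 ∧
    ∀ χ, T.pc χ = (T.e : ℤ) * ((if χ = trivChar G then 1 else 0) + if χ = E.x then E.σ else 0) +
      ∑ ν ∈ (Finset.univ.filter fun ν : c.Dual => ∀ y ∈ T.F1, ν y = 1).erase 1, D.dc ν χ +
      if χ = ξ then ε else 0 := by
  set N := Finset.univ.filter fun ν : c.Dual => ∀ y ∈ T.F1, ν y = 1 with hN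
  have h1N : (1 : c.Dual) ∈ N := Finset.mem_filter.2 ⟨Finset.mem_univ _, fun _ _ => rfl⟩
  have hcN : N.card = T.e := by
    rw [← T.card_trivial_on_F1, Nat.card_eq_fintype_card, Fintype.card_subtype]
  set Wf : IrrCharacter G → ℤ := fun χ => ∑ ν ∈ N, D.wc ν χ with hWf
  have hWeq : ∀ χ ν, ν ∈ N → D.wc ν χ ≠ 0 → Wf χ = D.wc ν χ := fun χ ν hν h =>
    Finset.sum_eq_single_of_mem ν hν fun b _ hb => by_contra fun h' => hb (D.wc_disjoint h' h)
  have hWsign : ∀ χ, Wf χ = 0 ∨ Wf χ = 1 ∨ Wf χ = -1 := fun χ => by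
    by_cases h : ∃ ν ∈ N, D.wc ν χ ≠ 0
    · obtain ⟨ν, hν, hne⟩ := h
      rw [hWeq χ ν hν hne]
      exact D.wc_sign ν χ
    · push Not at h
      exact Or.inl (Finset.sum_eq_zero h)
  have hWne : ∀ χ, Wf χ ≠ 0 → ∃ ν ∈ N, D.wc ν χ ≠ 0 := fun χ h => Finset.exists_ne_zero_of_sum_ne_zero h
  have hsW : ∑ χ, T.pc χ * Wf χ = 2 * (T.e : ℤ) := by
    simp only [hWf, Finset.mul_sum]
    rw [Finset.sum_comm, Finset.sum_congr rfl fun ν hν => by
      rw [T.sum_pc_wc, if_pos (Finset.mem_filter.1 hν).2], Finset.sum_const, hcN, nsmul_eq_mul]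
    ring
  obtain ⟨ξ, hξ, hslack⟩ := exists_of_sum_eq_one
    (a := fun χ => T.pc χ * T.pc χ - T.pc χ * Wf χ)
    (fun χ => sub_nonneg.2 (mul_le_mul_self_of_sign (hWsign χ)))
    (by rw [Finset.sum_sub_distrib, T.sum_pc_sq, hsW]; ring)
  rw [← mul_sub] at hξ
  have hξ0 : Wf ξ = 0 ∧ T.pc ξ * T.pc ξ = 1 := by
    rcases Int.eq_one_or_neg_one_of_mul_eq_one' hξ with ⟨a, b⟩ | ⟨a, b⟩
    · refine ⟨by omega, by rw [a]; norm_num⟩
    · refine ⟨by omega, by rw [a]; norm_num⟩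
  have hp : ∀ χ, χ ≠ ξ → T.pc χ = 0 ∨ T.pc χ = Wf χ := fun χ hχ => by
    have h := hslack χ hχ
    rw [← mul_sub] at h
    exact (mul_eq_zero.1 h).imp_right sub_eq_zero.1
  have hW1 : ∀ χ, D.wc 1 χ ≠ 0 → Wf χ = D.wc 1 χ := fun χ h => hWeq χ 1 h1N h
  have hσ0 : E.σ ≠ 0 := fun h => by have := E.σ_sq; rw [h] at this; norm_num at this
  have hξt : ξ ≠ trivChar G := fun h => by
    have := hW1 ξ (by rw [h, D.wc_triv]; norm_num)
    rw [hξ0.1, h, D.wc_triv] at this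
    norm_num at this
  have hξx : ξ ≠ E.x := fun h => by
    have := hW1 ξ (by rw [h, E.wx]; exact hσ0)
    rw [hξ0.1, h, E.wx] at this
    exact hσ0 this.symm
  -- a character of the field part not trivial on `F₁`
  obtain ⟨μ, hμN, hμξ⟩ : ∃ μ, μ ∉ N ∧ D.wc μ ξ = 0 := by
    obtain ⟨μ, hμ⟩ := c.exists_dual_ne (y := T.x0) fun e => T.x0_prime.ne_one (by rw [e, orderOf_one])
    have hnot : μ ∉ N := fun h => hμ ((Finset.mem_filter.1 h).2 _ T.x0_mem)
    by_cases h : D.wc μ ξ = 0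
    · exact ⟨μ, hnot, h⟩
    refine ⟨μ⁻¹, fun hm => hμ ?_, by_contra fun h' => hμ ?_⟩
    · exact inv_eq_one.1 ((Finset.mem_filter.1 hm).2 _ T.x0_mem)
    · have e : μ = μ⁻¹ := D.wc_disjoint h h'
      have h2 : μ T.x0 * μ T.x0 = 1 := by
        nth_rewrite 1 [e]
        rw [MonoidHom.inv_apply, inv_mul_cancel]
      obtain ⟨k, hk⟩ := c.odd_orderOf T.x0
      have h3 := congrArg μ (pow_orderOf_eq_one T.x0)
      rwa [map_pow, map_one, hk, pow_succ, pow_mul, pow_two, h2, one_pow, one_mul] at h3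
  have hμ1 : μ ≠ 1 := fun h => hμN (h ▸ h1N)
  -- `ψ` contains `X`
  have hpx : T.pc E.x = E.σ := by
    have h := T.sum_pc_dc μ
    rw [if_neg (fun h => hμN (Finset.mem_filter.2 ⟨Finset.mem_univ _, h⟩)),
      Finset.sum_eq_add (trivChar G) E.x E.ne.symm (fun j _ hj => by
        by_contra hz
        obtain ⟨e, hw⟩ := E.supp μ hμ1 j hj.1 hj.2 (right_ne_zero_of_mul hz)
        have hjξ : j ≠ ξ := fun e => hw (e ▸ hμξ)
        obtain ⟨ν, hν, hνw⟩ := hWne j (fun e => left_ne_zero_of_mul hz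
          ((hp j hjξ).elim id fun h => h.trans e))
        exact hμN (D.wc_disjoint hw hνw ▸ hν)) (by simp) (by simp),
      T.pc_triv, D.dc_triv hμ1, E.dx μ hμ1] at h
    linear_combination (-E.σ) * h + (-(T.pc E.x)) * E.σ_sq
  refine ⟨ξ, T.pc ξ, hξ0.2, fun χ => ?_⟩
  have hdν : ∀ ν, ν ∈ N.erase 1 → χ ≠ trivChar G → χ ≠ E.x → D.dc ν χ ≠ 0 →
      D.dc ν χ = D.wc ν χ ∧ D.wc ν χ ≠ 0 := fun ν hν => E.supp ν (Finset.mem_erase.1 hν).1 χ
  have hcard : ((N.erase 1).card : ℤ) = (T.e : ℤ) - 1 := by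
    rw [Finset.card_erase_of_mem h1N, hcN]
    have := T.e_pos
    omega
  by_cases ht : χ = trivChar G
  · subst ht
    rw [T.pc_triv, if_pos rfl, if_neg E.ne.symm, if_neg hξt.symm,
      Finset.sum_congr rfl fun ν hν => D.dc_triv (Finset.mem_erase.1 hν).1, Finset.sum_const,
      nsmul_eq_mul, hcard]
    ring
  by_cases hx : χ = E.x
  · subst hx
    rw [hpx, if_neg E.ne, if_pos rfl, if_neg hξx.symm,
      Finset.sum_congr rfl fun ν hν => E.dx ν (Finset.mem_erase.1 hν).1, Finset.sum_const,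
      nsmul_eq_mul, hcard]
    ring
  rw [if_neg ht, if_neg hx, add_zero, mul_zero, zero_add]
  have hzero : (∀ ν ∈ N, ν ≠ 1 → D.wc ν χ = 0) → ∑ ν ∈ N.erase 1, D.dc ν χ = 0 := fun h =>
    Finset.sum_eq_zero fun ν hν => by_contra fun hd =>
      (hdν ν hν ht hx hd).2 (h ν (Finset.mem_erase.1 hν).2 (Finset.mem_erase.1 hν).1)
  by_cases hW : Wf χ = 0
  · have h0 : ∀ ν ∈ N, D.wc ν χ = 0 := fun ν hν => by_contra fun h => h ((hWeq χ ν hν h).symm.trans hW)
    rw [hzero fun ν hν _ => h0 ν hν, zero_add]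
    split_ifs with h
    · rw [h]
    · rcases hp χ h with e | e
      · exact e
      · exact e.trans hW
  have hχξ : χ ≠ ξ := fun h => hW (h ▸ hξ0.1)
  rw [if_neg hχξ, add_zero]
  obtain ⟨ν, hν, hνw⟩ := hWne χ hW
  by_cases hν1 : ν = 1
  · subst hν1
    rw [hzero fun ν' _ h => by_contra fun h' => h (D.wc_disjoint h' hνw)]
    -- only two constituents of `W_1`
    have hs := T.sum_pc_wc 1
    rw [if_pos (show ∀ y ∈ T.F1, (1 : c.Dual) y = 1 from fun _ _ => rfl), ← Finset.add_sum_erase _ _ (Finset.mem_univ (trivChar G)),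
      ← Finset.add_sum_erase _ _ (Finset.mem_erase.2 ⟨E.ne, Finset.mem_univ E.x⟩), T.pc_triv,
      D.wc_triv, hpx, E.wx, E.σ_sq] at hs
    have hnn : ∀ j ∈ (Finset.univ.erase (trivChar G)).erase E.x, 0 ≤ T.pc j * D.wc 1 j := fun j _ => by
      by_cases h : D.wc 1 j = 0
      · rw [h, mul_zero]
      · have hjξ : j ≠ ξ := fun e => h ((hW1 j h).symm.trans (e ▸ hξ0.1))
        rcases hp j hjξ with e | e <;> rw [e]
        · rw [zero_mul]
        · rw [hW1 j h]; exact mul_self_nonneg _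
    have := (Finset.sum_eq_zero_iff_of_nonneg hnn).1 (by linarith) χ
      (Finset.mem_erase.2 ⟨hx, Finset.mem_erase.2 ⟨ht, Finset.mem_univ _⟩⟩)
    exact (mul_eq_zero.1 this).resolve_right hνw
  -- constituents of `W_ν` occur in `ψ` as in the difference
  rw [Finset.sum_eq_single_of_mem ν (Finset.mem_erase.2 ⟨hν1, hν⟩) fun b hb hbν =>
    by_contra fun hd => hbν (D.wc_disjoint (hdν b hb ht hx hd).2 hνw)]
  exact T.pc_eq_dc E hν1 (Finset.mem_filter.1 hν).2 hpx (fun j hw => by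
    have hjξ : j ≠ ξ := fun e => hw ((hWeq j ν hν hw).symm.trans (e ▸ hξ0.1))
    exact (hp j hjξ).imp_right fun h => h.trans (hWeq j ν hν hw)) hνw

open Classical in
/-- The identity of `ψ` seen by a functional killing all differences. -/
theorem exists_identity (E : Exc D) : ∃ (ξ : IrrCharacter G) (ε : ℤ), ε * ε = 1 ∧
    ∀ Φ : IrrCharacter G → ℂ, (∀ ν : c.Dual, ν ≠ 1 → ∑ χ, (D.dc ν χ : ℂ) * Φ χ = 0) →
      ∑ χ, (T.pc χ : ℂ) * Φ χ =
        (T.e : ℂ) * (Φ (trivChar G) + E.σ * Φ E.x) + ε * Φ ξ := by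
  haveI := T.finite_dual
  haveI := Fintype.ofFinite c.Dual
  obtain ⟨ξ, ε, hε, h⟩ := T.exists_psi_rows E
  refine ⟨ξ, ε, hε, fun Φ hΦ => ?_⟩
  simp only [h, Int.cast_add, Int.cast_mul, Int.cast_ite, Int.cast_zero, Int.cast_sum,
    Int.cast_natCast, add_mul, mul_add, Finset.sum_add_distrib, Finset.sum_mul, ite_mul, mul_ite,
    mul_one, zero_mul, mul_zero, Finset.sum_ite_eq', Finset.mem_univ, if_true]
  rw [Finset.sum_comm, Finset.sum_eq_zero fun ν hν => hΦ ν (Finset.mem_erase.1 hν).1]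
  ring

end Tor

namespace Full

variable (D : Full c)
include D

/-- The equation between `X` and the index of `B`. -/
theorem exists_X : ∃ X : ℤ, 8 ∣ X - (Fintype.card F : ℤ) ∧ X ≠ 0 ∧ X ≠ -1 ∧
    (D.B.index : ℤ) * Fintype.card F * (X - Fintype.card F) ^ 2 =
      ((Fintype.card F : ℤ) ^ 2 - 1) ^ 2 * X * (X + 1) := by
  classical
  obtain ⟨T⟩ := D.exists_tor
  obtain ⟨E⟩ := D.exists_exc
  obtain ⟨ξ, ε, hε, hid⟩ := T.exists_identity E
  obtain ⟨dx, hdx0, hdx⟩ := E.x.2.exists_degree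
  set q := Fintype.card F with hq
  have hX : ((E.σ * dx : ℤ) : ℂ) = (E.σ : ℂ) * (E.x : G → ℂ) 1 := by rw [hdx]; push_cast; rfl
  have hσ : (E.σ : ℂ) * E.σ = 1 := by exact_mod_cast E.σ_sq
  -- the three functionals
  have e1 : (T.e : ℂ) * (1 + (E.σ : ℂ) * (E.x : G → ℂ) 1) + ε * (ξ : G → ℂ) 1 = 0 := by
    have h := hid (fun χ => (χ : G → ℂ) 1) fun ν _ =>
      (sum_cfc (D.Dif_isGeneralized ν) 1).trans (D.Dif_one ν)
    rw [trivChar_coe] at h
    exact h.symm.trans ((sum_cfc T.Psi_isGeneralized 1).trans T.Psi_one)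
  have e2 : (T.e : ℂ) * (1 + q) + ε * (ξ : G → ℂ) c.t = 0 := by
    have h := hid (fun χ => (χ : G → ℂ) c.t) fun ν _ =>
      (sum_cfc (D.Dif_isGeneralized ν) c.t).trans (D.Dif_t ν)
    rw [trivChar_coe, E.x_t] at h
    exact h.symm.trans ((sum_cfc T.Psi_isGeneralized c.t).trans T.Psi_t)
  have hinv : ∀ χ : IrrCharacter G, ∑ x ∈ involFinset G, (χ : G → ℂ) x =
      ((centralizer ({c.t} : Set G)).index : ℂ) * (χ : G → ℂ) c.t := fun χ => by
    rw [← c.sum_invol χ.2.isClassFunction]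
    exact Finset.sum_congr (by ext z; simp [involFinset]) fun _ _ => rfl
  have hpair : ∀ {f : G → ℂ}, IsGeneralizedCharacter G f →
      ∑ χ, (cfc f χ : ℂ) * ((((centralizer ({c.t} : Set G)).index : ℂ) * (χ : G → ℂ) c.t) ^ 2 /
        (χ : G → ℂ) 1) = ∑ x ∈ involFinset G, ∑ y ∈ involFinset G, f (x * y) := fun hf => by
    rw [sum_invol_pair_eq hf.isClassFunction]
    exact Finset.sum_congr rfl fun χ _ => by rw [cfc_spec hf, hinv]
  have e3 := hid (fun χ => (((centralizer ({c.t} : Set G)).index : ℂ) * (χ : G → ℂ) c.t) ^ 2 /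
    (χ : G → ℂ) 1) fun ν _ => (hpair (D.Dif_isGeneralized ν)).trans (D.sum_pairs_Dif ν)
  rw [show ∑ χ, (T.pc χ : ℂ) * _ = _ from hpair T.Psi_isGeneralized, T.sum_pairs_Psi,
    T.index_B1, trivChar_coe, mul_one, div_one] at e3
  have hR : ((q - 1 : ℕ) : ℂ) = (q : ℂ) - 1 := by
    rw [Nat.cast_sub Fintype.card_pos, Nat.cast_one]
  have hN : ((centralizer ({c.t} : Set G)).index : ℂ) * ((q : ℂ) + 1) = D.B.index * (q : ℂ) ^ 2 := by
    exact_mod_cast D.index_centralizer_t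
  have key := eliminate (A := (E.x : G → ℂ) 1) (B := (ξ : G → ℂ) 1) (s := (E.σ : ℂ)) (q := (q : ℂ))
    (e := (T.e : ℂ)) (n := (D.B.index : ℂ)) (v := (ε : ℂ))
    E.x.2.apply_one_ne_zero ξ.2.apply_one_ne_zero hσ (Nat.cast_ne_zero.2 T.e_pos.ne')
    (Nat.cast_ne_zero.2 Subgroup.index_ne_zero_of_finite) (Nat.cast_ne_zero.2 Fintype.card_ne_zero)
    E.x_t e1 e2 (by rw [← e3]; push_cast; ring) hN hR
  refine ⟨E.σ * dx, ?_, ?_, ?_, ?_⟩
  · obtain ⟨k, hk⟩ := c.char_mod_eight E.x.2.isCharacter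
    refine ⟨E.σ * k - q, ?_⟩
    have h : ((E.σ * dx - q : ℤ) : ℂ) = ((8 * (E.σ * k - q) : ℤ) : ℂ) := by
      push_cast
      rw [← hdx]
      linear_combination (E.σ : ℂ) * hk - 7 * E.x_t
    exact_mod_cast h
  · intro h
    rw [h, Int.cast_zero] at hX
    rcases mul_eq_zero.1 hX.symm with h' | h'
    · rw [h', zero_mul] at hσ; exact zero_ne_one hσ
    · exact E.x.2.apply_one_ne_zero h'
  · intro h
    rw [h] at hX
    push_cast at hX
    rw [← hX, add_neg_cancel, mul_zero, zero_add] at e1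
    rcases mul_eq_zero.1 e1 with h' | h'
    · rw [Int.cast_eq_zero.1 h'] at hε; norm_num at hε
    · exact ξ.2.apply_one_ne_zero h'
  · have := key
    rw [← hX] at this
    exact_mod_cast this

end Full

end Cfsg.Lib.Walter3.Field
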