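import Cfsg.Agent.Lib.Walter3.Field.PsiInner

/-!
# The rows of `W_μ` and of the differences

`W_μ` has four constituents with coefficient `±1`, in disjoint sets for different `μ`.  A difference
takes the principal character, one exceptional character `x` and two constituents of `W_μ`; `x` does
not depend on `μ`.
-/

set_option autoImplicit false
set_option linter.unusedSectionVars false
set_option linter.style.haveILetI false

namespace Cfsg.Lib.Walter3.Field

open Subgroup Cfsg Cfsg.Lib.Char Cfsg.Lib.Block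
open scoped ComplexConjugate

universe u

theorem mul_le_mul_self_of_sign {d s : ℤ} (hs : s = 0 ∨ s = 1 ∨ s = -1) : d * s ≤ d * d := by
  rcases hs with rfl | rfl | rfl
  · nlinarith
  · rcases le_or_gt d 0 with h | h <;> nlinarith
  · rcases le_or_gt d (-1) with h | h <;> nlinarith

theorem exists_of_sum_eq_one {ι : Type*} [Fintype ι] {a : ι → ℤ} (h : ∀ i, 0 ≤ a i)
    (hs : ∑ i, a i = 1) : ∃ i, a i = 1 ∧ ∀ j, j ≠ i → a j = 0 := by
  classical
  obtain ⟨i, -, hi⟩ := Finset.exists_ne_zero_of_sum_ne_zero (hs.trans_ne one_ne_zero)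
  have h1 := h i
  have hsplit := Finset.add_sum_erase Finset.univ a (Finset.mem_univ i)
  have h2 : 0 ≤ ∑ j ∈ Finset.univ.erase i, a j := Finset.sum_nonneg fun j _ => h j
  refine ⟨i, by omega, fun j hj => ?_⟩
  have h3 := Finset.single_le_sum (f := a) (fun k _ => h k)
    (Finset.mem_erase.2 ⟨hj, Finset.mem_univ j⟩)
  have := h j
  omega

variable {G : Type u} [Group G] [Fintype G] {F : Type} [Field F] [Fintype F] {c : Cfg G F}

/-- The integral coefficient of an irreducible character. -/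
noncomputable def cfc (f : G → ℂ) (χ : IrrCharacter G) : ℤ := ⌊(classInner f (χ : G → ℂ)).re⌋

theorem cfc_spec {f : G → ℂ} (hf : IsGeneralizedCharacter G f) (χ : IrrCharacter G) :
    classInner f (χ : G → ℂ) = (cfc f χ : ℂ) := by
  obtain ⟨n, hn⟩ := (isGeneralizedCharacter_iff.1 hf).2 χ χ.2
  rw [cfc, hn, Complex.intCast_re, Int.floor_intCast]

theorem cfc_triv {f : G → ℂ} (hf : IsGeneralizedCharacter G f) {z : ℤ}
    (h : classInner f (fun _ => 1) = z) : cfc f (trivChar G) = z := by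
  have h1 := cfc_spec hf (trivChar G)
  rw [trivChar_coe, h] at h1
  exact_mod_cast h1.symm

theorem cfc_inner {f g : G → ℂ} (hf : IsGeneralizedCharacter G f) (hg : IsGeneralizedCharacter G g)
    {z : ℤ} (h : classInner f g = z) : ∑ χ, cfc f χ * cfc g χ = z := by
  rw [classInner_eq_sum hf.isClassFunction] at h
  simp only [cfc_spec hf, cfc_spec hg, map_intCast] at h
  exact_mod_cast h

theorem sum_cfc {f : G → ℂ} (hf : IsGeneralizedCharacter G f) (x : G) :
    ∑ χ, (cfc f χ : ℂ) * (χ : G → ℂ) x = f x := by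
  conv_rhs => rw [eq_sum_classInner hf.isClassFunction]
  simp [Finset.sum_apply, cfc_spec hf]

theorem Cfg.exists_dual_ne (c : Cfg G F) {y : fieldPart c.S} (hy : y ≠ 1) :
    ∃ μ : c.Dual, μ y ≠ 1 := by
  haveI := c.cyclic
  letI : CommGroup (fieldPart c.S) := IsCyclic.commGroup
  haveI : NeZero ((Monoid.exponent (fieldPart c.S) : ℕ) : ℂ) :=
    ⟨Nat.cast_ne_zero.2 Monoid.exponent_ne_zero_of_finite⟩
  exact CommGroup.exists_apply_ne_one_of_hasEnoughRootsOfUnity _ ℂ hy

namespace Full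

variable (D : Full c)
include D

/-- The coefficients of `W_μ`. -/
noncomputable def wc (μ : c.Dual) (χ : IrrCharacter G) : ℤ := cfc (D.W μ) χ

/-- The coefficients of a difference. -/
noncomputable def dc (μ : c.Dual) (χ : IrrCharacter G) : ℤ := cfc (D.Dif μ) χ

open Classical in
theorem sum_wc_sq (μ : c.Dual) : ∑ χ, D.wc μ χ * D.wc μ χ = 4 :=
  cfc_inner (D.W_isGeneralized μ) (D.W_isGeneralized μ) (by rw [D.inner_W_W, if_pos rfl]; norm_num)

theorem wc_sign (μ : c.Dual) (χ : IrrCharacter G) :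
    D.wc μ χ = 0 ∨ D.wc μ χ = 1 ∨ D.wc μ χ = -1 := by
  classical
  by_contra h
  push Not at h
  have hsq := D.sum_wc_sq μ
  rw [← Finset.add_sum_erase _ _ (Finset.mem_univ χ)] at hsq
  have h4 : 4 ≤ D.wc μ χ * D.wc μ χ := by
    rcases le_or_gt (D.wc μ χ) 0 with h' | h'
    · have : D.wc μ χ ≤ -2 := by omega
      nlinarith
    · have : 2 ≤ D.wc μ χ := by omega
      nlinarith
  have h0 : ∀ j, j ≠ χ → D.wc μ j = 0 := fun j hj => by
    have h1 := Finset.single_le_sum (f := fun k => D.wc μ k * D.wc μ k)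
      (fun k _ => mul_self_nonneg _) (Finset.mem_erase.2 ⟨hj, Finset.mem_univ j⟩)
    have := mul_self_nonneg (D.wc μ j)
    exact mul_self_eq_zero.1 (by omega)
  have h1 := sum_cfc (D.W_isGeneralized μ) 1
  rw [D.W_one, Finset.sum_eq_single χ (fun j _ hj => by
    rw [show cfc (D.W μ) j = 0 from h0 j hj, Int.cast_zero, zero_mul]) (by simp)] at h1
  rcases mul_eq_zero.1 h1 with e | e
  · exact h.1 (Int.cast_eq_zero.1 e)
  · exact χ.2.apply_one_ne_zero e

theorem mem_blockB_of_wc {M : Ideal AlgInt} (hM : IsPModular 2 M) {μ : c.Dual}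
    {χ : IrrCharacter G} (h : D.wc μ χ ≠ 0) : χ ∈ D.blockB hM μ :=
  D.mem_blockB_of_W hM μ (by rw [cfc_spec (D.W_isGeneralized μ)]; exact_mod_cast h)

theorem wc_disjoint {μ ν : c.Dual} {χ : IrrCharacter G} (h : D.wc μ χ ≠ 0) (h' : D.wc ν χ ≠ 0) :
    μ = ν := by
  haveI : Fact (Nat.Prime 2) := ⟨Nat.prime_two⟩
  obtain ⟨M, hM⟩ := exists_isPModular Nat.prime_two
  exact D.blockB_injective hM (isPBlock_eq_of_mem hM (D.blockB_spec hM μ).2.1
    (D.blockB_spec hM ν).2.1 (D.mem_blockB_of_wc hM h) (D.mem_blockB_of_wc hM h'))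

theorem wc_triv : D.wc 1 (trivChar G) = 1 := by
  classical
  exact cfc_triv (D.W_isGeneralized 1) (by rw [D.inner_W_one, if_pos rfl, Int.cast_one])

theorem dc_triv {μ : c.Dual} (hμ : μ ≠ 1) : D.dc μ (trivChar G) = -1 := by
  classical
  exact cfc_triv (D.Dif_isGeneralized μ) (by rw [D.inner_Dif_one, if_neg hμ]; norm_num)

open Classical in
theorem sum_dc_sq {μ : c.Dual} (hμ : μ ≠ 1) : ∑ χ, D.dc μ χ * D.dc μ χ = 4 :=
  cfc_inner (D.Dif_isGeneralized μ) (D.Dif_isGeneralized μ)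
    (by rw [D.inner_Dif, if_pos rfl, if_neg hμ]; norm_num)

open Classical in
theorem sum_dc_wc (μ ν : c.Dual) : ∑ χ, D.dc μ χ * D.wc ν χ =
    2 * ((if μ = ν then 1 else 0) - (if ν = 1 then 1 else 0)) :=
  cfc_inner (D.Dif_isGeneralized μ) (D.W_isGeneralized ν) (by
    rw [D.inner_Dif_W]; split_ifs <;> norm_num)

theorem sub_sign {μ : c.Dual} (hμ : μ ≠ 1) (χ : IrrCharacter G) :
    D.wc μ χ - D.wc 1 χ = 0 ∨ D.wc μ χ - D.wc 1 χ = 1 ∨ D.wc μ χ - D.wc 1 χ = -1 := by
  have h1 := D.wc_sign μ χ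
  have h2 := D.wc_sign 1 χ
  by_cases h : D.wc μ χ = 0
  · omega
  · have : D.wc 1 χ = 0 := by_contra fun h' => hμ (D.wc_disjoint h h')
    omega

/-- A difference takes only constituents of `W_1` and `W_μ`. -/
theorem dc_cases {μ : c.Dual} (hμ : μ ≠ 1) (χ : IrrCharacter G) :
    D.dc μ χ = 0 ∨ D.dc μ χ = D.wc μ χ - D.wc 1 χ := by
  classical
  have e : ∑ j, D.dc μ j * (D.wc μ j - D.wc 1 j) = ∑ j, D.dc μ j * D.dc μ j := by
    simp only [mul_sub, Finset.sum_sub_distrib]
    rw [D.sum_dc_wc, D.sum_dc_wc, D.sum_dc_sq hμ, if_pos rfl, if_neg hμ, if_pos rfl]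
    norm_num
  have := (Finset.sum_eq_sum_iff_of_le fun j _ => mul_le_mul_self_of_sign (D.sub_sign hμ j)).1 e χ
    (Finset.mem_univ χ)
  rcases eq_or_ne (D.dc μ χ) 0 with h | h
  · exact Or.inl h
  · exact Or.inr (mul_left_cancel₀ h this).symm

/-- The constituent of a difference in `W_1` other than the principal character. -/
theorem exists_row {μ : c.Dual} (hμ : μ ≠ 1) :
    ∃ x : IrrCharacter G, x ≠ trivChar G ∧ D.dc μ x * D.wc 1 x = -1 ∧
      ∀ j, j ≠ trivChar G → j ≠ x → D.dc μ j * D.wc 1 j = 0 := by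
  classical
  have hnn : ∀ j, 0 ≤ -(D.dc μ j * D.wc 1 j) - if j = trivChar G then 1 else 0 := fun j => by
    split_ifs with h
    · rw [h, D.dc_triv hμ, D.wc_triv]; norm_num
    · rcases D.dc_cases hμ j with e | e
      · rw [e]; simp
      · by_cases h1 : D.wc 1 j = 0
        · rw [h1]; simp
        · have : D.wc μ j = 0 := by_contra fun h' => hμ (D.wc_disjoint h' h1)
          rw [e, this]
          have := mul_self_nonneg (D.wc 1 j)
          linarith
  obtain ⟨x, hx, h0⟩ := exists_of_sum_eq_one hnn (by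
    rw [Finset.sum_sub_distrib, Finset.sum_neg_distrib, D.sum_dc_wc, if_neg hμ, if_pos rfl,
      Finset.sum_ite_eq', if_pos (Finset.mem_univ _)]
    norm_num)
  have hxt : x ≠ trivChar G := fun e => by
    rw [if_pos e, e, D.dc_triv hμ, D.wc_triv] at hx
    norm_num at hx
  refine ⟨x, hxt, ?_, fun j hj hjx => ?_⟩
  · rw [if_neg hxt] at hx
    omega
  · have := h0 j hjx
    rw [if_neg hj] at this
    omega

end Full

/-- The exceptional character. -/
structure Exc (D : Full c) where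
  /-- The character. -/
  x : IrrCharacter G
  /-- Its sign. -/
  σ : ℤ
  σ_sq : σ * σ = 1
  ne : x ≠ trivChar G
  wx : D.wc 1 x = σ
  dx : ∀ μ : c.Dual, μ ≠ 1 → D.dc μ x = -σ
  supp : ∀ μ : c.Dual, μ ≠ 1 → ∀ j, j ≠ trivChar G → j ≠ x → D.dc μ j ≠ 0 →
    D.dc μ j = D.wc μ j ∧ D.wc μ j ≠ 0
  x_t : (σ : ℂ) * (x : G → ℂ) c.t = Fintype.card F

namespace Full

variable (D : Full c)
include D

theorem exists_exc : Nonempty (Exc D) := by
  classical
  haveI : Fact (Nat.Prime 2) := ⟨Nat.prime_two⟩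
  obtain ⟨y, hy⟩ := D.exists_prime_order
  obtain ⟨μ, hμy⟩ := c.exists_dual_ne (y := y) fun e => hy.ne_one (by rw [e, orderOf_one])
  have hμ : μ ≠ 1 := fun e => hμy (by rw [e, MonoidHom.one_apply])
  obtain ⟨x, hxt, hx, hx0⟩ := D.exists_row hμ
  have hw : D.wc 1 x ≠ 0 := fun e => by rw [e, mul_zero] at hx; norm_num at hx
  have hσ : D.wc 1 x * D.wc 1 x = 1 := by
    rcases D.wc_sign 1 x with h | h | h <;> simp_all
  have hval : ∀ {ν : c.Dual}, D.dc ν x * D.wc 1 x = -1 → D.dc ν x = -D.wc 1 x := fun h =>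
    mul_right_cancel₀ hw (by rw [neg_mul, hσ, h])
  have hall : ∀ ν : c.Dual, ν ≠ 1 → D.dc ν x * D.wc 1 x = -1 ∧
      ∀ j, j ≠ trivChar G → j ≠ x → D.dc ν j * D.wc 1 j = 0 := by
    intro ν hν
    by_cases hνμ : μ = ν
    · subst hνμ; exact ⟨hx, hx0⟩
    obtain ⟨x', hxt', hx', hx0'⟩ := D.exists_row hν
    suffices x = x' by subst this; exact ⟨hx', hx0'⟩
    by_contra hne
    have h2 : ∑ j, D.dc μ j * D.dc ν j = 2 :=
      cfc_inner (D.Dif_isGeneralized μ) (D.Dif_isGeneralized ν)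
        (by rw [D.inner_Dif, if_neg hνμ, if_neg hμ, if_neg hν]; norm_num)
    rw [Finset.sum_eq_single (trivChar G) (fun j _ hj => ?_) (by simp), D.dc_triv hμ,
      D.dc_triv hν] at h2
    · norm_num at h2
    · by_contra hz
      have e1 := (D.dc_cases hμ j).resolve_left (left_ne_zero_of_mul hz)
      have e2 := (D.dc_cases hν j).resolve_left (right_ne_zero_of_mul hz)
      by_cases h1 : D.wc 1 j = 0
      · rw [h1, sub_zero] at e1 e2
        exact hνμ (D.wc_disjoint (fun e => left_ne_zero_of_mul hz (e1.trans e))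
          fun e => right_ne_zero_of_mul hz (e2.trans e))
      · by_cases hjx : j = x
        · subst hjx
          exact mul_ne_zero (right_ne_zero_of_mul hz) h1 (hx0' j hj hne)
        · exact mul_ne_zero (left_ne_zero_of_mul hz) h1 (hx0 j hj hjx)
  have hsupp : ∀ ν : c.Dual, ν ≠ 1 → ∀ j, j ≠ trivChar G → j ≠ x → D.dc ν j ≠ 0 →
      D.dc ν j = D.wc ν j ∧ D.wc ν j ≠ 0 := fun ν hν j hj hjx hd => by
    have h1 : D.wc 1 j = 0 := (mul_eq_zero.1 ((hall ν hν).2 j hj hjx)).resolve_left hd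
    have e := (D.dc_cases hν j).resolve_left hd
    rw [h1, sub_zero] at e
    exact ⟨e, fun h => hd (e.trans h)⟩
  refine ⟨⟨x, D.wc 1 x, hσ, hxt, rfl, fun ν hν => hval (hall ν hν).1, hsupp, ?_⟩⟩
  -- the value at `t`
  obtain ⟨M, hM⟩ := exists_isPModular Nat.prime_two
  have h := D.principal_at_t hM (D.Dif_isGeneralized μ).isClassFunction hμ fun z hz => D.Dif_sect μ hz
  have htB : trivChar G ∈ principalBlock M G := trivChar_mem_principal hM
  have hxB : x ∈ principalBlock M G := D.blockB_one hM ▸ D.mem_blockB_of_wc hM hw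
  rw [Finset.sum_eq_add (trivChar G) x hxt.symm (fun j _ hj => ?_) (by simp) (by simp), if_pos htB,
    if_pos hxB, cfc_spec (D.Dif_isGeneralized μ), cfc_spec (D.Dif_isGeneralized μ)] at h
  · change ((D.dc μ (trivChar G) : ℤ) : ℂ) * _ + ((D.dc μ x : ℤ) : ℂ) * _ = _ at h
    rw [D.dc_triv hμ, hval hx, trivChar_coe] at h
    push_cast at h
    linear_combination -h
  · split_ifs with hB
    · by_cases hd : D.dc μ j = 0
      · rw [cfc_spec (D.Dif_isGeneralized μ), show cfc (D.Dif μ) j = 0 from hd, Int.cast_zero,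
          zero_mul]
      · refine absurd (D.blockB_injective hM ?_) hμ
        rw [D.blockB_one hM]
        exact isPBlock_eq_of_mem hM (D.blockB_spec hM μ).2.1 isPBlock_principal
          (D.mem_blockB_of_wc hM (hsupp μ hμ j hj.1 hj.2 hd).2) hB
    · rfl

end Full

end Cfsg.Lib.Walter3.Field
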