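import Cfsg.Agent.Lib.PGroup.CentralizerSq

/-!
# `r`-groups with an element whose centralizer has order `r²`, with an operator fixing it

The conjugates of the element fill its coset modulo the commutator subgroup, and an operator of order
prime to `r` acting as `λ ≠ 1` on the other line of `P/P'` acts as one power map on an abelian maximal
subgroup.
-/

set_option autoImplicit false
set_option linter.style.haveILetI false

namespace Cfsg.Lib.Walter3.Field.SmallR

open Subgroup Cfsg.Lib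
open scoped commutatorElement

universe u

variable {P : Type u} [Group P] [Finite P] {r : ℕ} [hr : Fact r.Prime]

theorem sq_le_card_of_noncyclic (hP : IsPGroup r P) (hnc : ¬ IsCyclic P) : r ^ 2 ≤ Nat.card P := by
  obtain ⟨n, hn⟩ := IsPGroup.iff_card.1 hP
  rw [hn]
  refine Nat.pow_le_pow_right hr.out.pos ?_
  by_contra h
  refine hnc ?_
  interval_cases n
  · haveI := (Nat.card_eq_one_iff_unique.1 (hn.trans (pow_zero r))).1
    exact isCyclic_of_subsingleton
  · exact isCyclic_of_prime_card (hn.trans (pow_one r))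

/-- The conjugates of `x` are the coset of `x` modulo the commutator subgroup. -/
theorem coset_conj (hP : IsPGroup r P) (hnc : ¬ IsCyclic P) {x : P} (hx1 : x ≠ 1)
    (hc : Nat.card (centralizer ({x} : Set P)) ≤ r ^ 2) :
    (commutator P).index = r ^ 2 ∧ (∀ y : P, x⁻¹ * y ∈ commutator P → ∃ g : P, g * x * g⁻¹ = y) ∧
      Nat.card (centralizer ({x} : Set P)) = r ^ 2 ∧ x ∉ commutator P ∧
      ∀ v : P, v ^ r ∈ commutator P := by
  classical
  haveI := Fintype.ofFinite P
  have hbig := sq_le_card_of_noncyclic hP hnc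
  have hidx := PGroup.CentralizerSq.index_commutator_of_centralizer hP hc hbig
  set K := commutator P with hK
  set C := centralizer ({x} : Set P)
  have hP' : Nat.card P = r ^ 2 * Nat.card K := by
    rw [← K.card_mul_index, hidx, mul_comm]
  let f : P ⧸ C → {y : P // x⁻¹ * y ∈ K} := fun q => Quotient.liftOn' q
    (fun g => ⟨g * x * g⁻¹, by
      rw [show x⁻¹ * (g * x * g⁻¹) = ⁅x⁻¹, g⁆ by rw [commutatorElement_def]; group]
      exact commutator_mem_commutator (mem_top _) (mem_top _)⟩)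
    (fun a b hab => Subtype.ext (by
      rw [QuotientGroup.leftRel_apply] at hab
      have h : a⁻¹ * b * x = x * (a⁻¹ * b) := mem_centralizer_singleton_iff.1 hab
      show a * x * a⁻¹ = b * x * b⁻¹
      calc a * x * a⁻¹ = a * (x * (a⁻¹ * b)) * b⁻¹ := by group
        _ = a * (a⁻¹ * b * x) * b⁻¹ := by rw [h]
        _ = b * x * b⁻¹ := by group))
  have hf : Function.Injective f := by
    intro a b
    refine Quotient.inductionOn₂' a b fun g g' h => ?_
    have h' : g * x * g⁻¹ = g' * x * g'⁻¹ := congrArg Subtype.val h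
    refine Quotient.sound' ?_
    rw [QuotientGroup.leftRel_apply]
    refine mem_centralizer_singleton_iff.2 ?_
    calc g⁻¹ * g' * x = g⁻¹ * (g' * x * g'⁻¹) * g' := by group
      _ = g⁻¹ * (g * x * g⁻¹) * g' := by rw [h']
      _ = x * (g⁻¹ * g') := by group
  have hcard : Nat.card {y : P // x⁻¹ * y ∈ K} = Nat.card K :=
    Nat.card_congr ((Equiv.mulLeft x⁻¹).subtypeEquiv fun y => Iff.rfl)
  have hle : C.index ≤ Nat.card K := hcard ▸ (Nat.card_le_card_of_injective f hf)
  have hmul := C.card_mul_index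
  have hCeq : Nat.card C = r ^ 2 := by
    refine le_antisymm hc (Nat.le_of_mul_le_mul_right ?_ (Nat.card_pos (α := K)))
    calc r ^ 2 * Nat.card K = Nat.card C * C.index := by rw [← hP', hmul]
      _ ≤ Nat.card C * Nat.card K := Nat.mul_le_mul_left _ hle
  have hsurj : Function.Surjective f := by
    refine (hf.bijective_of_nat_card_le ?_).2
    rw [hcard, ← Subgroup.index_eq_card]
    refine le_of_eq (Nat.eq_of_mul_eq_mul_left (show 0 < r ^ 2 by positivity [hr.out.pos]) ?_)
    rw [← hP', ← hmul, hCeq]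
  have hconj : ∀ y : P, x⁻¹ * y ∈ K → ∃ g : P, g * x * g⁻¹ = y := fun y hy => by
    obtain ⟨q, hq⟩ := hsurj ⟨y, hy⟩
    induction q using Quotient.inductionOn' with
    | _ g => exact ⟨g, congrArg Subtype.val hq⟩
  refine ⟨hidx, hconj, hCeq, fun hx => ?_, fun v => ?_⟩
  · obtain ⟨g, hg⟩ := hconj 1 (by simpa using inv_mem hx)
    have h1 : x = 1 := by
      calc x = g⁻¹ * (g * x * g⁻¹) * g := by group
        _ = 1 := by rw [hg]; group
    exact hx1 h1
  · have h2 : ∀ a b : P ⧸ K, a * b = b * a :=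
      (IsPGroup.isMulCommutative_of_card_eq_prime_sq (by rw [← index_eq_card, hidx])).is_comm.comm
    rw [← QuotientGroup.eq_one_iff, QuotientGroup.mk_pow]
    by_contra hv
    haveI : IsCyclic (P ⧸ K) := by
      have ho : orderOf (v : P ⧸ K) = r ^ 2 := by
        have hd : orderOf (v : P ⧸ K) ∣ r ^ 2 := by
          rw [← hidx, Subgroup.index_eq_card]; exact orderOf_dvd_natCard _
        obtain ⟨i, hi, hi'⟩ := (Nat.dvd_prime_pow hr.out).1 hd
        rw [hi']
        interval_cases i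
        · exact absurd (by rw [pow_zero, orderOf_eq_one_iff] at hi'; rw [hi', one_pow]) hv
        · exact absurd (by rw [← orderOf_dvd_iff_pow_eq_one, hi', pow_one]) hv
        · rfl
      exact isCyclic_of_orderOf_eq_card _ (by rw [ho, ← Subgroup.index_eq_card, hidx])
    exact hnc (by
      obtain ⟨g, hg⟩ := IsCyclic.exists_generator (α := P ⧸ K)
      obtain ⟨g, rfl⟩ := QuotientGroup.mk_surjective g
      refine isCyclic_iff_exists_zpowers_eq_top.2 ⟨g, frattini_nongenerating ?_⟩
      refine top_le_iff.1 (le_trans ?_ (sup_le_sup_left (PGroup.commutator_le_frattini hP) _))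
      intro y _
      obtain ⟨i, hi⟩ := mem_zpowers_iff.1 (hg y)
      rw [← QuotientGroup.mk_zpow, QuotientGroup.eq] at hi
      rw [show y = g ^ i * ((g ^ i)⁻¹ * y) by group]
      exact mul_mem_sup (zpow_mem (mem_zpowers g) i) hi)

omit hr in
/-- Modulo a central subgroup the centralizer does not grow. -/
theorem card_centralizer_quotient_le (Z : Subgroup P) [Z.Normal] (hZ : Z ≤ center P) (x : P) :
    Nat.card (centralizer ({(x : P ⧸ Z)} : Set (P ⧸ Z))) ≤ Nat.card (centralizer ({x} : Set P)) := by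
  set Cb := centralizer ({(x : P ⧸ Z)} : Set (P ⧸ Z))
  set D := Cb.comap (QuotientGroup.mk' Z)
  have hD : ∀ g ∈ D, ⁅g, x⁆ ∈ Z := fun g hg => by
    rw [← QuotientGroup.eq_one_iff, ← QuotientGroup.mk'_apply, map_commutatorElement,
      commutatorElement_eq_one_iff_mul_comm]
    exact mem_centralizer_singleton_iff.1 hg
  let f : D →* Z :=
    { toFun := fun g => ⟨⁅(g : P), x⁆, hD g g.2⟩
      map_one' := Subtype.ext (by simp [commutatorElement_def])
      map_mul' := fun a b => Subtype.ext (by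
        have hc := mem_center_iff.1 (hZ (hD b b.2))
        show ⁅(a : P) * b, x⁆ = ⁅(a : P), x⁆ * ⁅(b : P), x⁆
        calc ⁅(a : P) * b, x⁆ = a * ⁅(b : P), x⁆ * (a : P)⁻¹ * ⁅(a : P), x⁆ := by
              simp only [commutatorElement_def]; group
          _ = ⁅(b : P), x⁆ * ⁅(a : P), x⁆ := by rw [hc a]; group
          _ = _ := by rw [hc]) }
  have hker : Nat.card f.ker ≤ Nat.card (centralizer ({x} : Set P)) :=
    Nat.card_le_card_of_injective (fun g => (⟨((g : D) : P), mem_centralizer_singleton_iff.2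
      (commutatorElement_eq_one_iff_mul_comm.1 (congrArg Subtype.val (MonoidHom.mem_ker.1 g.2)))⟩ :
        centralizer ({x} : Set P)))
      fun a b h => Subtype.ext (Subtype.ext (congrArg Subtype.val h :))
  have h1 := f.ker.card_mul_index
  rw [index_ker] at h1
  have h2 : Nat.card f.range ≤ Nat.card Z :=
    Nat.card_le_card_of_injective _ Subtype.val_injective
  let g : D →* Cb := (QuotientGroup.mk' Z).subgroupComap Cb
  have hgs : Function.Surjective g := MonoidHom.subgroupComap_surjective_of_surjective _ Cb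
    (QuotientGroup.mk'_surjective Z)
  have h3 := g.ker.card_mul_index
  rw [index_ker, MonoidHom.range_eq_top.2 hgs, card_top] at h3
  have h4 : Nat.card Z ≤ Nat.card g.ker := by
    refine Nat.card_le_card_of_injective (fun z => ⟨⟨z, ?_⟩, ?_⟩) fun a b h => Subtype.ext ?_
    · show QuotientGroup.mk' Z z ∈ Cb
      rw [QuotientGroup.mk'_apply, (QuotientGroup.eq_one_iff _).2 z.2]
      exact one_mem _
    · exact MonoidHom.mem_ker.2 (Subtype.ext ((QuotientGroup.eq_one_iff _).2 z.2))
    · exact congrArg (fun w : g.ker => ((w : D) : P)) h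
  have hpos : 0 < Nat.card Z := Nat.card_pos
  refine Nat.le_of_mul_le_mul_left ?_ hpos
  calc Nat.card Z * Nat.card Cb ≤ Nat.card g.ker * Nat.card Cb := Nat.mul_le_mul_right _ h4
    _ = Nat.card f.ker * Nat.card f.range := h3.trans h1.symm
    _ ≤ Nat.card (centralizer ({x} : Set P)) * Nat.card Z := Nat.mul_le_mul hker h2
    _ = _ := mul_comm _ _

omit [Finite P] in
theorem mem_commutator_map {P' : Type*} [Group P'] (f : P →* P') {y : P} (hy : y ∈ commutator P) :
    f y ∈ commutator P' := by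
  have h : (commutator P).map f ≤ commutator P' := by
    rw [commutator_def, map_commutator]
    exact commutator_mono le_top le_top
  exact h ⟨y, hy, rfl⟩

/-- An abelian subgroup of index `r` on which the operator is one power map. -/
theorem exists_abelian_max : ∀ (N : ℕ) (P : Type u) [Group P] [Finite P], Nat.card P = N →
    IsPGroup r P → ¬ IsCyclic P → ∀ {x : P}, x ^ r = 1 → x ≠ 1 →
    Nat.card (centralizer ({x} : Set P)) ≤ r ^ 2 → ∀ (σ : MulAut P) {s Λ : ℕ}, s.Coprime r →
    σ x = x → σ ^ s = 1 → Λ ^ s ≡ 1 [MOD N] → Λ.Coprime r → ¬ Λ ≡ 1 [MOD r] →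
    ∀ {a : P}, a ∉ zpowers x ⊔ commutator P → σ a * (a ^ Λ)⁻¹ ∈ commutator P →
    ∃ A : Subgroup P, A.index = r ∧ x ∉ A ∧ (∀ u ∈ A, ∀ v ∈ A, u * v = v * u) ∧
      ∀ u ∈ A, σ u = u ^ Λ := by
  intro N
  induction N using Nat.strong_induction_on with
  | _ N IH =>
  intro P _ _ hN hP hnc x hxr hx1 hc σ s Λ hsr hσx hσs hΛs hΛr hΛ1 a ha hσa
  obtain ⟨hidx, hconj, hC, hxK, hexp⟩ := coset_conj hP hnc hx1 hc
  have hord : orderOf x = r := orderOf_eq_prime hxr hx1
  have hrpos := hr.out.pos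
  by_cases hK : commutator P = ⊥
  · -- the group has order `r²`
    have hP2 : Nat.card P = r ^ 2 := by rw [← hidx, hK, index_bot]
    have hcm : ∀ u v : P, u * v = v * u :=
      (IsPGroup.isMulCommutative_of_card_eq_prime_sq hP2).is_comm.comm
    have hexp' : ∀ v : P, v ^ r = 1 := fun v => by simpa [hK] using hexp v
    rw [hK, sup_bot_eq] at ha
    rw [hK, mem_bot, mul_inv_eq_one] at hσa
    have ha1 : a ≠ 1 := fun h => ha (h ▸ one_mem _)
    have hao : orderOf a = r := orderOf_eq_prime (hexp' a) ha1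
    refine ⟨zpowers a, ?_, fun hxa => ha ?_, fun u _ v _ => hcm u v, fun u hu => ?_⟩
    · have := (zpowers a).card_mul_index
      rw [Nat.card_zpowers, hao, hP2, sq] at this
      exact Nat.eq_of_mul_eq_mul_left hrpos this
    · have h : zpowers x = zpowers a := eq_of_le_of_card_ge (zpowers_le.2 hxa)
        (by rw [Nat.card_zpowers, Nat.card_zpowers, hord, hao])
      exact h ▸ mem_zpowers a
    · obtain ⟨i, rfl⟩ := mem_zpowers_iff.1 hu
      rw [map_zpow, hσa, ← zpow_natCast, ← zpow_mul, mul_comm, zpow_mul, zpow_natCast]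
  · -- quotient by the centre
    set Z := center P with hZdef
    have hKpos : 1 < Nat.card (commutator P) := (one_lt_card_iff_ne_bot _).2 hK
    have hP3 : r ^ 2 < Nat.card P := by
      rw [← (commutator P).card_mul_index, hidx]
      nlinarith [pow_pos hrpos 2]
    have hxZ : x ∉ Z := fun h => by
      have htop : centralizer ({x} : Set P) = ⊤ := eq_top_iff.2 fun z _ =>
        mem_centralizer_singleton_iff.2 (mem_center_iff.1 h z)
      rw [htop, card_top] at hC
      omega
    haveI : Nontrivial P := Finite.one_lt_card_iff_nontrivial.1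
      (lt_trans (Nat.one_lt_pow two_ne_zero hr.out.one_lt) hP3)
    haveI := hP.center_nontrivial
    have hZC : Z < centralizer ({x} : Set P) := lt_of_le_of_ne (center_le_centralizer _)
      fun h => hxZ (h.symm ▸ mem_centralizer_singleton_iff.2 rfl)
    obtain ⟨z, hz⟩ := IsPGroup.iff_card.1 (hP.to_subgroup Z)
    have hzlt : Nat.card Z < r ^ 2 := hC ▸ lt_of_le_of_ne (card_le_of_le hZC.le)
      fun h => hZC.ne (eq_of_le_of_card_ge hZC.le h.ge)
    have hZr : Nat.card Z = r := by
      have h1 : 1 < Nat.card Z := Finite.one_lt_card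
      rw [hz] at hzlt h1 ⊢
      have h2 := (Nat.pow_lt_pow_iff_right hr.out.one_lt).1 hzlt
      interval_cases z
      · simp at h1
      · exact pow_one r
    have hZK : Z ≤ commutator P := by
      by_contra h
      rcases PGroup.CentralizerSq.eq_top_or_index hP hidx h with h' | ⟨h', -⟩
      · exact hxZ (h' ▸ mem_top x)
      · have := Z.card_mul_index
        rw [hZr, h', ← sq] at this
        omega
    set π := QuotientGroup.mk' Z
    have hNlt : Nat.card (P ⧸ Z) < N := by
      rw [← hN, ← Z.index_eq_card, ← Z.card_mul_index, hZr]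
      exact lt_mul_left (Nat.pos_of_ne_zero index_ne_zero_of_finite) hr.out.one_lt
    let τ : MulAut (P ⧸ Z) := QuotientGroup.congr Z Z σ (Subgroup.characteristic_iff_map_eq.1 inferInstance σ)
    have hτ : ∀ u : P, τ (u : P ⧸ Z) = ((σ u : P) : P ⧸ Z) := fun u => rfl
    have hτs : τ ^ s = 1 := by
      have h : ∀ (j : ℕ) (u : P), (τ ^ j) (u : P ⧸ Z) = (((σ ^ j) u : P) : P ⧸ Z) := by
        intro j
        induction j with
        | zero => intro u; rfl
        | succ j ih => intro u; rw [pow_succ', pow_succ', MulAut.mul_apply, MulAut.mul_apply, ih, hτ]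
      ext q
      obtain ⟨u, rfl⟩ := QuotientGroup.mk_surjective q
      rw [h, hσs]; rfl
    have hK' : ∀ u : P, (u : P ⧸ Z) ∈ commutator (P ⧸ Z) → u ∈ commutator P := by
      intro u hu
      have h : commutator (P ⧸ Z) ≤ (commutator P).map π := by
        rw [commutator_def, commutator_def, map_commutator,
          map_top_of_surjective _ (QuotientGroup.mk'_surjective Z)]
      obtain ⟨v, hv, hvu⟩ := h hu
      have h1 : v⁻¹ * u ∈ Z := QuotientGroup.eq.1 hvu
      have := mul_mem hv (hZK h1)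
      rwa [mul_inv_cancel_left] at this
    have hnc' : ¬ IsCyclic (P ⧸ Z) := fun hc' => by
      have hab : ∀ p q : P, p * q = q * p := (MonoidHom.isMulCommutative_of_isCyclic_of_ker_le_center π
        (by rw [QuotientGroup.ker_mk'])).is_comm.comm
      exact hK (by
        rw [commutator_def, eq_bot_iff, commutator_le]
        intro p _ q _
        rw [mem_bot, commutatorElement_eq_one_iff_mul_comm]; exact hab p q)
    obtain ⟨Ab, hAi, hxA, hAc, hAσ⟩ := IH (Nat.card (P ⧸ Z)) hNlt (P ⧸ Z) rfl (hP.to_quotient Z) hnc'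
      (x := (x : P ⧸ Z)) (by rw [← QuotientGroup.mk_pow, hxr, QuotientGroup.mk_one])
      (fun h => hxZ ((QuotientGroup.eq_one_iff x).1 h))
      ((card_centralizer_quotient_le Z le_rfl x).trans hc) τ hsr (by rw [hτ, hσx]) hτs
      (hΛs.of_dvd (hN ▸ Subgroup.card_quotient_dvd_card Z)) hΛr hΛ1 (a := (a : P ⧸ Z))
      (fun h => ha (by
        obtain ⟨p, hp, q, hq, hpq⟩ := mem_sup_of_normal_right.1 h
        obtain ⟨i, rfl⟩ := mem_zpowers_iff.1 hp
        obtain ⟨q, rfl⟩ := QuotientGroup.mk_surjective q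
        rw [← QuotientGroup.mk_zpow, ← QuotientGroup.mk_mul, QuotientGroup.eq] at hpq
        rw [show a = x ^ i * (q * ((x ^ i * q)⁻¹ * a)) by group]
        exact mul_mem_sup (zpow_mem (mem_zpowers x) i) (mul_mem (hK' q hq) (hZK hpq))))
      (by rw [hτ, ← QuotientGroup.mk_pow, ← QuotientGroup.mk_inv, ← QuotientGroup.mk_mul]
          exact mem_commutator_map π hσa)
    set A := Ab.comap π with hA
    have hAidx : A.index = r := (index_comap_of_surjective _ (QuotientGroup.mk'_surjective Z)).trans hAi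
    have hxnA : x ∉ A := hxA
    have hZA : Z ≤ A := fun w hw => by
      show (w : P ⧸ Z) ∈ Ab
      rw [(QuotientGroup.eq_one_iff w).2 hw]; exact one_mem _
    -- a second central element of `A`
    haveI : Ab.Normal := Subgroup.normal_of_index_eq_minFac_card (by
      obtain ⟨m, hm⟩ := IsPGroup.iff_card.1 (hP.to_quotient Z)
      have hm0 : m ≠ 0 := fun h0 => by
        have h := Ab.index_dvd_card
        rw [hAi, hm, h0, pow_zero] at h
        exact hr.out.ne_one (Nat.dvd_one.1 h)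
      rw [hAi, hm, Nat.pow_minFac hm0, hr.out.minFac_eq])
    have hAb : Ab ≠ ⊥ := fun h => by
      rw [h, index_bot] at hAi
      exact hnc' (isCyclic_of_prime_card hAi)
    obtain ⟨cb, hcb, hcb1⟩ := (Ab ⊓ center (P ⧸ Z)).bot_or_exists_ne_one.resolve_left
      (PGroup.inf_center_ne_bot (hP.to_quotient Z) hAb)
    obtain ⟨c, rfl⟩ := QuotientGroup.mk_surjective cb
    have hcA : c ∈ A := hcb.1
    have hcomm : ∀ g : P, ⁅c, g⁆ ∈ Z := fun g => by
      rw [← QuotientGroup.eq_one_iff, ← QuotientGroup.mk'_apply, map_commutatorElement,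
        commutatorElement_eq_one_iff_mul_comm]
      exact (mem_center_iff.1 hcb.2 _).symm
    set ζ := ⁅c, x⁆
    have hζ1 : ζ ≠ 1 := fun h => by
      rw [commutatorElement_eq_one_iff_mul_comm] at h
      -- then `c` lies in `C(x) ∩ A = Z`
      refine hcb1 ((QuotientGroup.eq_one_iff c).2 ?_)
      set C := centralizer ({x} : Set P)
      have hcC : c ∈ C := mem_centralizer_singleton_iff.2 h
      have hlt : Nat.card (A ⊓ C : Subgroup P) < r ^ 2 := hC ▸ lt_of_le_of_ne
        (card_le_of_le inf_le_right) fun e =>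
          hxnA ((inf_eq_right.1 (eq_of_le_of_card_ge inf_le_right e.ge)) (mem_centralizer_singleton_iff.2 rfl))
      obtain ⟨i, hi⟩ := IsPGroup.iff_card.1 (hP.to_subgroup (A ⊓ C))
      have hZle : Z ≤ A ⊓ C := le_inf hZA hZC.le
      have h2 : Nat.card (A ⊓ C : Subgroup P) ≤ r := by
        rw [hi] at hlt ⊢
        exact (Nat.pow_le_pow_right hrpos (Nat.lt_succ_iff.1
          ((Nat.pow_lt_pow_iff_right hr.out.one_lt).1 hlt))).trans (pow_one r).le
      exact (eq_of_le_of_card_ge hZle (hZr.symm ▸ h2)).ge ⟨hcA, hcC⟩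
    have hζZ : zpowers ζ = Z := by
      refine eq_of_le_of_card_ge (zpowers_le.2 (hcomm x)) ?_
      rw [hZr, Nat.card_zpowers]
      refine le_of_eq (orderOf_eq_prime ?_ hζ1).symm
      rw [← orderOf_dvd_iff_pow_eq_one, ← hZr]
      exact Subgroup.orderOf_dvd_natCard Z (hcomm x)
    have hbil : ∀ u v : P, ⁅u, v⁆ ∈ Z → ∀ j : ℕ, ⁅u ^ j, v⁆ = ⁅u, v⁆ ^ j := by
      intro u v h j
      induction j with
      | zero => simp [commutatorElement_def]
      | succ j ih =>
        calc ⁅u ^ (j + 1), v⁆ = u ^ j * ⁅u, v⁆ * (u ^ j)⁻¹ * ⁅u ^ j, v⁆ := by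
              simp only [commutatorElement_def]; group
          _ = ⁅u, v⁆ * ⁅u, v⁆ ^ j := by rw [mem_center_iff.1 h (u ^ j), ih]; group
          _ = _ := (pow_succ' _ _).symm
    have hmod : ∀ u ∈ A, σ u * (u ^ Λ)⁻¹ ∈ Z := fun u hu => by
      rw [← QuotientGroup.eq_one_iff, QuotientGroup.mk_mul, QuotientGroup.mk_inv, QuotientGroup.mk_pow,
        ← hτ, hAσ (u : P ⧸ Z) hu, mul_inv_cancel]
    -- on the centre
    have hσZ : ∀ w ∈ Z, σ w = w ^ Λ := by
      have hσζ : σ ζ = ζ ^ Λ := by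
        obtain ⟨w, hw, he⟩ : ∃ w ∈ Z, σ c = w * c ^ Λ := ⟨_, hmod c hcA, by group⟩
        rw [map_commutatorElement, hσx, he, ← hbil c x (hcomm x)]
        simp only [commutatorElement_def, _root_.mul_inv_rev]
        calc w * c ^ Λ * x * ((c ^ Λ)⁻¹ * w⁻¹) * x⁻¹ = w * (c ^ Λ * x * (c ^ Λ)⁻¹) * (w⁻¹ * x⁻¹) := by group
          _ = c ^ Λ * x * (c ^ Λ)⁻¹ * w * (w⁻¹ * x⁻¹) := by rw [mem_center_iff.1 hw]
          _ = _ := by group
      intro w hw
      obtain ⟨i, rfl⟩ := mem_zpowers_iff.1 (hζZ.ge hw)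
      rw [map_zpow, hσζ, ← zpow_natCast, ← zpow_mul, mul_comm, zpow_mul, zpow_natCast]
    -- `A` is abelian
    have hAcomm : ∀ u ∈ A, ∀ v ∈ A, u * v = v * u := by
      intro u hu v hv
      have huv : ⁅u, v⁆ ∈ Z := by
        rw [← QuotientGroup.eq_one_iff, ← QuotientGroup.mk'_apply, map_commutatorElement,
          commutatorElement_eq_one_iff_mul_comm]
        exact hAc _ hu _ hv
      obtain ⟨w, hw, he⟩ : ∃ w ∈ Z, σ u = w * u ^ Λ := ⟨_, hmod u hu, by group⟩
      obtain ⟨w', hw', he'⟩ : ∃ w' ∈ Z, σ v = w' * v ^ Λ := ⟨_, hmod v hv, by group⟩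
      have h1 : ⁅σ u, σ v⁆ = ⁅u ^ Λ, v ^ Λ⁆ := by
        rw [he, he']
        simp only [commutatorElement_def, _root_.mul_inv_rev]
        calc w * u ^ Λ * (w' * v ^ Λ) * ((u ^ Λ)⁻¹ * w⁻¹) * ((v ^ Λ)⁻¹ * w'⁻¹)
            = w * (u ^ Λ * w' * v ^ Λ * (u ^ Λ)⁻¹) * w⁻¹ * ((v ^ Λ)⁻¹ * w'⁻¹) := by group
          _ = u ^ Λ * w' * v ^ Λ * (u ^ Λ)⁻¹ * w * w⁻¹ * ((v ^ Λ)⁻¹ * w'⁻¹) := by
              rw [mem_center_iff.1 hw (u ^ Λ * w' * v ^ Λ * (u ^ Λ)⁻¹)]
          _ = w' * u ^ Λ * v ^ Λ * (u ^ Λ)⁻¹ * (v ^ Λ)⁻¹ * w'⁻¹ := by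
              rw [mem_center_iff.1 hw' (u ^ Λ)]; group
          _ = u ^ Λ * v ^ Λ * (u ^ Λ)⁻¹ * (v ^ Λ)⁻¹ * w' * w'⁻¹ := by
              rw [show w' * u ^ Λ * v ^ Λ * (u ^ Λ)⁻¹ * (v ^ Λ)⁻¹ =
                w' * (u ^ Λ * v ^ Λ * (u ^ Λ)⁻¹ * (v ^ Λ)⁻¹) by group,
                ← mem_center_iff.1 hw' (u ^ Λ * v ^ Λ * (u ^ Λ)⁻¹ * (v ^ Λ)⁻¹)]
          _ = _ := by group
      have hinvc : ∀ p q : P, ⁅p, q⁆ = ⁅q, p⁆⁻¹ := fun p q => (commutatorElement_inv q p).symm
      have h2 : ⁅u ^ Λ, v ^ Λ⁆ = (⁅u, v⁆ ^ Λ) ^ Λ := by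
        have hv' : ⁅u, v ^ Λ⁆ = ⁅u, v⁆ ^ Λ := by
          rw [hinvc u (v ^ Λ), hbil v u (by rw [hinvc]; exact inv_mem huv), hinvc v u, inv_pow, inv_inv]
        rw [hbil u (v ^ Λ) (by rw [hv']; exact pow_mem huv _), hv']
      have h3 : σ ⁅u, v⁆ = ⁅u, v⁆ ^ Λ := hσZ _ huv
      rw [map_commutatorElement, h1, h2, ← pow_mul] at h3
      rw [← commutatorElement_eq_one_iff_mul_comm]
      by_contra hne
      have ho : orderOf ⁅u, v⁆ = r := orderOf_eq_prime (by
        rw [← orderOf_dvd_iff_pow_eq_one, ← hZr]; exact Subgroup.orderOf_dvd_natCard Z huv) hne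
      rw [pow_eq_pow_iff_modEq, ho] at h3
      exact hΛ1 (Nat.ModEq.cancel_left_of_coprime hΛr.symm (by rwa [mul_one]))
    -- one power map
    refine ⟨A, hAidx, hxnA, hAcomm, fun u hu => ?_⟩
    set δ := σ u * (u ^ Λ)⁻¹ with hδ
    have hσu : σ u = u ^ Λ * δ := by
      rw [mem_center_iff.1 (hmod u hu) (u ^ Λ), inv_mul_cancel_right]
    have hiter : ∀ j : ℕ, (σ ^ j) u = u ^ Λ ^ j * δ ^ (j * Λ ^ (j - 1)) := by
      intro j
      induction j with
      | zero => simp
      | succ j ih =>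
        have hcd : Commute (u ^ Λ) δ := mem_center_iff.1 (hmod u hu) _
        rw [pow_succ' σ, MulAut.mul_apply, ih, map_mul, map_pow, map_pow, hσu, hσZ δ (hmod u hu),
          hcd.mul_pow, ← pow_mul, ← pow_mul, mul_assoc, ← pow_add, pow_succ', Nat.add_sub_cancel]
        congr 2
        rcases j with _ | j
        · simp
        · rw [Nat.add_sub_cancel, pow_succ]; ring
    have hend := hiter s
    rw [hσs, MulAut.one_apply] at hend
    have hu1 : u ^ Λ ^ s = u := by
      conv_rhs => rw [← pow_one u]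
      exact pow_eq_pow_iff_modEq.2 (hΛs.of_dvd (hN ▸ orderOf_dvd_natCard u))
    rw [hu1, eq_comm, mul_eq_left] at hend
    suffices hδ1 : δ = 1 by rw [hσu, hδ1, mul_one]
    by_contra hne
    have ho : orderOf δ = r := orderOf_eq_prime (by
      rw [← orderOf_dvd_iff_pow_eq_one, ← hZr]; exact Subgroup.orderOf_dvd_natCard Z (hmod u hu)) hne
    have h3 : r ∣ s * Λ ^ (s - 1) := ho ▸ orderOf_dvd_of_pow_eq_one hend
    exact hr.out.ne_one (Nat.dvd_one.1 (((Nat.Coprime.mul_left hsr (hΛr.pow_left _)).gcd_eq_one) ▸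
      Nat.dvd_gcd h3 dvd_rfl))

end Cfsg.Lib.Walter3.Field.SmallR
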