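import Mathlib.LinearAlgebra.Matrix.GeneralLinearGroup.Card
import Mathlib.LinearAlgebra.Matrix.GeneralLinearGroup.Defs
import Mathlib.GroupTheory.Sylow
import Mathlib.GroupTheory.SpecificGroups.Cyclic
import Mathlib.Data.ZMod.Units
import Mathlib.Tactic

/-!
# Subgroups of `GL₂(r)`, `r ∈ {7, 11, 19}`, without the scalar `-1`

Their part in `SL₂` has odd order, so the Sylow `r`-subgroup is normal, and, without `r`-elements, a
subgroup containing `diag (1, μ)` sends the first basis vector into one of the axes.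
-/

set_option autoImplicit false
set_option linter.style.haveILetI false

namespace Cfsg.Lib.Walter3.Field.SmallR

open Matrix Subgroup

/-- A group of order dividing `45` is abelian. -/
theorem comm_of_card_dvd {A : Type*} [Group A] [Finite A] (hA : Nat.card A ∣ 45) (a b : A) :
    a * b = b * a := by
  haveI : Fact (Nat.Prime 3) := ⟨Nat.prime_three⟩
  haveI : Fact (Nat.Prime 5) := ⟨Nat.prime_five⟩
  let P : Sylow 3 A := default
  let Q : Sylow 5 A := default
  have hP : (P : Subgroup A).index ∣ 5 :=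
    (Nat.Coprime.dvd_of_dvd_mul_left (Nat.Coprime.pow_right 2 ((Nat.Prime.coprime_iff_not_dvd
      Nat.prime_three).2 P.not_dvd_index).symm) (show _ ∣ 3 ^ 2 * 5 from
        ((P : Subgroup A).index_dvd_card).trans hA))
  have hQ : (Q : Subgroup A).index ∣ 9 :=
    (Nat.Coprime.dvd_of_dvd_mul_left ((Nat.Prime.coprime_iff_not_dvd Nat.prime_five).2
      Q.not_dvd_index).symm (show _ ∣ 5 * 9 from ((Q : Subgroup A).index_dvd_card).trans hA))
  have h3 : Nat.card (Sylow 3 A) = 1 := by
    have h1 : Nat.card (Sylow 3 A) % 3 = 1 := card_sylow_modEq_one 3 A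
    rcases (Nat.dvd_prime Nat.prime_five).1 ((Sylow.card_dvd_index P).trans hP) with h | h <;> omega
  have h5 : Nat.card (Sylow 5 A) = 1 := by
    have h1 : Nat.card (Sylow 5 A) % 5 = 1 := card_sylow_modEq_one 5 A
    have h2 := (Sylow.card_dvd_index Q).trans hQ
    have := Nat.le_of_dvd (by norm_num) h2
    interval_cases h : Nat.card (Sylow 5 A) <;> omega
  haveI := (Nat.card_eq_one_iff_unique.1 h3).1
  haveI := (Nat.card_eq_one_iff_unique.1 h5).1
  haveI : (P : Subgroup A).Normal := P.normal_of_subsingleton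
  haveI : (Q : Subgroup A).Normal := Q.normal_of_subsingleton
  have hPc : ∀ u v : A ⧸ (P : Subgroup A), u * v = v * u := by
    rcases (Nat.dvd_prime Nat.prime_five).1 hP with h | h
    · intro u v
      haveI := (Nat.card_eq_one_iff_unique.1 (h ▸ ((P : Subgroup A).index_eq_card).symm)).1
      exact Subsingleton.elim _ _
    · haveI : IsCyclic (A ⧸ (P : Subgroup A)) :=
        isCyclic_of_prime_card (p := 5) (by rw [← Subgroup.index_eq_card, h])
      letI := IsCyclic.commGroup (α := A ⧸ (P : Subgroup A))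
      exact mul_comm
  have hQc : ∀ u v : A ⧸ (Q : Subgroup A), u * v = v * u := by
    obtain ⟨i, hi, hi'⟩ := (Nat.dvd_prime_pow Nat.prime_three).1 (show _ ∣ 3 ^ 2 from hQ)
    interval_cases i
    · intro u v
      haveI := (Nat.card_eq_one_iff_unique.1
        (show Nat.card (A ⧸ (Q : Subgroup A)) = 1 by rw [← Subgroup.index_eq_card, hi', pow_zero])).1
      exact Subsingleton.elim _ _
    · haveI : IsCyclic (A ⧸ (Q : Subgroup A)) :=
        isCyclic_of_prime_card (p := 3) (by rw [← Subgroup.index_eq_card, hi', pow_one])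
      letI := IsCyclic.commGroup (α := A ⧸ (Q : Subgroup A))
      exact mul_comm
    · exact (IsPGroup.isMulCommutative_of_card_eq_prime_sq (p := 3)
        (by rw [← Subgroup.index_eq_card, hi'])).is_comm.comm
  have h : a * b * (b * a)⁻¹ ∈ (P : Subgroup A) ⊓ Q := by
    refine ⟨?_, ?_⟩
    · refine (QuotientGroup.eq_one_iff _).1 ?_
      rw [QuotientGroup.mk_mul, QuotientGroup.mk_inv, QuotientGroup.mk_mul, QuotientGroup.mk_mul,
        hPc (a : A ⧸ (P : Subgroup A)) b, mul_inv_cancel]
    · refine (QuotientGroup.eq_one_iff _).1 ?_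
      rw [QuotientGroup.mk_mul, QuotientGroup.mk_inv, QuotientGroup.mk_mul, QuotientGroup.mk_mul,
        hQc (a : A ⧸ (Q : Subgroup A)) b, mul_inv_cancel]
  have hbot : (P : Subgroup A) ⊓ (Q : Subgroup A) = ⊥ :=
    (IsPGroup.disjoint_of_ne 3 5 (by norm_num) (P : Subgroup A) Q P.2 Q.2).eq_bot
  rw [hbot, mem_bot] at h
  exact mul_inv_eq_one.1 h

variable {r : ℕ} [Fact r.Prime]

/-- An element of square and determinant one is `±1`. -/
theorem eq_one_or_neg (hr : (2 : ZMod r) ≠ 0) {g : GL (Fin 2) (ZMod r)} (hg : g * g = 1)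
    (hd : GeneralLinearGroup.det g = 1) : g = 1 ∨ g = -1 := by
  have hd' := congrArg Units.val hd
  rw [GeneralLinearGroup.val_det_apply, Units.val_one, det_fin_two] at hd'
  have h := congrArg (fun x : GL (Fin 2) (ZMod r) => (x : Matrix (Fin 2) (Fin 2) (ZMod r))) hg
  simp only [GeneralLinearGroup.coe_mul, GeneralLinearGroup.coe_one] at h
  set a := g.val 0 0
  set b := g.val 0 1
  set c := g.val 1 0
  set d := g.val 1 1
  have e00 := congrFun (congrFun h 0) 0
  have e01 := congrFun (congrFun h 0) 1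
  have e10 := congrFun (congrFun h 1) 0
  have e11 := congrFun (congrFun h 1) 1
  simp only [mul_apply, Fin.sum_univ_two, one_apply_eq, ne_eq, zero_ne_one, not_false_eq_true,
    one_apply_ne, one_ne_zero] at e00 e01 e10 e11
  change a * a + b * c = 1 at e00
  change a * b + b * d = 0 at e01
  change c * a + d * c = 0 at e10
  change c * b + d * d = 1 at e11
  have hs : (a + d) * (a + d) = 2 * 2 := by linear_combination e00 + e11 + 2 * hd'
  have hne : a + d ≠ 0 := fun e => by
    rw [e, mul_zero] at hs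
    exact hr (mul_self_eq_zero.1 hs.symm)
  have hb : b = 0 := (mul_eq_zero.1 (show b * (a + d) = 0 by linear_combination e01)).resolve_right hne
  have hc : c = 0 := (mul_eq_zero.1 (show c * (a + d) = 0 by linear_combination e10)).resolve_right hne
  rw [hb, zero_mul, add_zero] at e00
  rw [hb, zero_mul, sub_zero] at hd'
  rcases mul_self_eq_one_iff.1 e00 with ha | ha
  · left
    rw [ha, one_mul] at hd'
    refine Units.ext (Matrix.ext fun i j => ?_)
    fin_cases i <;> fin_cases j <;> simp [a, b, c, d] at ha hb hc hd' ⊢ <;> assumption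
  · right
    have hd1 : d = -1 := by rw [ha] at hd'; linear_combination -hd'
    refine Units.ext (Matrix.ext fun i j => ?_)
    fin_cases i <;> fin_cases j <;> simp [a, b, c, d] at ha hb hc hd1 ⊢ <;> assumption

variable (hr : r = 7 ∨ r = 11 ∨ r = 19) {M : Subgroup (GL (Fin 2) (ZMod r))}
  (hneg : (-1 : GL (Fin 2) (ZMod r)) ∉ M)

include hr in
theorem two_ne : (2 : ZMod r) ≠ 0 := by
  rw [show (2 : ZMod r) = ((2 : ℕ) : ZMod r) by norm_num, Ne, ZMod.natCast_eq_zero_iff]
  rcases hr with rfl | rfl | rfl <;> norm_num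

/-- The part in `SL₂`. -/
abbrev detOne (M : Subgroup (GL (Fin 2) (ZMod r))) : Subgroup (GL (Fin 2) (ZMod r)) :=
  M ⊓ (GeneralLinearGroup.det (n := Fin 2) (R := ZMod r)).ker

include hr hneg in
theorem card_detOne_dvd : Nat.card (detOne M) ∣ r * (if r = 7 then 3 else if r = 11 then 15 else 45) := by
  have hodd : Odd (Nat.card (detOne M)) := by
    by_contra h
    rw [Nat.not_odd_iff_even, even_iff_two_dvd] at h
    haveI : Fact (Nat.Prime 2) := ⟨Nat.prime_two⟩
    obtain ⟨g, hg⟩ := exists_prime_orderOf_dvd_card' 2 h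
    have hgg : g * g = 1 := by
      have h2 := pow_orderOf_eq_one g
      rwa [hg, pow_two] at h2
    rcases eq_one_or_neg (two_ne hr) (congrArg Subtype.val hgg) g.2.2 with e | e
    · rw [show g = 1 from Subtype.ext e, orderOf_one] at hg; omega
    · exact hneg (e ▸ g.2.1)
  have hker : Nat.card (GeneralLinearGroup.det (n := Fin 2) (R := ZMod r)).ker * (r - 1) =
      (r ^ 2 - 1) * (r ^ 2 - r) := by
    have h := (GeneralLinearGroup.det (n := Fin 2) (R := ZMod r)).ker.card_mul_index
    have hsurj : Function.Surjective (GeneralLinearGroup.det (n := Fin 2) (R := ZMod r)) := by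
      intro u
      refine ⟨GeneralLinearGroup.mk'' !![(u : ZMod r), 0; 0, 1] (by simp [det_fin_two_of]), ?_⟩
      exact Units.ext (by simp [GeneralLinearGroup.val_det_apply, det_fin_two_of])
    rw [Subgroup.index_ker, MonoidHom.range_eq_top.2 hsurj, card_top, Nat.card_units, Nat.card_zmod,
      Matrix.card_GL_field] at h
    rw [h]
    simp [Fin.prod_univ_two, ZMod.card]
  have hd : Nat.card (detOne M) ∣ Nat.card (GeneralLinearGroup.det (n := Fin 2) (R := ZMod r)).ker :=
    Subgroup.card_dvd_of_le inf_le_right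
  rcases hr with rfl | rfl | rfl
  all_goals
    refine (Nat.Coprime.pow_right 4 (Nat.coprime_two_right.2 hodd)).dvd_of_dvd_mul_right (hd.trans ?_)
  · rw [show Nat.card (GeneralLinearGroup.det (n := Fin 2) (R := ZMod 7)).ker = 336 from
      Nat.eq_of_mul_eq_mul_right (by norm_num : 0 < 7 - 1) (hker.trans (by norm_num))]
    norm_num
  · rw [show Nat.card (GeneralLinearGroup.det (n := Fin 2) (R := ZMod 11)).ker = 1320 from
      Nat.eq_of_mul_eq_mul_right (by norm_num : 0 < 11 - 1) (hker.trans (by norm_num))]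
    norm_num
  · rw [show Nat.card (GeneralLinearGroup.det (n := Fin 2) (R := ZMod 19)).ker = 6840 from
      Nat.eq_of_mul_eq_mul_right (by norm_num : 0 < 19 - 1) (hker.trans (by norm_num))]
    norm_num

include hr hneg in
/-- The `r`-elements lie in a normal `r`-subgroup. -/
theorem exists_normal_r :
    ∃ R : Subgroup (GL (Fin 2) (ZMod r)), R ≤ M ∧ IsPGroup r R ∧ M ≤ normalizer (R : Set _) ∧
      ∀ g ∈ M, (∃ k, g ^ r ^ k = 1) → g ∈ R := by
  set M1 := detOne M
  let P : Sylow r M1 := default
  have hK : (P : Subgroup M1).index ∣ (if r = 7 then 3 else if r = 11 then 15 else 45) :=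
    (Nat.Coprime.dvd_of_dvd_mul_left (((Nat.Prime.coprime_iff_not_dvd Fact.out).2
      P.not_dvd_index).symm) ((P : Subgroup M1).index_dvd_card.trans (card_detOne_dvd hr hneg)))
  have h1 : Nat.card (Sylow r M1) = 1 := by
    have h := card_sylow_modEq_one r M1
    have h2 := (Sylow.card_dvd_index P).trans hK
    unfold Nat.ModEq at h
    rcases hr with rfl | rfl | rfl
    all_goals
      norm_num at h2
      have := Nat.le_of_dvd (by norm_num) h2
      generalize Nat.card (Sylow _ M1) = n at h h2 this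
      interval_cases n <;> omega
  haveI := (Nat.card_eq_one_iff_unique.1 h1).1
  refine ⟨(P : Subgroup M1).map M1.subtype, (map_subtype_le _).trans inf_le_left, P.2.map _, ?_, ?_⟩
  · intro m hm
    have hconj : ∀ g ∈ M1, m * g * m⁻¹ ∈ M1 := fun g hg =>
      Subgroup.mem_inf.2 ⟨mul_mem (mul_mem hm hg.1) (inv_mem hm), by
      rw [MonoidHom.mem_ker, map_mul, map_mul, map_inv, MonoidHom.mem_ker.1 hg.2, mul_one,
        mul_inv_cancel]⟩
    refine Subgroup.mem_normalizer_fintype ?_
    rintro _ ⟨a, ha, rfl⟩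
    obtain ⟨k, hk⟩ := P.2 ⟨a, ha⟩
    have hb : IsPGroup r (zpowers (⟨_, hconj a a.2⟩ : M1)) := by
      have h : (⟨_, hconj a a.2⟩ : M1) ^ r ^ k = 1 := Subtype.ext (by
        rw [SubmonoidClass.coe_pow, conj_pow]
        have hk' : ((a : M1) : GL (Fin 2) (ZMod r)) ^ r ^ k = 1 :=
          congrArg (fun z : M1 => (z : GL (Fin 2) (ZMod r))) (congrArg Subtype.val hk)
        rw [hk', mul_one, mul_inv_cancel, Subgroup.coe_one])
      obtain ⟨j, -, hj⟩ := (Nat.dvd_prime_pow Fact.out).1 (orderOf_dvd_of_pow_eq_one h)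
      exact IsPGroup.of_card (n := j) (by rw [Nat.card_zpowers, hj])
    obtain ⟨Q, hQ⟩ := hb.exists_le_sylow
    rw [Subsingleton.elim Q P] at hQ
    exact ⟨_, hQ (mem_zpowers _), rfl⟩
  · rintro g hg ⟨k, hk⟩
    have hdet : GeneralLinearGroup.det g = 1 := by
      have h1 : orderOf (GeneralLinearGroup.det g) ∣ r ^ k := orderOf_dvd_of_pow_eq_one (by
        rw [← map_pow, hk, map_one])
      have h2 : orderOf (GeneralLinearGroup.det g) ∣ r - 1 := by
        have := orderOf_dvd_natCard (GeneralLinearGroup.det g)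
        rwa [Nat.card_units, Nat.card_zmod] at this
      have hco : Nat.Coprime (r ^ k) (r - 1) := Nat.Coprime.pow_left k ((Nat.Prime.coprime_iff_not_dvd
        Fact.out).2 (by rcases hr with rfl | rfl | rfl <;> norm_num))
      exact orderOf_eq_one_iff.1 (Nat.dvd_one.1 (hco.gcd_eq_one ▸ Nat.dvd_gcd h1 h2))
    have hg1 : g ∈ M1 := Subgroup.mem_inf.2 ⟨hg, hdet⟩
    have hb : IsPGroup r (zpowers (⟨g, hg1⟩ : M1)) := by
      obtain ⟨j, -, hj⟩ := (Nat.dvd_prime_pow Fact.out).1
        (orderOf_dvd_of_pow_eq_one (show (⟨g, hg1⟩ : M1) ^ r ^ k = 1 from Subtype.ext hk))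
      exact IsPGroup.of_card (n := j) (by rw [Nat.card_zpowers, hj])
    obtain ⟨Q, hQ⟩ := hb.exists_le_sylow
    rw [Subsingleton.elim Q P] at hQ
    exact ⟨_, hQ (mem_zpowers _), rfl⟩

include hr hneg in
/-- Without `r`-elements the first basis vector goes to an axis. -/
theorem axis (hM : ¬ r ∣ Nat.card M) {μ : ZMod r} (hμ1 : μ ≠ 1) (hμ2 : μ * μ ≠ 1)
    {σ : GL (Fin 2) (ZMod r)} (hσ : σ ∈ M) (hσv : σ.val = !![1, 0; 0, μ]) {m : GL (Fin 2) (ZMod r)}
    (hm : m ∈ M) : m.val 0 0 = 0 ∨ m.val 1 0 = 0 := by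
  set M1 := detOne M
  have hrM1 : ¬ r ∣ Nat.card M1 := fun h => hM (h.trans (Subgroup.card_dvd_of_le inf_le_left))
  have h45 : Nat.card M1 ∣ 45 := ((Nat.Coprime.dvd_of_dvd_mul_left ((Nat.Prime.coprime_iff_not_dvd
    Fact.out).2 hrM1).symm (card_detOne_dvd hr hneg))).trans
      (by rcases hr with rfl | rfl | rfl <;> norm_num)
  have hconj : ∀ x ∈ M, ∀ g ∈ M1, x * g * x⁻¹ ∈ M1 := fun x hx g hg =>
    Subgroup.mem_inf.2 ⟨mul_mem (mul_mem hx hg.1) (inv_mem hx), by
      rw [MonoidHom.mem_ker, map_mul, map_mul, map_inv, MonoidHom.mem_ker.1 hg.2, mul_one, mul_inv_cancel]⟩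
  set d := m * σ * m⁻¹ * σ⁻¹ with hddef
  have hd : d ∈ M1 := Subgroup.mem_inf.2 ⟨mul_mem (mul_mem (mul_mem hm hσ) (inv_mem hm)) (inv_mem hσ), by
    rw [MonoidHom.mem_ker, map_mul, map_mul, map_mul, map_inv, map_inv]
    rw [mul_comm (GeneralLinearGroup.det m) _, mul_inv_cancel_right, mul_inv_cancel]⟩
  have hcomm : d * (σ * d * σ⁻¹) = σ * d * σ⁻¹ * d := congrArg Subtype.val
    (comm_of_card_dvd h45 ⟨d, hd⟩ ⟨_, hconj σ hσ d hd⟩)
  have hμ0 : μ ≠ 0 := by
    intro h
    have hu := σ.isUnit
    rw [Matrix.isUnit_iff_isUnit_det, hσv, det_fin_two_of, h] at hu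
    simp at hu
  -- matrix entries
  have hσi : (σ⁻¹).val = !![1, 0; 0, μ⁻¹] := by
    rw [GeneralLinearGroup.coe_inv, hσv]
    exact Matrix.inv_eq_right_inv (by
      ext i j; fin_cases i <;> fin_cases j <;> simp [mul_apply, Fin.sum_univ_two, hμ0])
  have h := congrArg (fun x : GL (Fin 2) (ZMod r) => x.val) hcomm
  simp only [GeneralLinearGroup.coe_mul, hσv, hσi] at h
  set a := d.val 0 0 with hadef
  set b := d.val 0 1 with hbdef
  set c := d.val 1 0 with hcdef
  set e := d.val 1 1 with hedef
  have hdm : d.val = !![a, b; c, e] := by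
    ext i j; fin_cases i <;> fin_cases j <;> rfl
  rw [hdm] at h
  have e00 := congrFun (congrFun h 0) 0
  have e01 := congrFun (congrFun h 0) 1
  have e10 := congrFun (congrFun h 1) 0
  simp [mul_apply, Fin.sum_univ_two] at e00 e01 e10
  have hbc : b * c = 0 := by
    have : b * c * (μ * μ - 1) = 0 := by
      field_simp at e00
      linear_combination e00
    exact (mul_eq_zero.1 this).resolve_right (sub_ne_zero.2 hμ2)
  have hdet : a * e - b * c = 1 := by
    have h2 := congrArg Units.val (MonoidHom.mem_ker.1 hd.2)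
    rw [GeneralLinearGroup.val_det_apply, Units.val_one, hdm, det_fin_two_of] at h2
    exact h2
  have hae : b * (a - e) = 0 := by
    have : b * (a - e) * (μ - 1) = 0 := by
      field_simp at e01
      linear_combination -e01
    exact (mul_eq_zero.1 this).resolve_right (sub_ne_zero.2 hμ1)
  have hce : c * (a - e) = 0 := by
    have : c * (a - e) * (μ - 1) = 0 := by
      field_simp at e10
      linear_combination -e10
    exact (mul_eq_zero.1 this).resolve_right (sub_ne_zero.2 hμ1)
  -- an element `!![a, b; c, a]` with `bc = 0` and order prime to `r` is diagonal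
  have hdiag : b = 0 ∧ c = 0 := by
    by_contra hbc0
    have hea : a = e := by
      rcases not_and_or.1 hbc0 with h' | h'
      · exact sub_eq_zero.1 ((mul_eq_zero.1 hae).resolve_left h')
      · exact sub_eq_zero.1 ((mul_eq_zero.1 hce).resolve_left h')
    have hpow : ∀ k : ℕ, (d ^ k).val = !![a ^ k, (k : ZMod r) * a ^ (k - 1) * b;
        (k : ZMod r) * a ^ (k - 1) * c, a ^ k] := by
      intro k
      induction k with
      | zero => ext i j; fin_cases i <;> fin_cases j <;> simp
      | succ k ih =>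
        rw [pow_succ, GeneralLinearGroup.coe_mul, ih, hdm, ← hea]
        rcases k with _ | k
        · ext i j; fin_cases i <;> fin_cases j <;> simp [mul_apply, Fin.sum_univ_two]
        · ext i j
          fin_cases i <;> fin_cases j <;> simp [mul_apply, Fin.sum_univ_two] <;>
            first
              | (ring_nf; linear_combination ((k : ZMod r) + 1) * a ^ k * hbc)
              | ring
    set N := orderOf d with hN
    have h1 := hpow N
    rw [pow_orderOf_eq_one, GeneralLinearGroup.coe_one] at h1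
    have ha0 : a ≠ 0 := fun h0 => by
      rw [← hea, h0, mul_zero, hbc, sub_zero] at hdet
      exact zero_ne_one hdet
    have hNr : (N : ZMod r) ≠ 0 := by
      rw [Ne, ZMod.natCast_eq_zero_iff]
      exact fun h => hrM1 (h.trans (Subgroup.orderOf_dvd_natCard M1 hd))
    have h01 := congrFun (congrFun h1 0) 1
    have h10 := congrFun (congrFun h1 1) 0
    simp at h01 h10
    rcases not_and_or.1 hbc0 with h' | h'
    · rcases h01 with (h'' | h'') | h''
      · exact hNr h''
      · exact ha0 h''.1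
      · exact h' h''
    · rcases h10 with (h'' | h'') | h''
      · exact hNr h''
      · exact ha0 h''.1
      · exact h' h''
  -- the conjugate of `σ` is diagonal
  have hD : (m * σ * m⁻¹).val = !![a, 0; 0, e * μ] := by
    rw [show m * σ * m⁻¹ = d * σ by rw [hddef]; group, GeneralLinearGroup.coe_mul, hdm, hσv, hdiag.1,
      hdiag.2]
    ext i j; fin_cases i <;> fin_cases j <;> simp [mul_apply, Fin.sum_univ_two]
  have hms := Units.ext_iff.1 (show m * σ * m⁻¹ * m = m * σ by group)
  rw [GeneralLinearGroup.coe_mul (m * σ * m⁻¹), hD, GeneralLinearGroup.coe_mul, hσv] at hms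
  by_contra hne
  push Not at hne
  have f00 := Matrix.ext_iff.mpr hms 0 0
  have f10 := Matrix.ext_iff.mpr hms 1 0
  rw [mul_apply, mul_apply, Fin.sum_univ_two, Fin.sum_univ_two] at f00 f10
  simp at f00 f10
  have ha1 : a = 1 := mul_right_cancel₀ hne.1 (by rw [one_mul]; tauto)
  have he1 : e * μ = 1 := mul_right_cancel₀ hne.2 (by rw [one_mul]; tauto)
  have h2 : m * σ * m⁻¹ = 1 := Units.ext (by
    rw [hD, ha1, he1, Units.val_one]
    ext i j; fin_cases i <;> fin_cases j <;> rfl)
  have h3 := congrArg (fun x : GL (Fin 2) (ZMod r) => x.val 1 1) (conj_eq_one_iff.1 h2)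
  simp [hσv] at h3
  exact hμ1 h3

end Cfsg.Lib.Walter3.Field.SmallR
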