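import Cfsg.Agent.Lib.Walter3.Field.LocalTools
import Cfsg.Agent.Lib.Walter3.Field.SmallClass
import Cfsg.Agent.Lib.Walter3.Field.SmallGL
import Cfsg.Agent.Lib.PGroup.FrattiniStab
import Cfsg.Agent.Lib.Coprime.Action
import Cfsg.Agent.Lib.Local.Baumann.Setup

/-!
# No element of order `r ∈ {7, 11, 19}` with a small centralizer and an operator

If the `r`-subgroups of `C(x)` have order at most `r²` and an element `σ` of odd prime order fixes
`x` and acts as a nontrivial scalar on a second element `w` of order `r` of `C(x)`, then a Sylow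
`r`-subgroup `P` invariant under `σ` has `P/P'` elementary of order `r²`, and `N(P)`, which controls
the fusion of `x`, sends the first coordinate of a conjugate of `x` to zero unless it is conjugate
to `x` in `P`.  The transfer of `x` into this coordinate is then nontrivial.
-/

set_option autoImplicit false
set_option linter.style.haveILetI false
set_option linter.unusedSectionVars false

namespace Cfsg.Lib.Walter3.Field.SmallR

open Subgroup Cfsg Cfsg.Lib Matrix
open scoped commutatorElement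

universe u

section Plane

variable {P : Type u} [Group P] [Finite P] {r : ℕ} [hr : Fact r.Prime]

/-- A basis of `P/P'`. -/
theorem exists_coords {x a : P} (hidx : (commutator P).index = r ^ 2)
    (hexp : ∀ v : P, v ^ r ∈ commutator P) (hx : x ∉ commutator P)
    (ha : a ∉ zpowers x ⊔ commutator P) :
    ∃ χ : P →* Multiplicative (ZMod r × ZMod r), (∀ v, χ v = 1 ↔ v ∈ commutator P) ∧
      (χ x).toAdd = (1, 0) ∧ (χ a).toAdd = (0, 1) := by
  classical
  set K := commutator P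
  have hcomm : ∀ u v : P ⧸ K, u * v = v * u :=
    (IsPGroup.isMulCommutative_of_card_eq_prime_sq (by rw [← index_eq_card, hidx])).is_comm.comm
  letI : CommGroup (P ⧸ K) := { (inferInstance : Group (P ⧸ K)) with mul_comm := hcomm }
  have hpow : ∀ v : P, (v : P ⧸ K) ^ r = 1 := fun v => by
    rw [← QuotientGroup.mk_pow, QuotientGroup.eq_one_iff]; exact hexp v
  let lf : P → (ZMod r →+ Additive (P ⧸ K)) := fun v =>
    ZMod.lift r ⟨zmultiplesHom (Additive (P ⧸ K)) (Additive.ofMul (v : P ⧸ K)), by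
      rw [zmultiplesHom_apply, natCast_zsmul, ← ofMul_pow, hpow, ofMul_one]⟩
  have hlf : ∀ (v : P) (i : ℕ), lf v (i : ZMod r) = Additive.ofMul ((v : P ⧸ K) ^ i) := fun v i => by
    rw [← Int.cast_natCast (R := ZMod r), ZMod.lift_coe]
    show zmultiplesHom _ _ (i : ℤ) = _
    rw [zmultiplesHom_apply, natCast_zsmul, ofMul_pow]
  set Φ : ZMod r × ZMod r →+ Additive (P ⧸ K) := (lf x).coprod (lf a)
  have hinj : Function.Injective Φ := by
    rw [injective_iff_map_eq_zero]
    rintro ⟨i, j⟩ h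
    rw [← ZMod.natCast_zmod_val i, ← ZMod.natCast_zmod_val j, AddMonoidHom.coprod_apply, hlf, hlf,
      ← ofMul_mul, ofMul_eq_zero, ← QuotientGroup.mk_pow, ← QuotientGroup.mk_pow,
      ← QuotientGroup.mk_mul, QuotientGroup.eq_one_iff] at h
    have hj : j.val = 0 := by
      by_contra hj
      have hco : j.val.Coprime r := ((Nat.Prime.coprime_iff_not_dvd hr.out).2 fun hd => by
        exact absurd (Nat.le_of_dvd (Nat.pos_of_ne_zero hj) hd) (not_le.2 j.val_lt)).symm
      obtain ⟨b, -, hb⟩ := Nat.exists_mul_mod_eq_one_of_coprime hco hr.out.one_lt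
      refine ha ?_
      have h1 : a ^ j.val ∈ zpowers x ⊔ K := by
        rw [show a ^ j.val = (x ^ i.val)⁻¹ * (x ^ i.val * a ^ j.val) by group]
        exact mul_mem_sup (inv_mem (pow_mem (mem_zpowers x) _)) h
      have h2 : a ^ (r * (j.val * b / r)) ∈ zpowers x ⊔ K := by
        rw [pow_mul]; exact pow_mem (mem_sup_right (hexp a)) _
      have h3 := pow_mem h1 b
      rw [← pow_mul, ← Nat.div_add_mod (j.val * b) r, hb, pow_add, pow_one] at h3
      exact ((zpowers x ⊔ K).mul_mem_cancel_left h2).1 h3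
    rw [hj, pow_zero, mul_one] at h
    have hi : i.val = 0 := by
      by_contra hi
      have hco : i.val.Coprime r := ((Nat.Prime.coprime_iff_not_dvd hr.out).2 fun hd => by
        exact absurd (Nat.le_of_dvd (Nat.pos_of_ne_zero hi) hd) (not_le.2 i.val_lt)).symm
      obtain ⟨b, -, hb⟩ := Nat.exists_mul_mod_eq_one_of_coprime hco hr.out.one_lt
      refine hx ?_
      have h3 := pow_mem h b
      rw [← pow_mul, ← Nat.div_add_mod (i.val * b) r, hb, pow_add, pow_one] at h3
      exact (K.mul_mem_cancel_left (by rw [pow_mul]; exact pow_mem (hexp x) _)).1 h3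
    rw [ZMod.val_eq_zero] at hi hj
    rw [hi, hj]; rfl
  have hbij : Function.Bijective Φ := hinj.bijective_of_nat_card_le (by
    rw [Nat.card_congr Additive.toMul, ← index_eq_card, hidx, Nat.card_prod, Nat.card_zmod, sq])
  let χb : (P ⧸ K) →* Multiplicative (ZMod r × ZMod r) :=
    AddMonoidHom.toMultiplicativeRight (AddEquiv.ofBijective Φ hbij).symm.toAddMonoidHom
  have hval : ∀ (v : P) (p : ZMod r × ZMod r), Φ p = Additive.ofMul (v : P ⧸ K) →
      (χb (v : P ⧸ K)).toAdd = p := fun v p h =>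
    hinj ((AddEquiv.apply_symm_apply (AddEquiv.ofBijective Φ hbij) _).trans h.symm)
  refine ⟨χb.comp (QuotientGroup.mk' K), fun v => ?_, hval x (1, 0) ?_, hval a (0, 1) ?_⟩
  · rw [← QuotientGroup.eq_one_iff, MonoidHom.comp_apply, QuotientGroup.mk'_apply]
    refine ⟨fun h => ?_, fun h => by rw [h, map_one]⟩
    have := (AddEquiv.ofBijective Φ hbij).symm.injective.eq_iff' (map_zero _) |>.1
      (congrArg Multiplicative.toAdd h)
    exact this
  · rw [AddMonoidHom.coprod_apply, map_zero, add_zero, ← Nat.cast_one, hlf, pow_one]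
  · rw [AddMonoidHom.coprod_apply, map_zero, zero_add, ← Nat.cast_one, hlf, pow_one]

variable {x a : P} {χ : P →* Multiplicative (ZMod r × ZMod r)}
  (hker : ∀ v, χ v = 1 ↔ v ∈ commutator P) (hχx : (χ x).toAdd = (1, 0)) (hχa : (χ a).toAdd = (0, 1))

include hker hχx hχa

/-- An automorphism moves the coordinates linearly. -/
theorem apply_coords (g : MulAut P) (v : P) :
    (χ (g v)).toAdd = ((χ v).toAdd.1 * (χ (g x)).toAdd.1 + (χ v).toAdd.2 * (χ (g a)).toAdd.1,
      (χ v).toAdd.1 * (χ (g x)).toAdd.2 + (χ v).toAdd.2 * (χ (g a)).toAdd.2) := by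
  set i := (χ v).toAdd.1
  set j := (χ v).toAdd.2
  set c := x ^ i.val * a ^ j.val
  have hc : χ c = χ v := by
    apply Multiplicative.toAdd.injective
    rw [map_mul, map_pow, map_pow, toAdd_mul, toAdd_pow, toAdd_pow, hχx, hχa]
    ext <;> simp [i, j]
  have h1 : c⁻¹ * v ∈ commutator P := (hker _).1 (by rw [map_mul, map_inv, hc, inv_mul_cancel])
  have h2 : χ (g v) = χ (g c) := by
    have := (hker _).2 (mem_commutator_map g.toMonoidHom h1)
    rwa [MulEquiv.coe_toMonoidHom, map_mul, map_inv, map_mul, map_inv, inv_mul_eq_one, eq_comm] at this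
  rw [h2, map_mul, map_mul, map_pow, map_pow, map_pow, map_pow, toAdd_mul, toAdd_pow, toAdd_pow]
  ext <;> simp [nsmul_eq_mul]

/-- The matrix of an automorphism. -/
theorem exists_matrix : ∃ ρ : MulAut P →* GL (Fin 2) (ZMod r), ∀ g : MulAut P,
    (ρ g).val 0 0 = (χ (g x)).toAdd.1 ∧ (ρ g).val 1 0 = (χ (g x)).toAdd.2 ∧
      (ρ g).val 0 1 = (χ (g a)).toAdd.1 ∧ (ρ g).val 1 1 = (χ (g a)).toAdd.2 := by
  let M : MulAut P →* Matrix (Fin 2) (Fin 2) (ZMod r) :=
    { toFun := fun g => !![(χ (g x)).toAdd.1, (χ (g a)).toAdd.1; (χ (g x)).toAdd.2, (χ (g a)).toAdd.2]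
      map_one' := by simp [hχx, hχa, Matrix.one_fin_two]
      map_mul' := fun g h => by
        rw [MulAut.mul_apply, MulAut.mul_apply, apply_coords hker hχx hχa g (h x),
          apply_coords hker hχx hχa g (h a)]
        ext i j
        fin_cases i <;> fin_cases j <;> simp [Matrix.mul_apply, Fin.sum_univ_two] <;> ring }
  exact ⟨M.toHomUnits, fun g => ⟨rfl, rfl, rfl, rfl⟩⟩

/-- Vectors with the same coordinates agree modulo the commutator subgroup. -/
theorem mem_of_coords {v v' : P} (h : (χ v).toAdd = (χ v').toAdd) : v⁻¹ * v' ∈ commutator P :=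
  (hker _).1 (by rw [map_mul, map_inv, Multiplicative.toAdd.injective h, inv_mul_cancel])

end Plane

variable {G : Type u} [Group G] [Finite G] {r : ℕ} [hrf : Fact r.Prime]

/-- In an `r`-subgroup the centralizer of a conjugate of `x` is small. -/
theorem card_cent_le {Q : Subgroup G} (hQ : IsPGroup r Q) {x : G}
    (hC : ∀ R : Subgroup G, IsPGroup r R → R ≤ centralizer {x} → Nat.card R ≤ r ^ 2) {v : Q} (g : G)
    (hg : ∀ u : G, u * v = v * u → g * u * g⁻¹ * x = x * (g * u * g⁻¹)) :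
    Nat.card (centralizer ({v} : Set Q)) ≤ r ^ 2 := by
  set D := ((centralizer ({v} : Set Q)).map Q.subtype).map (MulAut.conj g).toMonoidHom
  have hD : Nat.card D = Nat.card (centralizer ({v} : Set Q)) := by
    rw [Subgroup.card_map_of_injective (MulAut.conj g).injective,
      Subgroup.card_map_of_injective Q.subtype_injective]
  rw [← hD]
  refine hC D ((hQ.to_subgroup _).map _ |>.map _) ?_
  rintro _ ⟨_, ⟨u, hu, rfl⟩, rfl⟩
  exact mem_centralizer_singleton_iff.2
    (hg u (congrArg Subtype.val (mem_centralizer_singleton_iff.1 hu)))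

omit [Group G] [Finite G] in
/-- A prime index subgroup is maximal. -/
theorem eq_top_of_lt {P : Type u} [Group P] {A H : Subgroup P} (hA : A.index = r) (h : A ≤ H)
    (hne : ¬ H ≤ A) : H = ⊤ := by
  have hm := Subgroup.relIndex_mul_index h
  rw [hA] at hm
  refine index_eq_one.1 ?_
  rcases (Nat.dvd_prime hrf.out).1 ⟨_, (hm.symm.trans (mul_comm _ _))⟩ with h1 | h1
  · exact h1
  · refine absurd (relIndex_eq_one.1 ?_) hne
    rw [h1] at hm
    exact Nat.eq_of_mul_eq_mul_right hrf.out.pos (hm.trans (one_mul r).symm)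

section Main

variable {s : ℕ} [hsf : Fact s.Prime] {x w : G} (hx : orderOf x = r)
  (hN : ∀ (g : G) (k : ℕ), g * x * g⁻¹ = x ^ k → g * x * g⁻¹ = x)
  (hC : ∀ Q : Subgroup G, IsPGroup r Q → Q ≤ centralizer {x} → Nat.card Q ≤ r ^ 2)
  (hxw : Commute x w) (hwx : w ∉ zpowers x) (hw : w ^ r = 1)

include hx hN hC hxw hwx hw

/-- The shape of an `r`-subgroup containing `x` and `w`. -/
theorem shape {Q : Subgroup G} (hQ : IsPGroup r Q) (hxQ : x ∈ Q) (hwQ : w ∈ Q) :
    ¬ IsCyclic Q ∧ (commutator Q).index = r ^ 2 ∧ (∀ v : Q, v ^ r ∈ commutator Q) ∧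
      (⟨x, hxQ⟩ : Q) ∉ commutator Q ∧ Nat.card (centralizer ({(⟨x, hxQ⟩ : Q)} : Set Q)) = r ^ 2 ∧
      ∀ (g : G) (k : ℕ) (v : Q), g * x * g⁻¹ = v → k.Coprime r →
        ((⟨x, hxQ⟩ : Q) ^ k)⁻¹ * v ∈ commutator Q → ∃ p : Q, (p : G) * x * (p : G)⁻¹ = v := by
  have hx1 : (⟨x, hxQ⟩ : Q) ≠ 1 := fun e => by
    have := congrArg Subtype.val e
    simp only [OneMemClass.coe_one] at this
    rw [this, orderOf_one] at hx
    exact hrf.out.ne_one hx.symm
  have hnc : ¬ IsCyclic Q := fun hcy => by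
    refine hwx ?_
    obtain ⟨a, ha⟩ := IsCyclic.exists_generator (α := Q)
    have hmem : (⟨w, hwQ⟩ : Q) ∈ zpowers (⟨x, hxQ⟩ : Q) := by
      classical
      haveI := Fintype.ofFinite Q
      set T := Finset.univ.filter fun y : Q => y ^ r = 1
      have hsub : (Finset.univ.filter fun y : Q => y ∈ zpowers (⟨x, hxQ⟩ : Q)) ⊆ T := fun y hy => by
        simp only [Finset.mem_filter, Finset.mem_univ, true_and, T] at hy ⊢
        obtain ⟨i, rfl⟩ := mem_zpowers_iff.1 hy
        rw [← zpow_natCast, ← _root_.zpow_mul, mul_comm, _root_.zpow_mul, zpow_natCast,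
          show (⟨x, hxQ⟩ : Q) ^ r = 1 from Subtype.ext (hx ▸ pow_orderOf_eq_one x), _root_.one_zpow]
      have hT : T.card ≤ r := IsCyclic.card_pow_eq_one_le hrf.out.pos
      have hZ : (Finset.univ.filter fun y : Q => y ∈ zpowers (⟨x, hxQ⟩ : Q)).card = r := by
        rw [← Fintype.card_subtype, ← Nat.card_eq_fintype_card]
        exact (Nat.card_zpowers _).trans ((Subgroup.orderOf_mk _ _).trans hx)
      have hmemT : (⟨w, hwQ⟩ : Q) ∈ T := by
        simp only [Finset.mem_filter, Finset.mem_univ, true_and, T]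
        exact Subtype.ext hw
      rw [← Finset.eq_of_subset_of_card_le hsub (hT.trans hZ.ge)] at hmemT
      exact (Finset.mem_filter.1 hmemT).2
    obtain ⟨i, hi⟩ := mem_zpowers_iff.1 hmem
    exact mem_zpowers_iff.2 ⟨i, congrArg Subtype.val hi⟩
  have hxr : (⟨x, hxQ⟩ : Q) ^ r = 1 := Subtype.ext (hx ▸ pow_orderOf_eq_one x)
  have hc0 : Nat.card (centralizer ({(⟨x, hxQ⟩ : Q)} : Set Q)) ≤ r ^ 2 :=
    card_cent_le hQ hC 1 fun u hu => by simpa using hu
  obtain ⟨hidx, -, hcard, hxK, hexp⟩ := coset_conj hQ hnc hx1 hc0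
  refine ⟨hnc, hidx, hexp, hxK, hcard, fun g k v hv hk hmem => ?_⟩
  obtain ⟨b, -, hb⟩ := Nat.exists_mul_mod_eq_one_of_coprime hk hrf.out.one_lt
  have hkb : x ^ (k * b) = x := by
    rw [← Nat.div_add_mod (k * b) r, hb, pow_add, pow_mul, ← hx, pow_orderOf_eq_one, one_pow,
      pow_one, one_mul]
  have hk1 : (⟨x, hxQ⟩ : Q) ^ k ≠ 1 := fun e => hx1 (Subtype.ext (by
    show x = 1
    rw [← hkb, pow_mul, show x ^ k = 1 from congrArg Subtype.val e, one_pow]))
  have hck : Nat.card (centralizer ({(⟨x, hxQ⟩ : Q) ^ k} : Set Q)) ≤ r ^ 2 :=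
    card_cent_le hQ hC 1 fun u hu => by
      have h2 : Commute u (x ^ (k * b)) := by
        rw [pow_mul]; exact Commute.pow_right hu b
      rw [hkb] at h2
      simpa using h2.eq
  obtain ⟨-, hconj, -, -, -⟩ := coset_conj hQ hnc hk1 hck
  obtain ⟨p, hp⟩ := hconj v hmem
  have hp' : (p : G) * x ^ k * (p : G)⁻¹ = v := congrArg Subtype.val hp
  have h1 : ((p : G)⁻¹ * g) * x * ((p : G)⁻¹ * g)⁻¹ = x ^ k := by
    calc ((p : G)⁻¹ * g) * x * ((p : G)⁻¹ * g)⁻¹ = (p : G)⁻¹ * (g * x * g⁻¹) * p := by group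
      _ = x ^ k := by rw [hv, ← hp']; group
  exact ⟨p, by rw [← hN _ k h1, h1, hp']⟩

/-- The action on the plane `Q/Q'` avoids `-1`. -/
theorem exists_action {Q : Subgroup G} (hQ : IsPGroup r Q) (hxQ : x ∈ Q) (hwQ : w ∈ Q) {a : Q}
    (ha : a ∉ zpowers (⟨x, hxQ⟩ : Q) ⊔ commutator Q) (hr2 : r ≠ 2) :
    ∃ (χ : Q →* Multiplicative (ZMod r × ZMod r)) (ρ : normalizer (Q : Set G) →* GL (Fin 2) (ZMod r)),
      (∀ v, χ v = 1 ↔ v ∈ commutator Q) ∧ (χ ⟨x, hxQ⟩).toAdd = (1, 0) ∧ (χ a).toAdd = (0, 1) ∧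
      (-1 : GL (Fin 2) (ZMod r)) ∉ ρ.range ∧
      (∀ g : normalizer (Q : Set G), (g : G) ∈ Q → ρ g = 1) ∧
      (∀ g, ρ g = 1 → Q.normalizerMonoidHom g ∈ PGroup.frattiniStab Q) ∧
      (∀ g, ((ρ g).val 0 0, (ρ g).val 1 0) = (χ (Q.normalizerMonoidHom g ⟨x, hxQ⟩)).toAdd ∧
        ((ρ g).val 0 1, (ρ g).val 1 1) = (χ (Q.normalizerMonoidHom g a)).toAdd) := by
  obtain ⟨-, hidx, hexp, hxK, -, hconj⟩ := shape hx hN hC hxw hwx hw hQ hxQ hwQ
  obtain ⟨χ, hker, hχx, hχa⟩ := exists_coords hidx hexp hxK ha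
  obtain ⟨ρ0, hρ0⟩ := exists_matrix hker hχx hχa
  refine ⟨χ, ρ0.comp Q.normalizerMonoidHom, hker, hχx, hχa, ?_, ?_, ?_, fun g => ?_⟩
  · rintro ⟨g, hg⟩
    have h00 : (χ (Q.normalizerMonoidHom g ⟨x, hxQ⟩)).toAdd.1 = -1 := by
      rw [← (hρ0 _).1, show ρ0 (Q.normalizerMonoidHom g) = -1 from hg]; simp
    have h10 : (χ (Q.normalizerMonoidHom g ⟨x, hxQ⟩)).toAdd.2 = 0 := by
      rw [← (hρ0 _).2.1, show ρ0 (Q.normalizerMonoidHom g) = -1 from hg]; simp
    have hrne : ((r - 1 : ℕ) : ZMod r) = -1 := by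
      rw [Nat.cast_sub hrf.out.pos, ZMod.natCast_self, zero_sub, Nat.cast_one]
    have hco : (r - 1).Coprime r := by
      refine ((Nat.Prime.coprime_iff_not_dvd hrf.out).2 fun h => ?_).symm
      have := Nat.le_of_dvd (by have := hrf.out.two_le; omega) h
      have := hrf.out.two_le; omega
    obtain ⟨p, hp⟩ := hconj (g : G) (r - 1) (Q.normalizerMonoidHom g ⟨x, hxQ⟩) rfl hco
      (mem_of_coords hker hχx hχa (by
        rw [map_pow, toAdd_pow, hχx]
        ext
        · simp [hrne, h00]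
        · simp [h10]))
    have hpx : (Q.normalizerMonoidHom g ⟨x, hxQ⟩) = p * ⟨x, hxQ⟩ * p⁻¹ := Subtype.ext hp.symm
    have hcx : χ (p * ⟨x, hxQ⟩ * p⁻¹) = χ ⟨x, hxQ⟩ := by
      rw [map_mul, map_mul, map_inv, mul_inv_cancel_comm]
    rw [hpx, hcx, hχx] at h00
    haveI : Fact (2 < r) := ⟨lt_of_le_of_ne hrf.out.two_le (Ne.symm hr2)⟩
    exact ZMod.neg_one_ne_one (n := r) h00.symm
  · intro g hg
    have hm : ∀ v : Q, χ (Q.normalizerMonoidHom g v) = χ v := fun v => by
      rw [show Q.normalizerMonoidHom g v = ⟨(g : G), hg⟩ * v * ⟨(g : G), hg⟩⁻¹ from Subtype.ext rfl,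
        map_mul, map_mul, map_inv, mul_inv_cancel_comm]
    refine Units.ext ?_
    ext i j
    obtain ⟨e1, e2, e3, e4⟩ := hρ0 (Q.normalizerMonoidHom g)
    rw [hm, hχx] at e1 e2
    rw [hm, hχa] at e3 e4
    fin_cases i <;> fin_cases j <;> simp [MonoidHom.comp_apply, e1, e2, e3, e4]
  · intro g hg v
    obtain ⟨e1, e2, e3, e4⟩ := hρ0 (Q.normalizerMonoidHom g)
    rw [show ρ0 (Q.normalizerMonoidHom g) = 1 from hg] at e1 e2 e3 e4
    simp at e1 e2 e3 e4
    refine PGroup.commutator_le_frattini hQ (mem_of_coords hker hχx hχa ?_)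
    rw [apply_coords hker hχx hχa, ← e1, ← e2, ← e3, ← e4]
    simp
  · exact ⟨Prod.ext (hρ0 _).1 (hρ0 _).2.1, Prod.ext (hρ0 _).2.2.1 (hρ0 _).2.2.2⟩

variable (hr : r = 7 ∨ r = 11 ∨ r = 19) {σ : G} (hsr : s ≠ r) (hσs : σ ^ s = 1) (hσx : Commute σ x)
  {k : ℕ} (hk : σ * w * σ⁻¹ = w ^ k) (hk1 : ¬ k ≡ 1 [MOD r])
  (hscent : ¬ s ∣ Nat.card ↥(centralizer ({x} : Set G) ⊓ centralizer ({w} : Set G)))

include hr hsr hσs hσx hk hk1 hscent

omit hx hN hC hxw hr hsr hσx hscent in
theorem orderOf_op : orderOf σ = s := by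
  refine orderOf_eq_prime hσs fun e => hk1 ?_
  rw [e, one_mul, inv_one, mul_one] at hk
  have ho : orderOf w ∣ r := orderOf_dvd_of_pow_eq_one hw
  rcases (Nat.dvd_prime hrf.out).1 ho with h | h
  · exact absurd (orderOf_eq_one_iff.1 h) fun h' => hwx (h' ▸ one_mem _)
  · have h2 : w ^ k = w ^ 1 := by rw [pow_one]; exact hk.symm
    rw [pow_eq_pow_iff_modEq, h] at h2
    exact h2

/-- An invariant Sylow subgroup containing `x` and `w`. -/
theorem exists_sylow : ∃ P : Sylow r G, x ∈ (P : Subgroup G) ∧ w ∈ (P : Subgroup G) ∧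
    σ ∈ normalizer ((P : Subgroup G) : Set G) := by
  have hw1 : w ≠ 1 := fun e => hwx (e ▸ one_mem _)
  set W := zpowers x ⊔ zpowers w with hW
  have hWr : IsPGroup r W := by
    refine IsPGroup.to_sup_of_normal_left' ?_ ?_ ?_
    · exact IsPGroup.of_card (n := 1) (by rw [Nat.card_zpowers, hx, pow_one])
    · exact IsPGroup.of_card (n := 1) (by rw [Nat.card_zpowers, orderOf_eq_prime hw hw1, pow_one])
    · rw [zpowers_le]
      refine mem_normalizer_fintype fun g hg => ?_
      obtain ⟨i, rfl⟩ := mem_zpowers_iff.1 hg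
      rw [((hxw.symm).zpow_right i).eq, mul_inv_cancel_right]
      exact zpow_mem (mem_zpowers x) i
  have hσW : σ ∈ normalizer (W : Set G) := by
    refine mem_normalizer_fintype fun g hg => ?_
    have hle : W ≤ W.comap (MulAut.conj σ).toMonoidHom := by
      refine sup_le (zpowers_le.2 ?_) (zpowers_le.2 ?_)
      · show σ * x * σ⁻¹ ∈ W
        rw [hσx.eq, mul_inv_cancel_right]; exact mem_sup_left (mem_zpowers x)
      · show σ * w * σ⁻¹ ∈ W
        rw [hk]; exact mem_sup_right (pow_mem (mem_zpowers w) k)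
    exact hle hg
  obtain ⟨Q, hWQ, ⟨hQ, hσQ⟩, hmax⟩ := (Set.toFinite {Q : Subgroup G | IsPGroup r Q ∧
    σ ∈ normalizer (Q : Set G)}).exists_le_maximal (a := W) ⟨hWr, hσW⟩
  have hxQ : x ∈ Q := hWQ (mem_sup_left (mem_zpowers x))
  have hwQ : w ∈ Q := hWQ (mem_sup_right (mem_zpowers w))
  obtain ⟨Pq, hPq⟩ := hQ.exists_le_sylow
  by_cases heq : Q = (Pq : Subgroup G)
  · exact ⟨Pq, heq ▸ hxQ, heq ▸ hwQ, heq ▸ hσQ⟩
  exfalso
  set N := normalizer (Q : Set G)
  -- a larger `r`-subgroup of `N(Q)`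
  obtain ⟨hnc, hidx, hexp, hxK, -, -⟩ := shape hx hN hC hxw hwx hw hQ hxQ hwQ
  obtain ⟨a, ha⟩ : ∃ a : Q, a ∉ zpowers (⟨x, hxQ⟩ : Q) ⊔ commutator Q := by
    by_contra hall
    push Not at hall
    refine hnc (isCyclic_iff_exists_zpowers_eq_top.2 ⟨⟨x, hxQ⟩, frattini_nongenerating
      (top_le_iff.1 fun v _ => sup_le_sup_left (PGroup.commutator_le_frattini hQ) _ (hall v))⟩)
  obtain ⟨χ, ρ, hker, hχx, hχa, hneg, hρQ, hρstab, hρ⟩ :=
    exists_action hx hN hC hxw hwx hw hQ hxQ hwQ ha (by rcases hr with h | h | h <;> omega)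
  obtain ⟨R, -, hRp, hRn, hRall⟩ := exists_normal_r hr (M := ρ.range) hneg
  set U := (R.comap ρ).map N.subtype with hU
  have hUN : U ≤ N := map_subtype_le _
  have hQU : Q ≤ U := fun q hq => ⟨⟨q, le_normalizer hq⟩, by
    show ρ _ ∈ R
    rw [hρQ _ hq]; exact one_mem _, rfl⟩
  have hσU : zpowers σ ≤ normalizer (U : Set G) := zpowers_le.2 (mem_normalizer_fintype (by
    rintro _ ⟨u, hu, rfl⟩
    refine ⟨⟨σ, hσQ⟩ * u * ⟨σ, hσQ⟩⁻¹, ?_, rfl⟩
    show ρ (⟨σ, hσQ⟩ * u * ⟨σ, hσQ⟩⁻¹) ∈ R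
    rw [map_mul, map_mul, map_inv]
    exact (mem_normalizer_iff.1 (hRn ⟨_, rfl⟩) _).1 hu))
  -- no element of order `s`
  have hsU : ¬ s ∣ Nat.card U := by
    intro h
    obtain ⟨τ, hτ⟩ := exists_prime_orderOf_dvd_card' s h
    obtain ⟨u, hu, hue⟩ := τ.2
    have huo : orderOf u = s := by rw [← hτ, ← Subgroup.orderOf_coe τ, ← hue, Subgroup.coe_subtype,
      Subgroup.orderOf_coe]
    have hρu : ρ u = 1 := by
      obtain ⟨j, hj⟩ := hRp ⟨ρ u, hu⟩
      have h1 : orderOf (ρ u) ∣ r ^ j := orderOf_dvd_of_pow_eq_one (congrArg Subtype.val hj)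
      have h2 : orderOf (ρ u) ∣ s := huo ▸ orderOf_map_dvd ρ u
      have hco : (r ^ j).Coprime s := Nat.Coprime.pow_left j ((Nat.coprime_primes hrf.out hsf.out).2 (Ne.symm hsr))
      exact orderOf_eq_one_iff.1 (Nat.dvd_one.1 (hco.gcd_eq_one ▸ Nat.dvd_gcd h1 h2))
    obtain ⟨j, hj⟩ := PGroup.isPGroup_frattiniStab hQ ⟨_, hρstab u hρu⟩
    have hu1 : Q.normalizerMonoidHom u = 1 := by
      have h1 : orderOf (Q.normalizerMonoidHom u) ∣ r ^ j :=
        orderOf_dvd_of_pow_eq_one (congrArg Subtype.val hj)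
      have h2 : orderOf (Q.normalizerMonoidHom u) ∣ s := huo ▸ orderOf_map_dvd _ u
      have hco : (r ^ j).Coprime s := Nat.Coprime.pow_left j ((Nat.coprime_primes hrf.out hsf.out).2 (Ne.symm hsr))
      exact orderOf_eq_one_iff.1 (Nat.dvd_one.1 (hco.gcd_eq_one ▸ Nat.dvd_gcd h1 h2))
    have hcent : ∀ q ∈ Q, (u : G) * q = q * u := fun q hq => by
      have h := congrArg (fun f : MulAut Q => ((f ⟨q, hq⟩ : Q) : G)) hu1
      simp only [MulAut.one_apply] at h
      exact mul_inv_eq_iff_eq_mul.1 h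
    refine hscent ?_
    rw [← huo, ← Subgroup.orderOf_coe u]
    exact Subgroup.orderOf_dvd_natCard _ (Subgroup.mem_inf.2
      ⟨mem_centralizer_singleton_iff.2 (hcent x hxQ), mem_centralizer_singleton_iff.2 (hcent w hwQ)⟩)
  obtain ⟨Pu, hQPu, hσPu⟩ := Coprime.exists_invariant_sylow_ge hσU
    (by rw [Nat.card_zpowers, orderOf_op hwx hw hσs hk hk1]; exact (Nat.Prime.coprime_iff_not_dvd hsf.out).2 hsU)
    (Or.inl (Group.isSolvable_of_comm fun a b => Subtype.ext (by
      obtain ⟨i, hi⟩ := mem_zpowers_iff.1 a.2; obtain ⟨j, hj⟩ := mem_zpowers_iff.1 b.2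
      show (a : G) * b = b * a
      rw [← hi, ← hj, ← _root_.zpow_add, ← _root_.zpow_add, add_comm])))
    hQU hQ (zpowers_le.2 hσQ)
  have hPQ : (Pu : Subgroup U).map U.subtype = Q :=
    (hmax ⟨Pu.2.map _, zpowers_le.1 hσPu⟩ hQPu).antisymm hQPu
  -- a proper overgroup of `Q` in a Sylow subgroup normalizes it
  haveI : Group.IsNilpotent (Pq : Subgroup G) := Pq.2.isNilpotent
  have hlt : Q.subgroupOf (Pq : Subgroup G) < normalizer ((Q.subgroupOf (Pq : Subgroup G)) : Set _) :=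
    Group.normalizerCondition_of_isNilpotent _ (lt_top_iff_ne_top.2 fun h => heq
      (le_antisymm hPq (subgroupOf_eq_top.1 h)))
  obtain ⟨g, hg, hgQ⟩ := SetLike.exists_of_lt hlt
  have hgN : (g : G) ∈ N := mem_normalizer_fintype fun q hq =>
    (mem_normalizer_iff.1 hg ⟨q, hPq hq⟩).1 hq
  have hgU : (g : G) ∈ U := ⟨⟨g, hgN⟩, hRall _ ⟨_, rfl⟩ (by
    obtain ⟨j, hj⟩ := Pq.2 g
    exact ⟨j, by rw [← map_pow, show (⟨(g : G), hgN⟩ : N) ^ r ^ j = 1 from
      Subtype.ext (congrArg Subtype.val hj :), map_one]⟩), rfl⟩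
  -- so `Q` is not a Sylow subgroup of `U`
  refine hgQ ?_
  have hnorm : (⟨g, hgU⟩ : U) ∈ normalizer ((Pu : Subgroup U) : Set U) :=
    mem_normalizer_fintype fun q hq => by
      have hq' : (q : G) ∈ Q := hPQ ▸ mem_map_of_mem _ hq
      have : (g : G) * q * (g : G)⁻¹ ∈ (Pu : Subgroup U).map U.subtype :=
        hPQ.symm ▸ (mem_normalizer_iff.1 hgN _).1 hq'
      obtain ⟨y, hy, hye⟩ := this
      exact (show y = ⟨g, hgU⟩ * q * ⟨g, hgU⟩⁻¹ from Subtype.ext hye) ▸ hy
  have hmemP : (⟨g, hgU⟩ : U) ∈ (Pu : Subgroup U) := by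
    obtain ⟨j, hj⟩ := Pq.2 g
    obtain ⟨i, -, hi⟩ := (Nat.dvd_prime_pow hrf.out).1 (orderOf_dvd_of_pow_eq_one
      (show (⟨g, hgU⟩ : U) ^ r ^ j = 1 from Subtype.ext (congrArg Subtype.val hj :)))
    have hz : IsPGroup r (zpowers (⟨g, hgU⟩ : U)) := IsPGroup.of_card (n := i) (by rw [Nat.card_zpowers, hi])
    exact ((hz.inf_normalizer_sylow Pu).le (show _ ∈ zpowers (⟨g, hgU⟩ : U) ⊓ _ from ⟨mem_zpowers _, hnorm⟩)).2
  exact hPQ ▸ mem_map_of_mem U.subtype hmemP

omit hr hsr hσs hσx hk hk1 hscent in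
/-- In the Sylow subgroup a subgroup abelian of index `r` and the fusion through `N(ZJ P)` give fusion
in `N(P)`. -/
theorem controls_normalizer (hab : ∀ T : Sylow 2 G, IsMulCommutative ↥(T : Subgroup G)) (hr2 : r ≠ 2)
    (P : Sylow r G) (hxP : x ∈ (P : Subgroup G)) (hwP : w ∈ (P : Subgroup G))
    {A : Subgroup (P : Subgroup G)} (hAi : A.index = r) (hxA : (⟨x, hxP⟩ : (P : Subgroup G)) ∉ A)
    (hAc : ∀ u ∈ A, ∀ v ∈ A, u * v = v * u) {g y : G} (hy : y ∈ (P : Subgroup G))
    (hg : g * x * g⁻¹ = y) :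
    ∃ n ∈ normalizer ((P : Subgroup G) : Set G), n * x * n⁻¹ = y := by
  classical
  obtain ⟨hnc, hidx, hexp, hxK, hcard, hconj⟩ := shape hx hN hC hxw hwx hw P.2 hxP hwP
  set x' : (P : Subgroup G) := ⟨x, hxP⟩
  set W0 := centralizer ({x'} : Set (P : Subgroup G))
  obtain ⟨n, hn⟩ := IsPGroup.iff_card.1 P.2
  have hrpos := hrf.out.pos
  have hn2 : 2 ≤ n := (Nat.pow_le_pow_iff_right hrf.out.one_lt).1
    (hn ▸ sq_le_card_of_noncyclic P.2 hnc)
  have hAn : Nat.card A = r ^ (n - 1) := by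
    have h := A.card_mul_index
    rw [hAi, hn, show n = n - 1 + 1 by omega, pow_succ] at h
    exact Nat.eq_of_mul_eq_mul_right hrpos h
  have hAab : IsMulCommutative A := ⟨⟨fun a b => Subtype.ext (hAc _ a.2 _ b.2)⟩⟩
  rcases Nat.lt_or_ge n 3 with hn3 | hn3
  · -- an abelian Sylow subgroup
    haveI : IsMulCommutative ↥(P : Subgroup G) :=
      IsPGroup.isMulCommutative_of_card_eq_prime_sq (p := r) (by rw [hn, show n = 2 by omega])
    obtain ⟨m, hm, he⟩ := P.conj_eq_normalizer_conj_of_mem x g⁻¹ hxP (by rwa [inv_inv, hg])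
    refine ⟨m⁻¹, inv_mem hm, ?_⟩
    rw [inv_inv] at he
    rw [inv_inv, ← he, hg]
  obtain ⟨m, hm, hmy⟩ := controls_zj hr2 hab P hxP g (hg.symm ▸ hy)
  rw [hg] at hmy
  have hbound : ∀ B : Subgroup (P : Subgroup G), IsMulCommutative B → Nat.card B ≤ r ^ (n - 1) := by
    intro B hB
    obtain ⟨j, hj⟩ := IsPGroup.iff_card.1 (P.2.to_subgroup B)
    rw [hj]
    refine Nat.pow_le_pow_right hrpos ?_
    have h1 : j ≤ n := (Nat.pow_le_pow_iff_right hrf.out.one_lt).1
      (hj ▸ hn ▸ Subgroup.card_le_card_group B)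
    by_contra hlt
    have htop : B = ⊤ := B.card_eq_iff_eq_top.1 (by rw [hj, hn, show j = n by omega])
    have hC' : W0 = ⊤ := eq_top_iff.2 fun z _ => mem_centralizer_singleton_iff.2
      (congrArg Subtype.val (hB.is_comm.comm ⟨z, htop ▸ mem_top z⟩ ⟨x', htop ▸ mem_top x'⟩))
    rw [hC', card_top, hn] at hcard
    have := Nat.pow_right_injective hrf.out.two_le hcard
    omega
  have hAmax : A ∈ maxAbelianSubgroups (P : Subgroup G) := ⟨hAab, fun B hB => hAn ▸ hbound B hB⟩
  rcases Nat.lt_or_ge n 4 with hn4 | hn4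
  · -- order `r³`
    have hn' : n = 3 := by omega
    subst hn'
    have hWab : IsMulCommutative W0 := IsPGroup.isMulCommutative_of_card_eq_prime_sq hcard
    have hWmax : W0 ∈ maxAbelianSubgroups (P : Subgroup G) := ⟨hWab, fun B hB => hcard ▸ hbound B hB⟩
    have hJ : thompsonSubgroupAOf (P : Subgroup G) = P := by
      have h : thompsonSubgroupA (P : Subgroup G) = ⊤ :=
        eq_top_of_lt hAi (le_sSup hAmax) fun h =>
          hxA (h (le_sSup hWmax (mem_centralizer_singleton_iff.2 rfl)))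
      rw [thompsonSubgroupAOf, h, ← MonoidHom.range_eq_map, Subgroup.range_subtype]
    set K := centerThompsonAOf (P : Subgroup G) with hK
    have hK1 : K = (P : Subgroup G) ⊓ centralizer ((P : Subgroup G) : Set G) := by
      rw [hK, centerThompsonAOf, hJ]
    set P' := commutator (P : Subgroup G)
    have hP' : Nat.card P' = r := by
      have h := P'.card_mul_index
      rw [hidx, hn] at h
      exact Nat.eq_of_mul_eq_mul_right (pow_pos hrpos 2) (h.trans (by ring))
    have hP'Z : P' ≤ center (P : Subgroup G) := by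
      have h := PGroup.inf_center_ne_bot P.2 (N := P') fun e => by
        rw [e, card_bot] at hP'; exact hrf.out.ne_one hP'.symm
      have h2 := Subgroup.card_dvd_of_le (inf_le_left : P' ⊓ center _ ≤ P')
      rw [hP'] at h2
      rcases (Nat.dvd_prime hrf.out).1 h2 with h3 | h3
      · exact absurd (eq_bot_of_card_eq _ h3) h
      · exact inf_eq_left.1 (eq_of_le_of_card_ge inf_le_left (h3.trans hP'.symm).ge)
    have hZP' : center (P : Subgroup G) ≤ P' := by
      have hlt : Nat.card (center (P : Subgroup G)) < r ^ 2 := hcard ▸ lt_of_le_of_ne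
        (card_le_of_le (center_le_centralizer _)) fun e => by
          have h := eq_of_le_of_card_ge (center_le_centralizer ({x'} : Set _)) e.ge
          have hxc : x' ∈ center (P : Subgroup G) := h ▸ mem_centralizer_singleton_iff.2 rfl
          have hC' : W0 = ⊤ := eq_top_iff.2 fun z _ =>
            mem_centralizer_singleton_iff.2 (mem_center_iff.1 hxc z)
          rw [hC', card_top, hn] at hcard
          have := Nat.pow_right_injective hrf.out.two_le hcard
          omega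
      obtain ⟨j, hj⟩ := IsPGroup.iff_card.1 (P.2.to_subgroup (center (P : Subgroup G)))
      rw [hj] at hlt
      refine (eq_of_le_of_card_ge hP'Z ?_).ge
      rw [hj, hP']
      calc r ^ j ≤ r ^ 1 := Nat.pow_le_pow_right hrpos (by
            have := (Nat.pow_lt_pow_iff_right hrf.out.one_lt).1 hlt; omega)
        _ = r := pow_one r
    have hmemK : ∀ v : (P : Subgroup G), (v : G) ∈ K ↔ v ∈ P' := fun v => by
      rw [hK1]
      refine ⟨fun h => hZP' (mem_center_iff.2 fun z => Subtype.ext ((mem_centralizer_iff.1 h.2) z z.2)),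
        fun h => ⟨v.2, mem_centralizer_iff.2 fun z hz =>
          congrArg Subtype.val (mem_center_iff.1 (hP'Z h) ⟨z, hz⟩)⟩⟩
    have hKP : K ≤ P := hK1 ▸ inf_le_left
    have hPK : (P : Subgroup G) ≤ normalizer (K : Set G) := fun z hz =>
      mem_normalizer_fintype fun v hv => by
        have h := (inferInstance : P'.Normal).conj_mem _ ((hmemK ⟨v, hKP hv⟩).1 hv) ⟨z, hz⟩
        exact (hmemK _).2 h
    have hNK : ∀ {a v : G}, a ∈ normalizer (K : Set G) → v ∈ K → a * v * a⁻¹ ∈ K :=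
      fun ha hv => (mem_normalizer_iff.1 ha _).1 hv
    let C : Subgroup G :=
      { carrier := {a | a ∈ normalizer (K : Set G) ∧ a * y * a⁻¹ * y⁻¹ ∈ K}
        one_mem' := ⟨one_mem _, by simp⟩
        mul_mem' := fun {a b} ha hb => ⟨mul_mem ha.1 hb.1, by
          rw [show a * b * y * (a * b)⁻¹ * y⁻¹ = a * (b * y * b⁻¹ * y⁻¹) * a⁻¹ * (a * y * a⁻¹ * y⁻¹) by group]
          exact mul_mem (hNK ha.1 hb.2) ha.2⟩
        inv_mem' := fun {a} ha => ⟨inv_mem ha.1, by
          rw [show a⁻¹ * y * a⁻¹⁻¹ * y⁻¹ = a⁻¹ * (a * y * a⁻¹ * y⁻¹)⁻¹ * a⁻¹⁻¹ by group]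
          exact hNK (inv_mem ha.1) (inv_mem ha.2)⟩ }
    have hcom : ∀ a b : (P : Subgroup G), (a : G) * b * (a : G)⁻¹ * (b : G)⁻¹ ∈ K := fun a b =>
      (hmemK ⁅a, b⁆).2 (commutator_mem_commutator (mem_top _) (mem_top _))
    have hPC : (P : Subgroup G) ≤ C := fun a ha => ⟨hPK ha, hcom ⟨a, ha⟩ ⟨y, hy⟩⟩
    have hmPC : ((m • P : Sylow r G) : Subgroup G) ≤ C := by
      rw [Sylow.coe_subgroup_smul]
      rintro _ ⟨a, ha, rfl⟩
      refine ⟨mul_mem (mul_mem hm (hPK ha)) (inv_mem hm), ?_⟩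
      simp only [MulDistribMulAction.toMonoidEnd_apply, MulDistribMulAction.toMonoidHom_apply,
        MulAut.smul_def, MulAut.conj_apply]
      rw [← hmy, show m * a * m⁻¹ * (m * x * m⁻¹) * (m * a * m⁻¹)⁻¹ * (m * x * m⁻¹)⁻¹ =
        m * (a * x * a⁻¹ * x⁻¹) * m⁻¹ by group]
      exact hNK hm (hcom ⟨a, ha⟩ x')
    obtain ⟨c, hc⟩ := MulAction.exists_smul_eq C ((m • P : Sylow r G).subtype hmPC) (P.subtype hPC)
    have hcm : (c : G) * m ∈ normalizer ((P : Subgroup G) : Set G) := mem_normalizer_fintype fun a ha => by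
      have hmem : m * a * m⁻¹ ∈ ((m • P : Sylow r G) : Subgroup G) := by
        rw [Sylow.coe_subgroup_smul]
        exact Subgroup.smul_mem_pointwise_smul a (MulAut.conj m) _ ha
      have h2 : (MulAut.conj c • (⟨_, hmPC hmem⟩ : C)) ∈
          ((c • (m • P : Sylow r G).subtype hmPC : Sylow r C) : Subgroup C) := by
        rw [Sylow.coe_subgroup_smul]
        exact Subgroup.smul_mem_pointwise_smul _ (MulAut.conj c) _ hmem
      rw [hc] at h2
      have h3 : ((c : G) * (m * a * m⁻¹) * (c : G)⁻¹) ∈ (P : Subgroup G) := h2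
      rwa [show (c : G) * m * a * ((c : G) * m)⁻¹ = (c : G) * (m * a * m⁻¹) * (c : G)⁻¹ by group]
    set n' := (c : G) * m
    have hv : n' * x * n'⁻¹ * y⁻¹ ∈ K := by
      rw [show n' * x * n'⁻¹ = (c : G) * (m * x * m⁻¹) * (c : G)⁻¹ by simp only [n']; group, hmy]
      exact c.2.2
    have hvP : n' * x * n'⁻¹ ∈ (P : Subgroup G) := (mem_normalizer_iff.1 hcm _).1 hxP
    -- back from the quotient
    have hy1 : (⟨y, hy⟩ : (P : Subgroup G)) ≠ 1 := fun e => by
      have h := congrArg Subtype.val e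
      simp only [OneMemClass.coe_one] at h
      rw [h, conj_eq_one_iff] at hg
      rw [hg, orderOf_one] at hx
      exact hrf.out.ne_one hx.symm
    have hcy : Nat.card (centralizer ({(⟨y, hy⟩ : (P : Subgroup G))} : Set (P : Subgroup G))) ≤ r ^ 2 :=
      card_cent_le P.2 hC g⁻¹ fun u hu => by
        have hu' : u * (g * x * g⁻¹) = g * x * g⁻¹ * u := by rw [hg]; exact hu
        calc g⁻¹ * u * g⁻¹⁻¹ * x = g⁻¹ * (u * (g * x * g⁻¹)) * g := by group
          _ = g⁻¹ * (g * x * g⁻¹ * u) * g := by rw [hu']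
          _ = x * (g⁻¹ * u * g⁻¹⁻¹) := by group
    obtain ⟨p, hp⟩ := (coset_conj P.2 hnc hy1 hcy).2.1 ⟨n' * x * n'⁻¹, hvP⟩ (by
      refine (hmemK _).1 ?_
      show y⁻¹ * (n' * x * n'⁻¹) ∈ K
      rw [show y⁻¹ * (n' * x * n'⁻¹) = y⁻¹ * (n' * x * n'⁻¹ * y⁻¹) * y⁻¹⁻¹ by group]
      exact hNK (inv_mem (hPK hy)) hv)
    refine ⟨(p : G)⁻¹ * n', mul_mem (inv_mem (le_normalizer p.2)) hcm, ?_⟩
    have hp' : (p : G) * y * (p : G)⁻¹ = n' * x * n'⁻¹ := congrArg Subtype.val hp
    rw [show (p : G)⁻¹ * n' * x * ((p : G)⁻¹ * n')⁻¹ = (p : G)⁻¹ * (n' * x * n'⁻¹) * p by group, ← hp']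
    group
  · -- `A` is the only abelian subgroup of largest order
    haveI : A.Normal := Subgroup.normal_of_index_eq_minFac_card (by
      rw [hAi, hn, Nat.pow_minFac (by omega), hrf.out.minFac_eq])
    have huniq : ∀ B ∈ maxAbelianSubgroups (P : Subgroup G), B = A := by
      intro B hB
      have hBA : Nat.card A ≤ Nat.card B := hB.2 A hAab
      by_contra hne
      have hnle : ¬ B ≤ A := fun h => hne (eq_of_le_of_card_ge h hBA)
      have htop : A ⊔ B = ⊤ := eq_top_of_lt hAi le_sup_left fun h => hnle (le_sup_right.trans h)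
      have hcen : A ⊓ B ≤ center (P : Subgroup G) := fun z hz => mem_center_iff.2 fun v => by
        have h : A ⊔ B ≤ centralizer {z} := sup_le
          (fun a ha => mem_centralizer_singleton_iff.2 (hAc a ha z hz.1))
          (fun b hb => mem_centralizer_singleton_iff.2
            (congrArg Subtype.val (hB.1.is_comm.comm ⟨b, hb⟩ ⟨z, hz.2⟩)))
        exact mem_centralizer_singleton_iff.1 (h (htop ▸ mem_top v))
      have hlt : Nat.card ↥(A ⊓ B) < r ^ 2 := hcard ▸ lt_of_le_of_ne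
        (card_le_of_le (hcen.trans (center_le_centralizer _))) fun e => hxA
          ((eq_of_le_of_card_ge (hcen.trans (center_le_centralizer _)) e.ge).ge
            (mem_centralizer_singleton_iff.2 rfl)).1
      have hf := Local.Baumann.card_sup_mul_inf (A := A) (B := B)
        (le_top.trans (normalizer_eq_top (H := A)).ge)
      rw [htop, card_top, hn, hAn] at hf
      have h1 : r ^ (n - 1) * r ^ (n - 1) ≤ r ^ n * Nat.card ↥(A ⊓ B) :=
        hf ▸ Nat.mul_le_mul_left _ (hAn ▸ hBA)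
      have h2 : r ^ n * Nat.card ↥(A ⊓ B) < r ^ n * r ^ 2 := Nat.mul_lt_mul_of_pos_left hlt (pow_pos hrpos n)
      have h3 := lt_of_le_of_lt h1 h2
      rw [← pow_add, ← pow_add, Nat.pow_lt_pow_iff_right hrf.out.one_lt] at h3
      omega
    have hJ : thompsonSubgroupA (P : Subgroup G) = A :=
      le_antisymm (sSup_le fun B hB => (huniq B hB).le) (le_sSup hAmax)
    have hK : centerThompsonAOf (P : Subgroup G) = A.map (P : Subgroup G).subtype := by
      rw [centerThompsonAOf, thompsonSubgroupAOf, hJ, inf_eq_left]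
      rintro _ ⟨a, ha, rfl⟩
      refine mem_centralizer_iff.2 ?_
      rintro _ ⟨b, hb, rfl⟩
      exact congrArg Subtype.val (hAc b hb a ha)
    rw [hK] at hm
    refine ⟨m, mem_normalizer_fintype ?_, hmy⟩
    set H := ((P : Subgroup G).comap (MulAut.conj m).toMonoidHom).subgroupOf (P : Subgroup G)
    have hH : H = ⊤ := eq_top_of_lt hAi (fun a ha => by
        show m * (a : G) * m⁻¹ ∈ (P : Subgroup G)
        exact map_subtype_le _ ((mem_normalizer_iff.1 hm _).1 (mem_map_of_mem _ ha)))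
      fun h => hxA (h (show m * x * m⁻¹ ∈ (P : Subgroup G) from hmy.symm ▸ hy))
    intro a ha
    exact (hH ▸ mem_top _ : (⟨a, ha⟩ : (P : Subgroup G)) ∈ H)

/-- There is no such configuration in a simple group. -/
theorem false_of_small [IsSimpleGroup G] (hna : ¬ IsMulCommutative G)
    (hab : ∀ T : Sylow 2 G, IsMulCommutative ↥(T : Subgroup G)) (hs2 : s ≠ 2) : False := by
  classical
  have hr2 : r ≠ 2 := by rcases hr with h | h | h <;> omega
  obtain ⟨P, hxP, hwP, hσP⟩ := exists_sylow hx hN hC hxw hwx hw hr hsr hσs hσx hk hk1 hscent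
  obtain ⟨hnc, hidx, hexp, hxK, hcard, hconj⟩ := shape hx hN hC hxw hwx hw P.2 hxP hwP
  set x' : (P : Subgroup G) := ⟨x, hxP⟩
  set τ : normalizer ((P : Subgroup G) : Set G) := ⟨σ, hσP⟩
  set σ' := (P : Subgroup G).normalizerMonoidHom τ
  have hτs : τ ^ s = 1 := Subtype.ext hσs
  have hσ's : σ' ^ s = 1 := by rw [← map_pow, hτs, map_one]
  have hσ'x : σ' x' = x' := Subtype.ext (show σ * x * σ⁻¹ = x by rw [hσx.eq, mul_inv_cancel_right])
  obtain ⟨a0, ha0⟩ : ∃ a : (P : Subgroup G), a ∉ zpowers x' ⊔ commutator (P : Subgroup G) := by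
    by_contra hall
    push Not at hall
    refine hnc (isCyclic_iff_exists_zpowers_eq_top.2 ⟨x', frattini_nongenerating
      (top_le_iff.1 fun v _ => sup_le_sup_left (PGroup.commutator_le_frattini P.2) _ (hall v))⟩)
  obtain ⟨χ0, ρ0, hker0, hχ0x, hχ0a, -, -, hstab0, hρ0⟩ :=
    exists_action hx hN hC hxw hwx hw P.2 hxP hwP ha0 hr2
  set b := (χ0 (σ' a0)).toAdd.1
  set μ := (χ0 (σ' a0)).toAdd.2
  have hρ0τ : (ρ0 τ).val = !![1, b; 0, μ] := by
    obtain ⟨h1, h2⟩ := hρ0 τ
    rw [hσ'x, hχ0x, Prod.mk.injEq] at h1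
    have h3 : (ρ0 τ).val 0 1 = b ∧ (ρ0 τ).val 1 1 = μ := ⟨congrArg Prod.fst h2, congrArg Prod.snd h2⟩
    ext i j; fin_cases i <;> fin_cases j <;> simp [h1.1, h1.2, h3.1, h3.2]
  have hμs : μ ^ s = 1 ∧ (μ = 1 → (s : ZMod r) * b = 0) := by
    have key : ∀ j : ℕ, (ρ0 τ ^ j).val 0 0 = 1 ∧ (ρ0 τ ^ j).val 1 0 = 0 ∧ (ρ0 τ ^ j).val 1 1 = μ ^ j ∧
        (μ = 1 → (ρ0 τ ^ j).val 0 1 = (j : ZMod r) * b) := by
      intro j
      induction j with
      | zero => simp
      | succ j ih =>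
        obtain ⟨i1, i2, i3, i4⟩ := ih
        rw [pow_succ, Units.val_mul, hρ0τ]
        simp only [Matrix.mul_apply, Fin.sum_univ_two]
        refine ⟨?_, ?_, ?_, fun hμ => ?_⟩
        · simp [i1]
        · simp [i2]
        · simp [i2, i3, pow_succ]
        · simp [i1, i4 hμ, hμ]; ring
    obtain ⟨-, -, k3, k4⟩ := key s
    rw [← map_pow, hτs, map_one, Units.val_one] at k3 k4
    rw [Matrix.one_apply_eq] at k3
    rw [Matrix.one_apply_ne (by decide)] at k4
    exact ⟨k3.symm, fun h => (k4 h).symm⟩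
  have hμ1 : μ ≠ 1 := fun h => by
    have hb0 : b = 0 := (mul_eq_zero.1 (hμs.2 h)).resolve_left (by
      rw [ZMod.natCast_eq_zero_iff]
      exact fun hd => hsr ((Nat.prime_dvd_prime_iff_eq hrf.out hsf.out).1 hd).symm)
    have h1 : ρ0 τ = 1 := Units.ext (by rw [hρ0τ, hb0, h, Units.val_one, Matrix.one_fin_two])
    obtain ⟨j, hj⟩ := PGroup.isPGroup_frattiniStab P.2 ⟨_, hstab0 τ h1⟩
    have hu1 : σ' = 1 := by
      have hco : (r ^ j).Coprime s :=
        Nat.Coprime.pow_left j ((Nat.coprime_primes hrf.out hsf.out).2 (Ne.symm hsr))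
      exact orderOf_eq_one_iff.1 (Nat.dvd_one.1 (hco.gcd_eq_one ▸
        Nat.dvd_gcd (orderOf_dvd_of_pow_eq_one (congrArg Subtype.val hj))
          (orderOf_dvd_of_pow_eq_one hσ's)))
    have h2 : σ * w * σ⁻¹ = w :=
      congrArg (fun f : MulAut (P : Subgroup G) => ((f ⟨w, hwP⟩ : (P : Subgroup G)) : G)) hu1
    refine hk1 ?_
    have how : orderOf w = r := orderOf_eq_prime hw fun e => hwx (e ▸ one_mem _)
    rw [hk] at h2
    have h3 : w ^ k = w ^ 1 := by rw [pow_one]; exact h2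
    rwa [pow_eq_pow_iff_modEq, how] at h3
  -- the eigenvector
  set a : (P : Subgroup G) := x' ^ b.val * a0 ^ (μ - 1).val
  have hχ0v : (χ0 a).toAdd = (b, μ - 1) := by
    rw [map_mul, map_pow, map_pow, toAdd_mul, toAdd_pow, toAdd_pow, hχ0x, hχ0a]
    ext <;> simp
  have ha : a ∉ zpowers x' ⊔ commutator (P : Subgroup G) := fun h => by
    obtain ⟨p, hp, q, hq, hpq⟩ := mem_sup_of_normal_right.1 h
    obtain ⟨i, rfl⟩ := mem_zpowers_iff.1 hp
    have h2 := congrArg Prod.snd hχ0v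
    rw [← hpq, map_mul, (hker0 q).2 hq, mul_one, map_zpow, toAdd_zpow, hχ0x] at h2
    simp at h2
    exact hμ1 (sub_eq_zero.1 h2.symm)
  obtain ⟨N, hN'⟩ := IsPGroup.iff_card.1 P.2
  set Λ := μ.val ^ r ^ N with hΛ
  have hΛμ : (Λ : ZMod r) = μ := by rw [hΛ, Nat.cast_pow, ZMod.natCast_zmod_val, ZMod.pow_card_pow]
  have hσa : σ' a * (a ^ Λ)⁻¹ ∈ commutator (P : Subgroup G) := by
    refine (hker0 _).1 ?_
    rw [map_mul, map_inv, mul_inv_eq_one]
    apply Multiplicative.toAdd.injective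
    rw [apply_coords hker0 hχ0x hχ0a, map_pow, toAdd_pow, hσ'x, hχ0x, hχ0v]
    ext <;> simp [hΛμ, b, μ] <;> ring
  obtain ⟨χ, ρ, hker, hχx, hχa, hneg, hρP, -, hρ⟩ := exists_action hx hN hC hxw hwx hw P.2 hxP hwP ha hr2
  have hρτ : (ρ τ).val = !![1, 0; 0, μ] := by
    obtain ⟨h1, h2⟩ := hρ τ
    have h3 : (χ (σ' a)).toAdd = (0, μ) := by
      have h4 := (hker _).2 hσa
      rw [map_mul, map_inv, mul_inv_eq_one] at h4
      rw [h4, map_pow, toAdd_pow, hχa]
      ext <;> simp [hΛμ]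
    rw [hσ'x, hχx, Prod.mk.injEq] at h1
    rw [h3, Prod.mk.injEq] at h2
    ext i j; fin_cases i <;> fin_cases j <;> simp [h1.1, h1.2, h2.1, h2.2]
  have hμ2 : μ * μ ≠ 1 := fun h => by
    obtain ⟨j, hj⟩ := hsf.out.odd_of_ne_two hs2
    have h1 := hμs.1
    rw [hj, pow_succ, pow_mul, pow_two, h, one_pow, one_mul] at h1
    exact hμ1 h1
  have hM : ¬ r ∣ Nat.card ρ.range := by
    intro h
    have hle : (P : Subgroup G).subgroupOf (normalizer ((P : Subgroup G) : Set G)) ≤ ρ.ker :=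
      fun g hg => MonoidHom.mem_ker.2 (hρP g hg)
    rw [← index_ker] at h
    exact P.not_dvd_index (h.trans ((Subgroup.index_dvd_of_le hle).trans
      ⟨_, (relIndex_mul_index le_normalizer).symm⟩))
  -- fusion of `x` in the first coordinate
  have hkey : ∀ (g : G) (v : (P : Subgroup G)), g * x * g⁻¹ = v → (χ v).toAdd.1 = 0 ∨
      ∃ p : (P : Subgroup G), (p : G) * x * (p : G)⁻¹ = v := by
    intro g v hv
    obtain ⟨A, hAi, hxA, hAc, -⟩ := exists_abelian_max _ (P : Subgroup G) rfl P.2 hnc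
      (show x' ^ r = 1 from Subtype.ext (hx ▸ pow_orderOf_eq_one x))
      (fun e => hxK (e ▸ one_mem _)) hcard.le σ' ((Nat.coprime_primes hsf.out hrf.out).2 hsr) hσ'x hσ's
      (Λ := Λ) (by
        rw [hN', Nat.modEq_iff_dvd]
        have h1 : (r : ℤ) ∣ (μ.val : ℤ) ^ s - 1 := by
          rw [← ZMod.intCast_zmod_eq_zero_iff_dvd]
          push_cast
          rw [ZMod.natCast_zmod_val, hμs.1, sub_self]
        have h2 := dvd_sub_pow_of_dvd_sub h1 N
        rw [one_pow, ← pow_mul, mul_comm, pow_mul] at h2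
        push_cast [hΛ]
        rw [← dvd_neg, neg_sub]
        exact (pow_dvd_pow _ (Nat.le_succ N)).trans h2)
      ((Nat.Prime.coprime_iff_not_dvd hrf.out).2 fun h => by
        have h0 : μ = 0 := by rw [← hΛμ, ZMod.natCast_eq_zero_iff]; exact h
        have := hμs.1
        rw [h0, zero_pow hsf.out.ne_zero] at this
        exact zero_ne_one this).symm
      (fun h => hμ1 (by rw [← hΛμ, ← Nat.cast_one, ZMod.natCast_eq_natCast_iff]; exact h))
      ha hσa
    obtain ⟨n, hn, hnv⟩ := controls_normalizer hx hN hC hxw hwx hw hab hr2 P hxP hwP hAi hxA hAc v.2 hv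
    have hv' : (P : Subgroup G).normalizerMonoidHom ⟨n, hn⟩ x' = v := Subtype.ext hnv
    obtain ⟨h1, -⟩ := hρ ⟨n, hn⟩
    rw [hv', Prod.ext_iff] at h1
    rcases axis hr hneg hM hμ1 hμ2 (MonoidHom.mem_range.2 ⟨τ, rfl⟩) hρτ
      (MonoidHom.mem_range.2 ⟨⟨n, hn⟩, rfl⟩) with h | h
    · exact Or.inl (h1.1.symm.trans h)
    · refine Or.inr ?_
      set i := (ρ ⟨n, hn⟩).val 0 0 with hi
      have hi0 : i ≠ 0 := fun e => by
        have hu := (ρ ⟨n, hn⟩).isUnit
        rw [Matrix.isUnit_iff_isUnit_det, det_fin_two, ← hi, e, h] at hu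
        simp at hu
      refine hconj n i.val v hnv ((Nat.Prime.coprime_iff_not_dvd hrf.out).2 fun hd => ?_).symm
        (mem_of_coords hker hχx hχa ?_)
      · exact absurd (Nat.le_of_dvd (Nat.pos_of_ne_zero fun e => hi0 ((ZMod.val_eq_zero i).1 e)) hd)
          (not_le.2 i.val_lt)
      · rw [map_pow, toAdd_pow, hχx]
        ext
        · simp [← h1.1, hi]
        · simp [← h1.2, h]
  -- the transfer into the first coordinate
  let ψ : (P : Subgroup G) →* Multiplicative (ZMod r) :=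
    (AddMonoidHom.fst (ZMod r) (ZMod r)).toMultiplicative.comp χ
  have hψ : ∀ v, (ψ v).toAdd = (χ v).toAdd.1 := fun v => rfl
  set C := centralizer ({x} : Set G)
  set D := ((P : Subgroup G) ⊓ C).subgroupOf C
  have hPC : Nat.card ↥((P : Subgroup G) ⊓ C) = r ^ 2 := by
    rw [← hcard, ← Subgroup.card_map_of_injective (f := (P : Subgroup G).subtype) (P : Subgroup G).subtype_injective
      (K := centralizer ({x'} : Set (P : Subgroup G)))]
    congr 2
    ext g
    refine ⟨fun h => ⟨⟨g, h.1⟩, mem_centralizer_singleton_iff.2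
      (Subtype.ext (mem_centralizer_singleton_iff.1 h.2)), rfl⟩, ?_⟩
    rintro ⟨g, hg, rfl⟩
    exact ⟨g.2, mem_centralizer_singleton_iff.2
      (congrArg Subtype.val (mem_centralizer_singleton_iff.1 hg))⟩
  have hDi : ¬ r ∣ D.index := by
    intro h
    have hd : r ^ 3 ∣ Nat.card C := by
      rw [← D.card_mul_index, pow_succ, Nat.card_congr (subgroupOfEquivOfLe inf_le_right).toEquiv, hPC]
      exact Nat.mul_dvd_mul_left _ h
    obtain ⟨Q, hQ⟩ := Sylow.exists_subgroup_card_pow_prime r hd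
    have h3 := hC (Q.map C.subtype) (IsPGroup.of_card (n := 3)
      (by rw [Subgroup.card_map_of_injective C.subtype_injective, hQ])) (map_subtype_le _)
    rw [Subgroup.card_map_of_injective C.subtype_injective, hQ] at h3
    have := (Nat.pow_le_pow_iff_right hrf.out.one_lt).1 h3
    omega
  let Ω := Quotient (MulAction.orbitRel (zpowers x) (G ⧸ (P : Subgroup G)))
  haveI : Fintype Ω := Fintype.ofFinite Ω
  let f : C ⧸ D → Ω := fun q => Quotient.liftOn' q (fun h => Quotient.mk'' ((h : G) : G ⧸ (P : Subgroup G)))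
    fun h h' hh => congrArg Quotient.mk'' (QuotientGroup.eq.2 (by
      rw [QuotientGroup.leftRel_apply] at hh
      exact (show (h : G)⁻¹ * h' ∈ (P : Subgroup G) ⊓ C from hh).1))
  have hfix : ∀ h : C, ∀ d ∈ MulAction.orbitRel.Quotient.orbit (Quotient.mk'' ((h : G) : G ⧸ (P : Subgroup G)) : Ω),
      d = ((h : G) : G ⧸ (P : Subgroup G)) := by
    intro h d hd
    rw [MulAction.orbitRel.Quotient.mem_orbit] at hd
    obtain ⟨z, hz⟩ := Quotient.eq''.1 hd
    rw [← hz]
    obtain ⟨i, hi⟩ := mem_zpowers_iff.1 z.2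
    show (z : G) • ((h : G) : G ⧸ (P : Subgroup G)) = _
    rw [MulAction.Quotient.smul_mk, QuotientGroup.eq, smul_eq_mul, ← hi]
    have hc : Commute x h := (mem_centralizer_singleton_iff.1 h.2).symm
    rw [_root_.mul_inv_rev, mul_assoc, ← _root_.zpow_neg, (hc.zpow_left (-i)).eq, inv_mul_cancel_left]
    exact zpow_mem hxP _
  have hout : ∀ h : C, (Quotient.mk'' ((h : G) : G ⧸ (P : Subgroup G)) : Ω).out =
      ((h : G) : G ⧸ (P : Subgroup G)) := fun h => hfix h _ (by
    rw [MulAction.orbitRel.Quotient.mem_orbit]; exact Quotient.out_eq' _)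
  have hfinj : Function.Injective f := by
    intro q q'
    induction q using Quotient.inductionOn' with
    | _ h => induction q' using Quotient.inductionOn' with
      | _ h' =>
        intro he
        change (Quotient.mk'' ((h : G) : G ⧸ (P : Subgroup G)) : Ω) = Quotient.mk'' _ at he
        have h2 := congrArg Quotient.out he
        rw [hout, hout, QuotientGroup.eq] at h2
        refine Quotient.sound' ?_
        rw [QuotientGroup.leftRel_apply]
        exact ⟨h2, (h⁻¹ * h').2⟩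
  have hxr : x ^ r = 1 := hx ▸ pow_orderOf_eq_one x
  have hval : ∀ q : Ω, ψ ⟨q.out.out⁻¹ * x ^ Function.minimalPeriod (x • ·) q.out * q.out.out,
      QuotientGroup.out_conj_pow_minimalPeriod_mem (P : Subgroup G) x q.out⟩ =
      if q ∈ Set.range f then Multiplicative.ofAdd 1 else 1 := by
    intro q
    by_cases hq : q ∈ Set.range f
    · rw [if_pos hq]
      obtain ⟨c, hcq⟩ := hq
      induction c using Quotient.inductionOn' with
      | _ h =>
        change (Quotient.mk'' ((h : G) : G ⧸ (P : Subgroup G)) : Ω) = q at hcq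
        have hqo : q.out = ((h : G) : G ⧸ (P : Subgroup G)) := by rw [← hcq]; exact hout h
        have hd : Function.minimalPeriod (x • ·) q.out = 1 := by
          rw [Function.minimalPeriod_eq_one_iff_isFixedPt, hqo]
          show x • ((h : G) : G ⧸ (P : Subgroup G)) = _
          exact hfix h _ (by
            rw [MulAction.orbitRel.Quotient.mem_orbit]
            exact Quotient.sound' ⟨⟨x, mem_zpowers x⟩, rfl⟩)
        have hmem := QuotientGroup.out_conj_pow_minimalPeriod_mem (P : Subgroup G) x q.out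
        set g := q.out.out with hg
        have hp : (h : G)⁻¹ * g ∈ (P : Subgroup G) :=
          QuotientGroup.eq.1 (by rw [hg, QuotientGroup.out_eq', hqo])
        have hc : Commute x h := (mem_centralizer_singleton_iff.1 h.2).symm
        have he : (⟨_, hmem⟩ : (P : Subgroup G)) = ⟨_, hp⟩⁻¹ * x' * ⟨_, hp⟩ := Subtype.ext (by
          show g⁻¹ * x ^ Function.minimalPeriod (x • ·) q.out * g =
            ((h : G)⁻¹ * g)⁻¹ * x * ((h : G)⁻¹ * g)
          rw [hd, pow_one]
          calc g⁻¹ * x * g = g⁻¹ * (x * h) * ((h : G)⁻¹ * g) := by group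
            _ = g⁻¹ * (h * x) * ((h : G)⁻¹ * g) := by rw [hc.eq]
            _ = _ := by group)
        refine (congrArg ψ he).trans ?_
        have hcx : ψ (⟨_, hp⟩⁻¹ * x' * ⟨_, hp⟩) = ψ x' := by
          rw [map_mul, map_mul, map_inv, inv_mul_cancel_comm]
        rw [hcx]
        exact Multiplicative.toAdd.injective (by rw [hψ, hχx]; rfl)
    · rw [if_neg hq]
      set g := q.out.out with hg
      have hd : Function.minimalPeriod (x • ·) q.out ∣ r := Function.IsPeriodicPt.minimalPeriod_dvd (by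
        show (x • ·)^[r] q.out = q.out
        rw [smul_iterate, hxr]
        exact one_smul G q.out)
      have hmem := QuotientGroup.out_conj_pow_minimalPeriod_mem (P : Subgroup G) x q.out
      rcases (Nat.dvd_prime hrf.out).1 hd with h | h
      · rcases hkey g⁻¹ ⟨_, hmem⟩ (by rw [inv_inv]; show _ = g⁻¹ * x ^ _ * g; rw [h, pow_one]) with h0 | ⟨p, hp⟩
        · exact Multiplicative.toAdd.injective ((hψ _).trans h0)
        · refine absurd ?_ hq
          have hp' : (p : G) * x * (p : G)⁻¹ = g⁻¹ * x * g := by rw [hp]; show g⁻¹ * x ^ _ * g = _; rw [h, pow_one]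
          have hgp : g * p ∈ C := mem_centralizer_singleton_iff.2 (by
            calc g * p * x = g * ((p : G) * x * (p : G)⁻¹) * p := by group
              _ = x * (g * p) := by rw [hp']; group)
          refine ⟨QuotientGroup.mk ⟨g * p, hgp⟩, ?_⟩
          show (Quotient.mk'' ((g * p : G) : G ⧸ (P : Subgroup G)) : Ω) = q
          rw [QuotientGroup.mk_mul_of_mem g p.2, hg, QuotientGroup.out_eq', Quotient.out_eq']
      · rw [← map_one ψ]
        exact congrArg ψ (Subtype.ext (by show _ * x ^ _ * _ = _; rw [h, hxr, mul_one, inv_mul_cancel]; rfl))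
  have htriv : MonoidHom.transfer ψ x = 1 := by
    have htop : commutator G = ⊤ := by
      rcases IsSimpleGroup.eq_bot_or_eq_top_of_normal (commutator G) inferInstance with h | h
      · refine absurd ⟨⟨fun a b => commutatorElement_eq_one_iff_mul_comm.1 ?_⟩⟩ hna
        rw [← mem_bot, ← h, _root_.commutator_def]
        exact commutator_mem_commutator (mem_top a) (mem_top b)
      · exact h
    exact MonoidHom.mem_ker.1 (Abelianization.commutator_subset_ker _ (htop ▸ mem_top x))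
  rw [MonoidHom.transfer_eq_prod_quotient_orbitRel_zpowers_quot] at htriv
  rw [Finset.prod_congr rfl (fun q _ => hval q), Finset.prod_ite, Finset.prod_const, Finset.prod_const_one,
    mul_one] at htriv
  have hcount : (Finset.univ.filter fun q : Ω => q ∈ Set.range f).card = D.index := by
    rw [← Fintype.card_subtype, ← Nat.card_eq_fintype_card, Subgroup.index_eq_card]
    exact (Nat.card_congr (Equiv.ofInjective f hfinj)).symm
  rw [hcount] at htriv
  have h1 := congrArg Multiplicative.toAdd htriv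
  rw [toAdd_pow, toAdd_ofAdd, toAdd_one, nsmul_eq_mul, mul_one, ZMod.natCast_eq_zero_iff] at h1
  exact hDi h1

end Main

end Cfsg.Lib.Walter3.Field.SmallR
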