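import Cfsg.Agent.Lib.Walter3.Field.Section
import Cfsg.Agent.Lib.Walter3.Field.SmallR
import Cfsg.Agent.Lib.Order175560.Unique
import Cfsg.Agent.S0251
import Cfsg.Agent.S3188
import Cfsg.Agent.Lib.Walter3.ThreeTools

/-!
# The small fixed fields `q₁ = 3` and `q₁ = 5`

For `q₁ = 5` the section is `J₁` and for `q₁ = 3` it has order `168` or `1512`; then `r = 7, 11, 19`
contradicts `SmallR`, and only `q = 27` is left.
-/

set_option autoImplicit false
set_option linter.unusedSectionVars false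
set_option linter.style.haveILetI false

namespace Cfsg.Lib.Walter3.Field

open Subgroup Cfsg
open scoped MatrixGroups commutatorElement

universe u

/-- In a simple group of order `175560` an odd prime divides `|N(P)|` and not `|C(P)|`, for `|P| = r`. -/
theorem j1_candidates : ∀ r ∈ [7, 11, 19], ∀ t ∈ Order175560.cands 175560 r, Nat.Coprime t.c 30 →
    (3 ∣ 175560 / t.s ∧ ¬ 3 ∣ r * t.c) ∨ (5 ∣ 175560 / t.s ∧ ¬ 5 ∣ r * t.c) := by
  decide +kernel

set_option synthInstance.maxSize 512 in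
theorem sq_one_of_comm_A4 : ∀ a b : alternatingGroup (Fin 4), a * a = 1 → a ≠ 1 → a * b = b * a → b * b = 1 := by
  decide

theorem sq_one_comm_A4 : ∀ a b : alternatingGroup (Fin 4), a * a = 1 → b * b = 1 → a * b = b * a := by
  decide

/-- An involution centralizing a Sylow two-subgroup lies in it. -/
theorem mem_of_sq_one_of_comm {G : Type u} [Group G] [Finite G] (S : Sylow 2 G) {v : G} (h2 : v * v = 1)
    (hc : ∀ s ∈ (S : Subgroup G), v * s = s * v) : v ∈ (S : Subgroup G) := by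
  haveI : Fact (Nat.Prime 2) := ⟨Nat.prime_two⟩
  obtain ⟨i, -, hi⟩ := (Nat.dvd_prime_pow Nat.prime_two).1
    (orderOf_dvd_of_pow_eq_one (show v ^ 2 ^ 1 = 1 by rw [pow_one, pow_two, h2]))
  have hz : IsPGroup 2 (zpowers v) := IsPGroup.of_card (n := i) (by rw [Nat.card_zpowers, hi])
  refine ((hz.inf_normalizer_sylow S).le (show v ∈ zpowers v ⊓ _ from ⟨mem_zpowers v,
    mem_normalizer_fintype fun s hs => ?_⟩)).2
  rw [hc s hs, mul_inv_cancel_right]
  exact hs

namespace Cfg

variable {G : Type u} [Group G] [Finite G] {F : Type} [Field F] [Fintype F] (c : Cfg G F)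
include c

/-- With a prime fixed field the field part is generated by `y`. -/
theorem f_eq_of_prime {y : fieldPart c.S} (hQ : (c.fixCard y).Prime) : c.f = orderOf y := by
  haveI := Fact.mk hQ
  haveI : CharP (c.fixField y) (c.fixCard y) := charP_of_card_eq_prime (c.card_fixField' y)
  have htop : zpowers y = ⊤ := eq_top_iff.2 fun z _ => c.mem_zpowers_of_fix fun a ha => by
    obtain ⟨k, hk⟩ := (ZMod.ringEquiv (c.fixField y) (c.card_fixField' y)).surjective ⟨a, ha⟩
    have hk' : (k.val : c.fixField y) = ⟨a, ha⟩ := by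
      rw [← hk, ← map_natCast (ZMod.ringEquiv (c.fixField y) (c.card_fixField' y)), ZMod.natCast_zmod_val]
    have he : (k.val : F) = a := by
      rw [← map_natCast (c.fixField y).subtype k.val, hk']; rfl
    rw [← he, map_natCast]
  rw [f, ← Nat.card_zpowers, htop, card_top]

/-- The involutions of the section are conjugate. -/
theorem exists_conj_tX {y : fieldPart c.S} {v : c.Xy y} (h2 : v * v = 1) (h1 : v ≠ 1) :
    ∃ g : c.Xy y, g * c.tX y * g⁻¹ = v := by
  haveI : Fact (Nat.Prime 2) := ⟨Nat.prime_two⟩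
  have hz : IsPGroup 2 (zpowers v) := IsPGroup.of_card (n := 1) (by
    rw [Nat.card_zpowers, pow_one]
    exact orderOf_eq_prime (by rw [pow_two]; exact h2) h1)
  obtain ⟨Q, hQ⟩ := hz.exists_le_sylow
  obtain ⟨k, hk⟩ := MulAction.exists_smul_eq (c.Xy y) Q (c.SX y)
  have hmem : k * v * k⁻¹ ∈ (c.SX y : Subgroup (c.Xy y)) := by
    rw [← hk, Sylow.coe_subgroup_smul]
    exact Subgroup.smul_mem_pointwise_smul v (MulAut.conj k) _ (hQ (mem_zpowers v))
  obtain ⟨n, -, -, e⟩ := c.transAt_SX y (c.tX y) _ (c.pt_tX y) ⟨hmem, fun e => h1 (conj_eq_one_iff.1 e)⟩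
  refine ⟨k⁻¹ * n, ?_⟩
  calc k⁻¹ * n * c.tX y * (k⁻¹ * n)⁻¹ = k⁻¹ * (n * c.tX y * n⁻¹) * k := by group
    _ = v := by rw [e]; group

theorem card_Cg_inv {y : fieldPart c.S} {v : c.Xy y} (h2 : v * v = 1) (h1 : v ≠ 1) :
    Nat.card (Cg v) = Nat.card (Cg (c.tX y)) := by
  obtain ⟨g, rfl⟩ := c.exists_conj_tX h2 h1
  rw [← cj_Cg, card_cj]

/-- `|C(y) : C(t) ∩ C(y)|` is the index of the involution centralizer in the section. -/
theorem relIndex_eq (y : fieldPart c.S) :
    (centralizer ({c.t} : Set G)).relIndex (c.Cy y) = (Cg (c.tX y)).index := by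
  have h1 := ((centralizer ({c.t} : Set G)).subgroupOf (c.Cy y)).card_mul_index
  rw [← Subgroup.inf_subgroupOf_left, Nat.card_congr (subgroupOfEquivOfLe inf_le_left).toEquiv,
    c.card_Cty, ← c.card_Cg_tX, c.card_Cy, ← (Cg (c.tX y)).card_mul_index] at h1
  have h2 : (centralizer ({c.t} : Set G)).relIndex (c.Cy y) =
      ((c.Cy y ⊓ centralizer ({c.t} : Set G)).subgroupOf (c.Cy y)).index := by
    rw [Subgroup.inf_subgroupOf_left]; rfl
  rw [h2]
  refine Nat.eq_of_mul_eq_mul_left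
    (Nat.mul_pos (Nat.card_pos (α := Cg (c.tX y))) (orderOf_pos y)) ?_
  rw [h1]
  ring

/-- The configuration feeding `SmallR`. -/
theorem false_of_section {y : fieldPart c.S} {r : ℕ} [Fact r.Prime] (hyr : orderOf y = r)
    (hr : r = 7 ∨ r = 11 ∨ r = 19) (hr2 : ¬ r ^ 2 ∣ Nat.card (c.Xy y))
    {P : Subgroup (c.Xy y)} (hP : Nat.card P = r) {s : ℕ} [Fact s.Prime] (hs2 : s ≠ 2) (hsr : s ≠ r)
    (hsN : s ∣ Nat.card ↥(normalizer (P : Set (c.Xy y))))
    (hsC : ¬ s ∣ Nat.card ↥(centralizer (P : Set (c.Xy y)))) : False := by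
  classical
  haveI := c.hyp.simple
  have hr0 : 0 < r := (Fact.out : r.Prime).pos
  have hyo : orderOf (y : G) = r := (Subgroup.orderOf_coe y).trans hyr
  -- generators
  haveI : IsCyclic P := isCyclic_of_prime_card hP
  obtain ⟨ab, hab⟩ := IsCyclic.exists_generator (α := P)
  obtain ⟨a, ha⟩ := QuotientGroup.mk'_surjective (c.Zy y) (ab : c.Xy y)
  obtain ⟨σb, hσb⟩ := exists_prime_orderOf_dvd_card' s hsN
  have hσnc : (σb : c.Xy y) ∉ centralizer (P : Set (c.Xy y)) := fun h => hsC (by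
    rw [← hσb, ← Subgroup.orderOf_coe σb]
    exact Subgroup.orderOf_dvd_natCard _ h)
  obtain ⟨σ0, hσ0⟩ := QuotientGroup.mk'_surjective (c.Zy y) (σb : c.Xy y)
  set σ : c.Cy y := σ0 ^ r with hσdef
  have hZ : ∀ z ∈ c.Zy y, z ^ r = 1 := fun z hz => by
    rw [← orderOf_dvd_iff_pow_eq_one, ← hyr, ← c.card_Zy y]
    exact Subgroup.orderOf_dvd_natCard _ hz
  have hσs : (σ : G) ^ s = 1 := by
    have h1 : σ0 ^ s ∈ c.Zy y := (QuotientGroup.eq_one_iff _).1 (by
      rw [← QuotientGroup.mk'_apply, map_pow, hσ0, ← Subgroup.coe_pow, ← hσb, pow_orderOf_eq_one]; rfl)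
    have h2 : σ ^ s = 1 := by rw [hσdef, ← pow_mul, mul_comm, pow_mul, hZ _ h1]
    simpa using congrArg Subtype.val h2
  have hσnc' : c.πy y σ ∉ centralizer (P : Set (c.Xy y)) := fun h => hσnc <| by
    obtain ⟨m, hm⟩ := exists_pow_eq_self_of_coprime (x := (σb : c.Xy y)) (n := r) (by
      rw [Subgroup.orderOf_coe, hσb]
      exact (Nat.coprime_primes Fact.out Fact.out).2 (Ne.symm hsr))
    rw [← hm]
    refine pow_mem ?_ m
    rwa [hσdef, map_pow, hσ0] at h
  have hσN : c.πy y σ ∈ normalizer (P : Set (c.Xy y)) := by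
    rw [hσdef, map_pow, hσ0]; exact pow_mem σb.2 _
  obtain ⟨kz, hk⟩ : ∃ k : ℕ, c.πy y σ * ab * (c.πy y σ)⁻¹ = (ab : c.Xy y) ^ k := by
    have hmem := (mem_normalizer_iff.1 hσN _).1 ab.2
    obtain ⟨k, hk⟩ := (Submonoid.mem_powers_iff _ _).1 (mem_powers_iff_mem_zpowers.2 (hab ⟨_, hmem⟩))
    exact ⟨k, (congrArg Subtype.val hk).symm⟩
  have habo : orderOf (ab : c.Xy y) = r := by
    rw [Subgroup.orderOf_coe, orderOf_eq_card_of_forall_mem_zpowers hab, hP]
  have hk1 : ¬ kz ≡ 1 [MOD r] := fun h => hσnc' (mem_centralizer_iff.2 fun v hv => by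
    have he : c.πy y σ * ab * (c.πy y σ)⁻¹ = ab := by
      rw [hk, ← pow_one (ab : c.Xy y), ← pow_mul, one_mul, pow_eq_pow_iff_modEq, habo]; exact h
    obtain ⟨i, hi⟩ := mem_zpowers_iff.1 (hab ⟨v, hv⟩)
    have hv' : (ab : c.Xy y) ^ i = v := congrArg Subtype.val hi
    have hc : Commute (c.πy y σ) (ab : c.Xy y) := mul_inv_eq_iff_eq_mul.1 he
    rw [← hv']
    exact (hc.zpow_right i).eq.symm)
  -- lift to `C(y)`
  obtain ⟨i, hi⟩ : ∃ i : ℕ, (σ : G) * a * (σ : G)⁻¹ = (a : G) ^ kz * (y : G) ^ i := by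
    have h1 : (a ^ kz)⁻¹ * (σ * a * σ⁻¹) ∈ c.Zy y := (QuotientGroup.eq_one_iff _).1 (by
      rw [← QuotientGroup.mk'_apply, map_mul, map_inv, map_pow, map_mul, map_mul, map_inv, ha, hk,
        inv_mul_cancel])
    obtain ⟨i, hi⟩ := (Submonoid.mem_powers_iff _ _).1 (mem_powers_iff_mem_zpowers.2 (mem_subgroupOf.1 h1))
    refine ⟨i, ?_⟩
    rw [hi]
    simp
  have hay : Commute (a : G) (y : G) := mem_centralizer_singleton_iff.1 a.2
  have hσy : Commute (σ : G) (y : G) := mem_centralizer_singleton_iff.1 σ.2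
  have har : (a : G) ^ r = 1 := by
    have h1 : a ^ r ∈ c.Zy y := (QuotientGroup.eq_one_iff _).1 (by
      rw [← QuotientGroup.mk'_apply, map_pow, ha, ← habo, pow_orderOf_eq_one])
    obtain ⟨j, hj⟩ := mem_zpowers_iff.1 (mem_subgroupOf.1 h1)
    rw [Subgroup.coe_pow] at hj
    have e1 : (σ : G) * (a : G) ^ r * (σ : G)⁻¹ = (a : G) ^ r := by
      rw [← hj, (hσy.zpow_right j).eq, mul_inv_cancel_right]
    rw [← conj_pow, hi, (hay.pow_pow _ _).mul_pow, ← pow_mul (y : G), mul_comm i r, pow_mul (y : G),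
      ← hyo, pow_orderOf_eq_one, one_pow, mul_one, hyo, ← pow_mul, mul_comm, pow_mul] at e1
    by_contra hne
    have ho : orderOf ((a : G) ^ r) = r := orderOf_eq_prime (by
      rw [← hj, ← zpow_natCast, ← _root_.zpow_mul, mul_comm, _root_.zpow_mul, zpow_natCast, ← hyo,
        pow_orderOf_eq_one, _root_.one_zpow]) hne
    have e2 : ((a : G) ^ r) ^ kz = ((a : G) ^ r) ^ 1 := by rw [pow_one]; exact e1
    rw [pow_eq_pow_iff_modEq, ho] at e2
    exact hk1 e2
  have hkz : (kz : ZMod r) - 1 ≠ 0 := fun h => hk1 (by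
    rw [← ZMod.natCast_eq_natCast_iff, Nat.cast_one]; exact sub_eq_zero.1 h)
  set j := ((i : ZMod r) * ((kz : ZMod r) - 1)⁻¹).val
  have hj : (i + j) ≡ j * kz [MOD r] := by
    rw [← ZMod.natCast_eq_natCast_iff, Nat.cast_add, Nat.cast_mul, ZMod.natCast_zmod_val]
    field_simp
    ring
  set w : G := (a : G) * (y : G) ^ j
  have hw : w ^ r = 1 := by
    rw [(hay.pow_right j).mul_pow, har, one_mul, ← pow_mul, mul_comm, pow_mul, ← hyo, pow_orderOf_eq_one,
      one_pow]
  have hσw : (σ : G) * w * (σ : G)⁻¹ = w ^ kz := by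
    rw [(hay.pow_right j).mul_pow, ← pow_mul]
    calc (σ : G) * ((a : G) * (y : G) ^ j) * (σ : G)⁻¹
        = (σ : G) * a * (σ : G)⁻¹ * ((σ : G) * (y : G) ^ j * (σ : G)⁻¹) := by group
      _ = (a : G) ^ kz * (y : G) ^ (i + j) := by
          rw [hi, (hσy.pow_right j).eq, mul_inv_cancel_right, mul_assoc, pow_add]
      _ = _ := by rw [show (y : G) ^ (i + j) = (y : G) ^ (j * kz) from pow_eq_pow_iff_modEq.2 (hyo ▸ hj)]
  have hwC : w ∈ c.Cy y := mul_mem a.2 (pow_mem (mem_centralizer_singleton_iff.2 rfl) j)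
  have hπw : c.πy y ⟨w, hwC⟩ = ab := by
    rw [← ha, ← mul_inv_eq_one, ← map_inv, ← map_mul]
    refine (QuotientGroup.eq_one_iff _).2 (mem_subgroupOf.2 ?_)
    show (a : G) * (y : G) ^ j * (a : G)⁻¹ ∈ _
    rw [(hay.pow_right j).eq, mul_inv_cancel_right]
    exact pow_mem (mem_zpowers _) j
  have hwy : w ∉ zpowers (y : G) := fun h => by
    have h1 : c.πy y ⟨w, hwC⟩ = 1 := (QuotientGroup.eq_one_iff _).2 (mem_subgroupOf.2 h)
    rw [hπw] at h1
    rw [h1, orderOf_one] at habo
    exact (Fact.out : r.Prime).ne_one habo.symm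
  refine SmallR.false_of_small (r := r) (s := s) (x := (y : G)) (w := w) (σ := (σ : G)) (k := kz) hyo
    ?_ ?_ (show Commute (y : G) w from ((mem_centralizer_singleton_iff.1 hwC : Commute _ _)).symm) hwy hw hr
    hsr hσs hσy hσw hk1 ?_ c.hyp.nonab ?_ hs2
  · intro g k hg
    have hk' : (y : G) ^ k = ((y ^ k : fieldPart c.S) : G) := rfl
    rw [hg, hk']
    exact congrArg Subtype.val (c.eq_of_conj (g := g) (y := y) (z := y ^ k) (hg.trans hk'))
  · intro Q hQ hQC
    obtain ⟨n, hn⟩ := IsPGroup.iff_card.1 hQ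
    have h1 := card_dvd_of_le hQC
    rw [hn, show Nat.card (centralizer ({(y : G)} : Set G)) = Nat.card (c.Xy y) * r from hyr ▸ c.card_Cy y] at h1
    rw [hn]
    refine Nat.pow_le_pow_right hr0 ?_
    by_contra hlt
    have h3 : r ^ 2 * r ∣ Nat.card (c.Xy y) * r := by
      rw [← pow_succ]; exact (pow_dvd_pow r (by omega)).trans h1
    exact hr2 (Nat.dvd_of_mul_dvd_mul_right hr0 h3)
  · intro hd
    obtain ⟨τ, hτ⟩ := exists_prime_orderOf_dvd_card' s hd
    set τ' : c.Cy y := ⟨τ, τ.2.1⟩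
    have hτ' : orderOf τ' = s := by rw [Subgroup.orderOf_mk, Subgroup.orderOf_coe, hτ]
    have hcomm : Commute (c.πy y τ') (ab : c.Xy y) := by
      rw [← hπw]
      exact (show Commute τ' ⟨w, hwC⟩ from Subtype.ext (mem_centralizer_singleton_iff.1 τ.2.2)).map _
    have hmem : c.πy y τ' ∈ centralizer (P : Set (c.Xy y)) := mem_centralizer_iff.2 fun v hv => by
      obtain ⟨l, hl⟩ := mem_zpowers_iff.1 (hab ⟨v, hv⟩)
      rw [← show (ab : c.Xy y) ^ l = v from congrArg Subtype.val hl]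
      exact (hcomm.zpow_right l).eq.symm
    refine hsC ?_
    suffices h : orderOf (c.πy y τ') = s from h ▸ Subgroup.orderOf_dvd_natCard _ hmem
    rcases (Nat.dvd_prime Fact.out).1 (hτ' ▸ orderOf_map_dvd (c.πy y) τ') with h | h
    · exfalso
      have h1 := Subgroup.orderOf_dvd_natCard _ ((QuotientGroup.eq_one_iff τ').1 (orderOf_eq_one_iff.1 h))
      rw [hτ', c.card_Zy, hyr] at h1
      exact hsr ((Nat.prime_dvd_prime_iff_eq Fact.out Fact.out).1 h1)
    · exact h
  · intro T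
    haveI := comm_of_sq (S := (c.S : Subgroup G)) c.hyp.sq
    exact AbTwo.abelian_of_one c.S inferInstance T

/-- `q₁ = 5` is impossible. -/
theorem false_of_five {y : fieldPart c.S} (hy : (orderOf y).Prime) (hQ : c.fixCard y = 5) : False := by
  classical
  haveI : Fact (Nat.Prime 2) := ⟨Nat.prime_two⟩
  haveI := Fact.mk hy
  set r := orderOf y with hr
  have hf : c.f = r := c.f_eq_of_prime (by rw [hQ]; norm_num)
  rcases c.card_Cy_cases hy (by omega) with ⟨m, -, hm, -⟩ | ⟨-, hcard, N, hNn, hJ, hidx⟩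
  · have h3 : 3 ∣ 3 ^ (2 * m + 1) := dvd_pow_self 3 (Nat.succ_ne_zero _)
    rw [← hm, hQ] at h3
    norm_num at h3
  haveI := hNn
  have hN : N = ⊤ := index_eq_one.1 (by
    rw [hf] at hidx
    exact Nat.eq_of_mul_eq_mul_right hy.pos (hidx.trans (one_mul r).symm))
  subst hN
  haveI : IsSimpleGroup ↥(⊤ : Subgroup (c.Xy y)) := hJ.1
  haveI : IsSimpleGroup (c.Xy y) := MulEquiv.isSimpleGroup Subgroup.topEquiv.symm
  have hX : Nat.card (c.Xy y) = 175560 := card_top (G := c.Xy y) ▸ hJ.2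
  have hCg : Nat.card (Cg (c.tX y)) = 120 := by
    have h := c.card_Cg_tX y
    have h60 := c.two_mul_card_L1 y
    rw [hQ, show 5 * (5 ^ 2 - 1) = 2 * 60 by norm_num] at h60
    rw [← hr, hf, show Nat.card (c.L1 y) = 60 by omega] at h
    exact Nat.eq_of_mul_eq_mul_right hy.pos (h.trans (by ring))
  have hidx' : (Cg (c.tX y)).index = 1463 := by
    have h := (Cg (c.tX y)).card_mul_index
    rw [hCg, hX] at h
    omega
  have hdvd := c.dvd_relIndex hy
  rw [c.relIndex_eq, hidx', ← hr] at hdvd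
  have hr3 : r = 7 ∨ r = 11 ∨ r = 19 := by
    rw [show (1463 : ℕ) = 7 * (11 * 19) by norm_num] at hdvd
    rcases hy.dvd_mul.1 hdvd with h | h
    · exact Or.inl ((Nat.prime_dvd_prime_iff_eq hy (by norm_num)).1 h)
    rcases hy.dvd_mul.1 h with h | h
    · exact Or.inr (Or.inl ((Nat.prime_dvd_prime_iff_eq hy (by norm_num)).1 h))
    · exact Or.inr (Or.inr ((Nat.prime_dvd_prime_iff_eq hy (by norm_num)).1 h))
  have h1 : r ∣ Nat.card (c.Xy y) := by rw [hX]; rcases hr3 with e | e | e <;> rw [e] <;> norm_num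
  have h2 : ¬ r * r ∣ Nat.card (c.Xy y) := by rw [hX]; rcases hr3 with e | e | e <;> rw [e] <;> norm_num
  have hps : r ∈ Order175560.psOf (Nat.card (c.Xy y)) := by
    rw [hX]; rcases hr3 with e | e | e <;> rw [e] <;> decide
  obtain ⟨t, ht, htp, hfp, P, hPs, hPc⟩ :=
    Cfsg.Agent.S4274.exists_data (dvd_of_eq hX) hps (by rw [hX]; rcases hr3 with e | e | e <;> omega)
  have hPr := Order175560.sylow_card_eq h1 h2 P
  obtain ⟨f3, f5, -⟩ := Order175560.facts hX
  have hno : ∀ (p : ℕ) [Fact p.Prime] (Q : Sylow p (c.Xy y)), p ∣ Nat.card (c.Xy y) →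
      ¬ p * p ∣ Nat.card (c.Xy y) → p ∣ Nat.card ↥(centralizer ((P : Subgroup (c.Xy y)) : Set (c.Xy y))) →
      r ∣ Nat.card ↥(centralizer ((Q : Subgroup (c.Xy y)) : Set (c.Xy y))) := by
    intro p _ Q hp1 hp2 hd
    obtain ⟨v, hv⟩ := exists_prime_orderOf_dvd_card' p hd
    have hvo : orderOf (v : c.Xy y) = p := (Subgroup.orderOf_coe v).trans hv
    obtain ⟨Q', hQ'⟩ := (IsPGroup.of_card (n := 1) (by rw [Nat.card_zpowers, hvo, pow_one]) :
      IsPGroup p (zpowers (v : c.Xy y))).exists_le_sylow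
    have hQeq : zpowers (v : c.Xy y) = Q' := eq_of_le_of_card_ge hQ' (by
      rw [Nat.card_zpowers, hvo, Order175560.sylow_card_eq hp1 hp2 Q'])
    rw [Order175560.card_centralizer_sylow_eq Q Q', ← hPr]
    refine card_dvd_of_le fun x hx => mem_centralizer_iff.2 fun z hz => ?_
    rw [← hQeq] at hz
    obtain ⟨l, rfl⟩ := mem_zpowers_iff.1 hz
    exact (show Commute (v : c.Xy y) x from (mem_centralizer_iff.1 v.2 x hx).symm).zpow_left l
  have hCeq : Nat.card ↥(centralizer ((P : Subgroup (c.Xy y)) : Set (c.Xy y))) = r * t.c := hPc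
  have hrnd : ¬ r ∣ 30 ∧ ¬ r ∣ 15 ∧ ¬ r ∣ 120 := by rcases hr3 with e | e | e <;> rw [e] <;> norm_num
  have hc30 : Nat.Coprime t.c 30 := by
    have key : ∀ p ∈ [2, 3, 5], ¬ p ∣ t.c := by
      intro p hp hd
      simp only [List.mem_cons, List.not_mem_nil, or_false] at hp
      have hd' : p ∣ Nat.card ↥(centralizer ((P : Subgroup (c.Xy y)) : Set (c.Xy y))) := by
        rw [hCeq]; exact dvd_mul_of_dvd_right hd r
      rcases hp with rfl | rfl | rfl
      · obtain ⟨v, hv⟩ := exists_prime_orderOf_dvd_card' 2 hd'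
        have hvo : orderOf (v : c.Xy y) = 2 := (Subgroup.orderOf_coe v).trans hv
        have hle : (P : Subgroup (c.Xy y)) ≤ Cg (v : c.Xy y) := fun x hx =>
          mem_Cg.2 (mem_centralizer_iff.1 v.2 x hx)
        have h3 := card_dvd_of_le hle
        rw [hPr, c.card_Cg_inv (by rw [← pow_two, ← hvo, pow_orderOf_eq_one])
          (fun e => by rw [e, orderOf_one] at hvo; omega), hCg] at h3
        exact hrnd.2.2 h3
      · haveI : Fact (Nat.Prime 3) := ⟨Nat.prime_three⟩
        obtain ⟨Q⟩ : Nonempty (Sylow 3 (c.Xy y)) := inferInstance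
        have h3 := hno 3 Q (by rw [hX]; norm_num) (by rw [hX]; norm_num) hd'
        rw [(f3 Q).2.2] at h3
        exact hrnd.1 h3
      · haveI : Fact (Nat.Prime 5) := ⟨Nat.prime_five⟩
        obtain ⟨Q⟩ : Nonempty (Sylow 5 (c.Xy y)) := inferInstance
        have h3 := hno 5 Q (by rw [hX]; norm_num) (by rw [hX]; norm_num) hd'
        rcases (f5 Q).2.2 with e | e <;> rw [e] at h3
        · exact hrnd.1 h3
        · exact hrnd.2.1 h3
    rw [show (30 : ℕ) = 2 * (3 * 5) by norm_num]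
    exact Nat.Coprime.mul_right ((Nat.prime_two.coprime_iff_not_dvd).2 (key 2 (by simp))).symm
      (Nat.Coprime.mul_right ((Nat.prime_three.coprime_iff_not_dvd).2 (key 3 (by simp))).symm
        ((Nat.prime_five.coprime_iff_not_dvd).2 (key 5 (by simp))).symm)
  have hNcard : Nat.card ↥(normalizer ((P : Subgroup (c.Xy y)) : Set (c.Xy y))) = 175560 / t.s := by
    have h := Order175560.card_normalizer_sylow P
    rw [hX, hPs] at h
    rw [← h, Nat.mul_div_cancel_left _ (hPs ▸ Nat.card_pos)]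
  haveI : Fact (Nat.Prime 3) := ⟨Nat.prime_three⟩
  haveI : Fact (Nat.Prime 5) := ⟨Nat.prime_five⟩
  have hr2 : ¬ r ^ 2 ∣ Nat.card (c.Xy y) := by rwa [pow_two]
  rw [hX] at ht
  rcases j1_candidates r (by simpa using hr3) t ht hc30 with ⟨hN', hC'⟩ | ⟨hN', hC'⟩
  · exact c.false_of_section hr.symm hr3 hr2 hPr (s := 3) (by norm_num)
      (by rcases hr3 with e | e | e <;> omega) (hNcard ▸ hN') (hCeq ▸ hC')
  · exact c.false_of_section hr.symm hr3 hr2 hPr (s := 5) (by norm_num)
      (by rcases hr3 with e | e | e <;> omega) (hNcard ▸ hN') (hCeq ▸ hC')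

/-! ### `q₁ = 3` -/

section Three

variable {y : fieldPart c.S} (hy : (orderOf y).Prime) (hQ : c.fixCard y = 3)
include hy hQ

omit hy in
theorem card_Cg_three : Nat.card (Cg (c.tX y)) = 24 := by
  have h := c.card_Cg_tX y
  have h12 := c.two_mul_card_L1 y
  rw [hQ, show 3 * (3 ^ 2 - 1) = 2 * 12 by norm_num] at h12
  rw [c.f_eq_of_prime (by rw [hQ]; norm_num), show Nat.card (c.L1 y) = 12 by omega] at h
  exact Nat.eq_of_mul_eq_mul_right (orderOf_pos y) (h.trans (by ring))

omit hy in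
/-- `C(t) ∩ C(y)` normalizes `S` in the section. -/
theorem Cg_le_normalizer :
    Cg (c.tX y) ≤ normalizer ((c.SX y : Subgroup (c.Xy y)) : Set (c.Xy y)) := by
  obtain ⟨eL⟩ := c.exists_L1_iso y
  obtain ⟨eA⟩ := Cfsg.Agent.S0251.result (F := c.fixField y) (by rw [c.card_fixField', hQ])
  have hsq : ∀ a b : c.L1 y, a * a = 1 → b * b = 1 → a * b = b * a := fun a b ha hb => by
    refine (eL.trans eA).injective ?_
    rw [map_mul, map_mul]
    exact sq_one_comm_A4 _ _ (by rw [← map_mul, ha, map_one]) (by rw [← map_mul, hb, map_one])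
  have hS : ∀ s ∈ (c.S : Subgroup G), s ∈ c.L1 y ∨ c.t * s ∈ c.L1 y := by
    intro s hs
    obtain ⟨l, -, h | h⟩ := c.involution_cent (v := s) (c.hyp.comm hs c.t_mem) (c.hyp.sq s hs)
    · exact Or.inl (Subgroup.mem_inf.2 ⟨⟨l, h.symm⟩, c.S_le_Cy y hs⟩)
    · refine Or.inr (Subgroup.mem_inf.2 ⟨⟨l, ?_⟩, mul_mem (c.S_le_Cy y c.t_mem) (c.S_le_Cy y hs)⟩)
      rw [h, ← mul_assoc, c.t_sq, one_mul]
  have hL : ∀ l ∈ c.L1 y, ∀ s ∈ (c.S : Subgroup G), l * s * l⁻¹ ∈ (c.S : Subgroup G) := by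
    intro l hl
    have hlt : Commute l c.t := mem_centralizer_singleton_iff.1 (c.L_le_Ct hl.1)
    have key : ∀ v ∈ (c.S : Subgroup G), v ∈ c.L1 y → l * v * l⁻¹ ∈ (c.S : Subgroup G) := by
      intro v hv hvL
      set v' := l * v * l⁻¹ with hv'
      have hv'L : v' ∈ c.L1 y := mul_mem (mul_mem hl hvL) (inv_mem hl)
      have hv'2 : v' * v' = 1 := by
        rw [hv', show l * v * l⁻¹ * (l * v * l⁻¹) = l * (v * v) * l⁻¹ by group, c.hyp.sq v hv]; group
      have hv't : Commute v' c.t := mem_centralizer_singleton_iff.1 (c.L_le_Ct hv'L.1)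
      refine mem_of_sq_one_of_comm c.S hv'2 fun s hs => ?_
      rcases hS s hs with h | h
      · exact congrArg Subtype.val
          (hsq ⟨v', hv'L⟩ ⟨s, h⟩ (Subtype.ext hv'2) (Subtype.ext (c.hyp.sq s hs)))
      · have h1 : Commute v' (c.t * s) := congrArg Subtype.val
          (hsq ⟨v', hv'L⟩ ⟨_, h⟩ (Subtype.ext hv'2) (Subtype.ext (c.hyp.sq _ (mul_mem c.t_mem hs))))
        have := hv't.inv_right.mul_right h1
        rwa [inv_mul_cancel_left] at this
    intro s hs
    rcases hS s hs with h | h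
    · exact key s hs h
    · rw [show l * s * l⁻¹ = c.t * (l * (c.t * s) * l⁻¹) by
        rw [← mul_assoc l c.t s, hlt.eq, mul_assoc c.t l s, mul_assoc c.t (l * s), ← mul_assoc c.t c.t,
          c.t_sq, one_mul]]
      exact mul_mem c.t_mem (key _ (mul_mem c.t_mem hs) h)
  intro g hg
  rw [c.Cg_tX] at hg
  obtain ⟨g0, hg0, rfl⟩ := hg
  refine mem_normalizer_fintype fun v hv => ?_
  obtain ⟨s, hs, rfl⟩ := c.mem_SX.1 hv
  obtain ⟨l, hl, z, hz⟩ := c.exists_of_mem (congrArg Subtype.val (mem_Cg.1 hg0)) g0.2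
  refine c.mem_SX.2 ⟨g0 * s * g0⁻¹, ?_, by rw [map_mul, map_mul, map_inv]⟩
  show (g0 : G) * s * (g0 : G)⁻¹ ∈ (c.S : Subgroup G)
  have hzs : (z : G) * s * (z : G)⁻¹ = s := by rw [(c.y_comm_S z hs).eq, mul_inv_cancel_right]
  have h1 : l * (z : G) * s * (l * (z : G))⁻¹ ∈ (c.S : Subgroup G) := by
    rw [show l * (z : G) * s * (l * (z : G))⁻¹ = l * ((z : G) * s * (z : G)⁻¹) * l⁻¹ by group, hzs]
    exact hL l hl s hs
  rcases hz with e | e <;> rw [e]
  · exact h1
  · rw [show c.t * (l * (z : G)) * s * (c.t * (l * (z : G)))⁻¹ =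
      c.t * (l * (z : G) * s * (l * (z : G))⁻¹) * c.t⁻¹ by group]
    exact mul_mem (mul_mem c.t_mem h1) (inv_mem c.t_mem)

omit hy in
theorem card_normalizer_SX :
    Nat.card ↥(normalizer ((c.SX y : Subgroup (c.Xy y)) : Set (c.Xy y))) = 168 := by
  classical
  set S := c.SX y
  set N := normalizer ((S : Subgroup (c.Xy y)) : Set (c.Xy y))
  set C := Cg (c.tX y)
  have hCN : C ≤ N := c.Cg_le_normalizer hQ
  let f : N ⧸ C.subgroupOf N → {a : c.Xy y // Pt S a} := fun q => Quotient.liftOn' q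
    (fun n => ⟨n * c.tX y * (n : c.Xy y)⁻¹, (mem_normalizer_iff.1 n.2 _).1 (c.pt_tX y).1,
      fun e => (c.pt_tX y).2 (conj_eq_one_iff.1 e)⟩)
    (fun a b hab => Subtype.ext (by
      rw [QuotientGroup.leftRel_apply] at hab
      have h := mem_Cg.1 (mem_subgroupOf.1 hab)
      show (a : c.Xy y) * c.tX y * (a : c.Xy y)⁻¹ = b * c.tX y * (b : c.Xy y)⁻¹
      calc (a : c.Xy y) * c.tX y * (a : c.Xy y)⁻¹
          = a * (c.tX y * (((a⁻¹ * b : N)) : c.Xy y)) * (b : c.Xy y)⁻¹ := by simp; group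
        _ = a * ((((a⁻¹ * b : N)) : c.Xy y) * c.tX y) * (b : c.Xy y)⁻¹ := by rw [h]
        _ = _ := by simp; group))
  have hf : Function.Bijective f := by
    constructor
    · intro p q
      refine Quotient.inductionOn₂' p q fun a b h => Quotient.sound' ?_
      rw [QuotientGroup.leftRel_apply, mem_subgroupOf]
      have h' : (a : c.Xy y) * c.tX y * (a : c.Xy y)⁻¹ = b * c.tX y * (b : c.Xy y)⁻¹ :=
        congrArg Subtype.val h
      refine mem_Cg.2 ?_
      simp only [Subgroup.coe_mul, Subgroup.coe_inv]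
      calc (a : c.Xy y)⁻¹ * b * c.tX y = (a : c.Xy y)⁻¹ * (b * c.tX y * (b : c.Xy y)⁻¹) * b := by group
        _ = (a : c.Xy y)⁻¹ * (a * c.tX y * (a : c.Xy y)⁻¹) * b := by rw [h']
        _ = _ := by group
    · rintro ⟨a, ha⟩
      obtain ⟨n, -, hn, e⟩ := c.transAt_SX y (c.tX y) a (c.pt_tX y) ha
      exact ⟨QuotientGroup.mk ⟨n, hn⟩, Subtype.ext e⟩
  rw [← (C.subgroupOf N).card_mul_index, Nat.card_congr (subgroupOfEquivOfLe hCN).toEquiv,
    c.card_Cg_three hQ, Subgroup.index_eq_card, Nat.card_congr (Equiv.ofBijective f hf),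
    card_pts (c.card_SX y)]

omit hy in
/-- The section has order `168` or `1512`. -/
theorem card_Xy_three' :
    Nat.card (c.Xy y) = 168 ∨ (Nat.card (c.Xy y) = 1512 ∧ ∃ x : c.Xy y, orderOf x = 9) := by
  classical
  haveI : Fact (Nat.Prime 2) := ⟨Nat.prime_two⟩
  set X := c.Xy y
  set S := c.SX y
  have hS := comm_of_sq (c.SX_sq y)
  have hsolv : ∀ v : X, orderOf v = 2 → Group.IsSolvable ↥(centralizer ({v} : Set X)) := by
    intro v hv
    have hcard : Nat.card (Cg v) = 24 := by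
      rw [c.card_Cg_inv (by rw [← pow_two, ← hv, pow_orderOf_eq_one])
        (fun e => by rw [e, orderOf_one] at hv; omega), c.card_Cg_three hQ]
    exact Cfsg.Lib.Walter3.solvable_of_card_24 hcard
  rcases Cfsg.Agent.S3188.result S hS hsolv with hsol | ⟨F', i, j, hq, N0, hN0, ⟨e0⟩, -⟩
  · left
    haveI := hsol
    have hnormal : (S : Subgroup X).Normal := Cfsg.Lib.Walter3.normal_sylow_of_solvable S (c.card_SX y)
      (c.SX_sq y) (c.transAt_SX y) (c.oddCore_Xy y) hsol
    rw [← card_top (G := X), ← normalizer_eq_top (H := (S : Subgroup X))]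
    exact c.card_normalizer_SX hQ
  · right
    exact Cfsg.Lib.Walter3.card_of_psl_socle S (c.card_SX y) (c.SX_sq y) (c.transAt_SX y)
      (c.oddCore_Xy y) (c.pt_tX y) (c.card_Cg_three hQ) (c.Cg_le_normalizer hQ) hq hN0 e0

omit hy in
theorem card_Xy_three : Nat.card (c.Xy y) = 168 ∨ Nat.card (c.Xy y) = 1512 :=
  (c.card_Xy_three' hQ).imp id And.left

omit hy in
theorem exists_orderOf_nine_Xy (h : Nat.card (c.Cy y) = 3 * 1512) (h3 : orderOf y = 3) :
    ∃ x : c.Xy y, orderOf x = 9 := by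
  refine ((c.card_Xy_three' hQ).resolve_left fun e => ?_).2
  rw [c.card_Cy, e, h3] at h
  norm_num at h

omit hy hQ in
theorem mem_L1_or {s : G} (hs : s ∈ (c.S : Subgroup G)) : s ∈ c.L1 y ∨ c.t * s ∈ c.L1 y := by
  obtain ⟨l, -, h | h⟩ := c.involution_cent (v := s) (c.hyp.comm hs c.t_mem) (c.hyp.sq s hs)
  · exact Or.inl (Subgroup.mem_inf.2 ⟨⟨l, h.symm⟩, c.S_le_Cy y hs⟩)
  · refine Or.inr (Subgroup.mem_inf.2 ⟨⟨l, ?_⟩, mul_mem (c.S_le_Cy y c.t_mem) (c.S_le_Cy y hs)⟩)
    rw [h, ← mul_assoc, c.t_sq, one_mul]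

omit hy in
/-- The Sylow subgroup of the section is self-centralizing. -/
theorem cent_SX {g : c.Xy y} (hg : ∀ v ∈ (c.SX y : Subgroup (c.Xy y)), g * v = v * g) :
    g ∈ (c.SX y : Subgroup (c.Xy y)) := by
  have hgt : g ∈ Cg (c.tX y) := mem_Cg.2 (hg _ (c.pt_tX y).1)
  rw [c.Cg_tX] at hgt
  obtain ⟨g0, hg0, rfl⟩ := hgt
  obtain ⟨l, hl, z, hz⟩ := c.exists_of_mem (congrArg Subtype.val (mem_Cg.1 hg0)) g0.2
  obtain ⟨eL⟩ := c.exists_L1_iso y
  obtain ⟨eA⟩ := Cfsg.Agent.S0251.result (F := c.fixField y) (by rw [c.card_fixField', hQ])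
  set e := eL.trans eA
  have hlt : Commute l c.t := mem_centralizer_singleton_iff.1 (c.L_le_Ct hl.1)
  have hzi : Commute (z : G) c.i := c.y_comm_S z c.i_mem
  -- `l` commutes with `i`
  set i' : c.Cy y := ⟨c.i, c.S_le_Cy y c.i_mem⟩
  have h1 : (g0 * i' * g0⁻¹ * i'⁻¹ : c.Cy y) ∈ c.Zy y := (QuotientGroup.eq_one_iff _).1 (by
    rw [← QuotientGroup.mk'_apply, map_mul, map_mul, map_mul, map_inv, map_inv,
      hg _ (c.mem_SX.2 ⟨i', c.i_mem, rfl⟩), mul_inv_cancel_right, mul_inv_cancel])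
  have hgi : (g0 : G) * c.i * (g0 : G)⁻¹ = c.i := by
    have hS : (g0 : G) * c.i * (g0 : G)⁻¹ ∈ (c.S : Subgroup G) := by
      obtain ⟨w, hw, e1⟩ := c.mem_SX.1 ((mem_normalizer_iff.1
        (c.Cg_le_normalizer hQ (c.Cg_tX y ▸ mem_map_of_mem _ hg0)) _).1 (c.mem_SX.2 ⟨i', c.i_mem, rfl⟩))
      rw [← map_inv, ← map_mul, ← map_mul] at e1
      -- two elements of `S` agreeing modulo `⟨y⟩`
      have h2 : w⁻¹ * (g0 * i' * g0⁻¹) ∈ c.Zy y := (QuotientGroup.eq (s := c.Zy y)).1 e1
      have hcw : (w : G) = c.i := by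
        have h3 : (w⁻¹ * i' : c.Cy y) ∈ c.Zy y := by
          rw [show w⁻¹ * i' = w⁻¹ * (g0 * i' * g0⁻¹) * ((g0 * i' * g0⁻¹)⁻¹ *
            (g0 * i' * g0⁻¹ * i'⁻¹)⁻¹ * ((g0 * i' * g0⁻¹)⁻¹)⁻¹) by group]
          exact mul_mem h2 ((c.normal_Zy y).conj_mem _ (inv_mem h1) _)
        have h4 := c.S_inj (s := w⁻¹ * i') (mul_mem (inv_mem hw) c.i_mem)
          ((QuotientGroup.eq_one_iff _).2 h3)
        exact congrArg Subtype.val (inv_mul_eq_one.1 h4)
      obtain ⟨j, hj⟩ := mem_zpowers_iff.1 (mem_subgroupOf.1 h2)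
      -- the odd part of an involution
      set v := (g0 : G) * c.i * (g0 : G)⁻¹
      have hv : c.i⁻¹ * v = (y : G) ^ j := by rw [hj, ← hcw]; rfl
      have hci : Commute c.i ((y : G) ^ j) := ((c.y_comm_i y).zpow_left j).symm
      have hvv : v * v = 1 := by
        simp only [v]
        rw [show (g0 : G) * c.i * (g0 : G)⁻¹ * ((g0 : G) * c.i * (g0 : G)⁻¹) =
          (g0 : G) * (c.i * c.i) * (g0 : G)⁻¹ by group, c.i_sq]
        group
      rw [show v = c.i * (y : G) ^ j by rw [← hv, mul_inv_cancel_left]] at hvv ⊢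
      have h5 : ((y ^ j : fieldPart c.S) * (y ^ j : fieldPart c.S)) = 1 := Subtype.ext (by
        rw [show c.i * (y : G) ^ j * (c.i * (y : G) ^ j) = c.i * c.i * ((y : G) ^ j * (y : G) ^ j) by
          rw [mul_assoc, ← mul_assoc ((y : G) ^ j) c.i, ← hci.eq, mul_assoc c.i, ← mul_assoc], c.i_sq,
          one_mul] at hvv
        exact hvv)
      rw [show (y : G) ^ j = ((y ^ j : fieldPart c.S) : G) from rfl, c.eq_one_of_sq _ h5]
      simpa using c.i_mem
    have h4 := c.S_inj (s := g0 * i' * g0⁻¹ * i'⁻¹) (mul_mem hS (inv_mem c.i_mem))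
      ((QuotientGroup.eq_one_iff _).2 h1)
    exact mul_inv_eq_one.1 (congrArg Subtype.val h4)
  have hli : Commute l c.i := by
    have hlz : Commute (l * (z : G)) c.i := by
      have hg' : Commute (g0 : G) c.i := mul_inv_eq_iff_eq_mul.1 hgi
      rcases hz with r | r
      · exact r ▸ hg'
      · have := (show Commute c.t c.i from c.i_comm_t.symm).inv_left.mul_left (r ▸ hg')
        rwa [inv_mul_cancel_left] at this
    have := hlz.mul_left hzi.inv_left
    rwa [mul_inv_cancel_right] at this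
  have hl2 : l * l = 1 := by
    have h2 : (⟨l, hl⟩ : c.L1 y) * ⟨l, hl⟩ = 1 := e.injective (by
      rw [map_mul, map_one]
      refine sq_one_of_comm_A4 (e ⟨c.i, c.i_mem_L1 y⟩) (e ⟨l, hl⟩) ?_ ?_ ?_
      · rw [← map_mul, show (⟨c.i, c.i_mem_L1 y⟩ : c.L1 y) * ⟨c.i, c.i_mem_L1 y⟩ = 1 from Subtype.ext c.i_sq,
          map_one]
      · rw [Ne, MulEquiv.map_eq_one_iff]
        exact fun h => c.i_ne (congrArg Subtype.val h)
      · rw [← map_mul, ← map_mul]
        exact congrArg e (Subtype.ext hli.eq.symm))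
    exact congrArg Subtype.val h2
  have hlS : l ∈ (c.S : Subgroup G) := by
    refine mem_of_sq_one_of_comm c.S hl2 fun v hv => ?_
    have hcm : ∀ a b : c.L1 y, a * a = 1 → b * b = 1 → a * b = b * a := fun a b ha hb => e.injective (by
      rw [map_mul, map_mul]
      exact sq_one_comm_A4 _ _ (by rw [← map_mul, ha, map_one]) (by rw [← map_mul, hb, map_one]))
    rcases c.mem_L1_or hv with h | h
    · exact congrArg Subtype.val (hcm ⟨l, hl⟩ ⟨v, h⟩ (Subtype.ext hl2) (Subtype.ext (c.hyp.sq v hv)))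
    · have h1 : Commute l (c.t * v) := congrArg Subtype.val
        (hcm ⟨l, hl⟩ ⟨_, h⟩ (Subtype.ext hl2) (Subtype.ext (c.hyp.sq _ (mul_mem c.t_mem hv))))
      have := hlt.inv_right.mul_right h1
      rwa [inv_mul_cancel_left] at this
  have htop : (z : fieldPart c.S) ∈ zpowers y := by
    have hf := c.f_eq_of_prime (y := y) (by rw [hQ]; norm_num)
    rw [(zpowers y).eq_top_of_card_eq (by rw [Nat.card_zpowers, ← hf]; rfl)]
    exact mem_top _
  obtain ⟨j, hj⟩ := mem_zpowers_iff.1 htop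
  have hzZ : (⟨z, c.field_le_Cy y z.2⟩ : c.Cy y) ∈ c.Zy y :=
    mem_subgroupOf.2 (mem_zpowers_iff.2 ⟨j, by rw [← hj]; rfl⟩)
  have hπz : c.πy y ⟨z, c.field_le_Cy y z.2⟩ = 1 := (QuotientGroup.eq_one_iff _).2 hzZ
  set l' : c.Cy y := ⟨l, c.S_le_Cy y hlS⟩
  rcases hz with r | r
  · rw [show g0 = l' * ⟨z, c.field_le_Cy y z.2⟩ from Subtype.ext r, map_mul, hπz, mul_one]
    exact c.mem_SX.2 ⟨l', hlS, rfl⟩
  · rw [show g0 = ⟨c.t, c.S_le_Cy y c.t_mem⟩ * (l' * ⟨z, c.field_le_Cy y z.2⟩) from Subtype.ext r,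
      map_mul, map_mul, hπz, mul_one]
    exact mul_mem (c.pt_tX y).1 (c.mem_SX.2 ⟨l', hlS, rfl⟩)

/-- `q₁ = 3` forces `q = 27`. -/
theorem three_cases :
    orderOf y = 3 ∧ Fintype.card F = 27 ∧ c.f = 3 ∧ Nat.card (c.Cy y) = 3 * 1512 := by
  classical
  haveI : Fact (Nat.Prime 2) := ⟨Nat.prime_two⟩
  haveI : Fact (Nat.Prime 3) := ⟨Nat.prime_three⟩
  haveI := Fact.mk hy
  have hdvd := c.dvd_relIndex hy
  rw [c.relIndex_eq] at hdvd
  have hC := c.card_Cg_three hQ
  have hidx := (Cg (c.tX y)).card_mul_index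
  rw [hC] at hidx
  suffices h : orderOf y = 3 by
    refine ⟨h, by rw [c.card_eq_fixCard_pow y, hQ, h]; norm_num,
      (c.f_eq_of_prime (by rw [hQ]; norm_num)).trans h, ?_⟩
    rw [c.card_Cy, h]
    rcases c.card_Xy_three hQ with e | e
    · exfalso
      rw [e] at hidx
      rw [show (Cg (c.tX y)).index = 7 by omega, h] at hdvd
      norm_num at hdvd
    · rw [e]
  have h7 : orderOf y = 3 ∨ orderOf y = 7 := by
    have hd : orderOf y ∣ 3 * 3 * 7 := by
      rcases c.card_Xy_three hQ with e | e <;> rw [e] at hidx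
      · rw [show (Cg (c.tX y)).index = 7 by omega] at hdvd
        exact hdvd.trans (dvd_mul_left _ _)
      · rwa [show (Cg (c.tX y)).index = 3 * 3 * 7 by omega] at hdvd
    rcases hy.dvd_mul.1 hd with h | h
    · rcases hy.dvd_mul.1 h with h' | h' <;>
        exact Or.inl ((Nat.prime_dvd_prime_iff_eq hy Nat.prime_three).1 h')
    · exact Or.inr ((Nat.prime_dvd_prime_iff_eq hy (by norm_num)).1 h)
  refine h7.resolve_right fun h => ?_
  haveI : Fact (Nat.Prime 7) := ⟨by norm_num⟩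
  set X := c.Xy y
  set S := c.SX y
  set H := normalizer ((S : Subgroup X) : Set X) with hH
  have hH168 : Nat.card H = 168 := c.card_normalizer_SX hQ
  have hX : Nat.card X = 168 ∨ Nat.card X = 1512 := c.card_Xy_three hQ
  -- a group of order seven in `N(S)`
  obtain ⟨w, hw⟩ := exists_prime_orderOf_dvd_card' (G := H) 7 (hH168 ▸ by norm_num)
  set P := zpowers (w : X) with hP
  have hPc : Nat.card P = 7 := by rw [hP, Nat.card_zpowers, Subgroup.orderOf_coe, hw]
  have hPH : P ≤ H := zpowers_le.2 w.2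
  have hPp : IsPGroup 7 P := IsPGroup.of_card (n := 1) (by rw [hPc, pow_one])
  have h7X : ¬ 7 ^ 2 ∣ Nat.card X := by rcases hX with e | e <;> rw [e] <;> norm_num
  let PX : Sylow 7 X := hPp.toSylow (by
    intro hd
    refine h7X ?_
    rw [← P.card_mul_index, hPc, pow_two]
    exact Nat.mul_dvd_mul_left 7 hd)
  have hPX : (PX : Subgroup X) = P := rfl
  -- no involution centralizes or normalizes `P`
  have hev : ∀ v : X, v * v = 1 → v ≠ 1 → ¬ P ≤ Cg v := fun v h2 h1 hle => by
    have h3 := card_dvd_of_le hle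
    rw [c.card_Cg_inv h2 h1, hC, hPc] at h3
    norm_num at h3
  have hSP : ¬ (S : Subgroup X) ≤ normalizer (P : Set X) := fun hle => by
    set ρ := P.normalizerMonoidHom.comp (Subgroup.inclusion hle)
    haveI : IsCyclic P := isCyclic_of_prime_card hPc
    by_cases hk : ρ.ker = ⊥
    · have hc : IsCyclic (MulAut P) := by
        rw [(IsCyclic.mulAutMulEquiv P).isCyclic]
        rw [hPc]
        exact ZMod.isCyclic_units_prime (by norm_num)
      haveI := hc
      have hScyc : IsCyclic (S : Subgroup X) := isCyclic_of_injective ρ ((ρ.ker_eq_bot_iff).1 hk)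
      obtain ⟨g, hg⟩ := hScyc.exists_generator
      have h1 := orderOf_eq_card_of_forall_mem_zpowers hg
      rw [c.card_SX y] at h1
      have h2 : orderOf g ∣ 2 := orderOf_dvd_of_pow_eq_one
        (by rw [pow_two]; exact Subtype.ext (c.SX_sq y g g.2))
      rw [h1] at h2
      norm_num at h2
    · obtain ⟨v, hv1⟩ := ne_bot_iff_exists_ne_one.1 hk
      refine hev ((v : (S : Subgroup X)) : X) (c.SX_sq y _ (v : (S : Subgroup X)).2)
        (fun e => hv1 (Subtype.ext (Subtype.ext e))) fun x hx => ?_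
      have h3 := congrArg (fun f : MulAut P => ((f ⟨x, hx⟩ : P) : X)) (MonoidHom.mem_ker.1 v.2)
      exact mem_Cg.2 (mul_inv_eq_iff_eq_mul.1 h3).symm
  -- elements of `N(S)` of order three do not centralize `P`
  have hfix : ∀ τ ∈ H, τ ^ 3 = 1 → τ ≠ 1 → τ ∉ centralizer (P : Set X) := by
    intro τ hτ hτ3 hτ1 hτC
    have hτo : orderOf τ = 3 := orderOf_eq_prime hτ3 hτ1
    let act : zpowers τ →* Equiv.Perm {a : X // Pt S a} :=
      MonoidHom.mk' (fun g =>
        { toFun := fun a => ⟨(g : X) * a * (g : X)⁻¹,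
            (mem_normalizer_iff.1 (zpowers_le.2 hτ g.2) _).1 a.2.1,
            fun e => a.2.2 (conj_eq_one_iff.1 e)⟩
          invFun := fun a => ⟨(g : X)⁻¹ * a * (g : X)⁻¹⁻¹,
            (mem_normalizer_iff.1 (inv_mem (zpowers_le.2 hτ g.2)) _).1 a.2.1,
            fun e => a.2.2 (conj_eq_one_iff.1 e)⟩
          left_inv := fun a => Subtype.ext (by group)
          right_inv := fun a => Subtype.ext (by group) })
        fun a b => Equiv.ext fun v => Subtype.ext (by
          show ((a * b : zpowers τ) : X) * v * ((a * b : zpowers τ) : X)⁻¹ = _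
          simp only [Subgroup.coe_mul]
          show _ = (a : X) * ((b : X) * v * (b : X)⁻¹) * (a : X)⁻¹
          group)
    letI : MulAction (zpowers τ) {a : X // Pt S a} := MulAction.compHom _ act
    have hp : IsPGroup 3 (zpowers τ) := IsPGroup.of_card (n := 1) (by rw [Nat.card_zpowers, hτo, pow_one])
    obtain ⟨a, ha⟩ := hp.nonempty_fixed_point_of_prime_not_dvd_card {a : X // Pt S a}
      (by rw [card_pts (c.card_SX y)]; norm_num)
    have haτ : τ * (a : X) * τ⁻¹ = a := congrArg Subtype.val (ha ⟨τ, mem_zpowers τ⟩)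
    have hτfix : ∀ b, Pt S b → τ * b * τ⁻¹ = b := by
      intro b hb
      -- `P` is transitive on the points
      let m : P → {a : X // Pt S a} := fun p => ⟨(p : X) * a * (p : X)⁻¹,
        (mem_normalizer_iff.1 (hPH p.2) _).1 a.2.1, fun e => a.2.2 (conj_eq_one_iff.1 e)⟩
      have hinj : Function.Injective m := fun p q e => by
        by_contra hne
        have h1 : ((p : X)⁻¹ * q) * a = a * ((p : X)⁻¹ * q) := by
          have h2 : (p : X) * a * (p : X)⁻¹ = q * a * (q : X)⁻¹ := congrArg Subtype.val e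
          calc (p : X)⁻¹ * q * a = (p : X)⁻¹ * (q * a * (q : X)⁻¹) * q := by group
            _ = (p : X)⁻¹ * (p * a * (p : X)⁻¹) * q := by rw [h2]
            _ = a * ((p : X)⁻¹ * q) := by group
        have hgen : zpowers ((p⁻¹ * q : P)) = ⊤ :=
          zpowers_eq_top_of_prime_card hPc (fun e => hne (inv_mul_eq_one.1 e))
        refine hev a (c.SX_sq y _ a.2.1) a.2.2 fun x hx => mem_Cg.2 ?_
        obtain ⟨k, hk⟩ := mem_zpowers_iff.1 (hgen ▸ mem_top (⟨x, hx⟩ : P))
        have hk' : ((p : X)⁻¹ * q) ^ k = x := by simpa using congrArg Subtype.val hk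
        rw [← hk']
        exact ((show Commute ((p : X)⁻¹ * q) (a : X) from h1).zpow_left k).eq
      obtain ⟨p, hpb⟩ := (hinj.bijective_of_nat_card_le (by rw [card_pts (c.card_SX y), hPc])).2 ⟨b, hb⟩
      have hpb' : (p : X) * a * (p : X)⁻¹ = b := congrArg Subtype.val hpb
      have hcp : τ * p = p * τ := (mem_centralizer_iff.1 hτC _ p.2).symm
      rw [← hpb']
      have hcp' : (p : X)⁻¹ * τ⁻¹ = τ⁻¹ * (p : X)⁻¹ := (show Commute τ (p : X) from hcp).inv_inv.eq.symm
      calc τ * ((p : X) * a * (p : X)⁻¹) * τ⁻¹ = τ * p * a * ((p : X)⁻¹ * τ⁻¹) := by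
            simp only [mul_assoc]
        _ = p * (τ * a * τ⁻¹) * (p : X)⁻¹ := by rw [hcp, hcp']; simp only [mul_assoc]
        _ = p * a * (p : X)⁻¹ := by rw [haτ]
    have hτS := c.cent_SX hQ (g := τ) fun v hv => by
      rcases eq_or_ne v 1 with rfl | hv1
      · simp
      · exact mul_inv_eq_iff_eq_mul.1 (hτfix v ⟨hv, hv1⟩)
    have h2 : orderOf τ ∣ 2 := orderOf_dvd_of_pow_eq_one (by rw [pow_two]; exact c.SX_sq y τ hτS)
    rw [hτo] at h2
    norm_num at h2
  -- an element of order three in `N(S) ∩ N(P)`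
  obtain ⟨σ, hσH, hσN, hσ3, hσ1⟩ : ∃ σ, σ ∈ H ∧ σ ∈ normalizer (P : Set X) ∧ σ ^ 3 = 1 ∧ σ ≠ 1 := by
    let T : Sylow 7 H := PX.subtype hPH
    have hn := card_sylow_modEq_one 7 H
    have hd := T.card_dvd_index
    have hTi : (T : Subgroup H).index = 24 := by
      have := (T : Subgroup H).card_mul_index
      rw [hH168, show Nat.card (T : Subgroup H) = 7 from
        (Nat.card_congr (subgroupOfEquivOfLe hPH).toEquiv).trans hPc] at this
      omega
    rw [hTi] at hd
    have hn1 : Nat.card (Sylow 7 H) ≠ 1 := fun h1 => by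
      haveI := (Nat.card_eq_one_iff_unique.1 h1).1
      haveI hTn : (T : Subgroup H).Normal := T.normal_of_subsingleton
      have hHP : H ≤ normalizer (P : Set X) :=
        (normal_subgroupOf_iff_le_normalizer hPH).1 (show (P.subgroupOf H).Normal from hTn)
      exact hSP (le_normalizer.trans hHP)
    have h8 : Nat.card (Sylow 7 H) = 8 := by
      have := Nat.le_of_dvd (by norm_num) hd
      unfold Nat.ModEq at hn
      generalize Nat.card (Sylow 7 H) = n at hn hd this hn1
      interval_cases n <;> omega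
    have h21 : Nat.card ↥(normalizer ((T : Subgroup H) : Set H)) = 21 := by
      have := (normalizer ((T : Subgroup H) : Set H)).card_mul_index
      have hTn8 := T.card_eq_index_normalizer
      change _ = (normalizer ((T : Subgroup H) : Set H)).index at hTn8
      rw [← hTn8, h8, hH168] at this
      omega
    obtain ⟨σ, hσ⟩ := exists_prime_orderOf_dvd_card' (G := normalizer ((T : Subgroup H) : Set H)) 3
      (h21 ▸ by norm_num)
    have hσo : orderOf ((σ : H) : X) = 3 := by rw [Subgroup.orderOf_coe, Subgroup.orderOf_coe, hσ]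
    refine ⟨_, (σ : H).2, mem_normalizer_fintype fun x hx => ?_, hσo ▸ pow_orderOf_eq_one _,
      fun e => by rw [e, orderOf_one] at hσo; omega⟩
    exact (mem_normalizer_iff.1 σ.2 ⟨x, hPH hx⟩).1 hx
  have hσo : orderOf σ = 3 := orderOf_eq_prime hσ3 hσ1
  have h3C : ¬ 3 ∣ Nat.card ↥(centralizer (P : Set X)) := by
    intro h3
    obtain ⟨τ0, hτ0⟩ := exists_prime_orderOf_dvd_card' 3 h3
    set τ : X := (τ0 : X)
    have hτo : orderOf τ = 3 := (Subgroup.orderOf_coe τ0).trans hτ0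
    have hτP : τ ∈ normalizer (P : Set X) := centralizer_le_normalizer _ τ0.2
    have hd := PX.card_dvd_index
    have hn := card_sylow_modEq_one 7 X
    have hPi : (PX : Subgroup X).index = 24 ∨ (PX : Subgroup X).index = 216 := by
      have := P.card_mul_index
      rw [hPc] at this
      show P.index = 24 ∨ P.index = 216
      rcases hX with e | e <;> rw [e] at this <;> omega
    have hn1 : Nat.card (Sylow 7 X) ≠ 1 := fun h1 => by
      haveI := (Nat.card_eq_one_iff_unique.1 h1).1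
      haveI := PX.normal_of_subsingleton
      exact hSP (normalizer_eq_top (H := (PX : Subgroup X)) ▸ le_top)
    have hns : Nat.card (Sylow 7 X) = 8 ∨ Nat.card (Sylow 7 X) = 36 := by
      have hd' : Nat.card (Sylow 7 X) ∣ 216 := by
        rcases hPi with e | e <;> rw [e] at hd
        · exact hd.trans (by norm_num)
        · exact hd
      have := Nat.le_of_dvd (by norm_num) hd'
      unfold Nat.ModEq at hn
      generalize Nat.card (Sylow 7 X) = n at hn hd' this hn1
      interval_cases n <;> omega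
    rcases hns with h8 | h36
    · -- the action on the eight Sylow subgroups is faithful
      set φ := MulAction.toPermHom X (Sylow 7 X)
      have hker : φ.ker = ⊥ := by
        rw [eq_bot_iff, ← c.oddCore_Xy y]
        refine ZStar.le_oddCore φ.normal_ker ?_
        by_contra he
        rw [Nat.not_odd_iff_even, even_iff_two_dvd] at he
        obtain ⟨v, hv⟩ := exists_prime_orderOf_dvd_card' 2 he
        have hvo : orderOf (v : X) = 2 := (Subgroup.orderOf_coe v).trans hv
        obtain ⟨g, hg⟩ := c.exists_conj_tX (v := (v : X)) (by rw [← pow_two, ← hvo, pow_orderOf_eq_one])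
          (fun e => by rw [e, orderOf_one] at hvo; omega)
        refine hSP fun s hs => ?_
        rcases eq_or_ne s 1 with rfl | hs1
        · exact one_mem _
        obtain ⟨n, -, -, e⟩ := c.transAt_SX y (c.tX y) s (c.pt_tX y) ⟨hs, hs1⟩
        have hsk : s ∈ φ.ker := by
          rw [← e, show n * c.tX y * n⁻¹ = n * g⁻¹ * (v : X) * (n * g⁻¹)⁻¹ by rw [← hg]; group]
          exact φ.normal_ker.conj_mem _ v.2 _
        exact Sylow.smul_eq_iff_mem_normalizer.1 (Equiv.ext_iff.1 (MonoidHom.mem_ker.1 hsk) PX)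
      let f : zpowers τ →* Equiv.Perm {Q : Sylow 7 X // Q ≠ PX} :=
        MonoidHom.mk' (fun g =>
          { toFun := fun Q => ⟨(g : X) • Q.1, fun e => Q.2 (by
              rw [eq_inv_smul_iff.2 e, Sylow.smul_eq_iff_mem_normalizer]
              exact inv_mem (zpowers_le.2 hτP g.2))⟩
            invFun := fun Q => ⟨(g : X)⁻¹ • Q.1, fun e => Q.2 (by
              rw [← smul_inv_smul (g : X) Q.1, e, Sylow.smul_eq_iff_mem_normalizer]
              exact zpowers_le.2 hτP g.2)⟩
            left_inv := fun Q => Subtype.ext (inv_smul_smul _ _)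
            right_inv := fun Q => Subtype.ext (smul_inv_smul _ _) })
          fun a b => Equiv.ext fun Q => Subtype.ext (mul_smul (a : X) (b : X) Q.1)
      letI : MulAction (zpowers τ) {Q : Sylow 7 X // Q ≠ PX} := MulAction.compHom _ f
      have hp : IsPGroup 3 (zpowers τ) := IsPGroup.of_card (n := 1) (by rw [Nat.card_zpowers, hτo, pow_one])
      have hc7 : Nat.card {Q : Sylow 7 X // Q ≠ PX} = 7 := by
        haveI := Fintype.ofFinite (Sylow 7 X)
        rw [Nat.card_eq_fintype_card, Fintype.card_subtype_compl, ← Nat.card_eq_fintype_card, h8,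
          Fintype.card_subtype_eq]
      obtain ⟨Q0, hQ0⟩ := hp.nonempty_fixed_point_of_prime_not_dvd_card _ (by rw [hc7]; norm_num)
      have hτQ0 : τ • Q0.1 = Q0.1 := congrArg Subtype.val (hQ0 ⟨τ, mem_zpowers τ⟩)
      let m : P → {Q : Sylow 7 X // Q ≠ PX} := fun p => ⟨(p : X) • Q0.1, fun e => Q0.2 (by
        rw [eq_inv_smul_iff.2 e, Sylow.smul_eq_iff_mem_normalizer]
        exact inv_mem (le_normalizer p.2))⟩
      have hinj : Function.Injective m := fun p q e => by
        by_contra hne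
        have h2 : ((p⁻¹ * q : P) : X) • Q0.1 = Q0.1 := by
          rw [Subgroup.coe_mul, Subgroup.coe_inv, mul_smul, ← show (p : X) • Q0.1 = (q : X) • Q0.1 from
            congrArg Subtype.val e, inv_smul_smul]
        have hgen : zpowers ((p⁻¹ * q : P)) = ⊤ :=
          zpowers_eq_top_of_prime_card hPc (fun e => hne (inv_mul_eq_one.1 e))
        have hle : P ≤ normalizer ((Q0.1 : Subgroup X) : Set X) := fun x hx => by
          obtain ⟨k, hk⟩ := mem_zpowers_iff.1 (hgen ▸ mem_top (⟨x, hx⟩ : P))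
          rw [← show ((p⁻¹ * q : P) : X) ^ k = x by simpa using congrArg Subtype.val hk]
          exact zpow_mem (Sylow.smul_eq_iff_mem_normalizer.1 h2) k
        refine Q0.2 (Sylow.ext (le_antisymm ?_ ?_).symm)
        · have h : P ⊓ normalizer ((Q0.1 : Subgroup X) : Set X) = P ⊓ Q0.1 := hPp.inf_normalizer_sylow Q0.1
          rw [inf_eq_left.2 hle] at h
          exact h.le.trans inf_le_right
        · refine (eq_of_le_of_card_ge (show P ≤ (Q0.1 : Subgroup X) from ?_) ?_).ge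
          · have h : P ⊓ normalizer ((Q0.1 : Subgroup X) : Set X) = P ⊓ Q0.1 := hPp.inf_normalizer_sylow Q0.1
            rw [inf_eq_left.2 hle] at h
            exact h.le.trans inf_le_right
          · exact le_of_eq (Q0.1.card_eq_multiplicity.trans PX.card_eq_multiplicity.symm)
      have hτall : τ ∈ φ.ker := MonoidHom.mem_ker.2 (Equiv.ext fun Q => by
        show τ • Q = Q
        by_cases hQe : Q = PX
        · subst hQe
          exact Sylow.smul_eq_iff_mem_normalizer.2 hτP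
        obtain ⟨p, hp'⟩ := (hinj.bijective_of_nat_card_le (by rw [hc7, hPc])).2 ⟨Q, hQe⟩
        rw [← show (p : X) • Q0.1 = Q from congrArg Subtype.val hp', ← mul_smul,
          ← mem_centralizer_iff.1 τ0.2 _ p.2, mul_smul, hτQ0])
      rw [hker, mem_bot] at hτall
      rw [hτall, orderOf_one] at hτo
      omega
    · -- then `|N(P)| = 42`
      have hN42 : Nat.card ↥(normalizer (P : Set X)) = 42 := by
        have h1 := (normalizer (P : Set X)).card_mul_index
        have h2 := PX.card_eq_index_normalizer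
        rw [h36] at h2
        change 36 = (normalizer (P : Set X)).index at h2
        rw [← h2] at h1
        rcases hX with e | e <;> rw [e] at h1 <;> omega
      set N := normalizer (P : Set X)
      set C := (centralizer (P : Set X)).subgroupOf N
      haveI hCn : C.Normal := by
        show ((centralizer (P : Set X)).subgroupOf (normalizer (P : Set X))).Normal
        rw [← P.normalizerMonoidHom_ker]
        exact MonoidHom.normal_ker _
      have hCc : Nat.card C = Nat.card ↥(centralizer (P : Set X)) :=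
        Nat.card_congr (subgroupOfEquivOfLe (centralizer_le_normalizer _)).toEquiv
      have hCi : ¬ 3 ∣ C.index := by
        intro hd
        have h1 := C.card_mul_index
        have h9 : 3 * 3 ∣ Nat.card C * C.index := Nat.mul_dvd_mul (hCc ▸ h3) hd
        rw [h1, hN42] at h9
        norm_num at h9
      have hmem : (⟨σ, hσN⟩ : N) ∈ C := by
        rw [← QuotientGroup.eq_one_iff, ← orderOf_eq_one_iff]
        refine Nat.dvd_one.1 ?_
        have h1 : orderOf (((⟨σ, hσN⟩ : N)) : N ⧸ C) ∣ 3 := by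
          refine (orderOf_map_dvd (QuotientGroup.mk' C) ⟨σ, hσN⟩).trans ?_
          rw [Subgroup.orderOf_mk, hσo]
        have h2 := orderOf_dvd_natCard (((⟨σ, hσN⟩ : N)) : N ⧸ C)
        rw [← Subgroup.index_eq_card] at h2
        rw [← ((Nat.Prime.coprime_iff_not_dvd Nat.prime_three).2 hCi).gcd_eq_one]
        exact Nat.dvd_gcd h1 h2
      exact hfix σ hσH hσ3 hσ1 (mem_subgroupOf.1 hmem)
  refine c.false_of_section h (Or.inl rfl) h7X hPc (s := 3) (by norm_num) (by norm_num) ?_ h3C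
  rw [← hσo]
  exact (Subgroup.orderOf_mk σ hσN) ▸ orderOf_dvd_natCard (⟨σ, hσN⟩ : normalizer (P : Set X))

end Three

end Cfg

end Cfsg.Lib.Walter3.Field
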