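import Cfsg.Agent.Lib.Walter3.Field.Fusion

/-!
# The functions `W_μ` on the section of `t`

`W_μ` is induced from `(1 - sgn) μ` on `B ∩ C(t)`; its norm is four and it is supported on the
`t`-section.
-/

set_option autoImplicit false
set_option linter.unusedSectionVars false
set_option linter.style.haveILetI false

namespace Cfsg.Lib.Walter3.Field

open Subgroup Cfsg Cfsg.Lib.Char
open scoped ComplexConjugate

universe u

variable {G : Type u} [Group G] [Fintype G] {F : Type} [Field F] [Fintype F]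

/-- The homomorphisms of the field part into `ℂˣ`. -/
abbrev Cfg.Dual (c : Cfg G F) : Type u := fieldPart c.S →* ℂˣ

namespace Cfg

variable (c : Cfg G F)

/-- The centralizer of `t`. -/
abbrev Ct : Subgroup G := centralizer ({c.t} : Set G)

/-- A linear character of the field part, on `C(t)`. -/
noncomputable def lam (μ : c.Dual) : c.Ct →* ℂˣ := μ.comp c.π

/-- Its twist by the sign. -/
noncomputable def slam (μ : c.Dual) : c.Ct →* ℂˣ := c.sgn * c.lam μ

theorem t_mem_Ct : c.t ∈ c.Ct := mem_centralizer_singleton_iff.2 rfl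

theorem sgn_t : (c.sgn ⟨c.t, c.t_mem_Ct⟩ : ℂ) = -1 :=
  c.sgn_inr (l := 1) (y := 1) (by rw [map_one, Subgroup.coe_one, one_mul, mul_one])

theorem π_t : c.π ⟨c.t, c.t_mem_Ct⟩ = 1 :=
  c.π_eq (l := 1) (Or.inr (by rw [map_one, Subgroup.coe_one, one_mul, mul_one]))

theorem sgn_y (y : fieldPart c.S) : c.sgn ⟨y, c.M_le_Ct (c.F_le_M y.2)⟩ = 1 :=
  Units.ext (c.sgn_inl (l := 1) (y := y) (by rw [map_one, one_mul]))

theorem π_y (y : fieldPart c.S) : c.π ⟨y, c.M_le_Ct (c.F_le_M y.2)⟩ = y :=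
  c.π_eq (l := 1) (Or.inl (by rw [map_one, one_mul]))

theorem sgn_sq (g : c.Ct) : c.sgn g = 1 ∨ c.sgn g = -1 := by
  obtain ⟨y, l, h | h⟩ := c.exists_decomp g
  · exact Or.inl (Units.ext (c.sgn_inl h))
  · exact Or.inr (Units.ext (by rw [c.sgn_inr h, Units.val_neg, Units.val_one]))

variable {c}

theorem lam_ne_slam {P : Subgroup G} (hP : P ≤ c.Ct) (ht : c.t ∈ P) (μ ν : c.Dual) :
    (c.lam μ).comp (inclusion hP) ≠ (c.slam ν).comp (inclusion hP) := by
  intro h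
  have h1 := congrArg Units.val (DFunLike.congr_fun h ⟨c.t, ht⟩)
  have e : inclusion hP ⟨c.t, ht⟩ = (⟨c.t, c.t_mem_Ct⟩ : c.Ct) := rfl
  simp only [slam, lam, MonoidHom.comp_apply, MonoidHom.mul_apply, e, c.π_t, map_one,
    Units.val_mul, Units.val_one, mul_one, c.sgn_t] at h1
  norm_num at h1

theorem lam_eq_iff {P : Subgroup G} (hP : P ≤ c.Ct) (hM : c.M ≤ P) (μ ν : c.Dual) :
    (c.lam μ).comp (inclusion hP) = (c.lam ν).comp (inclusion hP) ↔ μ = ν := by
  refine ⟨fun h => MonoidHom.ext fun y => ?_, fun h => by rw [h]⟩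
  have := DFunLike.congr_fun h ⟨y, hM (c.F_le_M y.2)⟩
  simpa [lam, inclusion, c.π_y] using this

theorem slam_eq_iff {P : Subgroup G} (hP : P ≤ c.Ct) (hM : c.M ≤ P) (μ ν : c.Dual) :
    (c.slam μ).comp (inclusion hP) = (c.slam ν).comp (inclusion hP) ↔ μ = ν := by
  refine ⟨fun h => MonoidHom.ext fun y => ?_, fun h => by rw [h]⟩
  have := DFunLike.congr_fun h ⟨y, hM (c.F_le_M y.2)⟩
  simpa [slam, lam, inclusion, c.π_y, c.sgn_y] using this

variable (c)

open Classical in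
/-- The basic sum. -/
theorem sum_lam {P : Subgroup G} (hP : P ≤ c.Ct) (hM : c.M ≤ P) (μ ν : c.Dual) :
    ∑ g : P, ((c.lam μ (inclusion hP g) : ℂ) - c.slam μ (inclusion hP g)) *
        conj ((c.lam ν (inclusion hP g) : ℂ) - c.slam ν (inclusion hP g)) =
      (Nat.card P : ℂ) * (if μ = ν then 2 else 0) := by
  have ht := hM c.t_mem_M
  have h := sum_diff ((c.lam μ).comp (inclusion hP)) ((c.slam μ).comp (inclusion hP))
    ((c.lam ν).comp (inclusion hP)) ((c.slam ν).comp (inclusion hP))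
  simp only [MonoidHom.comp_apply] at h
  rw [h, if_neg (lam_ne_slam hP ht μ ν), if_neg (Ne.symm (lam_ne_slam hP ht ν μ))]
  simp only [lam_eq_iff hP hM, slam_eq_iff hP hM]
  split_ifs <;> ring

theorem hom_conj {g x : G} (hg : g ∈ c.Ct) (hx : x ∈ c.Ct) (φ : c.Ct →* ℂˣ)
    (h : x * g * x⁻¹ ∈ c.Ct) : φ ⟨_, h⟩ = φ ⟨g, hg⟩ := by
  rw [show (⟨_, h⟩ : c.Ct) = ⟨x, hx⟩ * ⟨g, hg⟩ * ⟨x, hx⟩⁻¹ from Subtype.ext rfl, map_mul, map_mul,
    map_inv, mul_right_comm, mul_inv_cancel, one_mul]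

end Cfg

namespace Full

variable {c : Cfg G F} (D : Full c)
include D

theorem odd_half : ∃ k, Odd k ∧ Nat.card D.BC = 2 * k := by
  refine ⟨Fintype.card F * (Nat.card c.H * c.f),
    D.odd_q.mul (D.odd_card_H.mul c.odd_f), ?_⟩
  rw [D.card_BC, ← c.card_H]
  ring

/-- The sign of an element of `B ∩ C(t)` is seen in a power. -/
theorem pow_half {k : ℕ} (hk : Odd k) (hcard : Nat.card D.BC = 2 * k) {g : G} (hg : g ∈ D.BC) :
    (c.sgn ⟨g, D.BC_le_Ct hg⟩ = 1 → g ^ k = 1) ∧ (c.sgn ⟨g, D.BC_le_Ct hg⟩ = -1 → g ^ k = c.t) := by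
  have h2 : g ^ k * g ^ k = 1 := by
    rw [← pow_add, ← two_mul, ← hcard]
    exact congrArg Subtype.val (pow_card_eq_one' (x := (⟨g, hg⟩ : D.BC)))
  have hs : ∀ h : g ^ k ∈ c.Ct, c.sgn ⟨g ^ k, h⟩ = c.sgn ⟨g, D.BC_le_Ct hg⟩ ^ k := fun h => by
    rw [← map_pow]; rfl
  have hmem : g ^ k ∈ D.BC := pow_mem hg k
  by_cases h1 : g ^ k = 1
  · refine ⟨fun _ => h1, fun h => absurd ?_ (show (1 : ℂˣ) ≠ -1 from fun e => by
      have := congrArg Units.val e; norm_num at this)⟩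
    have := hs (D.BC_le_Ct hmem)
    rw [h, Odd.neg_one_pow hk, show (⟨g ^ k, D.BC_le_Ct hmem⟩ : c.Ct) = 1 from Subtype.ext h1,
      map_one] at this
    exact this
  · have e := D.invol_BC hmem h1 h2
    refine ⟨fun h => absurd ?_ (show (1 : ℂˣ) ≠ -1 from fun e => by
      have := congrArg Units.val e; norm_num at this), fun _ => e⟩
    have := hs (D.BC_le_Ct hmem)
    rw [h, one_pow, show (⟨g ^ k, D.BC_le_Ct hmem⟩ : c.Ct) = ⟨c.t, c.t_mem_Ct⟩ from Subtype.ext e] at this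
    have h3 := congrArg Units.val this
    rw [Units.val_one, c.sgn_t] at h3
    norm_num at h3

/-- The defining function of `W_μ`. -/
noncomputable def w0 (μ : c.Dual) : D.BC → ℂ := fun g =>
  (c.lam μ (inclusion D.BC_le_Ct g) : ℂ) - c.slam μ (inclusion D.BC_le_Ct g)

/-- The function `W_μ`. -/
noncomputable def W (μ : c.Dual) : G → ℂ := indFun D.BC (D.w0 μ)

/-- The extension by zero of `w0`. -/
noncomputable def w (μ : c.Dual) : G → ℂ := extendByZero D.BC (D.w0 μ)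

theorem w_of_mem (μ : c.Dual) {g : G} (hg : g ∈ D.BC) :
    D.w μ g = (1 - (c.sgn ⟨g, D.BC_le_Ct hg⟩ : ℂ)) * μ (c.π ⟨g, D.BC_le_Ct hg⟩) := by
  rw [w, extendByZero_of_mem _ _ hg, w0]
  simp only [Cfg.lam, Cfg.slam, MonoidHom.comp_apply, MonoidHom.mul_apply, Units.val_mul]
  show ((μ (c.π ⟨g, D.BC_le_Ct hg⟩) : ℂ) -
    (c.sgn ⟨g, D.BC_le_Ct hg⟩ : ℂ) * μ (c.π ⟨g, D.BC_le_Ct hg⟩)) = _
  ring

theorem w_zero (μ : c.Dual) {g : G} (hg : g ∉ D.BC) : D.w μ g = 0 := extendByZero_of_notMem _ _ hg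

/-- Where `w` does not vanish, a power is `t`. -/
theorem pow_of_w {μ : c.Dual} {g : G} (h : D.w μ g ≠ 0) {k : ℕ} (hk : Odd k)
    (hcard : Nat.card D.BC = 2 * k) : g ∈ D.BC ∧ g ^ k = c.t := by
  have hg : g ∈ D.BC := by_contra fun hg => h (D.w_zero μ hg)
  refine ⟨hg, (D.pow_half hk hcard hg).2 ((c.sgn_sq _).resolve_left fun e => h ?_)⟩
  rw [D.w_of_mem μ hg, e, Units.val_one, sub_self, zero_mul]

theorem w_conj (μ : c.Dual) {z : G} (hz : z ∈ D.BC) (g : G) :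
    D.w μ (z * g * z⁻¹) = D.w μ g := by
  by_cases hg : g ∈ D.BC
  · have h : z * g * z⁻¹ ∈ D.BC := mul_mem (mul_mem hz hg) (inv_mem hz)
    rw [D.w_of_mem μ h, D.w_of_mem μ hg, c.hom_conj (D.BC_le_Ct hg) (D.BC_le_Ct hz) c.sgn]
    have := c.hom_conj (D.BC_le_Ct hg) (D.BC_le_Ct hz) (c.lam μ) (D.BC_le_Ct h)
    simp only [Cfg.lam, MonoidHom.comp_apply] at this
    rw [this]
  · rw [D.w_zero μ hg, D.w_zero μ fun h => hg ?_]
    have := mul_mem (mul_mem (inv_mem hz) h) hz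
    rwa [show z⁻¹ * (z * g * z⁻¹) * z = g by group] at this

theorem w_conj' (μ : c.Dual) {z : G} (hz : z ∈ D.BC) (g : G) :
    D.w μ (z⁻¹ * g * z) = D.w μ g := by
  simpa using D.w_conj μ (inv_mem hz) g

theorem w_iMi (μ : c.Dual) {m : G} (hm : m ∈ c.M) : D.w μ (c.i * m * c.i⁻¹) = D.w μ m := by
  have hiC : c.i ∈ c.Ct := mem_centralizer_singleton_iff.2 c.i_comm_t
  rw [D.w_of_mem μ (D.M_le_BC (c.i_conj_M hm)), D.w_of_mem μ (D.M_le_BC hm),
    c.hom_conj (c.M_le_Ct hm) hiC c.sgn]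
  have := c.hom_conj (c.M_le_Ct hm) hiC (c.lam μ) (c.M_le_Ct (c.i_conj_M hm))
  simp only [Cfg.lam, MonoidHom.comp_apply] at this
  rw [this]

open Classical in
theorem sum_w {P : Subgroup G} (hP : P ≤ D.BC) (hM : c.M ≤ P) (μ ν : c.Dual) :
    ∑ g : P, D.w μ g * conj (D.w ν g) = (Nat.card P : ℂ) * (if μ = ν then 2 else 0) := by
  rw [← c.sum_lam (hP.trans D.BC_le_Ct) hM μ ν]
  refine Finset.sum_congr rfl fun g _ => ?_
  rw [w, w, extendByZero_of_mem _ _ (hP g.2), extendByZero_of_mem _ _ (hP g.2), w0, w0]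
  rfl

/-- An element moving one element of the support of `w` to another one centralizes `t`. -/
theorem mem_Ct_of_w {μ ν : c.Dual} {g x : G} (hg : D.w μ g ≠ 0) (hx : D.w ν (x⁻¹ * g * x) ≠ 0) :
    x ∈ c.Ct := by
  obtain ⟨k, hk, hcard⟩ := D.odd_half
  have h1 := (D.pow_of_w hg hk hcard).2
  have h2 := (D.pow_of_w hx hk hcard).2
  rw [show x⁻¹ * g * x = x⁻¹ * g * x⁻¹⁻¹ by group, conj_pow, h1, inv_inv] at h2
  refine mem_centralizer_singleton_iff.2 ?_
  calc x * c.t = x * (x⁻¹ * c.t * x) := by rw [h2]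
    _ = c.t * x := by group

open Classical in
/-- The norm of `W_μ`. -/
theorem inner_W_W (μ ν : c.Dual) :
    classInner (D.W μ) (D.W ν) = if μ = ν then 4 else 0 := by
  rw [W, W, classInner_ind_ind]
  change _ * _ * ∑ x : G, ∑ g : G, D.w μ g * (fun z => conj (D.w ν z)) (x⁻¹ * g * x) = _
  rw [D.sum_double D.BC c.U D.bd.U_le D.BC_le_B (β := fun z => conj (D.w ν z)) (fun g hg => D.w_zero μ hg)
    (fun v hv g => D.w_conj μ (D.U_le_BC hv) g)
    (fun g hg => by rw [D.w_zero ν hg, map_zero])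
    (fun x g hg hx => D.cent_cases (D.mem_Ct_of_w hg (fun e => hx (by rw [e, map_zero]))))]
  have e1 : ∀ z : D.BC, ∑ g : D.BC, D.w μ g * conj (D.w ν ((z : G)⁻¹ * g * z)) =
      (Nat.card D.BC : ℂ) * (if μ = ν then 2 else 0) := fun z => by
    simp only [D.w_conj' ν z.2]
    exact D.sum_w le_rfl D.M_le_BC μ ν
  have e2 : ∀ z : D.BC, ∑ m : c.M, D.w μ m * conj (D.w ν ((z : G)⁻¹ * (c.i * m * c.i⁻¹) * z)) =
      (Nat.card c.M : ℂ) * (if μ = ν then 2 else 0) := fun z => by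
    rw [← D.sum_w D.M_le_BC le_rfl μ ν]
    exact Finset.sum_congr rfl fun m _ => by rw [D.w_conj' ν z.2, D.w_iMi ν m.2]
  simp only [e1, e2, Finset.sum_const, Finset.card_univ, nsmul_eq_mul, ← Nat.card_eq_fintype_card]
  have h0 : (Nat.card D.BC : ℂ) ≠ 0 := Nat.cast_ne_zero.2 Nat.card_pos.ne'
  have hq : (Nat.card c.U : ℂ) * Nat.card c.M = Nat.card D.BC := by
    rw [D.card_BC, c.card_U, c.card_M]; push_cast; ring
  have e3 : ∀ a b : ℂ, (Nat.card c.U : ℂ) * (a * ((Nat.card c.M : ℂ) * b)) = a * (Nat.card D.BC * b) :=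
    fun a b => by rw [← hq]; ring
  rw [e3]
  field_simp
  split_ifs <;> ring

theorem W_isGeneralized (μ : c.Dual) : IsGeneralizedCharacter G (D.W μ) :=
  isGeneralizedCharacter_indFun D.BC
    (((isIrrCharacter_linear ((c.lam μ).comp (inclusion D.BC_le_Ct))).isGeneralized).sub
      (isIrrCharacter_linear ((c.slam μ).comp (inclusion D.BC_le_Ct))).isGeneralized)

theorem W_one (μ : c.Dual) : D.W μ 1 = 0 := by
  rw [W, indFun_apply_one]
  simp [w0, map_one]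

open Classical in
theorem inner_W_one (μ : c.Dual) :
    classInner (D.W μ) (fun _ => 1) = if μ = 1 then 1 else 0 := by
  rw [W, classInner_indFun _ _ (fun _ _ => rfl), classInner]
  have h := sum_diff ((c.lam μ).comp (inclusion D.BC_le_Ct)) ((c.slam μ).comp (inclusion D.BC_le_Ct))
    ((c.lam 1).comp (inclusion D.BC_le_Ct)) 1
  have h1 : (c.lam 1).comp (inclusion D.BC_le_Ct) = 1 := MonoidHom.ext fun _ => rfl
  simp only [map_one, mul_one]
  have e : ∑ g : D.BC, D.w0 μ g = (Nat.card D.BC : ℂ) * if μ = 1 then 1 else 0 := by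
    have hne : ∀ ν : c.Dual, (c.slam ν).comp (inclusion D.BC_le_Ct) ≠ 1 := fun ν e => by
      rw [← h1] at e
      exact Cfg.lam_ne_slam D.BC_le_Ct (D.t_mem_BC) 1 ν e.symm
    have s1 := sum_hom ((c.lam μ).comp (inclusion D.BC_le_Ct))
    have s2 := sum_hom ((c.slam μ).comp (inclusion D.BC_le_Ct))
    rw [if_neg (hne μ)] at s2
    simp only [MonoidHom.comp_apply] at s1 s2
    simp only [w0, Finset.sum_sub_distrib, s1, s2, sub_zero]
    rw [← h1]
    simp only [Cfg.lam_eq_iff D.BC_le_Ct D.M_le_BC]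
    split_ifs <;> simp
  rw [e, ← mul_assoc, inv_mul_cancel₀ (Nat.cast_ne_zero.2 Nat.card_pos.ne'), one_mul]

end Full

end Cfsg.Lib.Walter3.Field
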