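import Cfsg.Agent.Lib.Walter3.Field.LocAction
import Cfsg.Agent.Lib.Walter3.Field.SectionSmall
import Cfsg.Agent.Lib.Walter3.Field.OddThirteen
import Cfsg.Agent.Lib.Core.Layer

/-!
# The case `q = 27`

The three-local subgroup acts on the Frattini quotient of `R`, of order at most `3⁶`, so its Fitting
subgroup is centralized by the image of the torus element of order thirteen, and a field automorphism
of order three survives in a character invariant under `t`.
-/

set_option autoImplicit false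
set_option linter.unusedSectionVars false
set_option linter.style.haveILetI false

namespace Cfsg.Lib.Walter3.Field

open Subgroup Cfsg Cfsg.Lib Matrix
open scoped MatrixGroups

universe u

local notation "PSL2[" K "]" => Matrix.ProjectiveSpecialLinearGroup (Fin 2) K

/-- An injective action on at most six dimensions over `F₃` has no subgroup of order `13³`. -/
theorem not_dvd_of_le_729 {A : Type u} [Group A] [Finite A] {W : Type u} [CommGroup W] [Finite W]
    (hW : ∀ w : W, w ^ 3 = 1) {m : ℕ} (hm : m ≤ 6) (hcard : Nat.card W = 3 ^ m) (φ : A →* MulAut W)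
    (hφ : Function.Injective φ) : ¬ 13 ^ 3 ∣ Nat.card A := by
  classical
  haveI : Fact (Nat.Prime 3) := ⟨Nat.prime_three⟩
  obtain ⟨V, _, _, _, R, e, he⟩ := Local.exists_zmod_rep hW φ
  have hR : Function.Injective R := fun a b hab => hφ (MulEquiv.ext fun w =>
    e.injective (Multiplicative.toAdd.injective ((he a w).symm.trans
      ((LinearMap.congr_fun hab _).trans (he b w)))))
  haveI : Finite V := Finite.of_equiv W (e.toEquiv.trans Multiplicative.toAdd)
  have hVc : Nat.card V = 3 ^ m := by rw [← hcard, Nat.card_congr (e.toEquiv.trans Multiplicative.toAdd)]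
  have hd : Module.finrank (ZMod 3) V = m := by
    have h := Module.natCard_eq_pow_finrank (K := ZMod 3) (V := V)
    rw [hVc, Nat.card_zmod] at h
    exact (Nat.pow_right_injective (by norm_num) h).symm
  let b := Module.finBasisOfFinrankEq (ZMod 3) V hd
  let g : A →* GL (Fin m) (ZMod 3) :=
    (Units.map (LinearMap.toMatrixAlgEquiv b).toMonoidHom).comp R.toHomUnits
  have hg : Function.Injective g := fun a b' hab => hR <| by
    have h := congrArg Units.val hab
    exact (LinearMap.toMatrixAlgEquiv b).injective h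
  intro h13
  have h1 := h13.trans (Subgroup.card_dvd_of_injective g hg)
  rw [Matrix.card_GL_field] at h1
  simp only [ZMod.card] at h1
  interval_cases m <;> simp [Fin.prod_univ_succ] at h1

namespace Cfg

variable {G : Type u} [Group G] [Finite G] {F : Type} [Field F] [Fintype F] (c : Cfg G F)
include c

set_option maxHeartbeats 2000000 in
theorem false_of_27 {y : fieldPart c.S} (hy3 : orderOf y = 3) (hQ : c.fixCard y = 3)
    (hq : Fintype.card F = 27) (hC : Nat.card (c.Cy y) = 3 * 1512) : False := by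
  classical
  haveI : Fact (Nat.Prime 3) := ⟨Nat.prime_three⟩
  haveI : Fact (Nat.Prime 13) := ⟨by norm_num⟩
  have hn : (3 : ℕ) ≠ 0 := by norm_num
  have hq3 : Fintype.card F = 3 ^ 3 := by rw [hq]; norm_num
  have h4 : Fintype.card F % 4 = 3 := by rw [hq]
  obtain ⟨L⟩ := c.exists_loc hn hq3 h4
  have hRp := L.pgroup_R
  letI : CommGroup (FQ L.R) := { (inferInstance : Group (FQ L.R)) with mul_comm := fq_comm hRp }
  haveI : Finite (MulAut (FQ L.R)) :=
    Finite.of_injective (fun f : MulAut (FQ L.R) => (f : FQ L.R → FQ L.R)) DFunLike.coe_injective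
  -- the elements
  have hH13 : Nat.card c.H = 13 := by have := c.card_H; omega
  obtain ⟨hh, hhh⟩ := exists_prime_orderOf_dvd_card' (G := c.H) 13 (dvd_of_eq hH13.symm)
  set h : G := (hh : G) with hdef
  have hho : orderOf h = 13 := by rw [hdef, Subgroup.orderOf_coe, hhh]
  have hh1 : h ≠ 1 := fun e => by rw [e, orderOf_one] at hho; omega
  obtain ⟨a, ha⟩ := c.mem_H.1 hh.2
  set x : G := (y : G) with hxdef
  have hxo : orderOf x = 3 := by rw [hxdef, Subgroup.orderOf_coe, hy3]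
  have hx3 : x ^ 3 = 1 := by rw [← hxo, pow_orderOf_eq_one]
  have hxP : x ∈ (L.P : Subgroup G) :=
    L.field_P y ⟨1, by rw [pow_one, ← hy3, pow_orderOf_eq_one]⟩
  have hxN : x ∈ L.N0 := L.P_le_N0 hxP
  have hzh : ∀ v ∈ c.H, v ∈ zpowers h := fun v hv => by
    have he : zpowers h = c.H := eq_of_le_of_card_ge (zpowers_le.2 hh.2)
      (by rw [Nat.card_zpowers, hho, hH13])
    rwa [he]
  obtain ⟨k, hk⟩ : ∃ k : ℕ, x * h * x⁻¹ = h ^ k := by
    have h1 : x * h * x⁻¹ ∈ c.H := by
      rw [hdef, ← ha, hxdef, c.y_d]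
      exact c.mem_H.2 ⟨_, rfl⟩
    obtain ⟨k, hk⟩ := (Submonoid.mem_powers_iff _ _).1 (mem_powers_iff_mem_zpowers.2 (hzh _ h1))
    exact ⟨k, hk.symm⟩
  have hk1 : ¬ k ≡ 1 [MOD 13] := by
    intro hk1
    rw [show h ^ k = h ^ 1 from pow_eq_pow_iff_modEq.2 (hho ▸ hk1), pow_one, hdef, ← ha, hxdef, c.y_d] at hk
    -- the fixed field has three elements
    have hsq : c.σ y ((a : F) ^ 2) = (a : F) ^ 2 := by
      rw [map_pow]
      have h1 : c.d (Units.map (c.σ y : F →* F) a * a⁻¹) = 1 := by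
        rw [c.d_mul, hk, ← c.d_mul, mul_inv_cancel, c.d_one]
      have h2 : ((Units.map (c.σ y : F →* F) a * a⁻¹ : Fˣ) : F) ^ 2 = 1 := by
        rcases c.d_eq_one.1 h1 with r | r <;> rw [r] <;> simp
      rw [Units.val_mul, mul_pow, Units.val_inv_eq_inv_val, inv_pow,
        mul_inv_eq_one₀ (pow_ne_zero _ a.ne_zero)] at h2
      exact h2
    have hfix := c.fix_of_sq y hsq
    have hK : Fintype.card (c.fixField y) = 3 := by rw [c.card_fixField', hQ]
    have h3 := FiniteField.pow_card_sub_one_eq_one (⟨a, hfix⟩ : c.fixField y)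
      (fun e => a.ne_zero (congrArg Subtype.val e))
    rw [hK] at h3
    have h4 : (a : F) * a = 1 := by
      have := congrArg Subtype.val h3
      simpa [pow_two] using this
    have : c.d a * c.d a = 1 := by rw [← c.d_mul, c.d_eq_one]; exact Or.inl (Units.ext h4)
    rw [← pow_two] at this
    have hd := orderOf_dvd_of_pow_eq_one this
    rw [ha, ← hdef, hho] at hd
    norm_num at hd
  -- `x` lies outside `R`
  have hxR : x ∉ L.R := fun hR => by
    obtain ⟨b, hb⟩ := c.mem_U.1 (L.inter_R x hR (c.y_comm_t y).eq)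
    have hct : x * c.t = c.t * x := (c.y_comm_t y).eq
    have h1 : c.π ⟨x, mem_centralizer_singleton_iff.2 hct⟩ = y := c.π_eq (l := 1) (Or.inl (by simp [hxdef]))
    have h2 : c.π ⟨x, mem_centralizer_singleton_iff.2 hct⟩ = 1 :=
      c.π_eq (l := pr (uSL (Multiplicative.ofAdd b)))
        (Or.inl (by rw [Subgroup.coe_one, mul_one]; exact hb.symm))
    rw [← h1, h2, orderOf_one] at hy3
    omega
  -- the fixed points of `x` on `R`
  set C := L.R ⊓ centralizer ({x} : Set G) with hCdef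
  have hCy : ∀ v ∈ C, v ∈ c.Cy y := fun v hv => hv.2
  let ι : C →* c.Xy y := (c.πy y).comp (Subgroup.inclusion hCy)
  have hι : Function.Injective ι := by
    rw [← MonoidHom.ker_eq_bot_iff, eq_bot_iff]
    intro v hv
    have h1 : (v : G) ∈ zpowers x :=
      mem_subgroupOf.1 ((QuotientGroup.eq_one_iff (Subgroup.inclusion hCy v)).1 hv)
    obtain ⟨i, hi, hi'⟩ : ∃ i, i < 3 ∧ x ^ i = (v : G) := by
      obtain ⟨i, hi⟩ := (Submonoid.mem_powers_iff _ _).1 (mem_powers_iff_mem_zpowers.2 h1)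
      exact ⟨i % 3, Nat.mod_lt _ (by norm_num), by rw [← hxo, pow_mod_orderOf, hi]⟩
    refine mem_bot.2 (Subtype.ext ?_)
    interval_cases i
    · rw [← hi', pow_zero]; rfl
    · exact absurd (show x ∈ L.R by rw [← pow_one x, hi']; exact v.2.1) hxR
    · exact absurd (show x ∈ L.R by
        have h2 : x ^ 2 ∈ L.R := by rw [hi']; exact v.2.1
        rw [show x = (x ^ 2) ^ 2 by rw [← pow_mul, show 2 * 2 = 3 + 1 by rfl, pow_succ, hx3, one_mul]]
        exact pow_mem h2 2) hxR
  have hXcard : Nat.card (c.Xy y) = 1512 := by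
    have := c.card_Cy y; rw [hC, hy3] at this; omega
  have hC27 : Nat.card C ∣ 27 := by
    obtain ⟨j, hj⟩ := IsPGroup.iff_card.1 (hRp.to_le (inf_le_left : C ≤ L.R))
    have h1 := Subgroup.card_dvd_of_injective ι hι
    rw [hj, hXcard] at h1
    rw [hj]
    exact (Nat.Coprime.pow_left j (by norm_num : Nat.Coprime 3 56)).dvd_of_dvd_mul_right
      (show 3 ^ j ∣ 27 * 56 from h1)
  -- the Frattini quotient
  have hxNR : x ∈ normalizer (L.R : Set G) := hxN.2
  have hhNR : h ∈ normalizer (L.R : Set G) := (L.H_le_N0 hh.2).2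
  have hh13 : h ^ 13 = 1 := by rw [← hho, pow_orderOf_eq_one]
  have hfp : ∀ v ∈ L.R, Commute h v → v = 1 := fun v hv hc => L.fpf hn hq3 h4 hh.2 hh1 hv hc
  obtain ⟨hRcard, -⟩ := frobenius_fixed (p := 3) (l := 13) (r := 3) (by norm_num) (by norm_num)
    Nat.prime_three (Or.inr ⟨rfl, rfl⟩) hh13 hx3 hk hk1 _ L.R rfl hRp hhNR hxNR hfp
  set H' := frAut L.R ⟨h, hhNR⟩ with hH'
  set X' := frAut L.R ⟨x, hxNR⟩ with hX'
  have hH'o : orderOf H' = 13 := orderOf_eq_prime
    (by rw [hH', ← map_pow]; exact (congrArg _ (Subtype.ext hh13)).trans (map_one _))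
    (L.frAut_ne_one hn hq3 h4 hh.2 hh1)
  have hconj : X' * H' * X'⁻¹ = H' ^ k := by
    rw [hX', hH', ← map_inv, ← map_mul, ← map_mul, ← map_pow]
    exact congrArg _ (Subtype.ext hk)
  have hW : Nat.card (FQ L.R) = Nat.card {w : FQ L.R // X' w = w} ^ 3 := by
    refine card_eq_fixed_pow (p := 3) (by norm_num : (13 : ℕ).Prime) Nat.prime_three (fq_pow hRp)
      (h := H') ?_ (L.frAut_ne_one hn hq3 h4 hh.2 hh1) ?_ hconj hk1 (L.fpf_fq hn hq3 h4 hh.2 hh1)
    · rw [← hH'o, pow_orderOf_eq_one]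
    · rw [hX', ← map_pow]; exact (congrArg _ (Subtype.ext hx3)).trans (map_one _)
  obtain ⟨m, hm6, hm⟩ : ∃ m, m ≤ 6 ∧ Nat.card (FQ L.R) = 3 ^ m := by
    have hdvd : Nat.card (FQ L.R) ∣ 27 ^ 3 := by
      refine (Subgroup.card_quotient_dvd_card (frattini L.R)).trans ?_
      rw [hRcard]
      exact pow_dvd_pow_of_dvd hC27 3
    obtain ⟨j, hj, hj'⟩ := (Nat.dvd_prime_pow Nat.prime_three).1
      (show Nat.card (FQ L.R) ∣ 3 ^ 9 by rw [show (3 : ℕ) ^ 9 = 27 ^ 3 by norm_num]; exact hdvd)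
    refine ⟨j, ?_, hj'⟩
    by_contra hj6
    -- then `R` has exponent three, against an element of order nine in the section
    obtain ⟨i, hi, hi'⟩ := (Nat.dvd_prime_pow Nat.prime_three).1 (show Nat.card C ∣ 3 ^ 3 from hC27)
    have hWd : ∃ i', Nat.card {w : FQ L.R // X' w = w} = 3 ^ i' := by
      have h1 : Nat.card {w : FQ L.R // X' w = w} ∣ 3 ^ j := hj' ▸ hW ▸ dvd_pow_self _ (by norm_num)
      obtain ⟨i', -, e⟩ := (Nat.dvd_prime_pow Nat.prime_three).1 h1
      exact ⟨i', e⟩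
    obtain ⟨i', hi''⟩ := hWd
    rw [hi'', hj', ← pow_mul] at hW
    have hji : j = i' * 3 := Nat.pow_right_injective (by norm_num : 2 ≤ 3) hW
    have hRj : Nat.card L.R = 3 ^ (i * 3) := by rw [hRcard, hi', ← pow_mul]
    have hle : Nat.card (FQ L.R) ≤ Nat.card L.R :=
      Nat.le_of_dvd Nat.card_pos (Subgroup.card_quotient_dvd_card (frattini L.R))
    rw [hj', hRj, Nat.pow_le_pow_iff_right (by norm_num)] at hle
    have h93 : i = 3 ∧ j = 9 := by omega
    have hbot : frattini L.R = ⊥ := by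
      refine (frattini L.R).eq_bot_of_card_eq ?_
      have := (frattini L.R).card_mul_index
      rw [Subgroup.index_eq_card, hj', hRj, h93.1, h93.2] at this
      omega
    have hexp : ∀ v : L.R, v ^ 3 = 1 := fun v => by
      have h1 := fq_pow hRp (v : FQ L.R)
      rw [← QuotientGroup.mk_pow, QuotientGroup.eq_one_iff, hbot, mem_bot] at h1
      exact h1
    let T : Sylow 3 (c.Xy y) := IsPGroup.toSylow (P := ι.range)
      ((hRp.to_le (inf_le_left : C ≤ L.R)).of_surjective ι.rangeRestrict ι.rangeRestrict_surjective) (by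
      have := ι.range.card_mul_index
      rw [← Nat.card_congr (MonoidHom.ofInjective hι).toEquiv, hi', h93.1, hXcard] at this
      omega)
    obtain ⟨z, hz⟩ := c.exists_orderOf_nine_Xy hQ hC hy3
    obtain ⟨Q, hQ⟩ := (IsPGroup.of_card (n := 2) (by rw [Nat.card_zpowers, hz]; norm_num) :
      IsPGroup 3 (zpowers z)).exists_le_sylow
    obtain ⟨g, hg⟩ := MulAction.exists_smul_eq (c.Xy y) Q T
    have h1 : g * z * g⁻¹ ∈ (T : Subgroup (c.Xy y)) := by
      rw [← hg, Sylow.coe_subgroup_smul]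
      exact ⟨z, hQ (mem_zpowers z), rfl⟩
    rw [IsPGroup.toSylow_coe] at h1
    obtain ⟨v, hv⟩ := h1
    have h2 : (g * z * g⁻¹) ^ 3 = 1 := by
      rw [← hv, ← map_pow, show v ^ 3 = 1 from Subtype.ext
        (congrArg Subtype.val (hexp ⟨(v : G), v.2.1⟩) :), map_one]
    rw [conj_pow, conj_eq_one_iff] at h2
    have := orderOf_dvd_of_pow_eq_one h2
    rw [hz] at this
    norm_num at this
  -- the image group
  set A := L.act.range with hA
  have hrs : Function.Surjective L.act.rangeRestrict := L.act.rangeRestrict_surjective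
  have hAodd : Odd (Nat.card A) := L.odd_N0.of_dvd_nat (Subgroup.card_range_dvd L.act)
  haveI := Cfsg.Agent.S0205.result hAodd
  have hA13 : ¬ 13 ^ 3 ∣ Nat.card A := not_dvd_of_le_729 (fq_pow hRp) hm6 hm A.subtype A.subtype_injective
  have h13comm : ∀ Q : Subgroup A, IsPGroup 13 Q → ∀ u ∈ Q, ∀ v ∈ Q, Commute u v := by
    intro Q hQ u hu v hv
    obtain ⟨i, hi⟩ := IsPGroup.iff_card.1 hQ
    have hi2 : i ≤ 2 := by
      by_contra hlt
      exact hA13 ((pow_dvd_pow 13 (by omega : 3 ≤ i)).trans (hi ▸ Subgroup.card_subgroup_dvd_card Q))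
    have hcm : ∀ a b : Q, a * b = b * a := by
      interval_cases i
      · intro a b
        haveI := (Nat.card_eq_one_iff_unique.1 (by rw [hi, pow_zero] : Nat.card Q = 1)).1
        exact Subsingleton.elim _ _
      · haveI : IsCyclic Q := isCyclic_of_prime_card (p := 13) (by rw [hi, pow_one])
        letI := IsCyclic.commGroup (α := Q)
        exact mul_comm
      · exact (IsPGroup.isMulCommutative_of_card_eq_prime_sq (p := 13) hi).is_comm.comm
    exact congrArg Subtype.val (hcm ⟨u, hu⟩ ⟨v, hv⟩)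
  set hA' : A := L.act.rangeRestrict ⟨h, L.H_le_N0 hh.2⟩ with hhA'
  have hhA'v : (hA' : MulAut (FQ L.R)) = H' := rfl
  have hhA'o : orderOf hA' = 13 := by rw [← Subgroup.orderOf_coe, hhA'v, hH'o]
  -- the three-core
  have hcore3 : Cfsg.pCore 3 A = ⊥ := by
    set J := ((Cfsg.pCore 3 A).comap L.act.rangeRestrict).map L.N0.subtype with hJ
    have hJle : J ≤ L.N0 := map_subtype_le _
    have hJn : L.N0 ≤ normalizer (J : Set G) := fun v hv => by
      refine Fusion.le_normalizer_of_conj_mem fun w hw => ?_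
      obtain ⟨w, hw', rfl⟩ := Subgroup.mem_map.1 hw
      refine Subgroup.mem_map.2 ⟨⟨v, hv⟩ * w * (⟨v, hv⟩ : L.N0)⁻¹, ?_, by simp⟩
      rw [mem_comap] at hw' ⊢
      rw [map_mul, map_mul, map_inv]
      exact (inferInstance : (Cfsg.pCore 3 A).Normal).conj_mem _ hw' _
    have hle : J ≤ L.R ⊔ L.X1 := L.core' hJle hJn fun v hv => by
      obtain ⟨w, hw', hwv⟩ := Subgroup.mem_map.1 hv
      obtain ⟨i, hi⟩ := Core.pCore_isPGroup 3 A ⟨_, mem_comap.1 hw'⟩
      refine ⟨i, ?_⟩
      have h1 : L.act w ^ 3 ^ i = 1 := congrArg Subtype.val (congrArg Subtype.val hi :)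
      obtain ⟨w, hw⟩ := w
      rw [L.act_apply hw] at h1
      simpa [← hwv] using h1
    refine eq_bot_iff.2 fun v hv => mem_bot.2 ?_
    obtain ⟨⟨w, hw⟩, rfl⟩ := hrs v
    refine Subtype.ext ?_
    show L.act ⟨w, hw⟩ = 1
    rw [L.act_apply hw]
    exact L.frAut_RX _ (hle (Subgroup.mem_map.2 ⟨⟨w, hw⟩, mem_comap.2 hv, rfl⟩))
  -- the Fitting subgroup
  set Φ := Cfsg.fittingSubgroup A with hΦ
  have hFcent : Φ ≤ centralizer ({hA'} : Set A) := by
    rw [hΦ, Core.fittingSubgroup_eq_iSup_pCore]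
    refine iSup_le fun q => ?_
    haveI : Fact (q : ℕ).Prime := ⟨q.2⟩
    have hQ := Core.pCore_isPGroup (q : ℕ) A
    by_cases h3 : (q : ℕ) = 3
    · rw [h3, hcore3]; exact bot_le
    by_cases h2 : (q : ℕ) = 2
    · intro v hv
      obtain ⟨i, hi⟩ := hQ ⟨v, hv⟩
      have hi' : v ^ 2 ^ i = 1 := h2 ▸ congrArg Subtype.val hi
      have hv1 : v = 1 := orderOf_eq_one_iff.1 (Nat.eq_one_of_dvd_coprimes
        (Nat.Coprime.pow_left i (Nat.coprime_two_left.2 hAodd)) (orderOf_dvd_of_pow_eq_one hi')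
        (orderOf_dvd_natCard v))
      rw [hv1]; exact one_mem _
    intro v hv
    refine mem_centralizer_singleton_iff.2 ?_
    by_cases h13 : (q : ℕ) = 13
    · have hQ13 : IsPGroup 13 (Cfsg.pCore (q : ℕ) A) := h13 ▸ hQ
      have hn : zpowers hA' ≤ normalizer ((Cfsg.pCore (q : ℕ) A : Subgroup A) : Set A) := fun g _ => by
        rw [normalizer_eq_top_iff.2 inferInstance]; exact mem_top _
      have hS : IsPGroup 13 ↥(zpowers hA' ⊔ Cfsg.pCore (q : ℕ) A) := IsPGroup.to_sup_of_normal_right'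
        (IsPGroup.of_card (n := 1) (by rw [Nat.card_zpowers, hhA'o, pow_one])) hQ13 hn
      exact (h13comm _ hS v (mem_sup_right hv) hA' (mem_sup_left (mem_zpowers _))).eq
    refine Subtype.ext ?_
    have e := centralizes_of_fpf (ℓ := 3) (q := (q : ℕ)) (r := 13) (fq_pow hRp) h2 (Ne.symm h3)
      (by norm_num) h13 (Q := (Cfsg.pCore (q : ℕ) A).map A.subtype) (hQ.map _) (y := H')
      (by rw [← hH'o, pow_orderOf_eq_one])
      (by
        rintro _ ⟨b, hb, rfl⟩
        exact ⟨hA' * b * hA'⁻¹, (inferInstance : (Cfsg.pCore (q : ℕ) A).Normal).conj_mem _ hb _, rfl⟩)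
      (L.fpf_fq hn hq3 h4 hh.2 hh1) (a := (v : MulAut (FQ L.R))) ⟨v, hv, rfl⟩
    exact e.symm
  have hhF : hA' ∈ Φ := Core.centralizer_fitting_le_of_isSolvable (mem_centralizer_iff.2 fun v hv =>
    mem_centralizer_singleton_iff.1 (hFcent hv))
  -- the elements of exponent thirteen of the centre of the Fitting subgroup
  let V' : Subgroup A :=
    { carrier := {v | v ∈ Φ ∧ v ^ 13 = 1 ∧ ∀ f ∈ Φ, Commute f v}
      one_mem' := ⟨one_mem _, one_pow _, fun f _ => Commute.one_right f⟩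
      mul_mem' := by
        rintro a b ⟨ha1, ha2, ha3⟩ ⟨hb1, hb2, hb3⟩
        exact ⟨mul_mem ha1 hb1, by rw [(hb3 a ha1).mul_pow, ha2, hb2, one_mul],
          fun f hf => (ha3 f hf).mul_right (hb3 f hf)⟩
      inv_mem' := by
        rintro a ⟨ha1, ha2, ha3⟩
        exact ⟨inv_mem ha1, by rw [inv_pow, ha2, inv_one], fun f hf => (ha3 f hf).inv_right⟩ }
  haveI hV'c : V'.Characteristic := characteristic_iff_le_comap.2 fun e v hv => by
    obtain ⟨h1, h2, h3⟩ := hv
    have hfix := (inferInstance : Φ.Characteristic).fixed e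
    refine ⟨hfix.symm.le h1, by rw [← map_pow, h2, map_one], fun f hf => ?_⟩
    have hf' : e.symm f ∈ Φ := by
      rw [← hfix]
      show e (e.symm f) ∈ Φ
      rwa [e.apply_symm_apply]
    have := (h3 _ hf').map e.toMonoidHom
    simpa using this
  set Vg := V'.map A.subtype with hVg
  have hAV : A ≤ normalizer (Vg : Set (MulAut (FQ L.R))) := fun g hg =>
    Core.normalizer_le_normalizer_map_char V' (le_normalizer hg)
  set T := frAut L.R ⟨c.t, L.t_R⟩ with hT
  have hTA : T ∈ normalizer (A : Set (MulAut (FQ L.R))) := by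
    refine Fusion.le_normalizer_of_conj_mem fun g hg => ?_
    obtain ⟨⟨g, hg⟩, rfl⟩ := hg
    refine ⟨⟨c.t * g * c.t⁻¹, (mem_normalizer_iff.1 L.t_N0 g).1 hg⟩, ?_⟩
    rw [L.act_apply, L.act_apply hg, hT, ← map_inv, ← map_mul, ← map_mul]
    rfl
  have hTV : T ∈ normalizer (Vg : Set (MulAut (FQ L.R))) := Core.normalizer_le_normalizer_map_char V' hTA
  have hV13 : IsPGroup 13 V' := fun v => ⟨1, Subtype.ext (by
    rw [pow_one, SubmonoidClass.coe_pow, v.2.2.1]; rfl)⟩
  letI : CommGroup Vg :=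
    { (inferInstance : Group Vg) with
      mul_comm := by
        rintro ⟨_, u, hu, rfl⟩ ⟨_, v, hv, rfl⟩
        exact Subtype.ext (show A.subtype u * A.subtype v = A.subtype v * A.subtype u by
          rw [← map_mul, ← map_mul, (hv.2.2 u hu.1).eq]) }
  have hV : ∀ v : Vg, v ^ 13 = 1 := by
    rintro ⟨_, v, hv, rfl⟩
    exact Subtype.ext (congrArg Subtype.val hv.2.1 :)
  obtain ⟨kv, hkv⟩ := IsPGroup.iff_card.1 hV13
  have hkv2 : kv ≤ 2 := by
    by_contra hlt
    exact hA13 ((pow_dvd_pow 13 (by omega : 3 ≤ kv)).trans (hkv ▸ Subgroup.card_subgroup_dvd_card V'))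
  have hVcard : Nat.card Vg = 13 ^ kv := by rw [hVg, Core.card_map_subtype, hkv]
  haveI : Finite (MulAut Vg) := Finite.of_injective (fun f : MulAut Vg => (f : Vg → Vg)) DFunLike.coe_injective
  let ψ : A →* MulAut Vg := (Local.autOf Vg).comp (Subgroup.inclusion hAV)
  set A' := ψ.range with hA'def
  have hA'odd : Odd (Nat.card A') := hAodd.of_dvd_nat (Subgroup.card_range_dvd ψ)
  have hA'13 : ¬ 13 ∣ Nat.card A' := by
    obtain ⟨P⟩ : Nonempty (Sylow 13 A) := inferInstance
    haveI : V'.Normal := inferInstance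
    have hVP : V' ≤ (P : Subgroup A) := IsPGroup.le_sylow_of_normal hV13 P
    let P' : Sylow 13 A' := P.mapSurjective ψ.rangeRestrict_surjective
    have h1 : (P' : Subgroup A') = ⊥ := by
      rw [Sylow.coe_mapSurjective, Subgroup.map_eq_bot_iff]
      intro v hv
      refine Subtype.ext ((Local.autOf_eq_one_iff Vg _).2 (mem_centralizer_iff.2 ?_))
      rintro _ ⟨w, hw, rfl⟩
      exact congrArg Subtype.val (h13comm _ P.2 w (hVP hw) v hv).eq
    intro hd
    exact P'.ne_bot_of_dvd_card hd h1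
  have hA63 : Nat.card A' ∣ 63 :=
    card_dvd_sixtyThree hV hVcard hkv2 A'.subtype A'.subtype_injective hA'odd hA'13
  set τ0 := Local.autOf Vg ⟨T, hTV⟩ with hτ0
  have hτA : τ0 ∈ normalizer (A' : Set (MulAut Vg)) := by
    refine Fusion.le_normalizer_of_conj_mem fun g hg => ?_
    obtain ⟨⟨g, hg⟩, rfl⟩ := hg
    refine ⟨⟨T * g * T⁻¹, (mem_normalizer_iff.1 hTA g).1 hg⟩, ?_⟩
    show Local.autOf Vg (⟨T, hTV⟩ * ⟨g, hAV hg⟩ * (⟨T, hTV⟩ : normalizer (Vg : Set _))⁻¹) =
      τ0 * Local.autOf Vg ⟨g, hAV hg⟩ * τ0⁻¹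
    rw [map_mul, map_mul, map_inv]
  have hT2 : T * T = 1 := by
    rw [hT, ← map_mul]
    exact (congrArg _ (Subtype.ext c.t_sq)).trans (map_one _)
  have hτ02 : τ0 * τ0 = 1 := by
    rw [hτ0, ← map_mul]
    exact (congrArg _ (Subtype.ext hT2)).trans (map_one _)
  let τ : MulAut A' := Local.autOf A' ⟨τ0, hτA⟩
  have hτ : ∀ g, τ (τ g) = g := fun g => Subtype.ext (by
    show τ0 * (τ0 * (g : MulAut Vg) * τ0⁻¹) * τ0⁻¹ = g
    rw [show τ0 * (τ0 * (g : MulAut Vg) * τ0⁻¹) * τ0⁻¹ = τ0 * τ0 * g * (τ0 * τ0)⁻¹ by group, hτ02]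
    group)
  set xA : A := L.act.rangeRestrict ⟨x, hxN⟩ with hxA
  set xA' : A' := ψ.rangeRestrict xA with hxA'
  have hxAv : (xA : MulAut (FQ L.R)) = X' := rfl
  have hTX : Commute T X' := by
    show T * X' = X' * T
    rw [hT, hX', ← map_mul, ← map_mul]
    exact congrArg _ (Subtype.ext (c.y_comm_t y).eq.symm)
  have hτx : τ xA' = xA' := Subtype.ext (by
    show τ0 * Local.autOf Vg ⟨(xA : MulAut (FQ L.R)), _⟩ * τ0⁻¹ = Local.autOf Vg ⟨(xA : MulAut (FQ L.R)), _⟩
    rw [hτ0, ← map_inv, ← map_mul, ← map_mul]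
    exact congrArg _ (Subtype.ext (commute_conj_iff.2 (hxAv ▸ hTX))))
  have hxA3 : xA' ^ 3 = 1 := by
    rw [hxA', hxA, ← map_pow, ← map_pow]
    exact (congrArg _ (congrArg _ (Subtype.ext hx3))).trans (by rw [map_one, map_one])
  have hhV : hA' ∈ V' := ⟨hhF, by rw [← hhA'o, pow_orderOf_eq_one],
    fun f hf => mem_centralizer_singleton_iff.1 (hFcent hf)⟩
  have hxA1 : xA' ≠ 1 := by
    intro e
    have h1 := (Local.autOf_eq_one_iff Vg _).1 (congrArg Subtype.val e :)
    have h2 := mem_centralizer_iff.1 h1 (hA' : MulAut (FQ L.R)) ⟨hA', hhV, rfl⟩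
    have h3 : H' ^ k = H' ^ 1 := by
      rw [pow_one, ← hconj]
      exact commute_conj_iff.2 (show Commute X' H' from h2.symm)
    rw [pow_eq_pow_iff_modEq, hH'o] at h3
    exact hk1 h3
  obtain ⟨B, hB, χ, hχ, hχx⟩ := exists_invariant_char hA63 τ hτ hτx hxA3 hxA1
  refine hχx (L.char_eq_one (B := B) ((χ.comp ψ.rangeRestrict).comp L.act.rangeRestrict) (fun g => ?_) hxP)
  show χ (ψ.rangeRestrict (L.act.rangeRestrict _)) = χ (ψ.rangeRestrict (L.act.rangeRestrict g))
  rw [← hχ (ψ.rangeRestrict (L.act.rangeRestrict g))]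
  refine congrArg χ (Subtype.ext ?_)
  show Local.autOf Vg ⟨L.act _, _⟩ = τ0 * Local.autOf Vg ⟨L.act g, _⟩ * τ0⁻¹
  rw [hτ0, ← map_inv, ← map_mul, ← map_mul]
  refine congrArg _ (Subtype.ext ?_)
  obtain ⟨g, hg⟩ := g
  show L.act ⟨c.t * g * c.t⁻¹, _⟩ = T * L.act ⟨g, hg⟩ * T⁻¹
  rw [L.act_apply, L.act_apply hg, hT, ← map_inv, ← map_mul, ← map_mul]
  rfl

end Cfg

end Cfsg.Lib.Walter3.Field
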