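import Cfsg.Agent.Lib.Walter3.Field.Fixed
import Cfsg.Agent.Lib.Char.Induced
import Mathlib.RingTheory.IntegralDomain

/-!
# Sums over the two double cosets

A function supported on `A ∪ V i A`, with `V ≤ R` and `A = V M`, is summed on the two double
cosets; pairs of inductions are expanded through such sums.
-/

set_option autoImplicit false
set_option linter.unusedSectionVars false
set_option linter.style.haveILetI false

namespace Cfsg.Lib.Walter3.Field

open Subgroup Cfsg Cfsg.Lib.Char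
open scoped ComplexConjugate

universe u

section Hom

variable {A : Type u} [Group A] [Finite A]

/-- The conjugate of a linear character. -/
theorem conj_hom (φ : A →* ℂˣ) (x : A) : conj (φ x : ℂ) = (φ⁻¹ x : ℂˣ) := by
  have h : ‖(φ x : ℂ)‖ = 1 := by
    refine Complex.norm_eq_one_of_pow_eq_one (n := Nat.card A) ?_ Nat.card_pos.ne'
    rw [← Units.val_pow_eq_pow_val, ← map_pow, pow_card_eq_one', map_one, Units.val_one]
  rw [MonoidHom.inv_apply, Units.val_inv_eq_inv_val]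
  exact (Complex.inv_eq_conj h).symm

theorem sum_hom [Fintype A] (φ : A →* ℂˣ) [Decidable (φ = 1)] :
    ∑ x, (φ x : ℂ) = if φ = 1 then (Nat.card A : ℂ) else 0 := by
  split_ifs with h
  · simp [h, Nat.card_eq_fintype_card]
  · exact sum_hom_units_eq_zero ((Units.coeHom ℂ).comp φ) fun e => h (MonoidHom.ext fun z =>
      Units.ext (by simpa using DFunLike.congr_fun e z))

open Classical in
theorem sum_pair [Fintype A] (φ ψ : A →* ℂˣ) :
    ∑ x, (φ x : ℂ) * conj (ψ x : ℂ) = if φ = ψ then (Nat.card A : ℂ) else 0 := by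
  have h := sum_hom (φ * ψ⁻¹)
  have hiff : φ * ψ⁻¹ = 1 ↔ φ = ψ := by
    constructor
    · intro e
      ext x
      have := DFunLike.congr_fun e x
      rw [MonoidHom.mul_apply, MonoidHom.inv_apply, MonoidHom.one_apply, mul_inv_eq_one] at this
      rw [this]
    · rintro rfl
      ext x
      simp
  refine Eq.trans ?_ (h.trans (if_congr hiff rfl rfl))
  exact Finset.sum_congr rfl fun x _ => by rw [conj_hom, MonoidHom.mul_apply, Units.val_mul]

open Classical in
/-- The inner product of two differences of linear characters. -/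
theorem sum_diff [Fintype A] (φ φ' ψ ψ' : A →* ℂˣ) :
    ∑ x, ((φ x : ℂ) - φ' x) * conj ((ψ x : ℂ) - ψ' x) =
      (Nat.card A : ℂ) * ((if φ = ψ then 1 else 0) - (if φ = ψ' then 1 else 0) -
        (if φ' = ψ then 1 else 0) + (if φ' = ψ' then 1 else 0)) := by
  simp only [map_sub, sub_mul, mul_sub, Finset.sum_sub_distrib, sum_pair]
  split_ifs <;> ring

end Hom

namespace Full

variable {G : Type u} [Group G] [Fintype G] {F : Type} [Field F] [Fintype F] {c : Cfg G F}
  (D : Full c) (A V : Subgroup G)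
include D

open Classical in
/-- A function supported on `A ∪ V i A`. -/
theorem sum_cosets (hV : V ≤ D.bd.R) (hA : A ≤ D.B) {f : G → ℂ}
    (hf : ∀ x, f x ≠ 0 → x ∈ A ∨ ∃ v ∈ V, (v * c.i)⁻¹ * x ∈ A) :
    ∑ x, f x = (∑ z : A, f z) + ∑ v : V, ∑ z : A, f ((v : G) * c.i * z) := by
  let ι : A ⊕ (V × A) → G := Sum.elim (fun z => (z : G)) fun p => (p.1 : G) * c.i * p.2
  have key : ∀ (v : V) (z z' : A), (v : G) * c.i * z ≠ z' := by
    intro v z z' h
    refine D.i_notMem ?_
    have e : c.i = (v : G)⁻¹ * z' * (z : G)⁻¹ := by rw [← h]; group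
    rw [e]
    exact mul_mem (mul_mem (inv_mem (D.R_le_B (hV v.2))) (hA z'.2)) (inv_mem (hA z.2))
  have hι : Function.Injective ι := by
    rintro (z | ⟨v, z⟩) (z' | ⟨v', z'⟩) h <;> simp only [ι, Sum.elim_inl, Sum.elim_inr] at h
    · exact congrArg _ (Subtype.ext h)
    · exact absurd h.symm (key v' z' z)
    · exact absurd h (key v z z')
    · obtain rfl : v = v' := Subtype.ext (D.ri_unique (hV v.2) (hV v'.2) (by
        have e : ((v : G) * c.i)⁻¹ * ((v' : G) * c.i) = (z : G) * (z' : G)⁻¹ := by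
          calc ((v : G) * c.i)⁻¹ * ((v' : G) * c.i)
              = ((v : G) * c.i)⁻¹ * ((v' : G) * c.i * z') * (z' : G)⁻¹ := by group
            _ = (z : G) * (z' : G)⁻¹ := by rw [← h]; group
        rw [e]
        exact mul_mem (hA z.2) (inv_mem (hA z'.2))))
      exact congrArg _ (Prod.ext rfl (Subtype.ext (mul_left_cancel h)))
  calc ∑ x, f x = ∑ p, f (ι p) := by
        refine (Finset.sum_of_injOn ι hι.injOn (by simp) (fun x _ hx => ?_) fun p _ => rfl).symm
        by_contra hne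
        refine hx ?_
        rcases hf x hne with h | ⟨v, hv, h⟩
        · exact ⟨Sum.inl ⟨x, h⟩, by simp, rfl⟩
        · exact ⟨Sum.inr (⟨v, hv⟩, ⟨_, h⟩), by simp, by simp only [ι, Sum.elim_inr]; group⟩
    _ = _ := by rw [Fintype.sum_sum_type, Fintype.sum_prod_type]; rfl

/-- An element of `A` moved into `A` by `i` lies in `M`. -/
theorem mem_M_of_conj_i {g : G} (hg : g ∈ D.B) (h : c.i * g * c.i⁻¹ ∈ D.B) : g ∈ c.M := by
  obtain ⟨r, hr, m, hm, rfl⟩ := D.mem_B.1 hg
  have h2 : c.i * r * c.i⁻¹ ∈ D.B := by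
    have := mul_mem h (inv_mem (D.M_le_B (c.i_conj_M hm)))
    rwa [show c.i * (r * m) * c.i⁻¹ * (c.i * m * c.i⁻¹)⁻¹ = c.i * r * c.i⁻¹ by group] at this
  rw [D.conj_i_R hr h2, one_mul]
  exact hm

open Classical in
/-- The basic double sum, inside a subgroup. -/
theorem sum_double_in (K : Subgroup G) (hAK : A ≤ K) (hVK : ∀ v ∈ V, v * c.i ∈ K) (hV : V ≤ D.bd.R) (hA : A ≤ D.B) {α β : G → ℂ}
    (hα : ∀ g, g ∉ A → α g = 0) (hαV : ∀ v ∈ V, ∀ g, α (v * g * v⁻¹) = α g)
    (hβ : ∀ g, g ∉ A → β g = 0)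
    (h : ∀ x ∈ K, ∀ g, α g ≠ 0 → β (x⁻¹ * g * x) ≠ 0 →
      x ∈ A ∨ ∃ v ∈ V, (v * c.i)⁻¹ * x ∈ A) :
    ∑ x : K, ∑ g : G, α g * β ((x : G)⁻¹ * g * x) =
      (∑ z : A, ∑ g : A, α g * β ((z : G)⁻¹ * g * z)) +
        (Nat.card V : ℂ) *
          ∑ z : A, ∑ m : c.M, α m * β ((z : G)⁻¹ * (c.i * m * c.i⁻¹) * z) := by
  have e0 : ∑ x : K, ∑ g : G, α g * β ((x : G)⁻¹ * g * x) =
      ∑ x : G, if x ∈ K then ∑ g : G, α g * β (x⁻¹ * g * x) else 0 := by
    rw [← Finset.sum_filter]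
    exact (Finset.sum_subtype _ (by simp) fun x => ∑ g : G, α g * β (x⁻¹ * g * x)).symm
  rw [e0, D.sum_cosets A V hV hA fun x hx => by
    split_ifs at hx with hK
    · obtain ⟨g, -, hg⟩ := Finset.exists_ne_zero_of_sum_ne_zero hx
      exact h x hK g (left_ne_zero_of_mul hg) (right_ne_zero_of_mul hg)
    · exact absurd rfl hx]
  have k1 : ∀ z : A, (z : G) ∈ K := fun z => hAK z.2
  have k2 : ∀ (v : V) (z : A), (v : G) * c.i * z ∈ K := fun v z => mul_mem (hVK v v.2) (hAK z.2)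
  simp only [k1, k2, if_true]
  have e1 : ∀ f : G → ℂ, (∀ g, g ∉ A → f g = 0) → ∑ g, f g = ∑ g : A, f g := fun f hf => by
    rw [← Finset.sum_subset (Finset.subset_univ (A : Set G).toFinset) fun g _ hg =>
      hf g (by simpa using hg)]
    exact Finset.sum_subtype _ (by simp) _
  congr 1
  · exact Finset.sum_congr rfl fun z _ => e1 _ fun g hg => by rw [hα g hg, zero_mul]
  · rw [Nat.card_eq_fintype_card, ← Finset.card_univ, ← nsmul_eq_mul, ← Finset.sum_const]
    refine Finset.sum_congr rfl fun v _ => Finset.sum_congr rfl fun z _ => ?_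
    have hz : ((v : G) * c.i * z)⁻¹ = (z : G)⁻¹ * c.i * (v : G)⁻¹ := by
      rw [_root_.mul_inv_rev, _root_.mul_inv_rev, c.i_inv, mul_assoc]
    rw [← Equiv.sum_comp (MulAut.conj (v : G)).toEquiv]
    simp only [MulEquiv.toEquiv_eq_coe, MulEquiv.coe_toEquiv, MulAut.conj_apply, hαV v v.2, hz]
    have e : ∀ g : G, (z : G)⁻¹ * c.i * (v : G)⁻¹ * ((v : G) * g * (v : G)⁻¹) * ((v : G) * c.i * z) =
        (z : G)⁻¹ * (c.i * g * c.i⁻¹) * z := fun g => by
      simp only [mul_assoc, inv_mul_cancel_left, c.i_inv]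
    simp only [e]
    rw [← Finset.sum_subset (Finset.subset_univ (c.M : Set G).toFinset) fun g _ hg => ?_]
    · exact Finset.sum_subtype _ (by simp) _
    · by_contra hne
      refine hg (Set.mem_toFinset.2 ?_)
      have hgA : g ∈ A := by_contra fun h' => left_ne_zero_of_mul hne (hα g h')
      have h2 : (z : G)⁻¹ * (c.i * g * c.i⁻¹) * z ∈ A :=
        by_contra fun h' => right_ne_zero_of_mul hne (hβ _ h')
      refine D.mem_M_of_conj_i (hA hgA) (hA ?_)
      have := mul_mem (mul_mem z.2 h2) (inv_mem z.2)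
      rwa [show (z : G) * ((z : G)⁻¹ * (c.i * g * c.i⁻¹) * z) * (z : G)⁻¹ = c.i * g * c.i⁻¹ by group]
        at this

open Classical in
/-- The basic double sum. -/
theorem sum_double (hV : V ≤ D.bd.R) (hA : A ≤ D.B) {α β : G → ℂ}
    (hα : ∀ g, g ∉ A → α g = 0) (hαV : ∀ v ∈ V, ∀ g, α (v * g * v⁻¹) = α g)
    (hβ : ∀ g, g ∉ A → β g = 0)
    (h : ∀ x g, α g ≠ 0 → β (x⁻¹ * g * x) ≠ 0 → x ∈ A ∨ ∃ v ∈ V, (v * c.i)⁻¹ * x ∈ A) :
    ∑ x : G, ∑ g : G, α g * β (x⁻¹ * g * x) =
      (∑ z : A, ∑ g : A, α g * β ((z : G)⁻¹ * g * z)) +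
        (Nat.card V : ℂ) *
          ∑ z : A, ∑ m : c.M, α m * β ((z : G)⁻¹ * (c.i * m * c.i⁻¹) * z) := by
  rw [← D.sum_double_in A V ⊤ le_top (fun _ _ => mem_top _) hV hA hα hαV hβ fun x _ g => h x g]
  exact (Fintype.sum_equiv Subgroup.topEquiv.toEquiv _ _ fun x => rfl).symm

omit D in
/-- Two inductions. -/
theorem classInner_ind_ind (P Q : Subgroup G) (a : P → ℂ) (b : Q → ℂ) :
    classInner (indFun P a) (indFun Q b) = (Nat.card P : ℂ)⁻¹ * (Nat.card Q : ℂ)⁻¹ *
      ∑ x : G, ∑ g : G, extendByZero P a g * conj (extendByZero Q b (x⁻¹ * g * x)) := by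
  haveI := Fintype.ofFinite P
  rw [classInner_indFun P a (isClassFunction_indFun Q b)]
  simp only [classInner, indFun, map_mul, map_sum, map_inv₀, Complex.conj_natCast]
  rw [← sum_extendByZero P a fun g => (Nat.card Q : ℂ)⁻¹ * ∑ x : G,
    conj (extendByZero Q b (x⁻¹ * g * x)), Finset.sum_comm (γ := G) (s := Finset.univ)]
  simp only [Finset.mul_sum]
  exact Finset.sum_congr rfl fun g _ => Finset.sum_congr rfl fun x _ => by ring

end Full

end Cfsg.Lib.Walter3.Field
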