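import Cfsg.Agent.Lib.Walter3.Field.Sections
import Cfsg.Agent.Lib.Walter3.Field.Blocks

/-!
# The differences `Θ_μ - Θ_1` of the characters induced from `B`

They vanish on real elements, have known values on the section of `t` and known inner products
among themselves and with the `W_ν`.
-/

set_option autoImplicit false
set_option linter.unusedSectionVars false
set_option linter.style.haveILetI false

namespace Cfsg.Lib.Walter3.Field

open Subgroup Cfsg Cfsg.Lib.Char Cfsg.Lib.Block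
open scoped ComplexConjugate

universe u

variable {G : Type u} [Group G] [Fintype G] {F : Type} [Field F] [Fintype F] {c : Cfg G F}

open Classical in
/-- A sum over a subgroup of a function vanishing outside a smaller one. -/
theorem sum_restrict {P Q : Subgroup G} [Fintype P] [Fintype Q] (hPQ : P ≤ Q) {f : G → ℂ}
    (hf : ∀ g, g ∈ Q → g ∉ P → f g = 0) : ∑ g : Q, f g = ∑ g : P, f g := by
  symm
  refine Finset.sum_of_injOn (fun g => (⟨g, hPQ g.2⟩ : Q)) ?_ (by simp) ?_ fun _ _ => rfl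
  · intro a _ b _ e
    exact Subtype.ext (congrArg (fun x : Q => (x : G)) e)
  · intro g _ hg
    exact hf g g.2 fun h => hg ⟨⟨g, h⟩, by simp, rfl⟩

namespace Full

variable (D : Full c)
include D

/-- `μ ∘ ρ - 1` on `B`. -/
noncomputable def aD (μ : c.Dual) : D.B → ℂ := fun b => (μ (D.ρ b) : ℂ) - 1

/-- The difference `Θ_μ - Θ_1`. -/
noncomputable def Dif (μ : c.Dual) : G → ℂ := indFun D.B (D.aD μ)

/-- Its defining function on `G`. -/
noncomputable def aG (μ : c.Dual) : G → ℂ := extendByZero D.B (D.aD μ)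

theorem aG_of_mem (μ : c.Dual) {g : G} (hg : g ∈ D.B) :
    D.aG μ g = (μ (D.ρ ⟨g, hg⟩) : ℂ) - 1 := extendByZero_of_mem _ _ hg

theorem aG_zero (μ : c.Dual) {g : G} (hg : g ∉ D.B) : D.aG μ g = 0 := extendByZero_of_notMem _ _ hg

theorem aG_ρ {μ : c.Dual} {g : G} (hg : g ∈ D.B) (h : D.aG μ g ≠ 0) : D.ρ ⟨g, hg⟩ ≠ 1 := fun e => by
  rw [D.aG_of_mem μ hg, e, map_one, Units.val_one, sub_self] at h
  exact h rfl

theorem aG_fusion (μ : c.Dual) {g x : G} (hg : g ∈ D.B) (hx : x⁻¹ * g * x ∈ D.B) :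
    D.aG μ (x⁻¹ * g * x) = D.aG μ g := by
  rw [D.aG_of_mem μ hg, D.aG_of_mem μ hx, D.ρ_conj (g := ⟨g, hg⟩) hx]

theorem aG_conj (μ : c.Dual) {z : G} (hz : z ∈ D.B) (g : G) :
    D.aG μ (z * g * z⁻¹) = D.aG μ g := by
  by_cases hg : g ∈ D.B
  · have h : (z⁻¹)⁻¹ * g * z⁻¹ ∈ D.B := mul_mem (mul_mem (inv_mem (inv_mem hz)) hg) (inv_mem hz)
    have := D.aG_fusion μ hg h
    rwa [inv_inv] at this
  · rw [D.aG_zero μ hg, D.aG_zero μ fun h => hg ?_]
    have := mul_mem (mul_mem (inv_mem hz) h) hz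
    rwa [show z⁻¹ * (z * g * z⁻¹) * z = g by group] at this

theorem Dif_isGeneralized (μ : c.Dual) : IsGeneralizedCharacter G (D.Dif μ) :=
  isGeneralizedCharacter_indFun D.B
    ((isIrrCharacter_linear (μ.comp D.ρ)).isGeneralized.sub isCharacter_one.isGeneralized)

theorem Dif_eq_zero (μ : c.Dual) {g : G}
    (h : ∀ x : G, ∀ hx : x⁻¹ * g * x ∈ D.B, D.ρ ⟨_, hx⟩ = 1) : D.Dif μ g = 0 := by
  rw [Dif, indFun, Finset.sum_eq_zero, mul_zero]
  intro x _
  by_cases hx : x⁻¹ * g * x ∈ D.B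
  · rw [extendByZero_of_mem _ _ hx, aD, h x hx, map_one, Units.val_one, sub_self]
  · rw [extendByZero_of_notMem _ _ hx]

theorem Dif_one (μ : c.Dual) : D.Dif μ 1 = 0 := by
  rw [Dif, indFun_apply_one, aD, map_one, map_one, Units.val_one, sub_self, mul_zero]

theorem Dif_t (μ : c.Dual) : D.Dif μ c.t = 0 := by
  refine D.Dif_eq_zero μ fun x hx => D.ρ_eq_one_iff.2 ?_
  show orderOf (x⁻¹ * c.t * x) ∣ _
  rw [show (x⁻¹ * c.t * x) = MulAut.conj x⁻¹ c.t by rw [MulAut.conj_apply, inv_inv],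
    MulEquiv.orderOf_eq, c.orderOf_t]
  have h2 : 2 ∣ Fintype.card F - 1 := by have := c.q_odd; omega
  exact h2.mul_left _

/-- The differences vanish on real elements. -/
theorem Dif_real (μ : c.Dual) {g x : G} (hx : x * g * x⁻¹ = g⁻¹) : D.Dif μ g = 0 := by
  refine D.Dif_eq_zero μ fun z hz => ?_
  have h' : (z⁻¹ * x⁻¹ * z)⁻¹ * (z⁻¹ * g * z) * (z⁻¹ * x⁻¹ * z) = (z⁻¹ * g * z)⁻¹ := by
    rw [show (z⁻¹ * x⁻¹ * z)⁻¹ * (z⁻¹ * g * z) * (z⁻¹ * x⁻¹ * z) = z⁻¹ * (x * g * x⁻¹) * z by group, hx]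
    group
  have h2 := D.ρ_conj (g := ⟨_, hz⟩) (h'.symm ▸ inv_mem hz)
  rw [D.ρ_congr (h := (⟨z⁻¹ * g * z, hz⟩ : D.B)⁻¹) h', map_inv] at h2
  refine c.eq_one_of_sq _ ?_
  nth_rewrite 1 [← h2]
  rw [inv_mul_cancel]

/-- The values on the section of `t`. -/
theorem Dif_sect (μ : c.Dual) {y : c.Ct} (hy : IsPRegular 2 y) :
    D.Dif μ (c.t * y) = ((c.lam μ y : ℂ) - 1) * D.perm y := by
  classical
  haveI := Fintype.ofFinite c.Ct
  have hodd : Odd (orderOf y) := Nat.odd_iff.2 (Nat.two_dvd_ne_zero.1 hy)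
  have hpow : (c.t * (y : G)) ^ orderOf y = c.t := by
    have h2 : (y : G) ^ orderOf y = 1 := by
      rw [← Subgroup.coe_pow, pow_orderOf_eq_one, OneMemClass.coe_one]
    rw [(comm_Ct c y).mul_pow, h2, mul_one]
    obtain ⟨k, hk⟩ := hodd
    rw [hk, pow_succ, pow_mul, pow_two, c.t_sq, one_pow, one_mul]
  set f : G → ℂ := fun x => D.aG μ (x⁻¹ * (c.t * y) * x) with hf
  have hfR : ∀ x r, r ∈ D.bd.R → f (x * r) = f x := fun x r hr => by
    show D.aG μ ((x * r)⁻¹ * (c.t * y) * (x * r)) = _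
    rw [show (x * r)⁻¹ * (c.t * y) * (x * r) = r⁻¹ * (x⁻¹ * (c.t * y) * x) * r⁻¹⁻¹ by group]
    exact D.aG_conj μ (inv_mem (D.R_le_B hr)) _
  -- count the translates in `C(t)`
  have hcount : ∀ x : G, f x ≠ 0 →
      (Finset.univ.filter fun r : D.bd.R => x * (r : G) ∈ c.Ct).card = Fintype.card F := by
    intro x hx
    have hB : x⁻¹ * (c.t * y) * x ∈ D.B := by_contra fun h => hx (D.aG_zero μ h)
    have ht : x⁻¹ * c.t * x ∈ D.B := by
      have := pow_mem hB (orderOf y)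
      rwa [show x⁻¹ * (c.t * y) * x = x⁻¹ * (c.t * y) * x⁻¹⁻¹ by group, conj_pow, hpow, inv_inv] at this
    obtain ⟨r₀, hr₀, e⟩ := D.invol_B ht
      (fun e => c.t_ne (by
        calc c.t = x * (x⁻¹ * c.t * x) * x⁻¹ := by group
          _ = 1 := by rw [e]; group))
      (by rw [show x⁻¹ * c.t * x * (x⁻¹ * c.t * x) = x⁻¹ * (c.t * c.t) * x by group, c.t_sq]; group)
    have h₀ : x * r₀ ∈ c.Ct := by
      refine mem_centralizer_singleton_iff.2 ?_
      calc x * r₀ * c.t = x * (r₀ * c.t * r₀⁻¹) * r₀ := by group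
        _ = c.t * (x * r₀) := by rw [← e]; group
    rw [← c.card_U, Nat.card_eq_fintype_card, ← Finset.card_univ]
    symm
    refine Finset.card_bij (fun u _ => (⟨r₀ * u, mul_mem hr₀ (D.bd.U_le u.2)⟩ : D.bd.R))
      (fun u _ => ?_) (fun a _ b _ h => Subtype.ext (mul_left_cancel (congrArg Subtype.val h)))
      fun r hr => ?_
    · refine Finset.mem_filter.2 ⟨Finset.mem_univ _, ?_⟩
      show x * (r₀ * (u : G)) ∈ c.Ct
      rw [← mul_assoc]
      exact mul_mem h₀ (D.BC_le_Ct (D.U_le_BC u.2))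
    · have hr' := (Finset.mem_filter.1 hr).2
      have hU : r₀⁻¹ * (r : G) ∈ c.U := by
        refine D.bd.inf_cent _ (mul_mem (inv_mem hr₀) r.2) (mem_centralizer_singleton_iff.1 ?_)
        have := mul_mem (inv_mem h₀) hr'
        rwa [show (x * r₀)⁻¹ * (x * (r : G)) = r₀⁻¹ * r by group] at this
      exact ⟨⟨_, hU⟩, Finset.mem_univ _, Subtype.ext (mul_inv_cancel_left r₀ (r : G))⟩
  -- double counting
  have hA : ∑ x : G, ∑ r : D.bd.R, (if x * (r : G) ∈ c.Ct then f x else 0) =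
      (Fintype.card F : ℂ) * ∑ x : G, f x := by
    rw [Finset.mul_sum]
    refine Finset.sum_congr rfl fun x _ => ?_
    rw [← Finset.sum_filter, Finset.sum_const, nsmul_eq_mul]
    by_cases hx : f x = 0
    · rw [hx, mul_zero, mul_zero]
    · rw [hcount x hx]
  have hB : ∑ x : G, ∑ r : D.bd.R, (if x * (r : G) ∈ c.Ct then f x else 0) =
      (Nat.card D.bd.R : ℂ) * ∑ z : c.Ct, f z := by
    rw [Finset.sum_comm, Nat.card_eq_fintype_card, ← Finset.card_univ, ← nsmul_eq_mul,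
      ← Finset.sum_const]
    refine Finset.sum_congr rfl fun r _ => ?_
    rw [← Equiv.sum_comp (Equiv.mulRight ((r : G)⁻¹))]
    simp only [Equiv.coe_mulRight, inv_mul_cancel_right, hfR _ _ (inv_mem r.2)]
    rw [← Finset.sum_filter]
    exact Finset.sum_subtype _ (by simp) f
  have hq : (Fintype.card F : ℂ) ≠ 0 := Nat.cast_ne_zero.2 Fintype.card_ne_zero
  have hsum : ∑ x : G, f x = (Fintype.card F : ℂ) ^ 2 * ∑ z : c.Ct, f z := by
    refine mul_left_cancel₀ hq ?_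
    rw [← hA, hB, D.bd.card]
    push_cast
    ring
  have hcard : (Nat.card D.B : ℂ) = (Fintype.card F : ℂ) ^ 2 * Nat.card D.BC := by
    rw [D.card_B, D.card_BC]; push_cast; ring
  have hD : D.Dif μ (c.t * y) = (Nat.card D.B : ℂ)⁻¹ * ∑ x : G, f x := rfl
  rw [hD, hsum, hcard, D.perm_apply, Finset.mul_sum, Finset.mul_sum, Finset.mul_sum, Finset.mul_sum]
  refine Finset.sum_congr rfl fun z _ => ?_
  have hz : (z : G)⁻¹ * (c.t * y) * z = c.t * ((z : G)⁻¹ * y * z) := by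
    rw [← mul_assoc (z : G)⁻¹, ← ((comm_Ct c z).inv_right).eq]
    group
  rw [show f z = D.aG μ ((z : G)⁻¹ * (c.t * y) * z) from rfl, hz]
  by_cases hm : (z : G)⁻¹ * y * z ∈ D.BC
  · have hm' := mul_mem D.t_mem_BC hm
    rw [D.aG_of_mem μ (D.BC_le_B hm'), one_BC, if_pos hm,
      D.ρ_eq_π (D.BC_le_B hm') (D.BC_le_Ct hm'),
      show (⟨c.t * ((z : G)⁻¹ * y * z), D.BC_le_Ct hm'⟩ : c.Ct) =
        ⟨c.t, c.t_mem_Ct⟩ * (z⁻¹ * y * z) from Subtype.ext rfl]
    simp only [Cfg.lam, MonoidHom.comp_apply, map_mul, map_inv, c.π_t, map_one, one_mul]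
    rw [mul_right_comm (μ (c.π z))⁻¹, inv_mul_cancel, one_mul]
    field_simp
  · have hnot : c.t * ((z : G)⁻¹ * y * z) ∉ D.B := fun h => by
      have h2 : c.t * ((z : G)⁻¹ * y * z) ∈ D.BC :=
        ⟨h, c.Ct.mul_mem c.t_mem_Ct (c.Ct.mul_mem (c.Ct.mul_mem (c.Ct.inv_mem z.2) y.2) z.2)⟩
      exact hm ((Subgroup.mul_mem_cancel_left _ D.t_mem_BC).1 h2)
    rw [one_BC, if_neg hm, D.aG_zero μ hnot]
    simp

/-- An element of `M` in the support of `w` is moved into it only by `B ∩ C(t)`. -/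
theorem mem_BC_of_w {ν : c.Dual} {z m : G} (hz : z ∈ D.B) (hm : m ∈ c.M)
    (h : D.w ν (z⁻¹ * m * z) ≠ 0) : z ∈ D.BC := by
  obtain ⟨k, hk, hcard⟩ := D.odd_half
  have h1 := (D.pow_of_w h hk hcard).2
  rw [show z⁻¹ * m * z = z⁻¹ * m * z⁻¹⁻¹ by group, conj_pow, inv_inv] at h1
  have hne : m ^ k ≠ 1 := fun e => c.t_ne (by rw [← h1, e]; group)
  have h2 : m ^ k * m ^ k = 1 := by
    rw [← pow_add, ← two_mul, ← hcard]
    exact congrArg Subtype.val (pow_card_eq_one' (x := (⟨m, D.M_le_BC hm⟩ : D.BC)))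
  rcases c.invol_M (pow_mem hm k) h2 D.odd_card_H with e | e
  · exact absurd e hne
  · refine ⟨hz, mem_centralizer_singleton_iff.2 ?_⟩
    calc z * c.t = z * (z⁻¹ * m ^ k * z) := by rw [h1]
      _ = c.t * z := by rw [e]; group

theorem ρ_M_surjective {P : Subgroup G} (hP : P ≤ D.B) (hM : c.M ≤ P) :
    Function.Surjective (D.ρ.comp (inclusion hP)) := fun y =>
  ⟨⟨y, hM (c.F_le_M y.2)⟩, D.ρ_y y⟩

open Classical in
theorem sum_aG_aG {P : Subgroup G} (hP : P ≤ D.B) (hM : c.M ≤ P) (μ ν : c.Dual) :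
    ∑ g : P, D.aG μ g * conj (D.aG ν g) = (Nat.card P : ℂ) *
      ((if μ = ν then 1 else 0) - (if μ = 1 then 1 else 0) - (if ν = 1 then 1 else 0) + 1) := by
  set ψ := D.ρ.comp (inclusion hP)
  have hs := D.ρ_M_surjective hP hM
  have h := sum_diff (μ.comp ψ) 1 (ν.comp ψ) 1
  have e : ∀ a b : c.Dual, (a.comp ψ = b.comp ψ ↔ a = b) := fun a b =>
    MonoidHom.cancel_right hs
  have e1 : ∀ a : c.Dual, (a.comp ψ = 1 ↔ a = 1) := fun a => by
    have h1 := e a 1
    rwa [MonoidHom.one_comp] at h1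
  have e2 : ∀ a : c.Dual, (1 = a.comp ψ ↔ a = 1) := fun a => eq_comm.trans (e1 a)
  simp only [e, e1, e2, if_true, MonoidHom.one_apply, Units.val_one, MonoidHom.comp_apply] at h
  rw [← h]
  refine Finset.sum_congr rfl fun g _ => ?_
  rw [D.aG_of_mem μ (hP g.2), D.aG_of_mem ν (hP g.2)]
  rfl

open Classical in
/-- The inner products of the differences. -/
theorem inner_Dif (μ ν : c.Dual) :
    classInner (D.Dif μ) (D.Dif ν) =
      2 * ((if μ = ν then 1 else 0) - (if μ = 1 then 1 else 0) - (if ν = 1 then 1 else 0) + 1) := by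
  rw [Dif, Dif, Full.classInner_ind_ind]
  change _ * _ * ∑ x : G, ∑ g : G, D.aG μ g * (fun z => conj (D.aG ν z)) (x⁻¹ * g * x) = _
  rw [D.sum_double D.B D.bd.R le_rfl le_rfl (β := fun z => conj (D.aG ν z))
    (fun g hg => D.aG_zero μ hg)
    (fun v hv g => D.aG_conj μ (D.R_le_B hv) g)
    (fun g hg => by rw [D.aG_zero ν hg, map_zero])
    (fun x g hg hx => by
      have hgB : g ∈ D.B := by_contra fun h => hg (D.aG_zero μ h)
      exact D.fix_of_ρ (g := ⟨g, hgB⟩) (D.aG_ρ hgB hg)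
        (by_contra fun h => hx (by rw [D.aG_zero ν h, map_zero])))]
  set X : ℂ := (if μ = ν then 1 else 0) - (if μ = 1 then 1 else 0) - (if ν = 1 then 1 else 0) + 1
  have e1 : ∀ z : D.B, ∑ g : D.B, D.aG μ g * conj (D.aG ν ((z : G)⁻¹ * g * z)) =
      (Nat.card D.B : ℂ) * X := fun z => by
    rw [← D.sum_aG_aG le_rfl D.M_le_B μ ν]
    refine Finset.sum_congr rfl fun g _ => ?_
    rw [D.aG_fusion ν g.2 (mul_mem (mul_mem (inv_mem z.2) g.2) z.2)]
  have e2 : ∀ z : D.B, ∑ m : c.M, D.aG μ m * conj (D.aG ν ((z : G)⁻¹ * (c.i * m * c.i⁻¹) * z)) =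
      (Nat.card c.M : ℂ) * X := fun z => by
    rw [← D.sum_aG_aG D.M_le_B le_rfl μ ν]
    refine Finset.sum_congr rfl fun m _ => ?_
    have e : (z : G)⁻¹ * (c.i * m * c.i⁻¹) * z = (c.i⁻¹ * z)⁻¹ * m * (c.i⁻¹ * z) := by group
    rw [e, D.aG_fusion ν (D.M_le_B m.2) (e ▸ mul_mem (mul_mem (inv_mem z.2)
      (D.M_le_B (c.i_conj_M m.2))) z.2)]
  simp only [e1, e2, Finset.sum_const, Finset.card_univ, nsmul_eq_mul, ← Nat.card_eq_fintype_card]
  have h0 : (Nat.card D.B : ℂ) ≠ 0 := Nat.cast_ne_zero.2 Nat.card_pos.ne'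
  have hq : (Nat.card D.bd.R : ℂ) * Nat.card c.M = Nat.card D.B := by
    rw [D.card_B, D.bd.card, c.card_M]; push_cast; ring
  have e3 : ∀ a b : ℂ, (Nat.card D.bd.R : ℂ) * (a * ((Nat.card c.M : ℂ) * b)) =
      a * (Nat.card D.B * b) := fun a b => by rw [← hq]; ring
  rw [e3]
  field_simp
  ring

open Classical in
theorem sum_aG_w {P : Subgroup G} (hP : P ≤ D.BC) (hM : c.M ≤ P) (μ ν : c.Dual) :
    ∑ g : P, D.aG μ g * conj (D.w ν g) =
      (Nat.card P : ℂ) * ((if μ = ν then 1 else 0) - (if ν = 1 then 1 else 0)) := by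
  set hC := hP.trans D.BC_le_Ct
  have h := sum_diff ((c.lam μ).comp (inclusion hC)) ((c.lam 1).comp (inclusion hC))
    ((c.lam ν).comp (inclusion hC)) ((c.slam ν).comp (inclusion hC))
  rw [if_neg (Cfg.lam_ne_slam hC (hM c.t_mem_M) μ ν),
    if_neg (Cfg.lam_ne_slam hC (hM c.t_mem_M) 1 ν)] at h
  simp only [Cfg.lam_eq_iff hC hM, sub_zero, add_zero, MonoidHom.comp_apply] at h
  rw [show (if ν = 1 then (1 : ℂ) else 0) = if 1 = ν then 1 else 0 from if_congr eq_comm rfl rfl, ← h]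
  refine Finset.sum_congr rfl fun g _ => ?_
  rw [D.aG_of_mem μ (D.BC_le_B (hP g.2)), D.ρ_eq_π (D.BC_le_B (hP g.2)) (hC g.2), w,
    extendByZero_of_mem _ _ (hP g.2), w0]
  rfl

open Classical in
/-- The inner products with the `W_ν`. -/
theorem inner_Dif_W (μ ν : c.Dual) :
    classInner (D.Dif μ) (D.W ν) = 2 * ((if μ = ν then 1 else 0) - (if ν = 1 then 1 else 0)) := by
  rw [Dif, W, Full.classInner_ind_ind]
  change _ * _ * ∑ x : G, ∑ g : G, D.aG μ g * (fun z => conj (D.w ν z)) (x⁻¹ * g * x) = _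
  rw [D.sum_double D.B D.bd.R le_rfl le_rfl (β := fun z => conj (D.w ν z))
    (fun g hg => D.aG_zero μ hg)
    (fun v hv g => D.aG_conj μ (D.R_le_B hv) g)
    (fun g hg => by rw [D.w_zero ν (fun h => hg (D.BC_le_B h)), map_zero])
    (fun x g hg hx => by
      have hgB : g ∈ D.B := by_contra fun h => hg (D.aG_zero μ h)
      exact D.fix_of_ρ (g := ⟨g, hgB⟩) (D.aG_ρ hgB hg)
        (D.BC_le_B (by_contra fun h => hx (by rw [D.w_zero ν h, map_zero]))))]
  set X : ℂ := (if μ = ν then 1 else 0) - (if ν = 1 then 1 else 0)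
  have e1 : ∀ z : D.B, ∑ g : D.B, D.aG μ g * conj (D.w ν ((z : G)⁻¹ * g * z)) =
      (Nat.card D.BC : ℂ) * X := fun z => by
    rw [← D.sum_aG_w le_rfl D.M_le_BC μ ν]
    rw [← sum_restrict D.BC_le_B (f := fun g => D.aG μ g * conj (D.w ν g))
      fun g _ hg => by rw [D.w_zero ν hg, map_zero, mul_zero]]
    rw [← Equiv.sum_comp (MulAut.conj z).toEquiv]
    refine Finset.sum_congr rfl fun g _ => ?_
    simp only [MulEquiv.toEquiv_eq_coe, MulEquiv.coe_toEquiv, MulAut.conj_apply, Subgroup.coe_mul,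
      Subgroup.coe_inv, D.aG_conj μ z.2]
    rw [show (z : G)⁻¹ * ((z : G) * g * (z : G)⁻¹) * z = g by group]
  have e2 : ∀ z : D.B, ∑ m : c.M, D.aG μ m * conj (D.w ν ((z : G)⁻¹ * (c.i * m * c.i⁻¹) * z)) =
      if (z : G) ∈ D.BC then (Nat.card c.M : ℂ) * X else 0 := fun z => by
    split_ifs with hz
    · rw [← D.sum_aG_w D.M_le_BC le_rfl μ ν]
      exact Finset.sum_congr rfl fun m _ => by rw [D.w_conj' ν hz, D.w_iMi ν m.2]
    · refine Finset.sum_eq_zero fun m _ => ?_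
      by_contra hne
      exact hz (D.mem_BC_of_w z.2 (c.i_conj_M m.2) fun e => hne (by rw [e, map_zero, mul_zero]))
  simp only [e1, e2]
  rw [sum_restrict D.BC_le_B (f := fun g => if g ∈ D.BC then (Nat.card c.M : ℂ) * X else 0)
    (fun g _ hg => if_neg hg)]
  simp only [SetLike.coe_mem, if_true, Finset.sum_const, Finset.card_univ, nsmul_eq_mul,
    ← Nat.card_eq_fintype_card]
  have h0 : (Nat.card D.B : ℂ) ≠ 0 := Nat.cast_ne_zero.2 Nat.card_pos.ne'
  have h1 : (Nat.card D.BC : ℂ) ≠ 0 := Nat.cast_ne_zero.2 Nat.card_pos.ne'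
  have hq : (Nat.card D.bd.R : ℂ) * Nat.card c.M = Nat.card D.B := by
    rw [D.card_B, D.bd.card, c.card_M]; push_cast; ring
  have e3 : ∀ a b : ℂ, (Nat.card D.bd.R : ℂ) * (a * ((Nat.card c.M : ℂ) * b)) =
      a * (Nat.card D.B * b) := fun a b => by rw [← hq]; ring
  rw [e3]
  field_simp
  ring

open Classical in
theorem inner_Dif_one (μ : c.Dual) :
    classInner (D.Dif μ) (fun _ => 1) = (if μ = 1 then 1 else 0) - 1 := by
  rw [Dif, classInner_indFun _ _ (fun _ _ => rfl), classInner]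
  simp only [map_one, mul_one, aD, Finset.sum_sub_distrib, Finset.sum_const, Finset.card_univ,
    nsmul_eq_mul]
  have h := sum_hom (μ.comp D.ρ)
  simp only [MonoidHom.comp_apply] at h
  have e : μ.comp D.ρ = 1 ↔ μ = 1 := by
    rw [← MonoidHom.one_comp (f := D.ρ)]
    exact MonoidHom.cancel_right D.ρ_surjective
  rw [h, ← Nat.card_eq_fintype_card]
  have h0 : (Nat.card D.B : ℂ) ≠ 0 := Nat.cast_ne_zero.2 Nat.card_pos.ne'
  by_cases hμ : μ = 1
  · rw [if_pos (e.2 hμ), if_pos hμ, sub_self, mul_zero, sub_self]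
  · rw [if_neg (fun h => hμ (e.1 h)), if_neg hμ]
    field_simp
    ring

open Classical in
/-- The sum over products of two involutions vanishes. -/
theorem sum_pairs_Dif (μ : c.Dual) :
    ∑ x ∈ involFinset G, ∑ y ∈ involFinset G, D.Dif μ (x * y) = 0 := by
  refine Finset.sum_eq_zero fun x hx => Finset.sum_eq_zero fun y hy => D.Dif_real μ (x := x) ?_
  obtain ⟨-, hx2⟩ := mem_involFinset.1 hx
  obtain ⟨-, hy2⟩ := mem_involFinset.1 hy
  rw [_root_.mul_inv_rev, inv_eq_of_mul_eq_one_right hx2, inv_eq_of_mul_eq_one_right hy2, ← mul_assoc,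
    hx2, one_mul]

end Full

end Cfsg.Lib.Walter3.Field
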