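import Cfsg.Agent.Lib.Walter3.Field.CentTorusPoints
import Cfsg.Agent.Lib.Walter3.Field.Diagonal
import Cfsg.Agent.Lib.Walter3.Field.LocalGroup
import Cfsg.Agent.Lib.Walter3.Socle
import Cfsg.Agent.Lib.Walter3.Coprime

/-!
# Three-groups normalized by `t`

The normalizer of a nontrivial three-group normalized by `t` and meeting `U` has Sylow two-subgroup
`⟨t⟩`; the `t`-invariant Sylow three-subgroups through an element of `U`.
-/

set_option autoImplicit false
set_option linter.unusedSectionVars false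
set_option linter.style.haveILetI false

namespace Cfsg.Lib.Walter3.Field

open Subgroup Cfsg Cfsg.Lib Matrix
open Cfsg.Lib.TwoDim (splitSL)
open scoped MatrixGroups

universe u

local notation "PSL2[" K "]" => Matrix.ProjectiveSpecialLinearGroup (Fin 2) K

namespace Cfg

variable {G : Type u} [Group G] [Finite G] {F : Type} [Field F] [Fintype F] (c : Cfg G F)

/-- The elements of `U H F₀`. -/
def Bor (g : G) : Prop := ∃ (s : F) (e : Fˣ) (y : fieldPart c.S), g = c.u s * c.d e * y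

include c

theorem bor_u (s : F) : c.Bor (c.u s) := ⟨s, 1, 1, by rw [c.d_one]; simp⟩

theorem bor_d (e : Fˣ) : c.Bor (c.d e) := ⟨0, e, 1, by rw [c.u_zero]; simp⟩

theorem bor_y (y : fieldPart c.S) : c.Bor y := ⟨0, 1, y, by rw [c.u_zero, c.d_one]; simp⟩

theorem bor_comm_t {g : G} (hg : c.Bor g) : g * c.t = c.t * g := by
  obtain ⟨s, e, y, rfl⟩ := hg
  exact (((show Commute (c.u s) c.t from c.u_comm_t s).mul_left (c.d_comm_t e)).mul_left (c.y_comm_t y)).eq

theorem bor_normalizes_U {g : G} (hg : c.Bor g) : g ∈ normalizer (c.U : Set G) := by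
  obtain ⟨s, e, y, rfl⟩ := hg
  refine mul_mem (mul_mem ?_ ?_) ?_ <;> refine Fusion.le_normalizer_of_conj_mem fun v hv => ?_ <;>
    obtain ⟨a, rfl⟩ := c.mem_U.1 hv
  · exact c.mem_U.2 ⟨a, by rw [← c.u_add, ← c.u_neg, ← c.u_add]; congr 1; ring⟩
  · exact c.mem_U.2 ⟨_, (c.d_u e a).symm⟩
  · exact c.mem_U.2 ⟨_, (c.y_u y a).symm⟩

theorem comm_sylow_two : ∀ T : Sylow 2 G, IsMulCommutative ↥(T : Subgroup G) := fun T => by
  haveI : Fact (Nat.Prime 2) := ⟨Nat.prime_two⟩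
  haveI := comm_of_sq (S := (c.S : Subgroup G)) c.hyp.sq
  exact AbTwo.abelian_of_one c.S inferInstance T

theorem sq_of_two {g : G} (hg : ∃ k, g ^ 2 ^ k = 1) : g * g = 1 := by
  haveI : Fact (Nat.Prime 2) := ⟨Nat.prime_two⟩
  obtain ⟨k, hk⟩ := hg
  obtain ⟨i, -, hi⟩ := (Nat.dvd_prime_pow Nat.prime_two).1 (orderOf_dvd_of_pow_eq_one hk)
  obtain ⟨T, hT⟩ := (IsPGroup.of_card (n := i) (by rw [Nat.card_zpowers, hi]) :
    IsPGroup 2 (zpowers g)).exists_le_sylow
  obtain ⟨a, ha⟩ := MulAction.exists_smul_eq G T c.S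
  have h1 : a * g * a⁻¹ ∈ (c.S : Subgroup G) := by
    rw [← ha, Sylow.coe_subgroup_smul]
    exact ⟨g, hT (mem_zpowers g), rfl⟩
  have h2 := c.hyp.sq _ h1
  rw [show a * g * a⁻¹ * (a * g * a⁻¹) = a * (g * g) * a⁻¹ by group, conj_eq_one_iff] at h2
  exact h2

theorem three_two {n : ℕ} (hn : n ≠ 0) (hq : Fintype.card F = 3 ^ n) : (3 : F) = 0 := by
  haveI := c.charP_three hn hq
  exact_mod_cast CharP.cast_eq_zero F 3

/-- A three-group of `C(t)` containing a nontrivial element of `U` meets `L` inside `U`. -/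
theorem inter_L_le_U {n : ℕ} (hn : n ≠ 0) (hq : Fintype.card F = 3 ^ n) {K : Subgroup G}
    (hK : IsPGroup 3 K) {a : F} (ha : a ≠ 0) (hau : c.u a ∈ K) {l : PSL2[F]} (hl : c.φ l ∈ K) :
    c.φ l ∈ c.U := by
  obtain ⟨g, hg⟩ := c.exists_conj_unip hn hq (P := K.comap c.φ) (hK.comap_of_injective c.φ c.φ_inj)
  obtain ⟨b, hb⟩ := hg l hl
  obtain ⟨b', hb'⟩ := hg (pr (uSL (Multiplicative.ofAdd a))) hau
  have hcomm : Commute l (pr (uSL (Multiplicative.ofAdd a))) := by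
    rw [hb, hb', ← commute_conj_iff]
    have : Commute (pr (uSL (Multiplicative.ofAdd b))) (pr (uSL (Multiplicative.ofAdd b'))) := by
      show pr (uSL _) * pr (uSL _) = pr (uSL _) * pr (uSL _)
      rw [pr, pr, ← QuotientGroup.mk_mul, ← QuotientGroup.mk_mul, ← uSL.map_mul, ← uSL.map_mul, mul_comm (Multiplicative.ofAdd b)]
    have h := commute_conj_iff.2 this
    calc _ = g * (pr (uSL (Multiplicative.ofAdd b)) * pr (uSL (Multiplicative.ofAdd b')) *
          (pr (uSL (Multiplicative.ofAdd b)))⁻¹) * g⁻¹ := by group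
      _ = _ := by rw [h]
  have hc : c.φ l * c.u a * (c.φ l)⁻¹ = c.u a := by
    show c.φ l * c.φ _ * (c.φ l)⁻¹ = c.φ _
    rw [← map_inv, ← map_mul, ← map_mul, commute_conj_iff.2 hcomm]
  obtain ⟨s, e, y, hge, he⟩ := c.cent_t_u ha (c.φ_comm l) hc
  have hform : c.u s * c.d e = c.φ (pr (uSL (Multiplicative.ofAdd s)) * pr (splitSL F e)) :=
    (map_mul c.φ _ _).symm
  obtain rfl : y = 1 := by
    rcases hge with h | h
    · rw [hform] at h
      have h' : c.φ l * ((1 : fieldPart c.S) : G) =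
          c.φ (pr (uSL (Multiplicative.ofAdd s)) * pr (splitSL F e)) * (y : G) := by simpa using h
      exact (c.decomp_unique.1 h').2.symm
    · exfalso
      have hπ : c.π ⟨c.φ l, mem_centralizer_singleton_iff.2 (c.φ_comm l)⟩ = 1 :=
        c.π_eq (l := l) (Or.inl (by simp))
      rw [hform] at h
      rw [c.π_eq (Or.inr h)] at hπ
      rw [hπ] at h
      simp only [Subgroup.coe_one, mul_one] at h
      exact c.φ_ne (l * (pr (uSL (Multiplicative.ofAdd s)) * pr (splitSL F e))⁻¹) (by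
        rw [map_mul, map_inv, h]
        exact mul_inv_cancel_right _ _)
  rw [map_one, RingAut.one_apply, mul_eq_right₀ ha, sq_eq_one_iff] at he
  have he' : c.d e = 1 := c.d_eq_one.2 (he.imp (fun r => Units.ext r) fun r => Units.ext (by simpa using r))
  rcases hge with h | h <;> rw [he'] at h <;> simp only [Subgroup.coe_one, mul_one] at h
  · exact c.mem_U.2 ⟨s, h.symm⟩
  · exfalso
    exact c.φ_ne (l * (pr (uSL (Multiplicative.ofAdd s)))⁻¹) (by
      rw [map_mul, map_inv, h]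
      exact mul_inv_cancel_right _ _)

/-- The Sylow two-subgroup of the normalizer of a `t`-invariant three-group meeting `U`. -/
theorem two_of_normalizer {n : ℕ} (hn : n ≠ 0) (hq : Fintype.card F = 3 ^ n)
    (h4 : Fintype.card F % 4 = 3) {K : Subgroup G} (hK : IsPGroup 3 K)
    (htK : c.t ∈ normalizer (K : Set G))
    (hu : K ≤ centralizer ({c.t} : Set G) → ∃ a, a ≠ 0 ∧ c.u a ∈ K) {x : G}
    (hx : x ∈ normalizer (K : Set G)) (hxt : x * c.t = c.t * x) (hx2 : ∃ k, x ^ 2 ^ k = 1) :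
    x = 1 ∨ x = c.t := by
  haveI : Fact (Nat.Prime 3) := ⟨Nat.prime_three⟩
  by_contra hne
  push Not at hne
  have hsq := c.sq_of_two hx2
  have hxo : orderOf x = 2 := orderOf_eq_prime (by rw [pow_two]; exact hsq) hne.1
  have hKt := four_centralizes (l := 3) (by norm_num) (c.noInverted hn hq h4 Nat.prime_three (by norm_num)
    (Or.inl rfl)) c.orderOf_t hxo (Ne.symm hne.2) hxt.symm hK htK hx
  obtain ⟨a, ha, hau⟩ := hu hKt
  obtain ⟨τ, -, hτ⟩ := c.involution_cent hxt hsq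
  have hconj : ∀ b, c.u b ∈ K → ∃ b', x * c.u b * x⁻¹ = c.u b' := fun b hb => by
    have h1 : x * c.u b * x⁻¹ ∈ K := (mem_normalizer_iff.1 hx _).1 hb
    have h2 : x * c.u b * x⁻¹ = c.φ (τ * pr (uSL (Multiplicative.ofAdd b)) * τ⁻¹) := c.conj_φ hτ _
    rw [h2] at h1 ⊢
    obtain ⟨b', hb'⟩ := c.mem_U.1 (c.inter_L_le_U hn hq hK ha hau h1)
    exact ⟨b', hb'.symm⟩
  obtain ⟨a', ha'⟩ := hconj a hau
  set w := c.u a * (x * c.u a * x⁻¹) with hw
  have hwfix : x * w * x⁻¹ = w := by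
    rw [hw]
    calc x * (c.u a * (x * c.u a * x⁻¹)) * x⁻¹ = x * c.u a * x⁻¹ * (x * x * c.u a * (x * x)⁻¹) := by group
      _ = x * c.u a * x⁻¹ * c.u a := by rw [hsq, one_mul, inv_one, mul_one]
      _ = _ := by rw [ha', ← c.u_add, ← c.u_add, add_comm]
  have hwu : w = c.u (a + a') := by rw [hw, ha', ← c.u_add]
  have hb : a + a' ≠ 0 := fun h0 => c.u_not_inverted h4 ha hxt hsq (by
    rw [ha', ← c.u_neg, eq_neg_of_add_eq_zero_right h0])
  rw [hwu] at hwfix
  obtain ⟨s, e, y, hform, he⟩ := c.cent_t_u hb hxt hwfix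
  obtain rfl : y = 1 := by
    have hπ : c.π ⟨x, mem_centralizer_singleton_iff.2 hxt⟩ = y := c.π_eq
      (l := pr (uSL (Multiplicative.ofAdd s)) * pr (splitSL F e)) (by rw [map_mul]; exact hform)
    refine c.eq_one_of_sq _ ?_
    rw [← hπ, ← map_mul]
    rw [show (⟨x, mem_centralizer_singleton_iff.2 hxt⟩ : centralizer ({c.t} : Set G)) *
      ⟨x, mem_centralizer_singleton_iff.2 hxt⟩ = 1 from Subtype.ext hsq, map_one]
  rw [map_one, RingAut.one_apply, mul_eq_right₀ hb, sq_eq_one_iff] at he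
  have he' : c.d e = 1 := c.d_eq_one.2 (he.imp (fun r => Units.ext r) fun r => Units.ext (by simpa using r))
  simp only [he', Subgroup.coe_one, mul_one] at hform
  have hs2 : c.u (s + s) = 1 := by
    rcases hform with h | h
    · rw [c.u_add, ← h, hsq]
    · rw [c.u_add]
      have ht : Commute c.t (c.u s) := (c.u_comm_t s).symm
      rw [show c.u s = c.t * x by rw [h, ← mul_assoc, c.t_sq, one_mul],
        ← mul_assoc, mul_assoc c.t x c.t, hxt, ← mul_assoc c.t c.t, c.t_sq, one_mul, hsq]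
  have hs : s = 0 := by
    have h0 := c.u_injective (hs2.trans c.u_zero.symm)
    rw [← two_mul, mul_eq_zero] at h0
    exact h0.resolve_left c.two_ne
  rw [hs, c.u_zero] at hform
  rcases hform with h | h
  · exact hne.1 h
  · exact hne.2 (by rw [h, mul_one])

/-- The shape of the normalizer. -/
theorem normalizer_cor_facts {n : ℕ} (hn : n ≠ 0) (hq : Fintype.card F = 3 ^ n)
    (h4 : Fintype.card F % 4 = 3) {K : Subgroup G} (hK : IsPGroup 3 K)
    (htK : c.t ∈ normalizer (K : Set G))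
    (hu : K ≤ centralizer ({c.t} : Set G) → ∃ a, a ≠ 0 ∧ c.u a ∈ K) {g : G}
    (hg : g ∈ normalizer (K : Set G)) :
    (Odd (orderOf g) → g ∈ cor (normalizer (K : Set G))) ∧
      (g ∈ cor (normalizer (K : Set G)) ∨ c.t * g ∈ cor (normalizer (K : Set G))) :=
  mem_cor_of_two c.comm_sylow_two htK c.orderOf_t
    (fun _ hx hxt h2 => c.two_of_normalizer hn hq h4 hK htK hu hx hxt h2) hg

theorem odd_orderOf_three {g : G} (hg : ∃ k, g ^ 3 ^ k = 1) : Odd (orderOf g) := by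
  obtain ⟨k, hk⟩ := hg
  exact (Nat.Prime.odd_of_ne_two Nat.prime_three (by norm_num)).pow.of_dvd_nat (orderOf_dvd_of_pow_eq_one hk)

theorem pgroup_pow {p : ℕ} {K : Subgroup G} (hK : IsPGroup p K) {g : G} (hg : g ∈ K) :
    ∃ k, g ^ p ^ k = 1 := by
  obtain ⟨k, hk⟩ := hK ⟨g, hg⟩
  exact ⟨k, congrArg Subtype.val hk⟩

theorem three_mem_cor {n : ℕ} (hn : n ≠ 0) (hq : Fintype.card F = 3 ^ n)
    (h4 : Fintype.card F % 4 = 3) {K : Subgroup G} (hK : IsPGroup 3 K)
    (htK : c.t ∈ normalizer (K : Set G))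
    (hu : K ≤ centralizer ({c.t} : Set G) → ∃ a, a ≠ 0 ∧ c.u a ∈ K) {T : Subgroup G}
    (hT : IsPGroup 3 T) (hTn : T ≤ normalizer (K : Set G)) : T ≤ cor (normalizer (K : Set G)) :=
  fun _ hx => (c.normalizer_cor_facts hn hq h4 hK htK hu (hTn hx)).1 (c.odd_orderOf_three (c.pgroup_pow hT hx))

/-- A `t`-invariant three-group meeting `U` lies in a `t`-invariant Sylow subgroup of `G`. -/
theorem exists_sylow_ge {n : ℕ} (hn : n ≠ 0) (hq : Fintype.card F = 3 ^ n)
    (h4 : Fintype.card F % 4 = 3) {Q : Subgroup G} (hQ : IsPGroup 3 Q)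
    (htQ : c.t ∈ normalizer (Q : Set G)) {a : F} (ha : a ≠ 0) (hau : c.u a ∈ Q) :
    ∃ P : Sylow 3 G, Q ≤ P ∧ c.t ∈ normalizer ((P : Subgroup G) : Set G) := by
  haveI : Fact (Nat.Prime 3) := ⟨Nat.prime_three⟩
  obtain ⟨Q', hQQ', ⟨hQ', htQ'⟩, hmax⟩ :=
    (Set.toFinite {T : Subgroup G | IsPGroup 3 T ∧ c.t ∈ normalizer (T : Set G)}).exists_le_maximal
      (a := Q) ⟨hQ, htQ⟩
  have hu : Q' ≤ centralizer ({c.t} : Set G) → ∃ a, a ≠ 0 ∧ c.u a ∈ Q' := fun _ => ⟨a, ha, hQQ' hau⟩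
  set O := cor (normalizer (Q' : Set G)) with hO
  have htO : zpowers c.t ≤ normalizer (O : Set G) := zpowers_le.2 (le_normalizer_cor _ htQ')
  have hodd : Odd (Nat.card O) := odd_cor _
  have hQO : Q' ≤ O := c.three_mem_cor hn hq h4 hQ' htQ' hu hQ' le_normalizer
  obtain ⟨P₁, hQP, htP⟩ := Coprime.exists_invariant_sylow_ge htO
    (by rw [Nat.card_zpowers, c.orderOf_t]; exact Nat.coprime_two_left.2 hodd)
    (Or.inl (by haveI : IsMulCommutative (zpowers c.t) := IsCyclic.isMulCommutative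
                exact Group.isSolvable_of_comm fun x y => mul_comm' x y)) hQO hQ' (zpowers_le.2 htQ')
  have heq : (P₁ : Subgroup O).map O.subtype = Q' :=
    le_antisymm (hmax ⟨P₁.2.map _, htP (mem_zpowers _)⟩ hQP) hQP
  obtain ⟨T, hT⟩ := hQ'.exists_le_sylow
  refine ⟨T, hQQ'.trans hT, ?_⟩
  suffices hTQ : (T : Subgroup G) = Q' by rw [hTQ]; exact htQ'
  by_contra hne
  have hlt : Q'.subgroupOf (T : Subgroup G) < ⊤ := lt_top_iff_ne_top.2 fun h =>
    hne (le_antisymm (subgroupOf_eq_top.1 h) hT)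
  haveI : Group.IsNilpotent (T : Subgroup G) := T.2.isNilpotent
  obtain ⟨w, hwn, hw⟩ := Set.exists_of_ssubset (Group.normalizerCondition_of_isNilpotent _ hlt)
  have hwQ : (w : G) ∈ normalizer (Q' : Set G) := by
    refine Fusion.le_normalizer_of_conj_mem fun x hx => ?_
    have h := (mem_normalizer_iff.1 hwn ⟨x, hT hx⟩).1 (mem_subgroupOf.2 hx)
    exact mem_subgroupOf.1 h
  have hS : IsPGroup 3 ↥(Q' ⊔ zpowers (w : G)) :=
    T.2.to_le (sup_le hT (zpowers_le.2 w.2))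
  have hSO : Q' ⊔ zpowers (w : G) ≤ O :=
    c.three_mem_cor hn hq h4 hQ' htQ' hu hS (sup_le le_normalizer (zpowers_le.2 hwQ))
  have hle : (P₁ : Subgroup O) ≤ (Q' ⊔ zpowers (w : G)).subgroupOf O := fun x hx =>
    mem_subgroupOf.2 (mem_sup_left (heq ▸ ⟨x, hx, rfl⟩))
  have hmem : (⟨w, hSO (mem_sup_right (mem_zpowers _))⟩ : O) ∈ (P₁ : Subgroup O) := by
    rw [← P₁.is_maximal' (hS.comap_subtype) hle]
    exact mem_sup_right (mem_zpowers _)
  exact hw (mem_subgroupOf.2 (heq ▸ ⟨_, hmem, rfl⟩))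

/-- Two `t`-invariant Sylow subgroups, one of them meeting `U`, are conjugate under `C(t)`. -/
theorem sylow_conj {n : ℕ} (hn : n ≠ 0) (hq : Fintype.card F = 3 ^ n)
    (h4 : Fintype.card F % 4 = 3) (P Q : Sylow 3 G) (htP : c.t ∈ normalizer ((P : Subgroup G) : Set G))
    (htQ : c.t ∈ normalizer ((Q : Subgroup G) : Set G)) {a : F} (ha : a ≠ 0)
    (hau : c.u a ∈ (P : Subgroup G)) :
    ∃ g, g * c.t = c.t * g ∧ (Q : Subgroup G) = (P : Subgroup G).map (MulAut.conj g).toMonoidHom := by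
  haveI : Fact (Nat.Prime 3) := ⟨Nat.prime_three⟩
  obtain ⟨g, hg⟩ := MulAction.exists_smul_eq G P Q
  have hQ : (Q : Subgroup G) = (P : Subgroup G).map (MulAut.conj g).toMonoidHom := by
    rw [← hg, Sylow.coe_subgroup_smul]; rfl
  set X := normalizer ((P : Subgroup G) : Set G)
  set v := g⁻¹ * c.t * g with hv
  have hvX : v ∈ X := by
    have h1 : MulAut.conj g (g⁻¹ * c.t * g) = c.t := by simp [mul_assoc]
    refine Fusion.le_normalizer_of_conj_mem fun x hx => ?_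
    have h2 : g * x * g⁻¹ ∈ (Q : Subgroup G) := hQ ▸ ⟨x, hx, rfl⟩
    have h3 := (mem_normalizer_iff.1 htQ _).1 h2
    rw [hQ] at h3
    obtain ⟨z, hz, hz'⟩ := h3
    change g * z * g⁻¹ = c.t * (g * x * g⁻¹) * c.t⁻¹ at hz'
    rw [show v * x * v⁻¹ = g⁻¹ * (c.t * (g * x * g⁻¹) * c.t⁻¹) * g by rw [hv]; group, ← hz']
    show g⁻¹ * (g * z * g⁻¹) * g ∈ (P : Subgroup G)
    rwa [show g⁻¹ * (g * z * g⁻¹) * g = z by group]
  have hv2 : v * v = 1 := by
    rw [hv, show g⁻¹ * c.t * g * (g⁻¹ * c.t * g) = g⁻¹ * (c.t * c.t) * g by group, c.t_sq]; group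
  have hfacts := fun {x : G} (hx : x ∈ X) =>
    c.normalizer_cor_facts hn hq h4 P.2 htP (fun _ => ⟨a, ha, hau⟩) hx
  have hnot : ∀ {x : G}, x * x = 1 → x ≠ 1 → x ∉ cor X := fun {x} h2 h1 hx => h1 <| by
    have := Walter3.eq_one_of_sq_odd (Walter3.odd_orderOf (odd_cor X) hx) h2
    exact this
  have hv1 : v ≠ 1 := fun h => c.t_ne (by
    rw [show c.t = g * v * g⁻¹ by rw [hv]; group, h]; group)
  set w := c.t * v with hw
  have hwO : w ∈ cor X := (hfacts hvX).2.resolve_left (hnot hv2 hv1)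
  obtain ⟨k, hk⟩ : Odd (orderOf w) := Walter3.odd_orderOf (odd_cor X) hwO
  -- the dihedral conjugation
  have htw : c.t * w * c.t⁻¹ = w⁻¹ := by
    rw [hw, c.t_inv, _root_.mul_inv_rev, c.t_inv, inv_eq_of_mul_eq_one_right hv2, ← mul_assoc c.t c.t,
      c.t_sq, one_mul]
  set m := w ^ (k + 1) with hm
  have hmm : m * m = w := by
    rw [hm, ← pow_add, show k + 1 + (k + 1) = (2 * k + 1) + 1 by ring, pow_succ, ← hk, pow_orderOf_eq_one,
      one_mul]
  have htm : c.t * m * c.t⁻¹ = m⁻¹ := by rw [hm, ← conj_pow, htw, inv_pow]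
  refine ⟨g * m⁻¹, ?_, ?_⟩
  · have hgv : g * v = c.t * g := by rw [hv]; group
    have hmv : v = m⁻¹ * c.t * m := by
      calc v = c.t * w := by rw [hw, ← mul_assoc, c.t_sq, one_mul]
        _ = c.t * (m * m) := by rw [hmm]
        _ = (c.t * m * c.t⁻¹) * c.t * m := by group
        _ = _ := by rw [htm]
    calc g * m⁻¹ * c.t = g * (m⁻¹ * c.t * m) * m⁻¹ := by group
      _ = g * v * m⁻¹ := by rw [← hmv]
      _ = c.t * (g * m⁻¹) := by rw [hgv, mul_assoc]
  · have hmX : m⁻¹ ∈ X := inv_mem (pow_mem (cor_le X hwO) _)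
    rw [hQ]
    refine le_antisymm ?_ ?_
    · rintro _ ⟨x, hx, rfl⟩
      refine ⟨m * x * m⁻¹, ?_, ?_⟩
      · show m * x * m⁻¹ ∈ (P : Subgroup G)
        have h := (mem_normalizer_iff.1 (inv_mem hmX) x).1 hx
        rwa [inv_inv] at h
      · show g * m⁻¹ * (m * x * m⁻¹) * (g * m⁻¹)⁻¹ = g * x * g⁻¹
        group
    · rintro _ ⟨x, hx, rfl⟩
      refine ⟨m⁻¹ * x * m, ?_, ?_⟩
      · show m⁻¹ * x * m ∈ (P : Subgroup G)
        have h := (mem_normalizer_iff.1 hmX x).1 hx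
        rwa [inv_inv] at h
      · show g * (m⁻¹ * x * m) * g⁻¹ = g * m⁻¹ * x * (g * m⁻¹)⁻¹
        group

/-- Uniqueness of the `t`-invariant Sylow subgroup through an element of `U`. -/
theorem sylow_unique {n : ℕ} (hn : n ≠ 0) (hq : Fintype.card F = 3 ^ n)
    (h4 : Fintype.card F % 4 = 3) (P Q : Sylow 3 G) (htP : c.t ∈ normalizer ((P : Subgroup G) : Set G))
    (hUP : c.U ≤ P) (hB : ∀ g, c.Bor g → g ∈ normalizer ((P : Subgroup G) : Set G))
    (htQ : c.t ∈ normalizer ((Q : Subgroup G) : Set G)) {a : F} (ha : a ≠ 0)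
    (hau : c.u a ∈ (Q : Subgroup G)) : Q = P := by
  obtain ⟨g, hgt, hQ⟩ := c.sylow_conj hn hq h4 P Q htP htQ one_ne_zero (hUP (c.mem_U.2 ⟨1, rfl⟩))
  rw [hQ] at hau
  obtain ⟨z, hz, hz'⟩ := hau
  change g * z * g⁻¹ = c.u a at hz'
  have hzL : ∃ l, z = c.φ l := by
    obtain ⟨y, l, hl⟩ := c.exists_decomp ⟨g⁻¹, inv_mem (mem_centralizer_singleton_iff.2 hgt)⟩
    change g⁻¹ = _ ∨ g⁻¹ = _ at hl
    set u₀ : PSL2[F] := pr (uSL (Multiplicative.ofAdd a))
    refine ⟨l * Linear.AutPSL.fld (c.σ y) u₀ * l⁻¹, ?_⟩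
    have hz2 : z = g⁻¹ * c.u a * g⁻¹⁻¹ := by rw [← hz']; group
    have h1 : c.φ l * (y : G) * c.u a * (c.φ l * (y : G))⁻¹ =
        c.φ (l * Linear.AutPSL.fld (c.σ y) u₀ * l⁻¹) := by
      rw [map_mul, map_mul, map_inv, ← c.conj y u₀]
      show _ = c.φ l * ((y : G) * c.u a * (y : G)⁻¹) * (c.φ l)⁻¹
      group
    rw [hz2]
    rcases hl with h | h <;> rw [h]
    · exact h1
    · rw [show c.t * (c.φ l * (y : G)) * c.u a * (c.t * (c.φ l * (y : G)))⁻¹ =
        c.t * (c.φ l * (y : G) * c.u a * (c.φ l * (y : G))⁻¹) * c.t⁻¹ by group, h1, ← c.φ_comm,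
        mul_inv_cancel_right]
  obtain ⟨l, rfl⟩ := hzL
  obtain ⟨b, hb⟩ := c.mem_U.1 (c.inter_L_le_U hn hq P.2 one_ne_zero (hUP (c.mem_U.2 ⟨1, rfl⟩)) hz)
  rw [← hb] at hz'
  have hb0 : b ≠ 0 := by
    rintro rfl
    rw [c.u_zero, mul_one, mul_inv_cancel] at hz'
    exact ha (c.u_injective (hz'.symm.trans c.u_zero.symm))
  obtain ⟨s, e, y, hform, -⟩ := c.cent_t_u hb0 hgt hz'
  have hgN : g ∈ normalizer ((P : Subgroup G) : Set G) := by
    rcases hform with h | h <;> rw [h]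
    · exact hB _ ⟨s, e, y, rfl⟩
    · exact mul_mem htP (hB _ ⟨s, e, y, rfl⟩)
  refine Sylow.ext (hQ.trans (Coprime.map_conj_eq_self hgN))

/-- An element fixed by a split torus element is fixed by `t`, for three-groups normalized by `t`. -/
theorem cent_H_three {n : ℕ} (hn : n ≠ 0) (hq : Fintype.card F = 3 ^ n)
    (h4 : Fintype.card F % 4 = 3) {h : G} (hH : h ∈ c.H) (h1 : h ≠ 1) {Q : Subgroup G}
    (hQ : IsPGroup 3 Q) (hQh : ∀ x ∈ Q, Commute h x) (htQ : c.t ∈ normalizer (Q : Set G)) :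
    Q ≤ centralizer ({c.t} : Set G) := by
  haveI : Fact (Nat.Prime 3) := ⟨Nat.prime_three⟩
  obtain ⟨a, rfl⟩ := c.mem_H.1 hH
  have hodd : Odd (Nat.card c.H) := by
    have := c.card_H
    rw [Nat.odd_iff]; omega
  have hoe : ∀ e, Odd (orderOf (c.d e)) := fun e =>
    hodd.of_dvd_nat (Subgroup.orderOf_dvd_natCard _ (c.mem_H.2 ⟨e, rfl⟩))
  have ha1 : (a : F) ^ 2 ≠ 1 := fun e => h1 (c.d_eq_one.2 ((sq_eq_one_iff.1 e).imp
    (fun r => Units.ext r) fun r => Units.ext (by simpa using r)))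
  set X : Subgroup G := centralizer ({c.d a} : Set G) with hX
  have htX : c.t ∈ X := mem_centralizer_singleton_iff.2 (c.d_comm_t a).symm
  have hP : ∀ x ∈ X, x * c.t = c.t * x → (∃ k, x ^ 2 ^ k = 1) → x = 1 ∨ x = c.t := by
    intro x hx hxt hx2
    have hsq := c.sq_of_two hx2
    obtain ⟨e, y, hform, -⟩ := c.cent_t_d (hoe a) ha1 hxt (mem_centralizer_singleton_iff.1 hx)
    obtain rfl : y = 1 := by
      have hπ : c.π ⟨x, mem_centralizer_singleton_iff.2 hxt⟩ = y :=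
        c.π_eq (l := pr (splitSL F e)) hform
      refine c.eq_one_of_sq _ ?_
      rw [← hπ, ← map_mul, show (⟨x, mem_centralizer_singleton_iff.2 hxt⟩ : centralizer ({c.t} : Set G)) *
        ⟨x, mem_centralizer_singleton_iff.2 hxt⟩ = 1 from Subtype.ext hsq, map_one]
    simp only [Subgroup.coe_one, mul_one] at hform
    have hd : c.d e = 1 := by
      refine Walter3.eq_one_of_sq_odd (hoe e) ?_
      rcases hform with h | h
      · rw [← h, hsq]
      · rw [show c.d e = c.t * x by rw [h, ← mul_assoc, c.t_sq, one_mul],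
          ← mul_assoc, mul_assoc c.t x c.t, hxt, ← mul_assoc c.t c.t, c.t_sq, one_mul, hsq]
    rcases hform with h | h <;> rw [hd] at h
    · exact Or.inl h
    · exact Or.inr (by rw [h, mul_one])
  have hQK : Q ≤ cor X := fun x hx => (mem_cor_of_two c.comm_sylow_two htX c.orderOf_t hP
    (mem_centralizer_singleton_iff.2 (hQh x hx).eq.symm)).1 (c.odd_orderOf_three (c.pgroup_pow hQ hx))
  have hiK : c.i ∈ normalizer (cor X : Set G) :=
    mem_normalizer_cor (mem_invOrFix.2 (Or.inr (c.iv_inverts (Or.inl rfl) a)))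
  exact four_centralizes_invariant (l := 3) (by norm_num)
    (c.noInverted hn hq h4 Nat.prime_three (by norm_num) (Or.inl rfl)) c.orderOf_t
    (c.hyp.orderOf_pt ⟨c.i_mem, c.i_ne⟩) (Ne.symm c.i_ne_t) c.i_comm_t.symm (odd_cor X)
    (le_normalizer_cor X htX) hiK hQK hQ htQ

end Cfg

end Cfsg.Lib.Walter3.Field
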