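import Cfsg.Agent.Lib.Walter3.Field.FourGroup
import Cfsg.Agent.Lib.Walter3.Def
import Cfsg.Agent.Lib.Walter3.Field.Matrices
import Cfsg.Agent.Lib.Invol.Cyclic
import Cfsg.Agent.Lib.Dickson.CentralizerCard
import Cfsg.Agent.Lib.Dickson.Centralizer
import Mathlib.GroupTheory.FixedPointFree

/-!
# Tools for the centralizers of the torus elements
-/

set_option autoImplicit false
set_option linter.unusedSectionVars false
set_option linter.style.haveILetI false

namespace Cfsg.Lib.Walter3.Field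

open Subgroup Cfsg Cfsg.Lib Matrix
open scoped MatrixGroups

universe u

section Group

variable {G : Type u} [Group G]

/-- The elements fixing or inverting `w`. -/
def invOrFix (w : G) : Subgroup G where
  carrier := {g | g * w * g⁻¹ = w ∨ g * w * g⁻¹ = w⁻¹}
  one_mem' := Or.inl (by simp)
  mul_mem' := by
    intro a b ha hb
    simp only [Set.mem_ofPred_eq] at *
    have e : a * b * w * (a * b)⁻¹ = a * (b * w * b⁻¹) * a⁻¹ := by group
    rw [e]
    rcases hb with hb | hb <;> rw [hb]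
    · exact ha
    · rw [← conj_inv]
      rcases ha with ha | ha <;> rw [ha] <;> simp
  inv_mem' := by
    intro a ha
    simp only [Set.mem_ofPred_eq] at *
    rcases ha with ha | ha
    · left
      nth_rewrite 1 [← ha]
      group
    · right
      have : w = (a * w * a⁻¹)⁻¹ := by rw [ha, inv_inv]
      nth_rewrite 1 [this]
      group

theorem mem_invOrFix {w g : G} : g ∈ invOrFix w ↔ g * w * g⁻¹ = w ∨ g * w * g⁻¹ = w⁻¹ := Iff.rfl

variable [Finite G]

/-- An element of odd order fixing or inverting `w` fixes it. -/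
theorem fix_of_odd {w g : G} (hg : g ∈ invOrFix w) (ho : Odd (orderOf g)) : g * w = w * g := by
  rcases mem_invOrFix.1 hg with h | h
  · exact mul_inv_eq_iff_eq_mul.1 h
  · have hit : ∀ k : ℕ, g ^ (2 * k) * w * (g ^ (2 * k))⁻¹ = w := by
      intro k
      induction k with
      | zero => simp
      | succ k ih =>
        calc g ^ (2 * (k + 1)) * w * (g ^ (2 * (k + 1)))⁻¹
            = g * (g * (g ^ (2 * k) * w * (g ^ (2 * k))⁻¹) * g⁻¹) * g⁻¹ := by
              rw [show 2 * (k + 1) = 2 * k + 1 + 1 by ring, pow_succ', pow_succ']; group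
          _ = w := by rw [ih, h, ← conj_inv, h, inv_inv]
    obtain ⟨k, hk⟩ := ho
    have h2 : g ^ (2 * (k + 1)) = g := by
      rw [show 2 * (k + 1) = (2 * k + 1) + 1 by ring, pow_succ, ← hk, pow_orderOf_eq_one, one_mul]
    have := hit (k + 1)
    rw [h2] at this
    exact mul_inv_eq_iff_eq_mul.1 this

/-- A `p`-subgroup is conjugate into a subgroup of index prime to `p`. -/
theorem exists_conj_mem_of_pgroup {p : ℕ} [Fact p.Prime] (R : Subgroup G) (hR : ¬ p ∣ R.index)
    {P : Subgroup G} (hP : IsPGroup p P) : ∃ g, ∀ x ∈ P, g⁻¹ * x * g ∈ R := by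
  obtain ⟨T⟩ : Nonempty (Sylow p R) := inferInstance
  have hT : ¬ p ∣ ((T : Subgroup R).map R.subtype).index := by
    rw [Subgroup.index_map, R.ker_subtype, sup_bot_eq, R.range_subtype]
    exact fun h => ((Fact.out : p.Prime).dvd_mul.1 h).elim T.not_dvd_index hR
  let T' : Sylow p G := IsPGroup.toSylow (T.2.map R.subtype) hT
  obtain ⟨Q, hQ⟩ := hP.exists_le_sylow
  obtain ⟨g, hg⟩ := MulAction.exists_smul_eq G Q T'
  refine ⟨g⁻¹, fun x hx => ?_⟩
  have h1 : g * x * g⁻¹ ∈ (T' : Subgroup G) := by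
    rw [← hg, Sylow.coe_subgroup_smul]
    exact ⟨x, hQ hx, rfl⟩
  rw [IsPGroup.toSylow_coe] at h1
  obtain ⟨z, -, hz⟩ := h1
  rw [inv_inv, ← hz]
  exact z.2

/-- A Sylow two-subgroup of order two gives a normal subgroup containing the odd elements. -/
theorem mem_cor_of_two (hab : ∀ T : Sylow 2 G, IsMulCommutative ↥(T : Subgroup G)) {X : Subgroup G}
    {t : G} (htX : t ∈ X) (ht : orderOf t = 2)
    (hP : ∀ x ∈ X, x * t = t * x → (∃ k, x ^ 2 ^ k = 1) → x = 1 ∨ x = t) {g : G} (hgX : g ∈ X) :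
    (Odd (orderOf g) → g ∈ cor X) ∧ (g ∈ cor X ∨ t * g ∈ cor X) := by
  haveI : Fact (Nat.Prime 2) := ⟨Nat.prime_two⟩
  set t' : X := ⟨t, htX⟩
  have ht' : orderOf t' = 2 := (Subgroup.orderOf_coe t').symm.trans ht
  have ht2 : IsPGroup 2 (zpowers t') := IsPGroup.of_card (n := 1) (by rw [Nat.card_zpowers, ht', pow_one])
  obtain ⟨P, hP'⟩ := ht2.exists_le_sylow
  have hPeq : ∀ x ∈ (P : Subgroup X), x = 1 ∨ x = t' := by
    intro x hx
    obtain ⟨T, hT⟩ := (P.2.map X.subtype).exists_le_sylow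
    have hc : (x : G) * t = t * x := congrArg Subtype.val ((hab T).is_comm.comm
      ⟨x, hT ⟨x, hx, rfl⟩⟩ ⟨t, hT ⟨t', hP' (mem_zpowers _), rfl⟩⟩)
    obtain ⟨k, hk⟩ := P.2 ⟨x, hx⟩
    rcases hP x x.2 hc ⟨k, by
      have := congrArg (fun z : (P : Subgroup X) => ((z : X) : G)) hk
      simpa using this⟩ with h | h
    · exact Or.inl (Subtype.ext h)
    · exact Or.inr (Subtype.ext h)
  have hPz : (P : Subgroup X) = zpowers t' := le_antisymm (fun x hx => by
    rcases hPeq x hx with h | h <;> rw [h]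
    · exact one_mem _
    · exact mem_zpowers _) hP'
  have hcy : IsCyclic (P : Subgroup X) := by rw [hPz]; infer_instance
  have hdvd : 2 ∣ Nat.card X := ht' ▸ orderOf_dvd_natCard t'
  have hmin : (Nat.card X).minFac = 2 := (Nat.minFac_eq_two_iff _).2 hdvd
  have hc := IsCyclic.isComplement' hmin hcy
  set N := (MonoidHom.transferSylow P (hcy.normalizer_le_centralizer hmin)).ker
  have hidx : N.index = 2 := by rw [hc.symm.index_eq_card, hPz, Nat.card_zpowers, ht']
  have hodd : ¬ 2 ∣ Nat.card N := fun h => P.not_dvd_index (by rwa [hc.index_eq_card])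
  have hN : N ≤ Cfsg.oddCore ↥X := Core.le_pPrimeCore' inferInstance
    (Nat.coprime_two_right.2 (Nat.odd_iff.2 (by omega)))
  have hmem : ∀ u : X, u ∈ N → (u : G) ∈ cor X := fun u hu => ⟨u, hN hu, rfl⟩
  refine ⟨fun ho => hmem ⟨g, hgX⟩ ?_, ?_⟩
  swap
  · by_cases hgN : (⟨g, hgX⟩ : X) ∈ N
    · exact Or.inl (hmem _ hgN)
    · exact Or.inr (hmem _ ((mul_mem_iff_of_index_two hidx).2 (iff_of_false
        (fun h => hodd (ht' ▸ Subgroup.orderOf_dvd_natCard _ h)) hgN)))
  obtain ⟨k, hk⟩ := ho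
  have h1 : (⟨g, hgX⟩ : X) = ((⟨g, hgX⟩ : X) ^ 2) ^ (k + 1) := by
    refine Subtype.ext ?_
    show g = ((g : G) ^ 2) ^ (k + 1)
    rw [← pow_mul, show 2 * (k + 1) = (2 * k + 1) + 1 by ring, pow_succ, ← hk, pow_orderOf_eq_one,
      one_mul]
  rw [h1]
  exact pow_mem (sq_mem_of_index_two hidx _) _

omit [Finite G] in
theorem conj_commutator_inv {t g : G} (ht : t * t = 1) :
    t * (g * (t * g⁻¹ * t⁻¹)) * t⁻¹ = (g * (t * g⁻¹ * t⁻¹))⁻¹ := by
  have hti : t⁻¹ = t := inv_eq_of_mul_eq_one_right ht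
  simp only [_root_.mul_inv_rev, inv_inv, hti, mul_assoc, ht, mul_one]

/-- An invariant `p`-group not centralized by an involution has an inverted element of order `p`. -/
theorem exists_inverted {Q : Subgroup G} {t : G} {l : ℕ} [Fact l.Prime] (hQ : IsPGroup l Q)
    (ht : t * t = 1) (htQ : t ∈ normalizer (Q : Set G)) (hne : ¬ Q ≤ centralizer ({t} : Set G)) :
    ∃ w ∈ Q, orderOf w = l ∧ t * w * t⁻¹ = w⁻¹ := by
  obtain ⟨g, hg, hgt⟩ := SetLike.not_le_iff_exists.1 hne
  set z := g * (t * g⁻¹ * t⁻¹) with hz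
  have hzQ : z ∈ Q := mul_mem hg ((mem_normalizer_iff.1 htQ _).1 (inv_mem hg))
  have hz1 : z ≠ 1 := fun e => hgt (mem_centralizer_singleton_iff.2 (by
    rw [hz, mul_eq_one_iff_eq_inv] at e
    calc g * t = (t * g⁻¹ * t⁻¹)⁻¹ * t := by rw [← e]
      _ = t * g := by group))
  obtain ⟨k, hk⟩ := hQ ⟨z, hzQ⟩
  obtain ⟨j, -, hj⟩ := (Nat.dvd_prime_pow Fact.out).1
    (orderOf_dvd_of_pow_eq_one (show z ^ l ^ k = 1 from congrArg Subtype.val hk))
  cases j with
  | zero => exact absurd (orderOf_eq_one_iff.1 (hj.trans (pow_zero l))) hz1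
  | succ j =>
    refine ⟨z ^ l ^ j, pow_mem hzQ _, ?_, ?_⟩
    · rw [orderOf_pow' z (pow_ne_zero _ (Fact.out : l.Prime).ne_zero), hj, pow_succ,
        Nat.gcd_mul_right_left]
      exact Nat.mul_div_cancel_left l (pow_pos (Fact.out : l.Prime).pos j)
    · rw [← conj_pow, conj_commutator_inv ht, inv_pow]

/-- An involution without fixed points inverts. -/
theorem inverted_of_fixed_free {M : Subgroup G} {t : G} (ht : t * t = 1)
    (htM : t ∈ normalizer (M : Set G)) (hfree : ∀ g ∈ M, g * t = t * g → g = 1) :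
    (∀ g ∈ M, t * g * t⁻¹ = g⁻¹) ∧ ∀ g ∈ M, ∀ k ∈ M, g * k = k * g := by
  have htm : ∀ g : M, t * g * t⁻¹ ∈ M := fun g => (mem_normalizer_iff.1 htM _).1 g.2
  have hinv : Function.Involutive fun g : M => (⟨t * g * t⁻¹, htm g⟩ : M) := fun g => Subtype.ext (by
    show t * (t * g * t⁻¹) * t⁻¹ = g
    calc t * (t * g * t⁻¹) * t⁻¹ = (t * t) * g * (t * t)⁻¹ := by group
      _ = g := by rw [ht]; group)
  let f : M →* M := MonoidHom.mk' (fun g => ⟨t * g * t⁻¹, htm g⟩) fun a b => Subtype.ext (by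
    show t * (a * b : G) * t⁻¹ = t * a * t⁻¹ * (t * b * t⁻¹)
    group)
  have hf : MonoidHom.FixedPointFree f := fun g hg => Subtype.ext (hfree g g.2
    (mul_inv_eq_iff_eq_mul.1 (congrArg Subtype.val hg)).symm)
  refine ⟨fun g hg => ?_, fun g hg k hk => ?_⟩
  · exact congrArg Subtype.val (congrFun (hf.coe_eq_inv_of_involutive hinv) ⟨g, hg⟩)
  · exact congrArg Subtype.val (hf.commute_all_of_involutive hinv ⟨g, hg⟩ ⟨k, hk⟩)

/-- A subgroup is centralized if one Sylow subgroup for each prime is. -/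
theorem le_of_sylows {K C : Subgroup G}
    (h : ∀ l : ℕ, l.Prime → l ∣ Nat.card K → ∃ Q : Sylow l K, (Q : Subgroup K).map K.subtype ≤ C) :
    K ≤ C := by
  rw [← subgroupOf_eq_top, ← index_eq_one]
  by_contra hne
  obtain ⟨l, hl, hld⟩ := Nat.exists_prime_and_dvd hne
  haveI := Fact.mk hl
  obtain ⟨Q, hQ⟩ := h l hl (hld.trans (index_dvd_card _))
  exact Q.not_dvd_index (hld.trans (index_dvd_of_le fun x hx =>
    mem_subgroupOf.2 (hQ ⟨x, hx, rfl⟩)))

end Group

section PSL

open Cfsg.Lib.Dickson (trace_ne_zero_of_sq_ne_one not_scalar_of_ne_one)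
open Cfsg.Lib.Dickson.KleinClasses (mk_eq_iff)

local notation "PSL2[" K "]" => Matrix.ProjectiveSpecialLinearGroup (Fin 2) K

variable {F : Type} [Field F] [Fintype F]

/-- Lifts of commuting elements commute, if one of them is no involution. -/
theorem lift_comm (hodd : Fintype.card F % 2 = 1) {X A : SL(2, F)} (hx : pr X ^ 2 ≠ 1) (h : pr A * pr X = pr X * pr A) :
    (A : Matrix (Fin 2) (Fin 2) F) * (X : Matrix (Fin 2) (Fin 2) F) =
      (X : Matrix (Fin 2) (Fin 2) F) * (A : Matrix (Fin 2) (Fin 2) F) := by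
  rcases mk_eq_iff.1 (show pr (A * X) = pr (X * A) from h) with e | e <;>
    rw [Matrix.SpecialLinearGroup.coe_mul, Matrix.SpecialLinearGroup.coe_mul] at e
  · exact e.symm
  · exfalso
    refine trace_ne_zero_of_sq_ne_one hx ?_
    have hX : Matrix.trace (X : Matrix (Fin 2) (Fin 2) F) = -Matrix.trace (X : Matrix (Fin 2) (Fin 2) F) := by
      have hi : ((A⁻¹ : SL(2, F)) : Matrix (Fin 2) (Fin 2) F) * (A : Matrix (Fin 2) (Fin 2) F) = 1 := by
        rw [← Matrix.SpecialLinearGroup.coe_mul, inv_mul_cancel]; rfl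
      have hi' : (A : Matrix (Fin 2) (Fin 2) F) * ((A⁻¹ : SL(2, F)) : Matrix (Fin 2) (Fin 2) F) = 1 := by
        rw [← Matrix.SpecialLinearGroup.coe_mul, mul_inv_cancel]; rfl
      conv_lhs => rw [← one_mul (X : Matrix (Fin 2) (Fin 2) F), ← hi, mul_assoc,
        ← neg_eq_iff_eq_neg.2 e, mul_neg, Matrix.trace_neg, Matrix.trace_mul_comm, mul_assoc, hi', mul_one]
    rw [Matrix.trace_fin_two] at hX
    have h2 : (2 : F) * (X 0 0 + X 1 1) = 0 := by linear_combination hX
    exact (mul_eq_zero.1 h2).resolve_left (two_ne_zero_of hodd)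

/-- The centralizer of an element which is no involution is commutative. -/
theorem comm_of_sq_ne_one (hodd : Fintype.card F % 2 = 1) {x a b : PSL2[F]} (hx : x ^ 2 ≠ 1) (ha : a * x = x * a) (hb : b * x = x * b) :
    a * b = b * a := by
  obtain ⟨X, rfl⟩ := QuotientGroup.mk_surjective x
  obtain ⟨A, rfl⟩ := QuotientGroup.mk_surjective a
  obtain ⟨B, rfl⟩ := QuotientGroup.mk_surjective b
  have hA := lift_comm hodd hx ha
  have hB := lift_comm hodd hx hb
  have hX := not_scalar_of_ne_one (g := X) (fun e => hx (by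
    show (QuotientGroup.mk X : PSL2[F]) ^ 2 = 1
    rw [e, one_pow]))
  have a00 := congrFun (congrFun hA 0) 0
  have a01 := congrFun (congrFun hA 0) 1
  have a10 := congrFun (congrFun hA 1) 0
  have b00 := congrFun (congrFun hB 0) 0
  have b01 := congrFun (congrFun hB 0) 1
  have b10 := congrFun (congrFun hB 1) 0
  simp [Matrix.mul_apply, Fin.sum_univ_two] at a00 a01 a10 b00 b01 b10
  refine congrArg (QuotientGroup.mk' _) (show A * B = B * A from
    Matrix.SpecialLinearGroup.ext _ _ fun i j => ?_)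
  rw [Matrix.SpecialLinearGroup.coe_mul, Matrix.SpecialLinearGroup.coe_mul]
  fin_cases i <;> fin_cases j <;> simp [Matrix.mul_apply, Fin.sum_univ_two] <;>
    rcases hX with h | h | h <;> grind

/-- A fixed point, in the centralizer, of an element inverting `x` is an involution. -/
theorem sq_eq_one_of_inverted (hodd : Fintype.card F % 2 = 1) {x τ z : PSL2[F]} (hx : x ^ 2 ≠ 1) (hτ : τ * x * τ⁻¹ = x⁻¹)
    (hzx : z * x = x * z) (hzt : z * τ = τ * z) : z ^ 2 = 1 := by
  by_contra hz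
  rw [← comm_of_sq_ne_one hodd hz hzx.symm hzt.symm, mul_inv_cancel_right] at hτ
  exact hx (by rw [pow_two]; nth_rewrite 2 [hτ]; rw [mul_inv_cancel])

variable [CharP F 3]

/-- The centralizer of a semisimple element which is no involution. -/
theorem card_cent_cases (h4 : 4 ≤ Fintype.card F) (hodd : Fintype.card F % 2 = 1) {x : PSL2[F]}
    (hx : x ^ 2 ≠ 1) (h3 : ¬ 3 ∣ orderOf x) :
    (Nat.card (centralizer ({x} : Set PSL2[F])) = (Fintype.card F + 1) / 2 ∧
        orderOf x ∣ (Fintype.card F + 1) / 2) ∨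
      (Nat.card (centralizer ({x} : Set PSL2[F])) = (Fintype.card F - 1) / 2 ∧
        orderOf x ∣ (Fintype.card F - 1) / 2) := by
  have h := Cfsg.Lib.Dickson.card_centralizer_semisimple h4 3 hx h3
  rwa [Nat.gcd_eq_left (show 2 ∣ Fintype.card F - 1 by omega)] at h

theorem sq_ne_one_of_prime {G' : Type*} [Group G'] {x : G'} {l : ℕ} (hl : l.Prime) (h2 : l ≠ 2)
    (hx : orderOf x = l) : x ^ 2 ≠ 1 := fun h =>
  h2 ((Nat.prime_dvd_prime_iff_eq hl Nat.prime_two).1 (hx ▸ orderOf_dvd_of_pow_eq_one h))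

/-- The centralizer of an element of prime order dividing `q - 1`. -/
theorem card_cent_sub (h4 : 4 ≤ Fintype.card F) (hodd : Fintype.card F % 2 = 1) {x : PSL2[F]} {l : ℕ}
    (hl : l.Prime) (h2 : l ≠ 2) (h3 : l ≠ 3) (hx : orderOf x = l) (hd : l ∣ Fintype.card F - 1) :
    Nat.card (centralizer ({x} : Set PSL2[F])) = (Fintype.card F - 1) / 2 := by
  rcases card_cent_cases h4 hodd (sq_ne_one_of_prime hl h2 hx) (by
    rw [hx]; exact fun h => h3 ((Nat.prime_dvd_prime_iff_eq Nat.prime_three hl).1 h).symm) with h | h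
  · have h' : l ∣ Fintype.card F + 1 := (hx ▸ h.2).trans (Nat.div_dvd_of_dvd (by omega))
    have := Nat.dvd_sub h' hd
    rw [show Fintype.card F + 1 - (Fintype.card F - 1) = 2 by omega] at this
    exact absurd ((Nat.prime_dvd_prime_iff_eq hl Nat.prime_two).1 this) h2
  · exact h.1

/-- The centralizer of an element of prime order dividing `q + 1`. -/
theorem card_cent_add (h4 : 4 ≤ Fintype.card F) (hodd : Fintype.card F % 2 = 1) {x : PSL2[F]} {l : ℕ}
    (hl : l.Prime) (h2 : l ≠ 2) (h3 : l ≠ 3) (hx : orderOf x = l) (hd : l ∣ Fintype.card F + 1) :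
    Nat.card (centralizer ({x} : Set PSL2[F])) = (Fintype.card F + 1) / 2 := by
  rcases card_cent_cases h4 hodd (sq_ne_one_of_prime hl h2 hx) (by
    rw [hx]; exact fun h => h3 ((Nat.prime_dvd_prime_iff_eq Nat.prime_three hl).1 h).symm) with h | h
  · exact h.1
  · have h' : l ∣ Fintype.card F - 1 := (hx ▸ h.2).trans (Nat.div_dvd_of_dvd (by omega))
    have := Nat.dvd_sub hd h'
    rw [show Fintype.card F + 1 - (Fintype.card F - 1) = 2 by omega] at this
    exact absurd ((Nat.prime_dvd_prime_iff_eq hl Nat.prime_two).1 this) h2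

/-- An involution commuting with an element of odd order has a centralizer with a normal torus. -/
theorem inverted_of_involutions (h7 : 7 ≤ Fintype.card F) (hq : Fintype.card F % 4 = 3)
    (h8 : Fintype.card F % 8 = 3) {j m n : PSL2[F]} (hj : j ^ 2 = 1) (hj1 : j ≠ 1) (hm : m ^ 2 = 1)
    (hm1 : m ≠ 1) (hmj : m * j = j * m) (hne : m ≠ j) (hn : n ^ 2 ≠ 1) (ho : ¬ 3 ∣ orderOf n)
    (hon : Odd (orderOf n)) (hnj : n * j = j * n) : m * n * m⁻¹ = n⁻¹ := by
  classical
  have hodd : Fintype.card F % 2 = 1 := by omega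
  set T := centralizer ({n} : Set PSL2[F])
  set C := centralizer ({j} : Set PSL2[F])
  have hjT : j ∈ T := mem_centralizer_singleton_iff.2 hnj.symm
  have hnT : n ∈ T := mem_centralizer_singleton_iff.2 rfl
  have hj2 : orderOf j = 2 := orderOf_eq_prime hj hj1
  have hT : Nat.card T = (Fintype.card F + 1) / 2 := by
    rcases card_cent_cases (by omega) hodd hn ho with h | h
    · exact h.1
    · have : 2 ∣ (Fintype.card F - 1) / 2 := by
        have := Subgroup.orderOf_dvd_natCard _ hjT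
        rwa [h.1, hj2] at this
      omega
  have hC : Nat.card C = Fintype.card F + 1 :=
    (Cfsg.Lib.Dickson.card_centralizer_involution hodd h7 hj hj1).2 hq
  have hcomm : ∀ a ∈ T, ∀ b ∈ T, a * b = b * a := fun a ha b hb =>
    comm_of_sq_ne_one hodd hn (mem_centralizer_singleton_iff.1 ha) (mem_centralizer_singleton_iff.1 hb)
  have hTC : T ≤ C := fun a ha => mem_centralizer_singleton_iff.2 (hcomm a ha j hjT)
  have hi : (T.subgroupOf C).index = 2 := by
    have h := (T.subgroupOf C).card_mul_index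
    rw [Nat.card_congr (subgroupOfEquivOfLe hTC).toEquiv, hT, hC] at h
    exact Nat.eq_of_mul_eq_mul_left (show 0 < (Fintype.card F + 1) / 2 by omega) (h.trans (by omega))
  haveI : (T.subgroupOf C).Normal := normal_of_index_eq_two hi
  have hmC : m ∈ C := mem_centralizer_singleton_iff.2 hmj
  have hnm : m * n * m⁻¹ ∈ T :=
    mem_subgroupOf.1 ((inferInstance : (T.subgroupOf C).Normal).conj_mem ⟨n, hTC hnT⟩
      (mem_subgroupOf.2 hnT) ⟨m, hmC⟩)
  have hmT : m ∉ T := by
    intro h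
    have h4 : 4 ∣ Nat.card T := by
      haveI := Cfsg.Lib.Dickson.KleinClasses.isKleinFour_fourGroup hm hj hmj.symm hm1 hj1 hne.symm
      set V := Cfsg.Lib.Dickson.KleinClasses.fourGroup m j hm hj hmj.symm
      have hV : V ≤ T := by
        intro a ha
        rcases (show a = 1 ∨ a = m ∨ a = j ∨ a = m * j from ha) with r | r | r | r <;> rw [r]
        exacts [one_mem _, h, hjT, mul_mem h hjT]
      exact (IsKleinFour.card_four (G := V)) ▸ card_dvd_of_le hV
    omega
  -- the product with the conjugate is fixed by `m`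
  set n' := m * n * m⁻¹ with hn'
  have hfix : m * n' * m⁻¹ = n := by
    rw [hn', show m * (m * n * m⁻¹) * m⁻¹ = m * m * n * (m * m)⁻¹ by group, ← pow_two, hm]; group
  have hz : (n * n') ^ 2 = 1 := by
    by_contra hz
    have hzT : n * n' ∈ T := mul_mem hnT hnm
    have hzm : m * (n * n') = n * n' * m := by
      rw [← mul_inv_eq_iff_eq_mul]
      calc m * (n * n') * m⁻¹ = (m * n * m⁻¹) * (m * n' * m⁻¹) := by group
        _ = n' * n := by rw [← hn', hfix]
        _ = n * n' := (hcomm n hnT n' hnm).symm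
    exact hmT (mem_centralizer_singleton_iff.2 (comm_of_sq_ne_one hodd hz hzm
      (mem_centralizer_singleton_iff.1 hzT).symm))
  have hcn : Commute n n' := hcomm n hnT n' hnm
  have hno : n' ^ orderOf n = 1 := by rw [hn', conj_pow, pow_orderOf_eq_one, mul_one, mul_inv_cancel]
  have hpow : (n * n') ^ orderOf n = 1 := by rw [hcn.mul_pow, pow_orderOf_eq_one, hno, one_mul]
  obtain ⟨k, hk⟩ := hon
  rw [hk, pow_succ, pow_mul, hz, one_pow, one_mul] at hpow
  exact eq_inv_of_mul_eq_one_right hpow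

end PSL

end Cfsg.Lib.Walter3.Field
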