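import Cfsg.Agent.Lib.Walter3.Field.Coset
import Cfsg.Agent.Lib.Walter3.Field.Degrees
import Cfsg.Agent.Lib.Char.PRationalLift
import Mathlib.Data.ZMod.Units

/-!
# The values of the constituents at `t`

The Galois twists fixing the field part fix both constituents of `Θ_μ`; hence their degrees are
odd, and their values at `t` are `2 q - 1` and `2 - q`.
-/

set_option autoImplicit false
set_option linter.unusedSectionVars false
set_option linter.style.haveILetI false

namespace Cfsg.Lib.Walter3.Field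

open Subgroup Cfsg Cfsg.Lib.Char
open scoped ComplexConjugate

universe u

/-- An exponent with given residue, prime to a multiple of the modulus. -/
theorem exists_exponent {N d k₀ : ℕ} (hN : N ≠ 0) (hd : d ∣ N) (hk : k₀.Coprime d) :
    ∃ k : ℕ, k.Coprime N ∧ k ≡ k₀ [MOD d] := by
  haveI : NeZero N := ⟨hN⟩
  obtain ⟨u, hu⟩ := ZMod.unitsMap_surjective hd (ZMod.unitOfCoprime k₀ hk)
  refine ⟨(u : ZMod N).val, ZMod.val_coe_unit_coprime u, ?_⟩
  rw [← ZMod.natCast_eq_natCast_iff]
  have h := congrArg Units.val hu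
  rw [ZMod.unitsMap_val, ZMod.coe_unitOfCoprime] at h
  rw [← h, ZMod.cast_eq_val]

open Classical in
/-- A sum over a set on which a map acts freely with period `n`. -/
theorem isIntegral_sum_div {α : Type*} (s : Finset α) (e : α → α) {n : ℕ} (hn : 0 < n)
    (hes : ∀ x ∈ s, e x ∈ s) (hper : ∀ x ∈ s, e^[n] x = x)
    (hfree : ∀ x ∈ s, ∀ j, 0 < j → j < n → e^[j] x ≠ x) (f : α → ℂ)
    (hf : ∀ x ∈ s, f (e x) = f x) (hint : ∀ x ∈ s, IsIntegral ℤ (f x)) :
    IsIntegral ℤ ((∑ x ∈ s, f x) / (n : ℂ)) := by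
  set O : α → Finset α := fun x => (Finset.range n).image fun j => e^[j] x with hO
  have hmem : ∀ j x, x ∈ s → e^[j] x ∈ s := by
    intro j
    induction j with
    | zero => exact fun x hx => hx
    | succ j ih => exact fun x hx => by rw [Function.iterate_succ_apply]; exact ih _ (hes x hx)
  have hmod : ∀ j x, x ∈ s → e^[j] x = e^[j % n] x := fun j x hx => by
    conv_lhs => rw [← Nat.mod_add_div j n, Function.iterate_add_apply]
    congr 1
    induction j / n with
    | zero => rw [mul_zero, Function.iterate_zero_apply]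
    | succ m ih => rw [Nat.mul_succ, Function.iterate_add_apply, hper x hx, ih]
  have hin : ∀ j x, x ∈ s → e^[j] x ∈ O x := fun j x hx =>
    Finset.mem_image.2 ⟨j % n, Finset.mem_range.2 (Nat.mod_lt _ hn), (hmod j x hx).symm⟩
  have hinj : ∀ x ∈ s, Set.InjOn (fun j => e^[j] x) (Finset.range n : Set ℕ) := by
    intro x hx
    have key : ∀ i j, i < j → j < n → e^[i] x ≠ e^[j] x := fun i j hlt hj h => by
      refine hfree (e^[i] x) (hmem i x hx) (j - i) (by omega) (by omega) ?_
      rw [← Function.iterate_add_apply, Nat.sub_add_cancel hlt.le]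
      exact h.symm
    intro i hi j hj h
    simp only [Finset.coe_range, Set.mem_Iio] at hi hj
    rcases lt_trichotomy i j with hlt | rfl | hlt
    · exact absurd h (key i j hlt hj)
    · rfl
    · exact absurd h.symm (key j i hlt hi)
  have hfib : ∀ x ∈ s, s.filter (fun y => O y = O x) = O x := by
    intro x hx
    ext y
    constructor
    · intro hy
      obtain ⟨hys, hy⟩ := Finset.mem_filter.1 hy
      exact hy ▸ (hin 0 y hys)
    · intro hy
      obtain ⟨i, hi, rfl⟩ := Finset.mem_image.1 hy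
      have hi' := Finset.mem_range.1 hi
      refine Finset.mem_filter.2 ⟨hmem i x hx, ?_⟩
      ext z
      constructor
      · intro hz
        obtain ⟨j, -, rfl⟩ := Finset.mem_image.1 hz
        rw [← Function.iterate_add_apply]
        exact hin _ x hx
      · intro hz
        obtain ⟨j, -, rfl⟩ := Finset.mem_image.1 hz
        have h1 : e^[j] x = e^[j + (n - i)] (e^[i] x) := by
          rw [← Function.iterate_add_apply, show j + (n - i) + i = j + n by omega,
            Function.iterate_add_apply, hper x hx]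
        rw [h1]
        exact hin _ _ (hmem i x hx)
  have hconst : ∀ j x, x ∈ s → f (e^[j] x) = f x := by
    intro j
    induction j with
    | zero => exact fun x _ => rfl
    | succ j ih => exact fun x hx => by rw [Function.iterate_succ_apply, ih _ (hes x hx), hf x hx]
  rw [← Finset.sum_fiberwise_of_maps_to (g := O) (t := s.image O)
    (fun x hx => Finset.mem_image_of_mem _ hx), Finset.sum_div]
  refine IsIntegral.sum _ fun o ho => ?_
  obtain ⟨x, hx, rfl⟩ := Finset.mem_image.1 ho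
  rw [hfib x hx, hO, Finset.sum_image (hinj x hx),
    Finset.sum_congr rfl fun j _ => hconst j x hx, Finset.sum_const, Finset.card_range, nsmul_eq_mul,
    mul_div_cancel_left₀ _ (Nat.cast_ne_zero.2 hn.ne')]
  exact hint x hx

variable {G : Type u} [Group G] [Fintype G] {F : Type} [Field F] [Fintype F] {c : Cfg G F}

namespace Full

variable (D : Full c)
include D

/-- `Θ_μ` is invariant under the twists fixing the field part. -/
theorem Th_pow (μ : c.Dual) {k : ℕ} (hk : k.Coprime (Nat.card G)) (hkf : k ≡ 1 [MOD c.f]) (g : G) :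
    D.Th μ (g ^ k) = D.Th μ g := by
  refine indFun_comp_pow D.B _ hk (fun y => ?_) g
  rw [map_pow, pow_eq_pow_mod k (show D.ρ y ^ c.f = 1 from pow_card_eq_one'), hkf,
    Nat.mod_eq_of_lt D.f_pos, pow_one]

theorem f_dvd_card : c.f ∣ Nat.card G := Subgroup.card_subgroup_dvd_card _

/-- The principal constituent of `Θ_1`. -/
theorem exists_pair_one : ∃ X : IrrCharacter G, (X : G → ℂ) 1 = (Fintype.card F : ℂ) ^ 3 ∧
    (X : G → ℂ) c.t = Fintype.card F ∧ D.Th 1 = (fun _ => 1) + (X : G → ℂ) := by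
  classical
  obtain ⟨P⟩ := D.exists_pair 1
  have h : classInner (D.Th 1) (fun _ => (1 : ℂ)) = 1 := by
    haveI := Fintype.ofFinite D.B
    rw [Th, classInner_indFun D.B _ (fun _ _ => rfl)]
    simp [classInner]
  obtain ⟨Q, hQ⟩ : ∃ Q : Pair D 1, (Q.χ : G → ℂ) = fun _ => 1 := by
    rcases P.mem_cases (ψ := Cfsg.Lib.Block.trivChar G)
      (by rw [Cfsg.Lib.Block.trivChar_coe, h]; exact one_ne_zero) with e | e
    · exact ⟨P, e ▸ rfl⟩
    · exact ⟨P.swap, show (P.χ' : G → ℂ) = _ from e ▸ rfl⟩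
  refine ⟨Q.χ', ?_, ?_, hQ ▸ Q.eq⟩
  · have := congrFun Q.eq 1
    rw [D.Th_one, Pi.add_apply, hQ] at this
    linear_combination -this
  · have := congrFun Q.eq c.t
    rw [D.Th_t, Pi.add_apply, hQ] at this
    linear_combination -this

end Full

namespace Pair

variable {D : Full c} {μ : c.Dual}

theorem pair_one (P : Pair D μ) :
    (P.χ : G → ℂ) 1 + (P.χ' : G → ℂ) 1 = (Fintype.card F : ℂ) ^ 3 + 1 := by
  have := congrFun P.eq 1
  rw [D.Th_one] at this
  exact this.symm

theorem pair_t (P : Pair D μ) :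
    (P.χ : G → ℂ) c.t + (P.χ' : G → ℂ) c.t = (Fintype.card F : ℂ) + 1 := by
  have := congrFun P.eq c.t
  rw [D.Th_t] at this
  exact this.symm

/-- The equation between degrees and values. -/
theorem equation (P : Pair D μ) :
    (Fintype.card F : ℂ) * ((P.χ : G → ℂ) c.t ^ 2 * (P.χ' : G → ℂ) 1 +
        (P.χ' : G → ℂ) c.t ^ 2 * (P.χ : G → ℂ) 1) =
      ((Fintype.card F : ℂ) + 1) * ((P.χ : G → ℂ) 1 * (P.χ' : G → ℂ) 1) := by
  classical
  obtain ⟨X, hX1, hXt, hTh⟩ := D.exists_pair_one
  set N : ℂ := ((centralizer ({c.t} : Set G)).index : ℂ) with hN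
  have hinv : ∀ χ : IrrCharacter G, ∑ x ∈ involFinset G, ∑ y ∈ involFinset G, (χ : G → ℂ) (x * y) =
      (N * (χ : G → ℂ) c.t) ^ 2 / (χ : G → ℂ) 1 := fun χ => by
    rw [sum_involFinset_pair χ.2, hN, ← c.sum_invol χ.2.isClassFunction]
    congr 2
  have h1 : ∑ x ∈ involFinset G, ∑ y ∈ involFinset G, D.Th μ (x * y) =
      ∑ x ∈ involFinset G, ∑ y ∈ involFinset G, D.Th 1 (x * y) := by
    rw [D.Th_eq_Dif μ]
    simp only [Pi.add_apply, Finset.sum_add_distrib, D.sum_pairs_Dif, zero_add]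
  have h2 : ∑ x ∈ involFinset G, ∑ y ∈ involFinset G, (1 : ℂ) = N ^ 2 := by
    have h := c.sum_invol (χ := fun _ => (1 : ℂ)) fun _ _ => rfl
    rw [mul_one, ← hN] at h
    rw [show ∑ x ∈ involFinset G, ∑ y ∈ involFinset G, (1 : ℂ) = _ from
      sum_involFinset_pair (isIrrCharacter_one (G := G)), div_one, ← h]
    congr 1
  rw [P.eq, hTh] at h1
  simp only [Pi.add_apply, Finset.sum_add_distrib, hinv] at h1
  rw [h2, hX1, hXt] at h1
  have hN0 : N ≠ 0 := Nat.cast_ne_zero.2 Subgroup.index_ne_zero_of_finite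
  have hq : (Fintype.card F : ℂ) ≠ 0 := Nat.cast_ne_zero.2 Fintype.card_ne_zero
  have hy := P.χ.2.apply_one_ne_zero
  have hz := P.χ'.2.apply_one_ne_zero
  field_simp at h1
  linear_combination h1

/-- The equation in integers. -/
theorem equation_int (P : Pair D μ) {a y : ℤ} (ha : (P.χ : G → ℂ) c.t = a)
    (hy : (P.χ : G → ℂ) 1 = y) :
    (Fintype.card F : ℤ) * (a ^ 2 * ((Fintype.card F : ℤ) ^ 3 + 1 - y) +
        ((Fintype.card F : ℤ) + 1 - a) ^ 2 * y) =
      ((Fintype.card F : ℤ) + 1) * (y * ((Fintype.card F : ℤ) ^ 3 + 1 - y)) := by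
  have hb : (P.χ' : G → ℂ) c.t = (((Fintype.card F : ℤ) + 1 - a : ℤ) : ℂ) := by
    push_cast; linear_combination P.pair_t - ha
  have hz : (P.χ' : G → ℂ) 1 = (((Fintype.card F : ℤ) ^ 3 + 1 - y : ℤ) : ℂ) := by
    push_cast; linear_combination P.pair_one - hy
  have h := P.equation
  rw [ha, hy, hb, hz] at h
  exact_mod_cast h

/-- The twists fixing the field part fix a constituent. -/
theorem twist (P : Pair D μ) {k : ℕ} (hk : k.Coprime (Nat.card G)) (hkf : k ≡ 1 [MOD c.f]) (g : G) :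
    (P.χ : G → ℂ) (g ^ k) = (P.χ : G → ℂ) g := by
  set χk : IrrCharacter G := ⟨_, isIrrCharacter_comp_pow hk P.χ.2⟩
  have h : classInner (D.Th μ) (χk : G → ℂ) = 1 := by
    rw [← P.inner_left]
    show classInner (D.Th μ) (fun g => (P.χ : G → ℂ) (g ^ k)) = _
    conv_lhs => arg 1; rw [show D.Th μ = fun g => D.Th μ (g ^ k) from
      funext fun g => (D.Th_pow μ hk hkf g).symm]
    simp only [classInner]
    congr 1
    exact (powBij_of_coprime hk).sum_comp fun g => D.Th μ g * conj ((P.χ : G → ℂ) g)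
  rcases P.mem_cases (ψ := χk) (by rw [h]; exact one_ne_zero) with e | e
  · exact congrFun (congrArg Subtype.val e) g
  exfalso
  have hkodd : Odd k := by
    have h2 : 2 ∣ Nat.card G := c.orderOf_t ▸ orderOf_dvd_natCard c.t
    exact Nat.coprime_two_right.1 (hk.coprime_dvd_right h2)
  have htk : c.t ^ k = c.t := by
    obtain ⟨j, rfl⟩ := hkodd
    rw [pow_succ, pow_mul, pow_two, c.t_sq, one_pow, one_mul]
  have e1 : (P.χ : G → ℂ) 1 = (P.χ' : G → ℂ) 1 := by
    conv_lhs => rw [← one_pow k]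
    exact congrFun (congrArg Subtype.val e) 1
  have et : (P.χ : G → ℂ) c.t = (P.χ' : G → ℂ) c.t := by
    conv_lhs => rw [← htk]
    exact congrFun (congrArg Subtype.val e) c.t
  obtain ⟨a, ha⟩ := D.exists_int_t P.χ
  obtain ⟨y, -, hy⟩ := P.χ.2.exists_degree
  refine not_both_half (q := (Fintype.card F : ℤ)) (a := a) (y := (y : ℤ)) ?_
    (P.equation_int ha (by rw [hy]; push_cast; rfl)) ?_ ?_
  · have := c.five_le
    omega
  · have h := P.pair_one
    rw [← e1, hy] at h
    have : ((2 * (y : ℤ) : ℤ) : ℂ) = (((Fintype.card F : ℤ) ^ 3 + 1 : ℤ) : ℂ) := by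
      push_cast; linear_combination h
    exact_mod_cast this
  · have h := P.pair_t
    rw [← et, ha] at h
    have : ((2 * a : ℤ) : ℂ) = (((Fintype.card F : ℤ) + 1 : ℤ) : ℂ) := by
      push_cast; linear_combination h
    exact_mod_cast this

/-- The degrees are odd. -/
theorem odd_degree (P : Pair D μ) {y : ℕ} (hy : (P.χ : G → ℂ) 1 = y) : Odd y := by
  classical
  obtain ⟨n, -, -, hq⟩ := D.q_pow
  obtain ⟨j, M, hM, hcard⟩ := Nat.exists_eq_pow_mul_and_not_dvd Nat.card_pos.ne' 3 (by norm_num)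
    (n := Nat.card G)
  have hco : (3 ^ j).Coprime M := ((Nat.Prime.coprime_iff_not_dvd Nat.prime_three).2 hM).pow_left j
  obtain ⟨k, hk1, hk2⟩ := Nat.chineseRemainder hco (3 ^ j - 1) 1
  have hpos : 0 < 3 ^ j := by positivity
  have hkj : k.Coprime (3 ^ j) := by
    rw [Nat.coprime_iff_gcd_eq_one, hk1.gcd_eq]
    exact (Nat.coprime_self_sub_left hpos).2 (Nat.coprime_one_left _)
  have hkM : k.Coprime M := by rw [Nat.coprime_iff_gcd_eq_one, hk2.gcd_eq, Nat.gcd_one_left]
  have hk : k.Coprime (Nat.card G) := hcard ▸ hkj.mul_right hkM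
  have hfM : c.f ∣ M := by
    have h := D.f_dvd_card
    rw [hcard] at h
    exact ((Nat.Prime.coprime_iff_not_dvd Nat.prime_three).2 D.three).symm.pow_right j
      |>.dvd_of_dvd_mul_left h
  have hreal : ∀ r : D.bd.R, (P.χ : G → ℂ) ((r⁻¹ : D.bd.R) : G) = (P.χ : G → ℂ) r := by
    intro r
    rw [← P.twist hk (hk2.of_dvd hfM) r, Subgroup.coe_inv]
    refine congrArg _ ?_
    have hr : orderOf (r : G) ∣ 3 ^ j := by
      have h1 := (Subgroup.orderOf_dvd_natCard _ r.2)
      rw [D.bd.card, hq, ← pow_mul] at h1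
      obtain ⟨i, -, hi⟩ := (Nat.dvd_prime_pow Nat.prime_three).1 h1
      have h2 := orderOf_dvd_natCard (r : G)
      rw [hi, hcard] at h2
      rw [hi]
      exact (((Nat.Prime.coprime_iff_not_dvd Nat.prime_three).2 hM).pow_left i).dvd_of_dvd_mul_right h2
    rw [pow_eq_pow_mod k (orderOf_dvd_iff_pow_eq_one.1 hr), hk1, ← pow_eq_pow_mod _
      (orderOf_dvd_iff_pow_eq_one.1 hr), eq_comm, eq_inv_iff_mul_eq_one, ← pow_succ,
      Nat.sub_add_cancel hpos, orderOf_dvd_iff_pow_eq_one.1 hr]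
  have hoddR : Odd (Nat.card D.bd.R) := by
    rw [D.bd.card]; exact D.odd_q.pow
  have hint := isIntegral_sum_div (Finset.univ.erase (1 : D.bd.R)) (fun r => r⁻¹) (n := 2) two_pos
    (fun r hr => Finset.mem_erase.2 ⟨inv_ne_one.2 (Finset.mem_erase.1 hr).1, Finset.mem_univ _⟩)
    (fun r _ => inv_inv r)
    (fun r hr i hi hi2 e => by
      obtain rfl : i = 1 := by omega
      simp only [Function.iterate_one] at e
      have h2 : orderOf r ∣ 2 :=
        orderOf_dvd_of_pow_eq_one (by rw [pow_two]; nth_rewrite 1 [← e]; exact inv_mul_cancel r)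
      have h3 := Nat.dvd_gcd h2 (orderOf_dvd_natCard r)
      rw [Nat.coprime_two_left.2 hoddR, Nat.dvd_one, orderOf_eq_one_iff] at h3
      exact (Finset.mem_erase.1 hr).1 h3)
    (fun r => (P.χ : G → ℂ) r) (fun r _ => hreal r) (fun r _ => P.χ.2.isCharacter.isIntegral _)
  have hsum : ∑ r : D.bd.R, (P.χ : G → ℂ) r = (Nat.card D.bd.R : ℂ) := by
    have h := P.avg (one_mem D.B)
    rw [show D.ρ ⟨1, one_mem D.B⟩ = 1 from map_one D.ρ, map_one, Units.val_one, mul_one] at h
    rw [← h]
    exact Finset.sum_congr rfl fun r _ => by rw [mul_one]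
  rw [Finset.sum_erase_eq_sub (Finset.mem_univ _), hsum, OneMemClass.coe_one, hy] at hint
  obtain ⟨m, hm⟩ := exists_int_of_isIntegral_rat
    (q := (((Nat.card D.bd.R : ℤ) - y : ℤ) : ℚ) / 2) (by push_cast; exact hint)
  rw [div_eq_iff two_ne_zero] at hm
  have hm' : (Nat.card D.bd.R : ℤ) - y = m * 2 := by exact_mod_cast hm
  rw [Nat.odd_iff] at hoddR ⊢
  omega

/-- A constituent of `Θ_μ`, `μ ≠ 1`, is not linear. -/
theorem degree_ne_one [IsSimpleGroup G] (P : Pair D μ) (hμ : μ ≠ 1) :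
    (P.χ : G → ℂ) 1 ≠ 1 := by
  classical
  intro h
  obtain ⟨φ, hφ⟩ := exists_hom_of_degree_one P.χ.2.isCharacter h
  rcases φ.normal_ker.eq_bot_or_eq_top with hk | hk
  · obtain ⟨T⟩ := D.exists_tor
    have hcm : c.i * c.d T.a = c.d T.a * c.i :=
      φ.ker_eq_bot_iff.1 hk (by rw [map_mul, map_mul, mul_comm])
    have h1 : c.d T.a = (c.d T.a)⁻¹ := by
      rw [← c.d_inv, ← c.i_d, hcm, mul_inv_cancel_right]
    have h2 : orderOf T.h ∣ 2 := orderOf_dvd_of_pow_eq_one (by
      rw [pow_two, Tor.h]; nth_rewrite 2 [h1]; exact mul_inv_cancel _)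
    rw [T.orderOf_h] at h2
    have := Nat.le_of_dvd two_pos h2
    have := T.five
    simp only [Tor.s] at *
    omega
  · have h1 : (P.χ : G → ℂ) = fun _ => 1 := by
      rw [hφ]
      funext g
      rw [show φ g = 1 from φ.mem_ker.1 (hk ▸ Subgroup.mem_top g), Units.val_one]
    haveI := Fintype.ofFinite D.B
    have this := P.inner_left
    rw [h1, Full.Th, classInner_indFun D.B _ (fun _ _ => rfl), classInner] at this
    simp only [map_one, mul_one] at this
    have hs := sum_hom (μ.comp D.ρ)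
    simp only [MonoidHom.comp_apply] at hs
    rw [hs, if_neg (fun e => hμ (by
      rw [← MonoidHom.one_comp (f := D.ρ)] at e
      exact (MonoidHom.cancel_right D.ρ_surjective).1 e)), mul_zero] at this
    exact zero_ne_one this

/-- The value at `t` of a constituent. -/
theorem t_cases [IsSimpleGroup G] (P : Pair D μ) (hμ : μ ≠ 1) :
    (P.χ : G → ℂ) c.t = 2 * (Fintype.card F : ℂ) - 1 ∨
      (P.χ' : G → ℂ) c.t = 2 * (Fintype.card F : ℂ) - 1 := by
  classical
  obtain ⟨n, -, hn, hq⟩ := D.q_pow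
  have hq27 : 27 ≤ Fintype.card F := by
    rw [hq]
    exact le_trans (by norm_num) (Nat.pow_le_pow_right (by norm_num : 1 ≤ 3) hn)
  have key : ∀ Q : Pair D μ, ∃ a : ℤ, (Q.χ : G → ℂ) c.t = a ∧
      ((a = Fintype.card F) ∨ a = 2 * Fintype.card F - 1 ∨ a = 2 - Fintype.card F) := by
    intro Q
    obtain ⟨a, ha⟩ := D.exists_int_t Q.χ
    obtain ⟨y, -, hy⟩ := Q.χ.2.exists_degree
    refine ⟨a, ha, ?_⟩
    have h8 : (8 : ℤ) ∣ (y : ℤ) - a := by
      obtain ⟨j, hj⟩ := c.char_mod_eight Q.χ.2.isCharacter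
      rw [hy, ha] at hj
      exact ⟨j - a, by
        have : (((y : ℤ) + 7 * a : ℤ) : ℂ) = ((8 * j : ℤ) : ℂ) := by push_cast; exact hj
        have := Int.cast_injective this
        linarith⟩
    have hH : ((Fintype.card F : ℤ) - 1) / 2 = Nat.card c.H := by
      have := c.card_H
      omega
    have hodd := Nat.odd_iff.1 (Q.odd_degree hy)
    rcases degree_cases (n := n) (q := (Fintype.card F : ℤ)) (a := a) (y := (y : ℤ))
      (by exact_mod_cast hq) (by exact_mod_cast hq27) (by have := D.q_mod_eight; omega)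
      (Q.equation_int ha (by rw [hy]; push_cast; rfl)) (hH ▸ Q.dvd_t_sub_one ha) h8 (by omega)
      with ⟨-, e⟩ | e
    · exfalso
      refine Q.degree_ne_one hμ ?_
      rw [hy, show y = 1 by exact_mod_cast e, Nat.cast_one]
    · exact e
  obtain ⟨a, ha, hcases⟩ := key P
  obtain ⟨b, hb, hcases'⟩ := key P.swap
  have hab : ((a + b : ℤ) : ℂ) = (((Fintype.card F : ℤ) + 1 : ℤ) : ℂ) := by
    push_cast
    rw [← ha, ← hb]
    exact P.pair_t
  have hab' := Int.cast_injective hab
  rcases hcases with e | e | e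
  · exfalso; omega
  · left; rw [ha, e]; push_cast; ring
  · right
    rw [show (P.χ' : G → ℂ) c.t = b from hb, show b = 2 * (Fintype.card F : ℤ) - 1 by omega]
    push_cast; ring

end Pair

end Cfsg.Lib.Walter3.Field
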